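import Mathlib
import Cfsg.Agent.Lib.Helper5.CodedPerm
import Cfsg.Agent.Lib.Helper12.TC.Fi23o31671.Tab

set_option autoImplicit false

/-! Groups of permutations of 31671 points containing the ten generating involutions of the
Fischer group `Fi23` (given by the table function of helper12), with coded permutations as flat
tables of 16-bit entries: tools to show that a table represents an element of the group. -/

namespace Cfsg.Agent.Lib.Helper28.Fi

open Cfsg.Agent.Lib.Helper5.CP Cfsg.Agent.Lib.Helper12.TC Cfsg.Agent.Lib.Helper12.TC.Fi23o31671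

/-- lookup in a flat table of 16-bit entries -/
def lk (T p : ℕ) : ℕ := Nat.land (Nat.shiftRight T (Nat.mul 16 p)) 65535

/-- the number of points -/
abbrev nP : ℕ := cN

section

variable (H : Subgroup (Equiv.Perm (Fin nP)))

/-- the group contains the ten generators -/
def GenHyp : Prop :=
  ∀ x < 10, ∃ g : H, ∀ i : Fin nP, (((g : Equiv.Perm (Fin nP)) i : Fin nP) : ℕ) = TT x i

/-- a table represents an element of the group -/
def IsEl (T : ℕ) : Prop := ∃ g : H, RepS lk nP H T g

/-- all tables of a list represent elements of the group -/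
def AllEl (L : List ℕ) : Prop := ∀ T ∈ L, IsEl H T

theorem allEl_nil : AllEl H [] := fun _ h => absurd h List.not_mem_nil

variable {H}

theorem allEl_cons {T : ℕ} {L : List ℕ} (h : IsEl H T) (hL : AllEl H L) : AllEl H (T :: L) := by
  intro x hx
  rcases List.mem_cons.mp hx with rfl | hx
  · exact h
  · exact hL x hx

theorem allEl_append {L M : List ℕ} (hL : AllEl H L) (hM : AllEl H M) : AllEl H (L ++ M) := by
  intro x hx
  rcases List.mem_append.mp hx with hx | hx
  · exact hL x hx
  · exact hM x hx

/-- the elements represented by the tables of a list -/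
theorem exists_forall₂ : ∀ (L : List ℕ), AllEl H L →
    ∃ gs : List H, List.Forall₂ (RepS lk nP H) L gs
  | [], _ => ⟨[], List.Forall₂.nil⟩
  | T :: L, h => by
    obtain ⟨g, hg⟩ := h T List.mem_cons_self
    obtain ⟨gs, hgs⟩ := exists_forall₂ L (fun x hx => h x (List.mem_cons_of_mem T hx))
    exact ⟨g :: gs, List.Forall₂.cons hg hgs⟩

/-- a table which agrees with a word in tables of elements of the group -/
theorem isEl_of_word (T : ℕ) (w : List ℕ) (hw : AllEl H w) (h : eqW lk nP T w = true) :
    IsEl H T := by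
  obtain ⟨gs, hgs⟩ := exists_forall₂ w hw
  exact ⟨gs.prod, rep_word T w gs hgs h⟩

/-- a table which is inverse to the table of an element of the group -/
theorem isEl_of_inv (T U : ℕ) (hU : IsEl H U) (h : eqWW lk nP [T, U] [] = true) : IsEl H T := by
  obtain ⟨g, hg⟩ := hU
  refine ⟨g⁻¹, ?_⟩
  unfold eqWW at h
  rw [allB_iff] at h
  intro i
  have h1 := h ((g⁻¹ : H).1 i).1 ((g⁻¹ : H).1 i).2
  have h2 : lk T (lk U ((g⁻¹ : H).1 i).1) = ((g⁻¹ : H).1 i).1 := Nat.eq_of_beq_eq_true h1
  have h3 : (g.1 ((g⁻¹ : H).1 i)).1 = lk U ((g⁻¹ : H).1 i).1 := hg _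
  have h4 : g.1 ((g⁻¹ : H).1 i) = i := by
    have : (g * g⁻¹ : H).1 i = i := by rw [mul_inv_cancel]; rfl
    exact this
  rw [h4] at h3
  rw [← h3] at h2
  exact h2.symm

/-- a table which agrees with the table function of helper12 for a generator -/
theorem isEl_of_gen (hH : GenHyp H) (T x : ℕ) (hx : x < 10)
    (h : allB nP (fun i => Nat.beq (lk T i) (TT x i)) = true) : IsEl H T := by
  rw [allB_iff] at h
  obtain ⟨g, hg⟩ := hH x hx
  refine ⟨g, ?_⟩
  intro i
  show (((g : Equiv.Perm (Fin nP)) i : Fin nP) : ℕ) = lk T i.1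
  rw [hg i]
  exact (Nat.eq_of_beq_eq_true (h i.1 i.2)).symm

end

end Cfsg.Agent.Lib.Helper28.Fi
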