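import Mathlib
import Cfsg.Agent.Lib.Helper5.PcPK
import Cfsg.Agent.Lib.Helper5.PcPE

set_option autoImplicit false

/-! Checks over all points, split into ranges of points (so that the kernel needs little memory
for each piece). -/

namespace Cfsg.Agent.Lib.Helper28.Fi

open Cfsg.Agent.Lib.Helper5.CP Cfsg.Agent.Lib.Helper5.PcP

/-- bounded universal quantifier over the range `[lo, lo + len)`, kernel friendly -/
def allR (lo len : ℕ) (f : ℕ → Bool) : Bool := allB len (fun k => f (Nat.add lo k))

theorem allR_iff (lo len : ℕ) (f : ℕ → Bool) :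
    allR lo len f = true ↔ ∀ p, lo ≤ p → p < lo + len → f p = true := by
  unfold allR
  rw [allB_iff]
  constructor
  · intro h p h1 h2
    have := h (p - lo) (by omega)
    have e : Nat.add lo (p - lo) = p := by show lo + (p - lo) = p; omega
    rwa [e] at this
  · intro h k hk
    exact h (Nat.add lo k) (by show lo ≤ lo + k; omega) (by show lo + k < lo + len; omega)

/-- the ranges of a list are adjacent, from `cur` to `n` -/
def coverB : ℕ → ℕ → List (ℕ × ℕ) → Bool
  | cur, n, [] => Nat.beq cur n
  | cur, n, c :: rest => Nat.beq c.1 cur && coverB (cur + c.2) n rest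

/-- the check holds on all ranges of a list -/
def AllChunks (f : ℕ → Bool) : List (ℕ × ℕ) → Prop
  | [] => True
  | c :: rest => allR c.1 c.2 f = true ∧ AllChunks f rest

theorem AllChunks.nil {f : ℕ → Bool} : AllChunks f [] := trivial

theorem AllChunks.cons {f : ℕ → Bool} {c : ℕ × ℕ} {rest : List (ℕ × ℕ)}
    (h : allR c.1 c.2 f = true) (hr : AllChunks f rest) : AllChunks f (c :: rest) := ⟨h, hr⟩

theorem forall_of_chunks (f : ℕ → Bool) (n : ℕ) : ∀ (chunks : List (ℕ × ℕ)) (cur : ℕ),
    coverB cur n chunks = true → AllChunks f chunks → ∀ p, cur ≤ p → p < n → f p = true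
  | [], cur, hc, _, p, h1, h2 => by
    have : cur = n := Nat.eq_of_beq_eq_true hc
    omega
  | c :: rest, cur, hc, h, p, h1, h2 => by
    unfold coverB at hc
    rw [Bool.and_eq_true] at hc
    have e : c.1 = cur := Nat.eq_of_beq_eq_true hc.1
    obtain ⟨ha, hb⟩ := h
    by_cases hp : p < cur + c.2
    · exact (allR_iff c.1 c.2 f).mp ha p (by omega) (by omega)
    · exact forall_of_chunks f n rest (cur + c.2) hc.2 hb p (by omega) h2

theorem allB_of_chunks (f : ℕ → Bool) (n : ℕ) (chunks : List (ℕ × ℕ))
    (hc : coverB 0 n chunks = true) (h : AllChunks f chunks) : allB n f = true := by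
  rw [allB_iff]
  intro p hp
  exact forall_of_chunks f n chunks 0 hc h p (Nat.zero_le _) hp

section

variable (look : ℕ → ℕ → ℕ) (n : ℕ)

theorem eqW_of_chunks (T : ℕ) (w : List ℕ) (chunks : List (ℕ × ℕ))
    (hc : coverB 0 n chunks = true)
    (h : AllChunks (fun p => Nat.beq (look T p) (ev look w p)) chunks) :
    eqW look n T w = true :=
  allB_of_chunks _ n chunks hc h

theorem eqWW_of_chunks (w v : List ℕ) (chunks : List (ℕ × ℕ))
    (hc : coverB 0 n chunks = true)
    (h : AllChunks (fun p => Nat.beq (ev look w p) (ev look v p)) chunks) :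
    eqWW look n w v = true :=
  allB_of_chunks _ n chunks hc h

end

end Cfsg.Agent.Lib.Helper28.Fi
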