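import Mathlib
import Cfsg.Agent.Lib.Helper5.PcPK
import Cfsg.Agent.Lib.Helper5.PcPE
import Cfsg.Agent.Lib.Helper28.Fi.Chunk

set_option autoImplicit false

/-! The checks of relations and of fusion of helper5, obtained from checks on ranges of points. -/

namespace Cfsg.Agent.Lib.Helper28.Fi

open Cfsg.Agent.Lib.Helper5.CP Cfsg.Agent.Lib.Helper5.PcP Cfsg.Agent.Lib.Helper5.PcT

section

variable (look : ℕ → ℕ → ℕ) (n Tid p : ℕ) (gT hT : List ℕ) (sqL : List (List ℕ))
  (cmL : List (List (List ℕ)))

/-- the test of two words at a point -/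
def eqF (w v : List ℕ) : ℕ → Bool := fun pt => Nat.beq (ev look w pt) (ev look v pt)

theorem eqWW_of_eqF (w v : List ℕ) (chunks : List (ℕ × ℕ)) (hc : coverB 0 n chunks = true)
    (h : AllChunks (eqF look w v) chunks) : eqWW look n w v = true :=
  eqWW_of_chunks look n w v chunks hc h

/-- the two sides of the power relation of the generator `i` -/
def sqA (i : ℕ) : List ℕ := List.replicate p (gT.getD i Tid)

/-- the two sides of the power relation of the generator `i` -/
def sqB (i : ℕ) : List ℕ := (sqL.getD i []).map fun l => gT.getD l Tid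

/-- the two sides of the commutator relation of the generators `i < j` -/
def cmA (i j : ℕ) : List ℕ := [gT.getD j Tid, gT.getD i Tid]

/-- the two sides of the commutator relation of the generators `i < j` -/
def cmB (i j : ℕ) : List ℕ :=
  gT.getD i Tid :: gT.getD j Tid :: (((cmL.getD i []).getD j []).map fun l => gT.getD l Tid)

theorem relChk1_diag (i : ℕ) (h : eqWW look n (sqA Tid p gT i) (sqB Tid gT sqL i) = true) :
    relChk1 look n Tid p gT sqL cmL (i, i) = true := by
  unfold relChk1
  rw [if_pos rfl]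
  exact h

theorem relChk1_off (i j : ℕ) (hij : i ≠ j)
    (h : eqWW look n (cmA Tid gT i j) (cmB Tid gT cmL i j) = true) :
    relChk1 look n Tid p gT sqL cmL (i, j) = true := by
  unfold relChk1
  rw [if_neg hij]
  exact h

/-- all relations of a list hold -/
def AllRel : List (ℕ × ℕ) → Prop
  | [] => True
  | q :: r => relChk1 look n Tid p gT sqL cmL q = true ∧ AllRel r

theorem AllRel.nil : AllRel look n Tid p gT sqL cmL [] := trivial

variable {look n Tid p gT sqL cmL}

theorem AllRel.cons {q : ℕ × ℕ} {r : List (ℕ × ℕ)}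
    (h : relChk1 look n Tid p gT sqL cmL q = true) (hr : AllRel look n Tid p gT sqL cmL r) :
    AllRel look n Tid p gT sqL cmL (q :: r) := ⟨h, hr⟩

theorem relsPart_of_allRel : ∀ (L : List (ℕ × ℕ)), AllRel look n Tid p gT sqL cmL L →
    relsPart look n Tid p gT sqL cmL L = true
  | [], _ => rfl
  | q :: r, h => by
    have ih := relsPart_of_allRel r h.2
    unfold relsPart at ih ⊢
    rw [List.all_cons, h.1, ih]
    rfl

variable (look n Tid p gT)

/-- the words of the check of a pair of conjugate elements of prime order -/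
def pwA1 (q : (List ℕ × List ℕ) × ℕ) : List ℕ :=
  hT.getD q.2 Tid :: (q.1.1.map fun l => gT.getD l Tid)

/-- the words of the check of a pair of conjugate elements of prime order -/
def pwB1 (q : (List ℕ × List ℕ) × ℕ) : List ℕ :=
  (q.1.2.map fun l => gT.getD l Tid) ++ [hT.getD q.2 Tid]

/-- the words of the check of a pair of conjugate elements of prime order -/
def pwA2 (q : (List ℕ × List ℕ) × ℕ) : List ℕ := (flat p q.1.1).map fun l => gT.getD l Tid

/-- the words of the check of a pair of conjugate commuting pairs -/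
def cmA1 (q : (List ℕ × List ℕ × List ℕ × List ℕ) × ℕ) : List ℕ :=
  hT.getD q.2 Tid :: (q.1.1.map fun l => gT.getD l Tid)

/-- the words of the check of a pair of conjugate commuting pairs -/
def cmB1 (q : (List ℕ × List ℕ × List ℕ × List ℕ) × ℕ) : List ℕ :=
  (q.1.2.2.1.map fun l => gT.getD l Tid) ++ [hT.getD q.2 Tid]

/-- the words of the check of a pair of conjugate commuting pairs -/
def cmA2 (q : (List ℕ × List ℕ × List ℕ × List ℕ) × ℕ) : List ℕ :=
  hT.getD q.2 Tid :: (q.1.2.1.map fun l => gT.getD l Tid)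

/-- the words of the check of a pair of conjugate commuting pairs -/
def cmB2 (q : (List ℕ × List ℕ × List ℕ × List ℕ) × ℕ) : List ℕ :=
  (q.1.2.2.2.map fun l => gT.getD l Tid) ++ [hT.getD q.2 Tid]

/-- the words of the check of a pair of conjugate commuting pairs -/
def cmA3 (q : (List ℕ × List ℕ × List ℕ × List ℕ) × ℕ) : List ℕ :=
  (q.1.1 ++ q.1.2.1).map fun l => gT.getD l Tid

/-- the words of the check of a pair of conjugate commuting pairs -/
def cmB3 (q : (List ℕ × List ℕ × List ℕ × List ℕ) × ℕ) : List ℕ :=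
  (q.1.2.1 ++ q.1.1).map fun l => gT.getD l Tid

theorem pwChk_nil : pwChk look n Tid p gT hT [] = true := rfl

theorem pwChk_cons (q : (List ℕ × List ℕ) × ℕ) (L : List ((List ℕ × List ℕ) × ℕ))
    (h1 : eqWW look n (pwA1 Tid gT hT q) (pwB1 Tid gT hT q) = true)
    (h2 : eqWW look n (pwA2 Tid p gT q) [] = true)
    (hL : pwChk look n Tid p gT hT L = true) : pwChk look n Tid p gT hT (q :: L) = true := by
  unfold pwA1 pwB1 at h1
  unfold pwA2 at h2
  unfold pwChk at hL ⊢
  rw [List.all_cons, h1, h2, hL]
  rfl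

theorem cmChk_nil : cmChk look n Tid gT hT [] = true := rfl

theorem cmChk_cons (q : (List ℕ × List ℕ × List ℕ × List ℕ) × ℕ)
    (L : List ((List ℕ × List ℕ × List ℕ × List ℕ) × ℕ))
    (h1 : eqWW look n (cmA1 Tid gT hT q) (cmB1 Tid gT hT q) = true)
    (h2 : eqWW look n (cmA2 Tid gT hT q) (cmB2 Tid gT hT q) = true)
    (h3 : eqWW look n (cmA3 Tid gT q) (cmB3 Tid gT q) = true)
    (hL : cmChk look n Tid gT hT L = true) : cmChk look n Tid gT hT (q :: L) = true := by
  unfold cmA1 cmB1 at h1
  unfold cmA2 cmB2 at h2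
  unfold cmA3 cmB3 at h3
  unfold cmChk at hL ⊢
  rw [List.all_cons, h1, h2, h3, hL]
  rfl

end

end Cfsg.Agent.Lib.Helper28.Fi
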