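import Mathlib
import Cfsg.Agent.Lib.Helper28.Fi.Core
import Cfsg.Agent.Lib.Helper28.Fi.Chunk
import Cfsg.Agent.Lib.Helper28.Fi.Rel
import Cfsg.Agent.Lib.Helper28.Fi.Lists
import Cfsg.Agent.Lib.Helper28.Fi.Data2

set_option autoImplicit false
set_option maxRecDepth 1000000
set_option Elab.async false

/-! Checks of fusion in a Sylow 2-subgroup of Fi23, part 0 (generated). -/

namespace Cfsg.Agent.Lib.Helper28.Fi

open Cfsg.Agent.Lib.Helper5.CP Cfsg.Agent.Lib.Helper5.PcP Cfsg.Agent.Lib.Helper5.PcT Cfsg.Agent.Lib.Helper12.TC.Fi23o31671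

theorem pw2e0_a_c0 : allR 0 4285 (eqF lk (pwA1 Uid gT2 hT2 pw2e0) (pwB1 Uid gT2 hT2 pw2e0)) = true := by decide +kernel
theorem pw2e0_a_c1 : allR 4285 4285 (eqF lk (pwA1 Uid gT2 hT2 pw2e0) (pwB1 Uid gT2 hT2 pw2e0)) = true := by decide +kernel
theorem pw2e0_a_c2 : allR 8570 4285 (eqF lk (pwA1 Uid gT2 hT2 pw2e0) (pwB1 Uid gT2 hT2 pw2e0)) = true := by decide +kernel
theorem pw2e0_a_c3 : allR 12855 4285 (eqF lk (pwA1 Uid gT2 hT2 pw2e0) (pwB1 Uid gT2 hT2 pw2e0)) = true := by decide +kernel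
theorem pw2e0_a_c4 : allR 17140 4285 (eqF lk (pwA1 Uid gT2 hT2 pw2e0) (pwB1 Uid gT2 hT2 pw2e0)) = true := by decide +kernel
theorem pw2e0_a_c5 : allR 21425 4285 (eqF lk (pwA1 Uid gT2 hT2 pw2e0) (pwB1 Uid gT2 hT2 pw2e0)) = true := by decide +kernel
theorem pw2e0_a_c6 : allR 25710 4285 (eqF lk (pwA1 Uid gT2 hT2 pw2e0) (pwB1 Uid gT2 hT2 pw2e0)) = true := by decide +kernel
theorem pw2e0_a_c7 : allR 29995 1676 (eqF lk (pwA1 Uid gT2 hT2 pw2e0) (pwB1 Uid gT2 hT2 pw2e0)) = true := by decide +kernel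
theorem pw2e0_a : eqWW lk nP (pwA1 Uid gT2 hT2 pw2e0) (pwB1 Uid gT2 hT2 pw2e0) = true :=
  eqWW_of_eqF lk nP _ _ [(0, 4285), (4285, 4285), (8570, 4285), (12855, 4285), (17140, 4285), (21425, 4285), (25710, 4285), (29995, 1676)] (by decide) (AllChunks.cons pw2e0_a_c0 (AllChunks.cons pw2e0_a_c1 (AllChunks.cons pw2e0_a_c2 (AllChunks.cons pw2e0_a_c3 (AllChunks.cons pw2e0_a_c4 (AllChunks.cons pw2e0_a_c5 (AllChunks.cons pw2e0_a_c6 (AllChunks.cons pw2e0_a_c7 (AllChunks.nil)))))))))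

theorem pw2e0_b_c0 : allR 0 15000 (eqF lk (pwA2 Uid 2 gT2 pw2e0) ([])) = true := by decide +kernel
theorem pw2e0_b_c1 : allR 15000 15000 (eqF lk (pwA2 Uid 2 gT2 pw2e0) ([])) = true := by decide +kernel
theorem pw2e0_b_c2 : allR 30000 1671 (eqF lk (pwA2 Uid 2 gT2 pw2e0) ([])) = true := by decide +kernel
theorem pw2e0_b : eqWW lk nP (pwA2 Uid 2 gT2 pw2e0) ([]) = true :=
  eqWW_of_eqF lk nP _ _ [(0, 15000), (15000, 15000), (30000, 1671)] (by decide) (AllChunks.cons pw2e0_b_c0 (AllChunks.cons pw2e0_b_c1 (AllChunks.cons pw2e0_b_c2 (AllChunks.nil))))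

theorem pw2e1_a_c0 : allR 0 3333 (eqF lk (pwA1 Uid gT2 hT2 pw2e1) (pwB1 Uid gT2 hT2 pw2e1)) = true := by decide +kernel
theorem pw2e1_a_c1 : allR 3333 3333 (eqF lk (pwA1 Uid gT2 hT2 pw2e1) (pwB1 Uid gT2 hT2 pw2e1)) = true := by decide +kernel
theorem pw2e1_a_c2 : allR 6666 3333 (eqF lk (pwA1 Uid gT2 hT2 pw2e1) (pwB1 Uid gT2 hT2 pw2e1)) = true := by decide +kernel
theorem pw2e1_a_c3 : allR 9999 3333 (eqF lk (pwA1 Uid gT2 hT2 pw2e1) (pwB1 Uid gT2 hT2 pw2e1)) = true := by decide +kernel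
theorem pw2e1_a_c4 : allR 13332 3333 (eqF lk (pwA1 Uid gT2 hT2 pw2e1) (pwB1 Uid gT2 hT2 pw2e1)) = true := by decide +kernel
theorem pw2e1_a_c5 : allR 16665 3333 (eqF lk (pwA1 Uid gT2 hT2 pw2e1) (pwB1 Uid gT2 hT2 pw2e1)) = true := by decide +kernel
theorem pw2e1_a_c6 : allR 19998 3333 (eqF lk (pwA1 Uid gT2 hT2 pw2e1) (pwB1 Uid gT2 hT2 pw2e1)) = true := by decide +kernel
theorem pw2e1_a_c7 : allR 23331 3333 (eqF lk (pwA1 Uid gT2 hT2 pw2e1) (pwB1 Uid gT2 hT2 pw2e1)) = true := by decide +kernel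
theorem pw2e1_a_c8 : allR 26664 3333 (eqF lk (pwA1 Uid gT2 hT2 pw2e1) (pwB1 Uid gT2 hT2 pw2e1)) = true := by decide +kernel
theorem pw2e1_a_c9 : allR 29997 1674 (eqF lk (pwA1 Uid gT2 hT2 pw2e1) (pwB1 Uid gT2 hT2 pw2e1)) = true := by decide +kernel
theorem pw2e1_a : eqWW lk nP (pwA1 Uid gT2 hT2 pw2e1) (pwB1 Uid gT2 hT2 pw2e1) = true :=
  eqWW_of_eqF lk nP _ _ [(0, 3333), (3333, 3333), (6666, 3333), (9999, 3333), (13332, 3333), (16665, 3333), (19998, 3333), (23331, 3333), (26664, 3333), (29997, 1674)] (by decide) (AllChunks.cons pw2e1_a_c0 (AllChunks.cons pw2e1_a_c1 (AllChunks.cons pw2e1_a_c2 (AllChunks.cons pw2e1_a_c3 (AllChunks.cons pw2e1_a_c4 (AllChunks.cons pw2e1_a_c5 (AllChunks.cons pw2e1_a_c6 (AllChunks.cons pw2e1_a_c7 (AllChunks.cons pw2e1_a_c8 (AllChunks.cons pw2e1_a_c9 (AllChunks.nil)))))))))))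

theorem pw2e1_b_c0 : allR 0 15000 (eqF lk (pwA2 Uid 2 gT2 pw2e1) ([])) = true := by decide +kernel
theorem pw2e1_b_c1 : allR 15000 15000 (eqF lk (pwA2 Uid 2 gT2 pw2e1) ([])) = true := by decide +kernel
theorem pw2e1_b_c2 : allR 30000 1671 (eqF lk (pwA2 Uid 2 gT2 pw2e1) ([])) = true := by decide +kernel
theorem pw2e1_b : eqWW lk nP (pwA2 Uid 2 gT2 pw2e1) ([]) = true :=
  eqWW_of_eqF lk nP _ _ [(0, 15000), (15000, 15000), (30000, 1671)] (by decide) (AllChunks.cons pw2e1_b_c0 (AllChunks.cons pw2e1_b_c1 (AllChunks.cons pw2e1_b_c2 (AllChunks.nil))))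

theorem pw2e2_a_c0 : allR 0 2727 (eqF lk (pwA1 Uid gT2 hT2 pw2e2) (pwB1 Uid gT2 hT2 pw2e2)) = true := by decide +kernel
theorem pw2e2_a_c1 : allR 2727 2727 (eqF lk (pwA1 Uid gT2 hT2 pw2e2) (pwB1 Uid gT2 hT2 pw2e2)) = true := by decide +kernel
theorem pw2e2_a_c2 : allR 5454 2727 (eqF lk (pwA1 Uid gT2 hT2 pw2e2) (pwB1 Uid gT2 hT2 pw2e2)) = true := by decide +kernel
theorem pw2e2_a_c3 : allR 8181 2727 (eqF lk (pwA1 Uid gT2 hT2 pw2e2) (pwB1 Uid gT2 hT2 pw2e2)) = true := by decide +kernel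
theorem pw2e2_a_c4 : allR 10908 2727 (eqF lk (pwA1 Uid gT2 hT2 pw2e2) (pwB1 Uid gT2 hT2 pw2e2)) = true := by decide +kernel
theorem pw2e2_a_c5 : allR 13635 2727 (eqF lk (pwA1 Uid gT2 hT2 pw2e2) (pwB1 Uid gT2 hT2 pw2e2)) = true := by decide +kernel
theorem pw2e2_a_c6 : allR 16362 2727 (eqF lk (pwA1 Uid gT2 hT2 pw2e2) (pwB1 Uid gT2 hT2 pw2e2)) = true := by decide +kernel
theorem pw2e2_a_c7 : allR 19089 2727 (eqF lk (pwA1 Uid gT2 hT2 pw2e2) (pwB1 Uid gT2 hT2 pw2e2)) = true := by decide +kernel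
theorem pw2e2_a_c8 : allR 21816 2727 (eqF lk (pwA1 Uid gT2 hT2 pw2e2) (pwB1 Uid gT2 hT2 pw2e2)) = true := by decide +kernel
theorem pw2e2_a_c9 : allR 24543 2727 (eqF lk (pwA1 Uid gT2 hT2 pw2e2) (pwB1 Uid gT2 hT2 pw2e2)) = true := by decide +kernel
theorem pw2e2_a_c10 : allR 27270 2727 (eqF lk (pwA1 Uid gT2 hT2 pw2e2) (pwB1 Uid gT2 hT2 pw2e2)) = true := by decide +kernel
theorem pw2e2_a_c11 : allR 29997 1674 (eqF lk (pwA1 Uid gT2 hT2 pw2e2) (pwB1 Uid gT2 hT2 pw2e2)) = true := by decide +kernel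
theorem pw2e2_a : eqWW lk nP (pwA1 Uid gT2 hT2 pw2e2) (pwB1 Uid gT2 hT2 pw2e2) = true :=
  eqWW_of_eqF lk nP _ _ [(0, 2727), (2727, 2727), (5454, 2727), (8181, 2727), (10908, 2727), (13635, 2727), (16362, 2727), (19089, 2727), (21816, 2727), (24543, 2727), (27270, 2727), (29997, 1674)] (by decide) (AllChunks.cons pw2e2_a_c0 (AllChunks.cons pw2e2_a_c1 (AllChunks.cons pw2e2_a_c2 (AllChunks.cons pw2e2_a_c3 (AllChunks.cons pw2e2_a_c4 (AllChunks.cons pw2e2_a_c5 (AllChunks.cons pw2e2_a_c6 (AllChunks.cons pw2e2_a_c7 (AllChunks.cons pw2e2_a_c8 (AllChunks.cons pw2e2_a_c9 (AllChunks.cons pw2e2_a_c10 (AllChunks.cons pw2e2_a_c11 (AllChunks.nil)))))))))))))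

theorem pw2e2_b_c0 : allR 0 15000 (eqF lk (pwA2 Uid 2 gT2 pw2e2) ([])) = true := by decide +kernel
theorem pw2e2_b_c1 : allR 15000 15000 (eqF lk (pwA2 Uid 2 gT2 pw2e2) ([])) = true := by decide +kernel
theorem pw2e2_b_c2 : allR 30000 1671 (eqF lk (pwA2 Uid 2 gT2 pw2e2) ([])) = true := by decide +kernel
theorem pw2e2_b : eqWW lk nP (pwA2 Uid 2 gT2 pw2e2) ([]) = true :=
  eqWW_of_eqF lk nP _ _ [(0, 15000), (15000, 15000), (30000, 1671)] (by decide) (AllChunks.cons pw2e2_b_c0 (AllChunks.cons pw2e2_b_c1 (AllChunks.cons pw2e2_b_c2 (AllChunks.nil))))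

theorem pw2e3_a_c0 : allR 0 2500 (eqF lk (pwA1 Uid gT2 hT2 pw2e3) (pwB1 Uid gT2 hT2 pw2e3)) = true := by decide +kernel
theorem pw2e3_a_c1 : allR 2500 2500 (eqF lk (pwA1 Uid gT2 hT2 pw2e3) (pwB1 Uid gT2 hT2 pw2e3)) = true := by decide +kernel
theorem pw2e3_a_c2 : allR 5000 2500 (eqF lk (pwA1 Uid gT2 hT2 pw2e3) (pwB1 Uid gT2 hT2 pw2e3)) = true := by decide +kernel
theorem pw2e3_a_c3 : allR 7500 2500 (eqF lk (pwA1 Uid gT2 hT2 pw2e3) (pwB1 Uid gT2 hT2 pw2e3)) = true := by decide +kernel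
theorem pw2e3_a_c4 : allR 10000 2500 (eqF lk (pwA1 Uid gT2 hT2 pw2e3) (pwB1 Uid gT2 hT2 pw2e3)) = true := by decide +kernel
theorem pw2e3_a_c5 : allR 12500 2500 (eqF lk (pwA1 Uid gT2 hT2 pw2e3) (pwB1 Uid gT2 hT2 pw2e3)) = true := by decide +kernel
theorem pw2e3_a_c6 : allR 15000 2500 (eqF lk (pwA1 Uid gT2 hT2 pw2e3) (pwB1 Uid gT2 hT2 pw2e3)) = true := by decide +kernel
theorem pw2e3_a_c7 : allR 17500 2500 (eqF lk (pwA1 Uid gT2 hT2 pw2e3) (pwB1 Uid gT2 hT2 pw2e3)) = true := by decide +kernel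
theorem pw2e3_a_c8 : allR 20000 2500 (eqF lk (pwA1 Uid gT2 hT2 pw2e3) (pwB1 Uid gT2 hT2 pw2e3)) = true := by decide +kernel
theorem pw2e3_a_c9 : allR 22500 2500 (eqF lk (pwA1 Uid gT2 hT2 pw2e3) (pwB1 Uid gT2 hT2 pw2e3)) = true := by decide +kernel
theorem pw2e3_a_c10 : allR 25000 2500 (eqF lk (pwA1 Uid gT2 hT2 pw2e3) (pwB1 Uid gT2 hT2 pw2e3)) = true := by decide +kernel
theorem pw2e3_a_c11 : allR 27500 2500 (eqF lk (pwA1 Uid gT2 hT2 pw2e3) (pwB1 Uid gT2 hT2 pw2e3)) = true := by decide +kernel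
theorem pw2e3_a_c12 : allR 30000 1671 (eqF lk (pwA1 Uid gT2 hT2 pw2e3) (pwB1 Uid gT2 hT2 pw2e3)) = true := by decide +kernel
theorem pw2e3_a : eqWW lk nP (pwA1 Uid gT2 hT2 pw2e3) (pwB1 Uid gT2 hT2 pw2e3) = true :=
  eqWW_of_eqF lk nP _ _ [(0, 2500), (2500, 2500), (5000, 2500), (7500, 2500), (10000, 2500), (12500, 2500), (15000, 2500), (17500, 2500), (20000, 2500), (22500, 2500), (25000, 2500), (27500, 2500), (30000, 1671)] (by decide) (AllChunks.cons pw2e3_a_c0 (AllChunks.cons pw2e3_a_c1 (AllChunks.cons pw2e3_a_c2 (AllChunks.cons pw2e3_a_c3 (AllChunks.cons pw2e3_a_c4 (AllChunks.cons pw2e3_a_c5 (AllChunks.cons pw2e3_a_c6 (AllChunks.cons pw2e3_a_c7 (AllChunks.cons pw2e3_a_c8 (AllChunks.cons pw2e3_a_c9 (AllChunks.cons pw2e3_a_c10 (AllChunks.cons pw2e3_a_c11 (AllChunks.cons pw2e3_a_c12 (AllChunks.nil))))))))))))))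

theorem pw2e3_b_c0 : allR 0 7500 (eqF lk (pwA2 Uid 2 gT2 pw2e3) ([])) = true := by decide +kernel
theorem pw2e3_b_c1 : allR 7500 7500 (eqF lk (pwA2 Uid 2 gT2 pw2e3) ([])) = true := by decide +kernel
theorem pw2e3_b_c2 : allR 15000 7500 (eqF lk (pwA2 Uid 2 gT2 pw2e3) ([])) = true := by decide +kernel
theorem pw2e3_b_c3 : allR 22500 7500 (eqF lk (pwA2 Uid 2 gT2 pw2e3) ([])) = true := by decide +kernel
theorem pw2e3_b_c4 : allR 30000 1671 (eqF lk (pwA2 Uid 2 gT2 pw2e3) ([])) = true := by decide +kernel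
theorem pw2e3_b : eqWW lk nP (pwA2 Uid 2 gT2 pw2e3) ([]) = true :=
  eqWW_of_eqF lk nP _ _ [(0, 7500), (7500, 7500), (15000, 7500), (22500, 7500), (30000, 1671)] (by decide) (AllChunks.cons pw2e3_b_c0 (AllChunks.cons pw2e3_b_c1 (AllChunks.cons pw2e3_b_c2 (AllChunks.cons pw2e3_b_c3 (AllChunks.cons pw2e3_b_c4 (AllChunks.nil))))))

theorem pw2e4_a_c0 : allR 0 5000 (eqF lk (pwA1 Uid gT2 hT2 pw2e4) (pwB1 Uid gT2 hT2 pw2e4)) = true := by decide +kernel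
theorem pw2e4_a_c1 : allR 5000 5000 (eqF lk (pwA1 Uid gT2 hT2 pw2e4) (pwB1 Uid gT2 hT2 pw2e4)) = true := by decide +kernel
theorem pw2e4_a_c2 : allR 10000 5000 (eqF lk (pwA1 Uid gT2 hT2 pw2e4) (pwB1 Uid gT2 hT2 pw2e4)) = true := by decide +kernel
theorem pw2e4_a_c3 : allR 15000 5000 (eqF lk (pwA1 Uid gT2 hT2 pw2e4) (pwB1 Uid gT2 hT2 pw2e4)) = true := by decide +kernel
theorem pw2e4_a_c4 : allR 20000 5000 (eqF lk (pwA1 Uid gT2 hT2 pw2e4) (pwB1 Uid gT2 hT2 pw2e4)) = true := by decide +kernel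
theorem pw2e4_a_c5 : allR 25000 5000 (eqF lk (pwA1 Uid gT2 hT2 pw2e4) (pwB1 Uid gT2 hT2 pw2e4)) = true := by decide +kernel
theorem pw2e4_a_c6 : allR 30000 1671 (eqF lk (pwA1 Uid gT2 hT2 pw2e4) (pwB1 Uid gT2 hT2 pw2e4)) = true := by decide +kernel
theorem pw2e4_a : eqWW lk nP (pwA1 Uid gT2 hT2 pw2e4) (pwB1 Uid gT2 hT2 pw2e4) = true :=
  eqWW_of_eqF lk nP _ _ [(0, 5000), (5000, 5000), (10000, 5000), (15000, 5000), (20000, 5000), (25000, 5000), (30000, 1671)] (by decide) (AllChunks.cons pw2e4_a_c0 (AllChunks.cons pw2e4_a_c1 (AllChunks.cons pw2e4_a_c2 (AllChunks.cons pw2e4_a_c3 (AllChunks.cons pw2e4_a_c4 (AllChunks.cons pw2e4_a_c5 (AllChunks.cons pw2e4_a_c6 (AllChunks.nil))))))))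

theorem pw2e4_b_c0 : allR 0 7500 (eqF lk (pwA2 Uid 2 gT2 pw2e4) ([])) = true := by decide +kernel
theorem pw2e4_b_c1 : allR 7500 7500 (eqF lk (pwA2 Uid 2 gT2 pw2e4) ([])) = true := by decide +kernel
theorem pw2e4_b_c2 : allR 15000 7500 (eqF lk (pwA2 Uid 2 gT2 pw2e4) ([])) = true := by decide +kernel
theorem pw2e4_b_c3 : allR 22500 7500 (eqF lk (pwA2 Uid 2 gT2 pw2e4) ([])) = true := by decide +kernel
theorem pw2e4_b_c4 : allR 30000 1671 (eqF lk (pwA2 Uid 2 gT2 pw2e4) ([])) = true := by decide +kernel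
theorem pw2e4_b : eqWW lk nP (pwA2 Uid 2 gT2 pw2e4) ([]) = true :=
  eqWW_of_eqF lk nP _ _ [(0, 7500), (7500, 7500), (15000, 7500), (22500, 7500), (30000, 1671)] (by decide) (AllChunks.cons pw2e4_b_c0 (AllChunks.cons pw2e4_b_c1 (AllChunks.cons pw2e4_b_c2 (AllChunks.cons pw2e4_b_c3 (AllChunks.cons pw2e4_b_c4 (AllChunks.nil))))))

theorem pw2e5_a_c0 : allR 0 3000 (eqF lk (pwA1 Uid gT2 hT2 pw2e5) (pwB1 Uid gT2 hT2 pw2e5)) = true := by decide +kernel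
theorem pw2e5_a_c1 : allR 3000 3000 (eqF lk (pwA1 Uid gT2 hT2 pw2e5) (pwB1 Uid gT2 hT2 pw2e5)) = true := by decide +kernel
theorem pw2e5_a_c2 : allR 6000 3000 (eqF lk (pwA1 Uid gT2 hT2 pw2e5) (pwB1 Uid gT2 hT2 pw2e5)) = true := by decide +kernel
theorem pw2e5_a_c3 : allR 9000 3000 (eqF lk (pwA1 Uid gT2 hT2 pw2e5) (pwB1 Uid gT2 hT2 pw2e5)) = true := by decide +kernel
theorem pw2e5_a_c4 : allR 12000 3000 (eqF lk (pwA1 Uid gT2 hT2 pw2e5) (pwB1 Uid gT2 hT2 pw2e5)) = true := by decide +kernel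
theorem pw2e5_a_c5 : allR 15000 3000 (eqF lk (pwA1 Uid gT2 hT2 pw2e5) (pwB1 Uid gT2 hT2 pw2e5)) = true := by decide +kernel
theorem pw2e5_a_c6 : allR 18000 3000 (eqF lk (pwA1 Uid gT2 hT2 pw2e5) (pwB1 Uid gT2 hT2 pw2e5)) = true := by decide +kernel
theorem pw2e5_a_c7 : allR 21000 3000 (eqF lk (pwA1 Uid gT2 hT2 pw2e5) (pwB1 Uid gT2 hT2 pw2e5)) = true := by decide +kernel
theorem pw2e5_a_c8 : allR 24000 3000 (eqF lk (pwA1 Uid gT2 hT2 pw2e5) (pwB1 Uid gT2 hT2 pw2e5)) = true := by decide +kernel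
theorem pw2e5_a_c9 : allR 27000 3000 (eqF lk (pwA1 Uid gT2 hT2 pw2e5) (pwB1 Uid gT2 hT2 pw2e5)) = true := by decide +kernel
theorem pw2e5_a_c10 : allR 30000 1671 (eqF lk (pwA1 Uid gT2 hT2 pw2e5) (pwB1 Uid gT2 hT2 pw2e5)) = true := by decide +kernel
theorem pw2e5_a : eqWW lk nP (pwA1 Uid gT2 hT2 pw2e5) (pwB1 Uid gT2 hT2 pw2e5) = true :=
  eqWW_of_eqF lk nP _ _ [(0, 3000), (3000, 3000), (6000, 3000), (9000, 3000), (12000, 3000), (15000, 3000), (18000, 3000), (21000, 3000), (24000, 3000), (27000, 3000), (30000, 1671)] (by decide) (AllChunks.cons pw2e5_a_c0 (AllChunks.cons pw2e5_a_c1 (AllChunks.cons pw2e5_a_c2 (AllChunks.cons pw2e5_a_c3 (AllChunks.cons pw2e5_a_c4 (AllChunks.cons pw2e5_a_c5 (AllChunks.cons pw2e5_a_c6 (AllChunks.cons pw2e5_a_c7 (AllChunks.cons pw2e5_a_c8 (AllChunks.cons pw2e5_a_c9 (AllChunks.cons pw2e5_a_c10 (AllChunks.nil))))))))))))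

theorem pw2e5_b_c0 : allR 0 15000 (eqF lk (pwA2 Uid 2 gT2 pw2e5) ([])) = true := by decide +kernel
theorem pw2e5_b_c1 : allR 15000 15000 (eqF lk (pwA2 Uid 2 gT2 pw2e5) ([])) = true := by decide +kernel
theorem pw2e5_b_c2 : allR 30000 1671 (eqF lk (pwA2 Uid 2 gT2 pw2e5) ([])) = true := by decide +kernel
theorem pw2e5_b : eqWW lk nP (pwA2 Uid 2 gT2 pw2e5) ([]) = true :=
  eqWW_of_eqF lk nP _ _ [(0, 15000), (15000, 15000), (30000, 1671)] (by decide) (AllChunks.cons pw2e5_b_c0 (AllChunks.cons pw2e5_b_c1 (AllChunks.cons pw2e5_b_c2 (AllChunks.nil))))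

theorem pw2e6_a_c0 : allR 0 3333 (eqF lk (pwA1 Uid gT2 hT2 pw2e6) (pwB1 Uid gT2 hT2 pw2e6)) = true := by decide +kernel
theorem pw2e6_a_c1 : allR 3333 3333 (eqF lk (pwA1 Uid gT2 hT2 pw2e6) (pwB1 Uid gT2 hT2 pw2e6)) = true := by decide +kernel
theorem pw2e6_a_c2 : allR 6666 3333 (eqF lk (pwA1 Uid gT2 hT2 pw2e6) (pwB1 Uid gT2 hT2 pw2e6)) = true := by decide +kernel
theorem pw2e6_a_c3 : allR 9999 3333 (eqF lk (pwA1 Uid gT2 hT2 pw2e6) (pwB1 Uid gT2 hT2 pw2e6)) = true := by decide +kernel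
theorem pw2e6_a_c4 : allR 13332 3333 (eqF lk (pwA1 Uid gT2 hT2 pw2e6) (pwB1 Uid gT2 hT2 pw2e6)) = true := by decide +kernel
theorem pw2e6_a_c5 : allR 16665 3333 (eqF lk (pwA1 Uid gT2 hT2 pw2e6) (pwB1 Uid gT2 hT2 pw2e6)) = true := by decide +kernel
theorem pw2e6_a_c6 : allR 19998 3333 (eqF lk (pwA1 Uid gT2 hT2 pw2e6) (pwB1 Uid gT2 hT2 pw2e6)) = true := by decide +kernel
theorem pw2e6_a_c7 : allR 23331 3333 (eqF lk (pwA1 Uid gT2 hT2 pw2e6) (pwB1 Uid gT2 hT2 pw2e6)) = true := by decide +kernel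
theorem pw2e6_a_c8 : allR 26664 3333 (eqF lk (pwA1 Uid gT2 hT2 pw2e6) (pwB1 Uid gT2 hT2 pw2e6)) = true := by decide +kernel
theorem pw2e6_a_c9 : allR 29997 1674 (eqF lk (pwA1 Uid gT2 hT2 pw2e6) (pwB1 Uid gT2 hT2 pw2e6)) = true := by decide +kernel
theorem pw2e6_a : eqWW lk nP (pwA1 Uid gT2 hT2 pw2e6) (pwB1 Uid gT2 hT2 pw2e6) = true :=
  eqWW_of_eqF lk nP _ _ [(0, 3333), (3333, 3333), (6666, 3333), (9999, 3333), (13332, 3333), (16665, 3333), (19998, 3333), (23331, 3333), (26664, 3333), (29997, 1674)] (by decide) (AllChunks.cons pw2e6_a_c0 (AllChunks.cons pw2e6_a_c1 (AllChunks.cons pw2e6_a_c2 (AllChunks.cons pw2e6_a_c3 (AllChunks.cons pw2e6_a_c4 (AllChunks.cons pw2e6_a_c5 (AllChunks.cons pw2e6_a_c6 (AllChunks.cons pw2e6_a_c7 (AllChunks.cons pw2e6_a_c8 (AllChunks.cons pw2e6_a_c9 (AllChunks.nil)))))))))))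

theorem pw2e6_b_c0 : allR 0 15000 (eqF lk (pwA2 Uid 2 gT2 pw2e6) ([])) = true := by decide +kernel
theorem pw2e6_b_c1 : allR 15000 15000 (eqF lk (pwA2 Uid 2 gT2 pw2e6) ([])) = true := by decide +kernel
theorem pw2e6_b_c2 : allR 30000 1671 (eqF lk (pwA2 Uid 2 gT2 pw2e6) ([])) = true := by decide +kernel
theorem pw2e6_b : eqWW lk nP (pwA2 Uid 2 gT2 pw2e6) ([]) = true :=
  eqWW_of_eqF lk nP _ _ [(0, 15000), (15000, 15000), (30000, 1671)] (by decide) (AllChunks.cons pw2e6_b_c0 (AllChunks.cons pw2e6_b_c1 (AllChunks.cons pw2e6_b_c2 (AllChunks.nil))))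

theorem cm2e0_a_c0 : allR 0 3750 (eqF lk (cmA1 Uid gT2 hT2 cm2e0) (cmB1 Uid gT2 hT2 cm2e0)) = true := by decide +kernel
theorem cm2e0_a_c1 : allR 3750 3750 (eqF lk (cmA1 Uid gT2 hT2 cm2e0) (cmB1 Uid gT2 hT2 cm2e0)) = true := by decide +kernel
theorem cm2e0_a_c2 : allR 7500 3750 (eqF lk (cmA1 Uid gT2 hT2 cm2e0) (cmB1 Uid gT2 hT2 cm2e0)) = true := by decide +kernel
theorem cm2e0_a_c3 : allR 11250 3750 (eqF lk (cmA1 Uid gT2 hT2 cm2e0) (cmB1 Uid gT2 hT2 cm2e0)) = true := by decide +kernel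
theorem cm2e0_a_c4 : allR 15000 3750 (eqF lk (cmA1 Uid gT2 hT2 cm2e0) (cmB1 Uid gT2 hT2 cm2e0)) = true := by decide +kernel
theorem cm2e0_a_c5 : allR 18750 3750 (eqF lk (cmA1 Uid gT2 hT2 cm2e0) (cmB1 Uid gT2 hT2 cm2e0)) = true := by decide +kernel
theorem cm2e0_a_c6 : allR 22500 3750 (eqF lk (cmA1 Uid gT2 hT2 cm2e0) (cmB1 Uid gT2 hT2 cm2e0)) = true := by decide +kernel
theorem cm2e0_a_c7 : allR 26250 3750 (eqF lk (cmA1 Uid gT2 hT2 cm2e0) (cmB1 Uid gT2 hT2 cm2e0)) = true := by decide +kernel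
theorem cm2e0_a_c8 : allR 30000 1671 (eqF lk (cmA1 Uid gT2 hT2 cm2e0) (cmB1 Uid gT2 hT2 cm2e0)) = true := by decide +kernel
theorem cm2e0_a : eqWW lk nP (cmA1 Uid gT2 hT2 cm2e0) (cmB1 Uid gT2 hT2 cm2e0) = true :=
  eqWW_of_eqF lk nP _ _ [(0, 3750), (3750, 3750), (7500, 3750), (11250, 3750), (15000, 3750), (18750, 3750), (22500, 3750), (26250, 3750), (30000, 1671)] (by decide) (AllChunks.cons cm2e0_a_c0 (AllChunks.cons cm2e0_a_c1 (AllChunks.cons cm2e0_a_c2 (AllChunks.cons cm2e0_a_c3 (AllChunks.cons cm2e0_a_c4 (AllChunks.cons cm2e0_a_c5 (AllChunks.cons cm2e0_a_c6 (AllChunks.cons cm2e0_a_c7 (AllChunks.cons cm2e0_a_c8 (AllChunks.nil))))))))))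

theorem cm2e0_b_c0 : allR 0 2500 (eqF lk (cmA2 Uid gT2 hT2 cm2e0) (cmB2 Uid gT2 hT2 cm2e0)) = true := by decide +kernel
theorem cm2e0_b_c1 : allR 2500 2500 (eqF lk (cmA2 Uid gT2 hT2 cm2e0) (cmB2 Uid gT2 hT2 cm2e0)) = true := by decide +kernel
theorem cm2e0_b_c2 : allR 5000 2500 (eqF lk (cmA2 Uid gT2 hT2 cm2e0) (cmB2 Uid gT2 hT2 cm2e0)) = true := by decide +kernel
theorem cm2e0_b_c3 : allR 7500 2500 (eqF lk (cmA2 Uid gT2 hT2 cm2e0) (cmB2 Uid gT2 hT2 cm2e0)) = true := by decide +kernel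
theorem cm2e0_b_c4 : allR 10000 2500 (eqF lk (cmA2 Uid gT2 hT2 cm2e0) (cmB2 Uid gT2 hT2 cm2e0)) = true := by decide +kernel
theorem cm2e0_b_c5 : allR 12500 2500 (eqF lk (cmA2 Uid gT2 hT2 cm2e0) (cmB2 Uid gT2 hT2 cm2e0)) = true := by decide +kernel
theorem cm2e0_b_c6 : allR 15000 2500 (eqF lk (cmA2 Uid gT2 hT2 cm2e0) (cmB2 Uid gT2 hT2 cm2e0)) = true := by decide +kernel
theorem cm2e0_b_c7 : allR 17500 2500 (eqF lk (cmA2 Uid gT2 hT2 cm2e0) (cmB2 Uid gT2 hT2 cm2e0)) = true := by decide +kernel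
theorem cm2e0_b_c8 : allR 20000 2500 (eqF lk (cmA2 Uid gT2 hT2 cm2e0) (cmB2 Uid gT2 hT2 cm2e0)) = true := by decide +kernel
theorem cm2e0_b_c9 : allR 22500 2500 (eqF lk (cmA2 Uid gT2 hT2 cm2e0) (cmB2 Uid gT2 hT2 cm2e0)) = true := by decide +kernel
theorem cm2e0_b_c10 : allR 25000 2500 (eqF lk (cmA2 Uid gT2 hT2 cm2e0) (cmB2 Uid gT2 hT2 cm2e0)) = true := by decide +kernel
theorem cm2e0_b_c11 : allR 27500 2500 (eqF lk (cmA2 Uid gT2 hT2 cm2e0) (cmB2 Uid gT2 hT2 cm2e0)) = true := by decide +kernel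
theorem cm2e0_b_c12 : allR 30000 1671 (eqF lk (cmA2 Uid gT2 hT2 cm2e0) (cmB2 Uid gT2 hT2 cm2e0)) = true := by decide +kernel
theorem cm2e0_b : eqWW lk nP (cmA2 Uid gT2 hT2 cm2e0) (cmB2 Uid gT2 hT2 cm2e0) = true :=
  eqWW_of_eqF lk nP _ _ [(0, 2500), (2500, 2500), (5000, 2500), (7500, 2500), (10000, 2500), (12500, 2500), (15000, 2500), (17500, 2500), (20000, 2500), (22500, 2500), (25000, 2500), (27500, 2500), (30000, 1671)] (by decide) (AllChunks.cons cm2e0_b_c0 (AllChunks.cons cm2e0_b_c1 (AllChunks.cons cm2e0_b_c2 (AllChunks.cons cm2e0_b_c3 (AllChunks.cons cm2e0_b_c4 (AllChunks.cons cm2e0_b_c5 (AllChunks.cons cm2e0_b_c6 (AllChunks.cons cm2e0_b_c7 (AllChunks.cons cm2e0_b_c8 (AllChunks.cons cm2e0_b_c9 (AllChunks.cons cm2e0_b_c10 (AllChunks.cons cm2e0_b_c11 (AllChunks.cons cm2e0_b_c12 (AllChunks.nil))))))))))))))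

theorem cm2e0_c_c0 : allR 0 5000 (eqF lk (cmA3 Uid gT2 cm2e0) (cmB3 Uid gT2 cm2e0)) = true := by decide +kernel
theorem cm2e0_c_c1 : allR 5000 5000 (eqF lk (cmA3 Uid gT2 cm2e0) (cmB3 Uid gT2 cm2e0)) = true := by decide +kernel
theorem cm2e0_c_c2 : allR 10000 5000 (eqF lk (cmA3 Uid gT2 cm2e0) (cmB3 Uid gT2 cm2e0)) = true := by decide +kernel
theorem cm2e0_c_c3 : allR 15000 5000 (eqF lk (cmA3 Uid gT2 cm2e0) (cmB3 Uid gT2 cm2e0)) = true := by decide +kernel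
theorem cm2e0_c_c4 : allR 20000 5000 (eqF lk (cmA3 Uid gT2 cm2e0) (cmB3 Uid gT2 cm2e0)) = true := by decide +kernel
theorem cm2e0_c_c5 : allR 25000 5000 (eqF lk (cmA3 Uid gT2 cm2e0) (cmB3 Uid gT2 cm2e0)) = true := by decide +kernel
theorem cm2e0_c_c6 : allR 30000 1671 (eqF lk (cmA3 Uid gT2 cm2e0) (cmB3 Uid gT2 cm2e0)) = true := by decide +kernel
theorem cm2e0_c : eqWW lk nP (cmA3 Uid gT2 cm2e0) (cmB3 Uid gT2 cm2e0) = true :=
  eqWW_of_eqF lk nP _ _ [(0, 5000), (5000, 5000), (10000, 5000), (15000, 5000), (20000, 5000), (25000, 5000), (30000, 1671)] (by decide) (AllChunks.cons cm2e0_c_c0 (AllChunks.cons cm2e0_c_c1 (AllChunks.cons cm2e0_c_c2 (AllChunks.cons cm2e0_c_c3 (AllChunks.cons cm2e0_c_c4 (AllChunks.cons cm2e0_c_c5 (AllChunks.cons cm2e0_c_c6 (AllChunks.nil))))))))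

end Cfsg.Agent.Lib.Helper28.Fi
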