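import Mathlib
import Cfsg.Agent.Lib.Helper28.Fi.Core
import Cfsg.Agent.Lib.Helper28.Fi.Chunk
import Cfsg.Agent.Lib.Helper28.Fi.Rel
import Cfsg.Agent.Lib.Helper28.Fi.Lists
import Cfsg.Agent.Lib.Helper28.Fi.Data2

set_option autoImplicit false
set_option maxRecDepth 1000000
set_option Elab.async false

/-! Checks of fusion in a Sylow 2-subgroup of Fi23, part 1 (generated). -/

namespace Cfsg.Agent.Lib.Helper28.Fi

open Cfsg.Agent.Lib.Helper5.CP Cfsg.Agent.Lib.Helper5.PcP Cfsg.Agent.Lib.Helper5.PcT Cfsg.Agent.Lib.Helper12.TC.Fi23o31671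

theorem cm2e1_a_c0 : allR 0 2000 (eqF lk (cmA1 Uid gT2 hT2 cm2e1) (cmB1 Uid gT2 hT2 cm2e1)) = true := by decide +kernel
theorem cm2e1_a_c1 : allR 2000 2000 (eqF lk (cmA1 Uid gT2 hT2 cm2e1) (cmB1 Uid gT2 hT2 cm2e1)) = true := by decide +kernel
theorem cm2e1_a_c2 : allR 4000 2000 (eqF lk (cmA1 Uid gT2 hT2 cm2e1) (cmB1 Uid gT2 hT2 cm2e1)) = true := by decide +kernel
theorem cm2e1_a_c3 : allR 6000 2000 (eqF lk (cmA1 Uid gT2 hT2 cm2e1) (cmB1 Uid gT2 hT2 cm2e1)) = true := by decide +kernel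
theorem cm2e1_a_c4 : allR 8000 2000 (eqF lk (cmA1 Uid gT2 hT2 cm2e1) (cmB1 Uid gT2 hT2 cm2e1)) = true := by decide +kernel
theorem cm2e1_a_c5 : allR 10000 2000 (eqF lk (cmA1 Uid gT2 hT2 cm2e1) (cmB1 Uid gT2 hT2 cm2e1)) = true := by decide +kernel
theorem cm2e1_a_c6 : allR 12000 2000 (eqF lk (cmA1 Uid gT2 hT2 cm2e1) (cmB1 Uid gT2 hT2 cm2e1)) = true := by decide +kernel
theorem cm2e1_a_c7 : allR 14000 2000 (eqF lk (cmA1 Uid gT2 hT2 cm2e1) (cmB1 Uid gT2 hT2 cm2e1)) = true := by decide +kernel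
theorem cm2e1_a_c8 : allR 16000 2000 (eqF lk (cmA1 Uid gT2 hT2 cm2e1) (cmB1 Uid gT2 hT2 cm2e1)) = true := by decide +kernel
theorem cm2e1_a_c9 : allR 18000 2000 (eqF lk (cmA1 Uid gT2 hT2 cm2e1) (cmB1 Uid gT2 hT2 cm2e1)) = true := by decide +kernel
theorem cm2e1_a_c10 : allR 20000 2000 (eqF lk (cmA1 Uid gT2 hT2 cm2e1) (cmB1 Uid gT2 hT2 cm2e1)) = true := by decide +kernel
theorem cm2e1_a_c11 : allR 22000 2000 (eqF lk (cmA1 Uid gT2 hT2 cm2e1) (cmB1 Uid gT2 hT2 cm2e1)) = true := by decide +kernel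
theorem cm2e1_a_c12 : allR 24000 2000 (eqF lk (cmA1 Uid gT2 hT2 cm2e1) (cmB1 Uid gT2 hT2 cm2e1)) = true := by decide +kernel
theorem cm2e1_a_c13 : allR 26000 2000 (eqF lk (cmA1 Uid gT2 hT2 cm2e1) (cmB1 Uid gT2 hT2 cm2e1)) = true := by decide +kernel
theorem cm2e1_a_c14 : allR 28000 2000 (eqF lk (cmA1 Uid gT2 hT2 cm2e1) (cmB1 Uid gT2 hT2 cm2e1)) = true := by decide +kernel
theorem cm2e1_a_c15 : allR 30000 1671 (eqF lk (cmA1 Uid gT2 hT2 cm2e1) (cmB1 Uid gT2 hT2 cm2e1)) = true := by decide +kernel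
theorem cm2e1_a : eqWW lk nP (cmA1 Uid gT2 hT2 cm2e1) (cmB1 Uid gT2 hT2 cm2e1) = true :=
  eqWW_of_eqF lk nP _ _ [(0, 2000), (2000, 2000), (4000, 2000), (6000, 2000), (8000, 2000), (10000, 2000), (12000, 2000), (14000, 2000), (16000, 2000), (18000, 2000), (20000, 2000), (22000, 2000), (24000, 2000), (26000, 2000), (28000, 2000), (30000, 1671)] (by decide) (AllChunks.cons cm2e1_a_c0 (AllChunks.cons cm2e1_a_c1 (AllChunks.cons cm2e1_a_c2 (AllChunks.cons cm2e1_a_c3 (AllChunks.cons cm2e1_a_c4 (AllChunks.cons cm2e1_a_c5 (AllChunks.cons cm2e1_a_c6 (AllChunks.cons cm2e1_a_c7 (AllChunks.cons cm2e1_a_c8 (AllChunks.cons cm2e1_a_c9 (AllChunks.cons cm2e1_a_c10 (AllChunks.cons cm2e1_a_c11 (AllChunks.cons cm2e1_a_c12 (AllChunks.cons cm2e1_a_c13 (AllChunks.cons cm2e1_a_c14 (AllChunks.cons cm2e1_a_c15 (AllChunks.nil)))))))))))))))))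

theorem cm2e1_b_c0 : allR 0 2500 (eqF lk (cmA2 Uid gT2 hT2 cm2e1) (cmB2 Uid gT2 hT2 cm2e1)) = true := by decide +kernel
theorem cm2e1_b_c1 : allR 2500 2500 (eqF lk (cmA2 Uid gT2 hT2 cm2e1) (cmB2 Uid gT2 hT2 cm2e1)) = true := by decide +kernel
theorem cm2e1_b_c2 : allR 5000 2500 (eqF lk (cmA2 Uid gT2 hT2 cm2e1) (cmB2 Uid gT2 hT2 cm2e1)) = true := by decide +kernel
theorem cm2e1_b_c3 : allR 7500 2500 (eqF lk (cmA2 Uid gT2 hT2 cm2e1) (cmB2 Uid gT2 hT2 cm2e1)) = true := by decide +kernel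
theorem cm2e1_b_c4 : allR 10000 2500 (eqF lk (cmA2 Uid gT2 hT2 cm2e1) (cmB2 Uid gT2 hT2 cm2e1)) = true := by decide +kernel
theorem cm2e1_b_c5 : allR 12500 2500 (eqF lk (cmA2 Uid gT2 hT2 cm2e1) (cmB2 Uid gT2 hT2 cm2e1)) = true := by decide +kernel
theorem cm2e1_b_c6 : allR 15000 2500 (eqF lk (cmA2 Uid gT2 hT2 cm2e1) (cmB2 Uid gT2 hT2 cm2e1)) = true := by decide +kernel
theorem cm2e1_b_c7 : allR 17500 2500 (eqF lk (cmA2 Uid gT2 hT2 cm2e1) (cmB2 Uid gT2 hT2 cm2e1)) = true := by decide +kernel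
theorem cm2e1_b_c8 : allR 20000 2500 (eqF lk (cmA2 Uid gT2 hT2 cm2e1) (cmB2 Uid gT2 hT2 cm2e1)) = true := by decide +kernel
theorem cm2e1_b_c9 : allR 22500 2500 (eqF lk (cmA2 Uid gT2 hT2 cm2e1) (cmB2 Uid gT2 hT2 cm2e1)) = true := by decide +kernel
theorem cm2e1_b_c10 : allR 25000 2500 (eqF lk (cmA2 Uid gT2 hT2 cm2e1) (cmB2 Uid gT2 hT2 cm2e1)) = true := by decide +kernel
theorem cm2e1_b_c11 : allR 27500 2500 (eqF lk (cmA2 Uid gT2 hT2 cm2e1) (cmB2 Uid gT2 hT2 cm2e1)) = true := by decide +kernel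
theorem cm2e1_b_c12 : allR 30000 1671 (eqF lk (cmA2 Uid gT2 hT2 cm2e1) (cmB2 Uid gT2 hT2 cm2e1)) = true := by decide +kernel
theorem cm2e1_b : eqWW lk nP (cmA2 Uid gT2 hT2 cm2e1) (cmB2 Uid gT2 hT2 cm2e1) = true :=
  eqWW_of_eqF lk nP _ _ [(0, 2500), (2500, 2500), (5000, 2500), (7500, 2500), (10000, 2500), (12500, 2500), (15000, 2500), (17500, 2500), (20000, 2500), (22500, 2500), (25000, 2500), (27500, 2500), (30000, 1671)] (by decide) (AllChunks.cons cm2e1_b_c0 (AllChunks.cons cm2e1_b_c1 (AllChunks.cons cm2e1_b_c2 (AllChunks.cons cm2e1_b_c3 (AllChunks.cons cm2e1_b_c4 (AllChunks.cons cm2e1_b_c5 (AllChunks.cons cm2e1_b_c6 (AllChunks.cons cm2e1_b_c7 (AllChunks.cons cm2e1_b_c8 (AllChunks.cons cm2e1_b_c9 (AllChunks.cons cm2e1_b_c10 (AllChunks.cons cm2e1_b_c11 (AllChunks.cons cm2e1_b_c12 (AllChunks.nil))))))))))))))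

theorem cm2e1_c_c0 : allR 0 3750 (eqF lk (cmA3 Uid gT2 cm2e1) (cmB3 Uid gT2 cm2e1)) = true := by decide +kernel
theorem cm2e1_c_c1 : allR 3750 3750 (eqF lk (cmA3 Uid gT2 cm2e1) (cmB3 Uid gT2 cm2e1)) = true := by decide +kernel
theorem cm2e1_c_c2 : allR 7500 3750 (eqF lk (cmA3 Uid gT2 cm2e1) (cmB3 Uid gT2 cm2e1)) = true := by decide +kernel
theorem cm2e1_c_c3 : allR 11250 3750 (eqF lk (cmA3 Uid gT2 cm2e1) (cmB3 Uid gT2 cm2e1)) = true := by decide +kernel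
theorem cm2e1_c_c4 : allR 15000 3750 (eqF lk (cmA3 Uid gT2 cm2e1) (cmB3 Uid gT2 cm2e1)) = true := by decide +kernel
theorem cm2e1_c_c5 : allR 18750 3750 (eqF lk (cmA3 Uid gT2 cm2e1) (cmB3 Uid gT2 cm2e1)) = true := by decide +kernel
theorem cm2e1_c_c6 : allR 22500 3750 (eqF lk (cmA3 Uid gT2 cm2e1) (cmB3 Uid gT2 cm2e1)) = true := by decide +kernel
theorem cm2e1_c_c7 : allR 26250 3750 (eqF lk (cmA3 Uid gT2 cm2e1) (cmB3 Uid gT2 cm2e1)) = true := by decide +kernel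
theorem cm2e1_c_c8 : allR 30000 1671 (eqF lk (cmA3 Uid gT2 cm2e1) (cmB3 Uid gT2 cm2e1)) = true := by decide +kernel
theorem cm2e1_c : eqWW lk nP (cmA3 Uid gT2 cm2e1) (cmB3 Uid gT2 cm2e1) = true :=
  eqWW_of_eqF lk nP _ _ [(0, 3750), (3750, 3750), (7500, 3750), (11250, 3750), (15000, 3750), (18750, 3750), (22500, 3750), (26250, 3750), (30000, 1671)] (by decide) (AllChunks.cons cm2e1_c_c0 (AllChunks.cons cm2e1_c_c1 (AllChunks.cons cm2e1_c_c2 (AllChunks.cons cm2e1_c_c3 (AllChunks.cons cm2e1_c_c4 (AllChunks.cons cm2e1_c_c5 (AllChunks.cons cm2e1_c_c6 (AllChunks.cons cm2e1_c_c7 (AllChunks.cons cm2e1_c_c8 (AllChunks.nil))))))))))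

theorem cm2e2_a_c0 : allR 0 3000 (eqF lk (cmA1 Uid gT2 hT2 cm2e2) (cmB1 Uid gT2 hT2 cm2e2)) = true := by decide +kernel
theorem cm2e2_a_c1 : allR 3000 3000 (eqF lk (cmA1 Uid gT2 hT2 cm2e2) (cmB1 Uid gT2 hT2 cm2e2)) = true := by decide +kernel
theorem cm2e2_a_c2 : allR 6000 3000 (eqF lk (cmA1 Uid gT2 hT2 cm2e2) (cmB1 Uid gT2 hT2 cm2e2)) = true := by decide +kernel
theorem cm2e2_a_c3 : allR 9000 3000 (eqF lk (cmA1 Uid gT2 hT2 cm2e2) (cmB1 Uid gT2 hT2 cm2e2)) = true := by decide +kernel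
theorem cm2e2_a_c4 : allR 12000 3000 (eqF lk (cmA1 Uid gT2 hT2 cm2e2) (cmB1 Uid gT2 hT2 cm2e2)) = true := by decide +kernel
theorem cm2e2_a_c5 : allR 15000 3000 (eqF lk (cmA1 Uid gT2 hT2 cm2e2) (cmB1 Uid gT2 hT2 cm2e2)) = true := by decide +kernel
theorem cm2e2_a_c6 : allR 18000 3000 (eqF lk (cmA1 Uid gT2 hT2 cm2e2) (cmB1 Uid gT2 hT2 cm2e2)) = true := by decide +kernel
theorem cm2e2_a_c7 : allR 21000 3000 (eqF lk (cmA1 Uid gT2 hT2 cm2e2) (cmB1 Uid gT2 hT2 cm2e2)) = true := by decide +kernel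
theorem cm2e2_a_c8 : allR 24000 3000 (eqF lk (cmA1 Uid gT2 hT2 cm2e2) (cmB1 Uid gT2 hT2 cm2e2)) = true := by decide +kernel
theorem cm2e2_a_c9 : allR 27000 3000 (eqF lk (cmA1 Uid gT2 hT2 cm2e2) (cmB1 Uid gT2 hT2 cm2e2)) = true := by decide +kernel
theorem cm2e2_a_c10 : allR 30000 1671 (eqF lk (cmA1 Uid gT2 hT2 cm2e2) (cmB1 Uid gT2 hT2 cm2e2)) = true := by decide +kernel
theorem cm2e2_a : eqWW lk nP (cmA1 Uid gT2 hT2 cm2e2) (cmB1 Uid gT2 hT2 cm2e2) = true :=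
  eqWW_of_eqF lk nP _ _ [(0, 3000), (3000, 3000), (6000, 3000), (9000, 3000), (12000, 3000), (15000, 3000), (18000, 3000), (21000, 3000), (24000, 3000), (27000, 3000), (30000, 1671)] (by decide) (AllChunks.cons cm2e2_a_c0 (AllChunks.cons cm2e2_a_c1 (AllChunks.cons cm2e2_a_c2 (AllChunks.cons cm2e2_a_c3 (AllChunks.cons cm2e2_a_c4 (AllChunks.cons cm2e2_a_c5 (AllChunks.cons cm2e2_a_c6 (AllChunks.cons cm2e2_a_c7 (AllChunks.cons cm2e2_a_c8 (AllChunks.cons cm2e2_a_c9 (AllChunks.cons cm2e2_a_c10 (AllChunks.nil))))))))))))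

theorem cm2e2_b_c0 : allR 0 2500 (eqF lk (cmA2 Uid gT2 hT2 cm2e2) (cmB2 Uid gT2 hT2 cm2e2)) = true := by decide +kernel
theorem cm2e2_b_c1 : allR 2500 2500 (eqF lk (cmA2 Uid gT2 hT2 cm2e2) (cmB2 Uid gT2 hT2 cm2e2)) = true := by decide +kernel
theorem cm2e2_b_c2 : allR 5000 2500 (eqF lk (cmA2 Uid gT2 hT2 cm2e2) (cmB2 Uid gT2 hT2 cm2e2)) = true := by decide +kernel
theorem cm2e2_b_c3 : allR 7500 2500 (eqF lk (cmA2 Uid gT2 hT2 cm2e2) (cmB2 Uid gT2 hT2 cm2e2)) = true := by decide +kernel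
theorem cm2e2_b_c4 : allR 10000 2500 (eqF lk (cmA2 Uid gT2 hT2 cm2e2) (cmB2 Uid gT2 hT2 cm2e2)) = true := by decide +kernel
theorem cm2e2_b_c5 : allR 12500 2500 (eqF lk (cmA2 Uid gT2 hT2 cm2e2) (cmB2 Uid gT2 hT2 cm2e2)) = true := by decide +kernel
theorem cm2e2_b_c6 : allR 15000 2500 (eqF lk (cmA2 Uid gT2 hT2 cm2e2) (cmB2 Uid gT2 hT2 cm2e2)) = true := by decide +kernel
theorem cm2e2_b_c7 : allR 17500 2500 (eqF lk (cmA2 Uid gT2 hT2 cm2e2) (cmB2 Uid gT2 hT2 cm2e2)) = true := by decide +kernel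
theorem cm2e2_b_c8 : allR 20000 2500 (eqF lk (cmA2 Uid gT2 hT2 cm2e2) (cmB2 Uid gT2 hT2 cm2e2)) = true := by decide +kernel
theorem cm2e2_b_c9 : allR 22500 2500 (eqF lk (cmA2 Uid gT2 hT2 cm2e2) (cmB2 Uid gT2 hT2 cm2e2)) = true := by decide +kernel
theorem cm2e2_b_c10 : allR 25000 2500 (eqF lk (cmA2 Uid gT2 hT2 cm2e2) (cmB2 Uid gT2 hT2 cm2e2)) = true := by decide +kernel
theorem cm2e2_b_c11 : allR 27500 2500 (eqF lk (cmA2 Uid gT2 hT2 cm2e2) (cmB2 Uid gT2 hT2 cm2e2)) = true := by decide +kernel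
theorem cm2e2_b_c12 : allR 30000 1671 (eqF lk (cmA2 Uid gT2 hT2 cm2e2) (cmB2 Uid gT2 hT2 cm2e2)) = true := by decide +kernel
theorem cm2e2_b : eqWW lk nP (cmA2 Uid gT2 hT2 cm2e2) (cmB2 Uid gT2 hT2 cm2e2) = true :=
  eqWW_of_eqF lk nP _ _ [(0, 2500), (2500, 2500), (5000, 2500), (7500, 2500), (10000, 2500), (12500, 2500), (15000, 2500), (17500, 2500), (20000, 2500), (22500, 2500), (25000, 2500), (27500, 2500), (30000, 1671)] (by decide) (AllChunks.cons cm2e2_b_c0 (AllChunks.cons cm2e2_b_c1 (AllChunks.cons cm2e2_b_c2 (AllChunks.cons cm2e2_b_c3 (AllChunks.cons cm2e2_b_c4 (AllChunks.cons cm2e2_b_c5 (AllChunks.cons cm2e2_b_c6 (AllChunks.cons cm2e2_b_c7 (AllChunks.cons cm2e2_b_c8 (AllChunks.cons cm2e2_b_c9 (AllChunks.cons cm2e2_b_c10 (AllChunks.cons cm2e2_b_c11 (AllChunks.cons cm2e2_b_c12 (AllChunks.nil))))))))))))))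

theorem cm2e2_c_c0 : allR 0 3750 (eqF lk (cmA3 Uid gT2 cm2e2) (cmB3 Uid gT2 cm2e2)) = true := by decide +kernel
theorem cm2e2_c_c1 : allR 3750 3750 (eqF lk (cmA3 Uid gT2 cm2e2) (cmB3 Uid gT2 cm2e2)) = true := by decide +kernel
theorem cm2e2_c_c2 : allR 7500 3750 (eqF lk (cmA3 Uid gT2 cm2e2) (cmB3 Uid gT2 cm2e2)) = true := by decide +kernel
theorem cm2e2_c_c3 : allR 11250 3750 (eqF lk (cmA3 Uid gT2 cm2e2) (cmB3 Uid gT2 cm2e2)) = true := by decide +kernel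
theorem cm2e2_c_c4 : allR 15000 3750 (eqF lk (cmA3 Uid gT2 cm2e2) (cmB3 Uid gT2 cm2e2)) = true := by decide +kernel
theorem cm2e2_c_c5 : allR 18750 3750 (eqF lk (cmA3 Uid gT2 cm2e2) (cmB3 Uid gT2 cm2e2)) = true := by decide +kernel
theorem cm2e2_c_c6 : allR 22500 3750 (eqF lk (cmA3 Uid gT2 cm2e2) (cmB3 Uid gT2 cm2e2)) = true := by decide +kernel
theorem cm2e2_c_c7 : allR 26250 3750 (eqF lk (cmA3 Uid gT2 cm2e2) (cmB3 Uid gT2 cm2e2)) = true := by decide +kernel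
theorem cm2e2_c_c8 : allR 30000 1671 (eqF lk (cmA3 Uid gT2 cm2e2) (cmB3 Uid gT2 cm2e2)) = true := by decide +kernel
theorem cm2e2_c : eqWW lk nP (cmA3 Uid gT2 cm2e2) (cmB3 Uid gT2 cm2e2) = true :=
  eqWW_of_eqF lk nP _ _ [(0, 3750), (3750, 3750), (7500, 3750), (11250, 3750), (15000, 3750), (18750, 3750), (22500, 3750), (26250, 3750), (30000, 1671)] (by decide) (AllChunks.cons cm2e2_c_c0 (AllChunks.cons cm2e2_c_c1 (AllChunks.cons cm2e2_c_c2 (AllChunks.cons cm2e2_c_c3 (AllChunks.cons cm2e2_c_c4 (AllChunks.cons cm2e2_c_c5 (AllChunks.cons cm2e2_c_c6 (AllChunks.cons cm2e2_c_c7 (AllChunks.cons cm2e2_c_c8 (AllChunks.nil))))))))))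

theorem cm2e3_a_c0 : allR 0 3000 (eqF lk (cmA1 Uid gT2 hT2 cm2e3) (cmB1 Uid gT2 hT2 cm2e3)) = true := by decide +kernel
theorem cm2e3_a_c1 : allR 3000 3000 (eqF lk (cmA1 Uid gT2 hT2 cm2e3) (cmB1 Uid gT2 hT2 cm2e3)) = true := by decide +kernel
theorem cm2e3_a_c2 : allR 6000 3000 (eqF lk (cmA1 Uid gT2 hT2 cm2e3) (cmB1 Uid gT2 hT2 cm2e3)) = true := by decide +kernel
theorem cm2e3_a_c3 : allR 9000 3000 (eqF lk (cmA1 Uid gT2 hT2 cm2e3) (cmB1 Uid gT2 hT2 cm2e3)) = true := by decide +kernel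
theorem cm2e3_a_c4 : allR 12000 3000 (eqF lk (cmA1 Uid gT2 hT2 cm2e3) (cmB1 Uid gT2 hT2 cm2e3)) = true := by decide +kernel
theorem cm2e3_a_c5 : allR 15000 3000 (eqF lk (cmA1 Uid gT2 hT2 cm2e3) (cmB1 Uid gT2 hT2 cm2e3)) = true := by decide +kernel
theorem cm2e3_a_c6 : allR 18000 3000 (eqF lk (cmA1 Uid gT2 hT2 cm2e3) (cmB1 Uid gT2 hT2 cm2e3)) = true := by decide +kernel
theorem cm2e3_a_c7 : allR 21000 3000 (eqF lk (cmA1 Uid gT2 hT2 cm2e3) (cmB1 Uid gT2 hT2 cm2e3)) = true := by decide +kernel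
theorem cm2e3_a_c8 : allR 24000 3000 (eqF lk (cmA1 Uid gT2 hT2 cm2e3) (cmB1 Uid gT2 hT2 cm2e3)) = true := by decide +kernel
theorem cm2e3_a_c9 : allR 27000 3000 (eqF lk (cmA1 Uid gT2 hT2 cm2e3) (cmB1 Uid gT2 hT2 cm2e3)) = true := by decide +kernel
theorem cm2e3_a_c10 : allR 30000 1671 (eqF lk (cmA1 Uid gT2 hT2 cm2e3) (cmB1 Uid gT2 hT2 cm2e3)) = true := by decide +kernel
theorem cm2e3_a : eqWW lk nP (cmA1 Uid gT2 hT2 cm2e3) (cmB1 Uid gT2 hT2 cm2e3) = true :=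
  eqWW_of_eqF lk nP _ _ [(0, 3000), (3000, 3000), (6000, 3000), (9000, 3000), (12000, 3000), (15000, 3000), (18000, 3000), (21000, 3000), (24000, 3000), (27000, 3000), (30000, 1671)] (by decide) (AllChunks.cons cm2e3_a_c0 (AllChunks.cons cm2e3_a_c1 (AllChunks.cons cm2e3_a_c2 (AllChunks.cons cm2e3_a_c3 (AllChunks.cons cm2e3_a_c4 (AllChunks.cons cm2e3_a_c5 (AllChunks.cons cm2e3_a_c6 (AllChunks.cons cm2e3_a_c7 (AllChunks.cons cm2e3_a_c8 (AllChunks.cons cm2e3_a_c9 (AllChunks.cons cm2e3_a_c10 (AllChunks.nil))))))))))))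

theorem cm2e3_b_c0 : allR 0 2307 (eqF lk (cmA2 Uid gT2 hT2 cm2e3) (cmB2 Uid gT2 hT2 cm2e3)) = true := by decide +kernel
theorem cm2e3_b_c1 : allR 2307 2307 (eqF lk (cmA2 Uid gT2 hT2 cm2e3) (cmB2 Uid gT2 hT2 cm2e3)) = true := by decide +kernel
theorem cm2e3_b_c2 : allR 4614 2307 (eqF lk (cmA2 Uid gT2 hT2 cm2e3) (cmB2 Uid gT2 hT2 cm2e3)) = true := by decide +kernel
theorem cm2e3_b_c3 : allR 6921 2307 (eqF lk (cmA2 Uid gT2 hT2 cm2e3) (cmB2 Uid gT2 hT2 cm2e3)) = true := by decide +kernel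
theorem cm2e3_b_c4 : allR 9228 2307 (eqF lk (cmA2 Uid gT2 hT2 cm2e3) (cmB2 Uid gT2 hT2 cm2e3)) = true := by decide +kernel
theorem cm2e3_b_c5 : allR 11535 2307 (eqF lk (cmA2 Uid gT2 hT2 cm2e3) (cmB2 Uid gT2 hT2 cm2e3)) = true := by decide +kernel
theorem cm2e3_b_c6 : allR 13842 2307 (eqF lk (cmA2 Uid gT2 hT2 cm2e3) (cmB2 Uid gT2 hT2 cm2e3)) = true := by decide +kernel
theorem cm2e3_b_c7 : allR 16149 2307 (eqF lk (cmA2 Uid gT2 hT2 cm2e3) (cmB2 Uid gT2 hT2 cm2e3)) = true := by decide +kernel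
theorem cm2e3_b_c8 : allR 18456 2307 (eqF lk (cmA2 Uid gT2 hT2 cm2e3) (cmB2 Uid gT2 hT2 cm2e3)) = true := by decide +kernel
theorem cm2e3_b_c9 : allR 20763 2307 (eqF lk (cmA2 Uid gT2 hT2 cm2e3) (cmB2 Uid gT2 hT2 cm2e3)) = true := by decide +kernel
theorem cm2e3_b_c10 : allR 23070 2307 (eqF lk (cmA2 Uid gT2 hT2 cm2e3) (cmB2 Uid gT2 hT2 cm2e3)) = true := by decide +kernel
theorem cm2e3_b_c11 : allR 25377 2307 (eqF lk (cmA2 Uid gT2 hT2 cm2e3) (cmB2 Uid gT2 hT2 cm2e3)) = true := by decide +kernel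
theorem cm2e3_b_c12 : allR 27684 2307 (eqF lk (cmA2 Uid gT2 hT2 cm2e3) (cmB2 Uid gT2 hT2 cm2e3)) = true := by decide +kernel
theorem cm2e3_b_c13 : allR 29991 1680 (eqF lk (cmA2 Uid gT2 hT2 cm2e3) (cmB2 Uid gT2 hT2 cm2e3)) = true := by decide +kernel
theorem cm2e3_b : eqWW lk nP (cmA2 Uid gT2 hT2 cm2e3) (cmB2 Uid gT2 hT2 cm2e3) = true :=
  eqWW_of_eqF lk nP _ _ [(0, 2307), (2307, 2307), (4614, 2307), (6921, 2307), (9228, 2307), (11535, 2307), (13842, 2307), (16149, 2307), (18456, 2307), (20763, 2307), (23070, 2307), (25377, 2307), (27684, 2307), (29991, 1680)] (by decide) (AllChunks.cons cm2e3_b_c0 (AllChunks.cons cm2e3_b_c1 (AllChunks.cons cm2e3_b_c2 (AllChunks.cons cm2e3_b_c3 (AllChunks.cons cm2e3_b_c4 (AllChunks.cons cm2e3_b_c5 (AllChunks.cons cm2e3_b_c6 (AllChunks.cons cm2e3_b_c7 (AllChunks.cons cm2e3_b_c8 (AllChunks.cons cm2e3_b_c9 (AllChunks.cons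 cm2e3_b_c10 (AllChunks.cons cm2e3_b_c11 (AllChunks.cons cm2e3_b_c12 (AllChunks.cons cm2e3_b_c13 (AllChunks.nil)))))))))))))))

theorem cm2e3_c_c0 : allR 0 5000 (eqF lk (cmA3 Uid gT2 cm2e3) (cmB3 Uid gT2 cm2e3)) = true := by decide +kernel
theorem cm2e3_c_c1 : allR 5000 5000 (eqF lk (cmA3 Uid gT2 cm2e3) (cmB3 Uid gT2 cm2e3)) = true := by decide +kernel
theorem cm2e3_c_c2 : allR 10000 5000 (eqF lk (cmA3 Uid gT2 cm2e3) (cmB3 Uid gT2 cm2e3)) = true := by decide +kernel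
theorem cm2e3_c_c3 : allR 15000 5000 (eqF lk (cmA3 Uid gT2 cm2e3) (cmB3 Uid gT2 cm2e3)) = true := by decide +kernel
theorem cm2e3_c_c4 : allR 20000 5000 (eqF lk (cmA3 Uid gT2 cm2e3) (cmB3 Uid gT2 cm2e3)) = true := by decide +kernel
theorem cm2e3_c_c5 : allR 25000 5000 (eqF lk (cmA3 Uid gT2 cm2e3) (cmB3 Uid gT2 cm2e3)) = true := by decide +kernel
theorem cm2e3_c_c6 : allR 30000 1671 (eqF lk (cmA3 Uid gT2 cm2e3) (cmB3 Uid gT2 cm2e3)) = true := by decide +kernel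
theorem cm2e3_c : eqWW lk nP (cmA3 Uid gT2 cm2e3) (cmB3 Uid gT2 cm2e3) = true :=
  eqWW_of_eqF lk nP _ _ [(0, 5000), (5000, 5000), (10000, 5000), (15000, 5000), (20000, 5000), (25000, 5000), (30000, 1671)] (by decide) (AllChunks.cons cm2e3_c_c0 (AllChunks.cons cm2e3_c_c1 (AllChunks.cons cm2e3_c_c2 (AllChunks.cons cm2e3_c_c3 (AllChunks.cons cm2e3_c_c4 (AllChunks.cons cm2e3_c_c5 (AllChunks.cons cm2e3_c_c6 (AllChunks.nil))))))))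

end Cfsg.Agent.Lib.Helper28.Fi
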