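import Mathlib
import Cfsg.Agent.Lib.Helper28.Fi.Core
import Cfsg.Agent.Lib.Helper28.Fi.Chunk
import Cfsg.Agent.Lib.Helper28.Fi.Rel
import Cfsg.Agent.Lib.Helper28.Fi.Lists
import Cfsg.Agent.Lib.Helper28.Fi.Data2

set_option autoImplicit false
set_option maxRecDepth 1000000
set_option Elab.async false

/-! Checks of the relations of a Sylow 2-subgroup of Fi23, part 0 (generated). -/

namespace Cfsg.Agent.Lib.Helper28.Fi

open Cfsg.Agent.Lib.Helper5.CP Cfsg.Agent.Lib.Helper5.PcP Cfsg.Agent.Lib.Helper5.PcT Cfsg.Agent.Lib.Helper12.TC.Fi23o31671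

theorem rel2_0_0_w_c0 : allR 0 6000 (eqF lk (sqA Uid 2 gT2 0) (sqB Uid gT2 sqL2 0)) = true := by decide +kernel
theorem rel2_0_0_w_c1 : allR 6000 6000 (eqF lk (sqA Uid 2 gT2 0) (sqB Uid gT2 sqL2 0)) = true := by decide +kernel
theorem rel2_0_0_w_c2 : allR 12000 6000 (eqF lk (sqA Uid 2 gT2 0) (sqB Uid gT2 sqL2 0)) = true := by decide +kernel
theorem rel2_0_0_w_c3 : allR 18000 6000 (eqF lk (sqA Uid 2 gT2 0) (sqB Uid gT2 sqL2 0)) = true := by decide +kernel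
theorem rel2_0_0_w_c4 : allR 24000 6000 (eqF lk (sqA Uid 2 gT2 0) (sqB Uid gT2 sqL2 0)) = true := by decide +kernel
theorem rel2_0_0_w_c5 : allR 30000 1671 (eqF lk (sqA Uid 2 gT2 0) (sqB Uid gT2 sqL2 0)) = true := by decide +kernel
theorem rel2_0_0_w : eqWW lk nP (sqA Uid 2 gT2 0) (sqB Uid gT2 sqL2 0) = true :=
  eqWW_of_eqF lk nP _ _ [(0, 6000), (6000, 6000), (12000, 6000), (18000, 6000), (24000, 6000), (30000, 1671)] (by decide) (AllChunks.cons rel2_0_0_w_c0 (AllChunks.cons rel2_0_0_w_c1 (AllChunks.cons rel2_0_0_w_c2 (AllChunks.cons rel2_0_0_w_c3 (AllChunks.cons rel2_0_0_w_c4 (AllChunks.cons rel2_0_0_w_c5 (AllChunks.nil)))))))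

theorem rel2_0_0 : relChk1 lk nP Uid 2 gT2 sqL2 cmL2 (0, 0) = true :=
  relChk1_diag lk nP Uid 2 gT2 sqL2 cmL2 0 rel2_0_0_w

theorem rel2_0_1_w_c0 : allR 0 3750 (eqF lk (cmA Uid gT2 0 1) (cmB Uid gT2 cmL2 0 1)) = true := by decide +kernel
theorem rel2_0_1_w_c1 : allR 3750 3750 (eqF lk (cmA Uid gT2 0 1) (cmB Uid gT2 cmL2 0 1)) = true := by decide +kernel
theorem rel2_0_1_w_c2 : allR 7500 3750 (eqF lk (cmA Uid gT2 0 1) (cmB Uid gT2 cmL2 0 1)) = true := by decide +kernel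
theorem rel2_0_1_w_c3 : allR 11250 3750 (eqF lk (cmA Uid gT2 0 1) (cmB Uid gT2 cmL2 0 1)) = true := by decide +kernel
theorem rel2_0_1_w_c4 : allR 15000 3750 (eqF lk (cmA Uid gT2 0 1) (cmB Uid gT2 cmL2 0 1)) = true := by decide +kernel
theorem rel2_0_1_w_c5 : allR 18750 3750 (eqF lk (cmA Uid gT2 0 1) (cmB Uid gT2 cmL2 0 1)) = true := by decide +kernel
theorem rel2_0_1_w_c6 : allR 22500 3750 (eqF lk (cmA Uid gT2 0 1) (cmB Uid gT2 cmL2 0 1)) = true := by decide +kernel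
theorem rel2_0_1_w_c7 : allR 26250 3750 (eqF lk (cmA Uid gT2 0 1) (cmB Uid gT2 cmL2 0 1)) = true := by decide +kernel
theorem rel2_0_1_w_c8 : allR 30000 1671 (eqF lk (cmA Uid gT2 0 1) (cmB Uid gT2 cmL2 0 1)) = true := by decide +kernel
theorem rel2_0_1_w : eqWW lk nP (cmA Uid gT2 0 1) (cmB Uid gT2 cmL2 0 1) = true :=
  eqWW_of_eqF lk nP _ _ [(0, 3750), (3750, 3750), (7500, 3750), (11250, 3750), (15000, 3750), (18750, 3750), (22500, 3750), (26250, 3750), (30000, 1671)] (by decide) (AllChunks.cons rel2_0_1_w_c0 (AllChunks.cons rel2_0_1_w_c1 (AllChunks.cons rel2_0_1_w_c2 (AllChunks.cons rel2_0_1_w_c3 (AllChunks.cons rel2_0_1_w_c4 (AllChunks.cons rel2_0_1_w_c5 (AllChunks.cons rel2_0_1_w_c6 (AllChunks.cons rel2_0_1_w_c7 (AllChunks.cons rel2_0_1_w_c8 (AllChunks.nil))))))))))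

theorem rel2_0_1 : relChk1 lk nP Uid 2 gT2 sqL2 cmL2 (0, 1) = true :=
  relChk1_off lk nP Uid 2 gT2 sqL2 cmL2 0 1 (by decide) rel2_0_1_w

theorem rel2_0_2_w_c0 : allR 0 3333 (eqF lk (cmA Uid gT2 0 2) (cmB Uid gT2 cmL2 0 2)) = true := by decide +kernel
theorem rel2_0_2_w_c1 : allR 3333 3333 (eqF lk (cmA Uid gT2 0 2) (cmB Uid gT2 cmL2 0 2)) = true := by decide +kernel
theorem rel2_0_2_w_c2 : allR 6666 3333 (eqF lk (cmA Uid gT2 0 2) (cmB Uid gT2 cmL2 0 2)) = true := by decide +kernel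
theorem rel2_0_2_w_c3 : allR 9999 3333 (eqF lk (cmA Uid gT2 0 2) (cmB Uid gT2 cmL2 0 2)) = true := by decide +kernel
theorem rel2_0_2_w_c4 : allR 13332 3333 (eqF lk (cmA Uid gT2 0 2) (cmB Uid gT2 cmL2 0 2)) = true := by decide +kernel
theorem rel2_0_2_w_c5 : allR 16665 3333 (eqF lk (cmA Uid gT2 0 2) (cmB Uid gT2 cmL2 0 2)) = true := by decide +kernel
theorem rel2_0_2_w_c6 : allR 19998 3333 (eqF lk (cmA Uid gT2 0 2) (cmB Uid gT2 cmL2 0 2)) = true := by decide +kernel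
theorem rel2_0_2_w_c7 : allR 23331 3333 (eqF lk (cmA Uid gT2 0 2) (cmB Uid gT2 cmL2 0 2)) = true := by decide +kernel
theorem rel2_0_2_w_c8 : allR 26664 3333 (eqF lk (cmA Uid gT2 0 2) (cmB Uid gT2 cmL2 0 2)) = true := by decide +kernel
theorem rel2_0_2_w_c9 : allR 29997 1674 (eqF lk (cmA Uid gT2 0 2) (cmB Uid gT2 cmL2 0 2)) = true := by decide +kernel
theorem rel2_0_2_w : eqWW lk nP (cmA Uid gT2 0 2) (cmB Uid gT2 cmL2 0 2) = true :=
  eqWW_of_eqF lk nP _ _ [(0, 3333), (3333, 3333), (6666, 3333), (9999, 3333), (13332, 3333), (16665, 3333), (19998, 3333), (23331, 3333), (26664, 3333), (29997, 1674)] (by decide) (AllChunks.cons rel2_0_2_w_c0 (AllChunks.cons rel2_0_2_w_c1 (AllChunks.cons rel2_0_2_w_c2 (AllChunks.cons rel2_0_2_w_c3 (AllChunks.cons rel2_0_2_w_c4 (AllChunks.cons rel2_0_2_w_c5 (AllChunks.cons rel2_0_2_w_c6 (AllChunks.cons rel2_0_2_w_c7 (AllChunks.cons rel2_0_2_w_c8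 (AllChunks.cons rel2_0_2_w_c9 (AllChunks.nil)))))))))))

theorem rel2_0_2 : relChk1 lk nP Uid 2 gT2 sqL2 cmL2 (0, 2) = true :=
  relChk1_off lk nP Uid 2 gT2 sqL2 cmL2 0 2 (by decide) rel2_0_2_w

theorem rel2_0_3_w_c0 : allR 0 3750 (eqF lk (cmA Uid gT2 0 3) (cmB Uid gT2 cmL2 0 3)) = true := by decide +kernel
theorem rel2_0_3_w_c1 : allR 3750 3750 (eqF lk (cmA Uid gT2 0 3) (cmB Uid gT2 cmL2 0 3)) = true := by decide +kernel
theorem rel2_0_3_w_c2 : allR 7500 3750 (eqF lk (cmA Uid gT2 0 3) (cmB Uid gT2 cmL2 0 3)) = true := by decide +kernel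
theorem rel2_0_3_w_c3 : allR 11250 3750 (eqF lk (cmA Uid gT2 0 3) (cmB Uid gT2 cmL2 0 3)) = true := by decide +kernel
theorem rel2_0_3_w_c4 : allR 15000 3750 (eqF lk (cmA Uid gT2 0 3) (cmB Uid gT2 cmL2 0 3)) = true := by decide +kernel
theorem rel2_0_3_w_c5 : allR 18750 3750 (eqF lk (cmA Uid gT2 0 3) (cmB Uid gT2 cmL2 0 3)) = true := by decide +kernel
theorem rel2_0_3_w_c6 : allR 22500 3750 (eqF lk (cmA Uid gT2 0 3) (cmB Uid gT2 cmL2 0 3)) = true := by decide +kernel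
theorem rel2_0_3_w_c7 : allR 26250 3750 (eqF lk (cmA Uid gT2 0 3) (cmB Uid gT2 cmL2 0 3)) = true := by decide +kernel
theorem rel2_0_3_w_c8 : allR 30000 1671 (eqF lk (cmA Uid gT2 0 3) (cmB Uid gT2 cmL2 0 3)) = true := by decide +kernel
theorem rel2_0_3_w : eqWW lk nP (cmA Uid gT2 0 3) (cmB Uid gT2 cmL2 0 3) = true :=
  eqWW_of_eqF lk nP _ _ [(0, 3750), (3750, 3750), (7500, 3750), (11250, 3750), (15000, 3750), (18750, 3750), (22500, 3750), (26250, 3750), (30000, 1671)] (by decide) (AllChunks.cons rel2_0_3_w_c0 (AllChunks.cons rel2_0_3_w_c1 (AllChunks.cons rel2_0_3_w_c2 (AllChunks.cons rel2_0_3_w_c3 (AllChunks.cons rel2_0_3_w_c4 (AllChunks.cons rel2_0_3_w_c5 (AllChunks.cons rel2_0_3_w_c6 (AllChunks.cons rel2_0_3_w_c7 (AllChunks.cons rel2_0_3_w_c8 (AllChunks.nil))))))))))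

theorem rel2_0_3 : relChk1 lk nP Uid 2 gT2 sqL2 cmL2 (0, 3) = true :=
  relChk1_off lk nP Uid 2 gT2 sqL2 cmL2 0 3 (by decide) rel2_0_3_w

theorem rel2_0_4_w_c0 : allR 0 6000 (eqF lk (cmA Uid gT2 0 4) (cmB Uid gT2 cmL2 0 4)) = true := by decide +kernel
theorem rel2_0_4_w_c1 : allR 6000 6000 (eqF lk (cmA Uid gT2 0 4) (cmB Uid gT2 cmL2 0 4)) = true := by decide +kernel
theorem rel2_0_4_w_c2 : allR 12000 6000 (eqF lk (cmA Uid gT2 0 4) (cmB Uid gT2 cmL2 0 4)) = true := by decide +kernel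
theorem rel2_0_4_w_c3 : allR 18000 6000 (eqF lk (cmA Uid gT2 0 4) (cmB Uid gT2 cmL2 0 4)) = true := by decide +kernel
theorem rel2_0_4_w_c4 : allR 24000 6000 (eqF lk (cmA Uid gT2 0 4) (cmB Uid gT2 cmL2 0 4)) = true := by decide +kernel
theorem rel2_0_4_w_c5 : allR 30000 1671 (eqF lk (cmA Uid gT2 0 4) (cmB Uid gT2 cmL2 0 4)) = true := by decide +kernel
theorem rel2_0_4_w : eqWW lk nP (cmA Uid gT2 0 4) (cmB Uid gT2 cmL2 0 4) = true :=
  eqWW_of_eqF lk nP _ _ [(0, 6000), (6000, 6000), (12000, 6000), (18000, 6000), (24000, 6000), (30000, 1671)] (by decide) (AllChunks.cons rel2_0_4_w_c0 (AllChunks.cons rel2_0_4_w_c1 (AllChunks.cons rel2_0_4_w_c2 (AllChunks.cons rel2_0_4_w_c3 (AllChunks.cons rel2_0_4_w_c4 (AllChunks.cons rel2_0_4_w_c5 (AllChunks.nil)))))))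

theorem rel2_0_4 : relChk1 lk nP Uid 2 gT2 sqL2 cmL2 (0, 4) = true :=
  relChk1_off lk nP Uid 2 gT2 sqL2 cmL2 0 4 (by decide) rel2_0_4_w

theorem rel2_0_5_w_c0 : allR 0 6000 (eqF lk (cmA Uid gT2 0 5) (cmB Uid gT2 cmL2 0 5)) = true := by decide +kernel
theorem rel2_0_5_w_c1 : allR 6000 6000 (eqF lk (cmA Uid gT2 0 5) (cmB Uid gT2 cmL2 0 5)) = true := by decide +kernel
theorem rel2_0_5_w_c2 : allR 12000 6000 (eqF lk (cmA Uid gT2 0 5) (cmB Uid gT2 cmL2 0 5)) = true := by decide +kernel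
theorem rel2_0_5_w_c3 : allR 18000 6000 (eqF lk (cmA Uid gT2 0 5) (cmB Uid gT2 cmL2 0 5)) = true := by decide +kernel
theorem rel2_0_5_w_c4 : allR 24000 6000 (eqF lk (cmA Uid gT2 0 5) (cmB Uid gT2 cmL2 0 5)) = true := by decide +kernel
theorem rel2_0_5_w_c5 : allR 30000 1671 (eqF lk (cmA Uid gT2 0 5) (cmB Uid gT2 cmL2 0 5)) = true := by decide +kernel
theorem rel2_0_5_w : eqWW lk nP (cmA Uid gT2 0 5) (cmB Uid gT2 cmL2 0 5) = true :=
  eqWW_of_eqF lk nP _ _ [(0, 6000), (6000, 6000), (12000, 6000), (18000, 6000), (24000, 6000), (30000, 1671)] (by decide) (AllChunks.cons rel2_0_5_w_c0 (AllChunks.cons rel2_0_5_w_c1 (AllChunks.cons rel2_0_5_w_c2 (AllChunks.cons rel2_0_5_w_c3 (AllChunks.cons rel2_0_5_w_c4 (AllChunks.cons rel2_0_5_w_c5 (AllChunks.nil)))))))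

theorem rel2_0_5 : relChk1 lk nP Uid 2 gT2 sqL2 cmL2 (0, 5) = true :=
  relChk1_off lk nP Uid 2 gT2 sqL2 cmL2 0 5 (by decide) rel2_0_5_w

theorem rel2_0_6_w_c0 : allR 0 6000 (eqF lk (cmA Uid gT2 0 6) (cmB Uid gT2 cmL2 0 6)) = true := by decide +kernel
theorem rel2_0_6_w_c1 : allR 6000 6000 (eqF lk (cmA Uid gT2 0 6) (cmB Uid gT2 cmL2 0 6)) = true := by decide +kernel
theorem rel2_0_6_w_c2 : allR 12000 6000 (eqF lk (cmA Uid gT2 0 6) (cmB Uid gT2 cmL2 0 6)) = true := by decide +kernel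
theorem rel2_0_6_w_c3 : allR 18000 6000 (eqF lk (cmA Uid gT2 0 6) (cmB Uid gT2 cmL2 0 6)) = true := by decide +kernel
theorem rel2_0_6_w_c4 : allR 24000 6000 (eqF lk (cmA Uid gT2 0 6) (cmB Uid gT2 cmL2 0 6)) = true := by decide +kernel
theorem rel2_0_6_w_c5 : allR 30000 1671 (eqF lk (cmA Uid gT2 0 6) (cmB Uid gT2 cmL2 0 6)) = true := by decide +kernel
theorem rel2_0_6_w : eqWW lk nP (cmA Uid gT2 0 6) (cmB Uid gT2 cmL2 0 6) = true :=
  eqWW_of_eqF lk nP _ _ [(0, 6000), (6000, 6000), (12000, 6000), (18000, 6000), (24000, 6000), (30000, 1671)] (by decide) (AllChunks.cons rel2_0_6_w_c0 (AllChunks.cons rel2_0_6_w_c1 (AllChunks.cons rel2_0_6_w_c2 (AllChunks.cons rel2_0_6_w_c3 (AllChunks.cons rel2_0_6_w_c4 (AllChunks.cons rel2_0_6_w_c5 (AllChunks.nil)))))))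

theorem rel2_0_6 : relChk1 lk nP Uid 2 gT2 sqL2 cmL2 (0, 6) = true :=
  relChk1_off lk nP Uid 2 gT2 sqL2 cmL2 0 6 (by decide) rel2_0_6_w

theorem rel2_0_7_w_c0 : allR 0 7500 (eqF lk (cmA Uid gT2 0 7) (cmB Uid gT2 cmL2 0 7)) = true := by decide +kernel
theorem rel2_0_7_w_c1 : allR 7500 7500 (eqF lk (cmA Uid gT2 0 7) (cmB Uid gT2 cmL2 0 7)) = true := by decide +kernel
theorem rel2_0_7_w_c2 : allR 15000 7500 (eqF lk (cmA Uid gT2 0 7) (cmB Uid gT2 cmL2 0 7)) = true := by decide +kernel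
theorem rel2_0_7_w_c3 : allR 22500 7500 (eqF lk (cmA Uid gT2 0 7) (cmB Uid gT2 cmL2 0 7)) = true := by decide +kernel
theorem rel2_0_7_w_c4 : allR 30000 1671 (eqF lk (cmA Uid gT2 0 7) (cmB Uid gT2 cmL2 0 7)) = true := by decide +kernel
theorem rel2_0_7_w : eqWW lk nP (cmA Uid gT2 0 7) (cmB Uid gT2 cmL2 0 7) = true :=
  eqWW_of_eqF lk nP _ _ [(0, 7500), (7500, 7500), (15000, 7500), (22500, 7500), (30000, 1671)] (by decide) (AllChunks.cons rel2_0_7_w_c0 (AllChunks.cons rel2_0_7_w_c1 (AllChunks.cons rel2_0_7_w_c2 (AllChunks.cons rel2_0_7_w_c3 (AllChunks.cons rel2_0_7_w_c4 (AllChunks.nil))))))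

theorem rel2_0_7 : relChk1 lk nP Uid 2 gT2 sqL2 cmL2 (0, 7) = true :=
  relChk1_off lk nP Uid 2 gT2 sqL2 cmL2 0 7 (by decide) rel2_0_7_w

theorem rel2_0_8_w_c0 : allR 0 6000 (eqF lk (cmA Uid gT2 0 8) (cmB Uid gT2 cmL2 0 8)) = true := by decide +kernel
theorem rel2_0_8_w_c1 : allR 6000 6000 (eqF lk (cmA Uid gT2 0 8) (cmB Uid gT2 cmL2 0 8)) = true := by decide +kernel
theorem rel2_0_8_w_c2 : allR 12000 6000 (eqF lk (cmA Uid gT2 0 8) (cmB Uid gT2 cmL2 0 8)) = true := by decide +kernel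
theorem rel2_0_8_w_c3 : allR 18000 6000 (eqF lk (cmA Uid gT2 0 8) (cmB Uid gT2 cmL2 0 8)) = true := by decide +kernel
theorem rel2_0_8_w_c4 : allR 24000 6000 (eqF lk (cmA Uid gT2 0 8) (cmB Uid gT2 cmL2 0 8)) = true := by decide +kernel
theorem rel2_0_8_w_c5 : allR 30000 1671 (eqF lk (cmA Uid gT2 0 8) (cmB Uid gT2 cmL2 0 8)) = true := by decide +kernel
theorem rel2_0_8_w : eqWW lk nP (cmA Uid gT2 0 8) (cmB Uid gT2 cmL2 0 8) = true :=
  eqWW_of_eqF lk nP _ _ [(0, 6000), (6000, 6000), (12000, 6000), (18000, 6000), (24000, 6000), (30000, 1671)] (by decide) (AllChunks.cons rel2_0_8_w_c0 (AllChunks.cons rel2_0_8_w_c1 (AllChunks.cons rel2_0_8_w_c2 (AllChunks.cons rel2_0_8_w_c3 (AllChunks.cons rel2_0_8_w_c4 (AllChunks.cons rel2_0_8_w_c5 (AllChunks.nil)))))))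

theorem rel2_0_8 : relChk1 lk nP Uid 2 gT2 sqL2 cmL2 (0, 8) = true :=
  relChk1_off lk nP Uid 2 gT2 sqL2 cmL2 0 8 (by decide) rel2_0_8_w

theorem rel2_0_9_w_c0 : allR 0 6000 (eqF lk (cmA Uid gT2 0 9) (cmB Uid gT2 cmL2 0 9)) = true := by decide +kernel
theorem rel2_0_9_w_c1 : allR 6000 6000 (eqF lk (cmA Uid gT2 0 9) (cmB Uid gT2 cmL2 0 9)) = true := by decide +kernel
theorem rel2_0_9_w_c2 : allR 12000 6000 (eqF lk (cmA Uid gT2 0 9) (cmB Uid gT2 cmL2 0 9)) = true := by decide +kernel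
theorem rel2_0_9_w_c3 : allR 18000 6000 (eqF lk (cmA Uid gT2 0 9) (cmB Uid gT2 cmL2 0 9)) = true := by decide +kernel
theorem rel2_0_9_w_c4 : allR 24000 6000 (eqF lk (cmA Uid gT2 0 9) (cmB Uid gT2 cmL2 0 9)) = true := by decide +kernel
theorem rel2_0_9_w_c5 : allR 30000 1671 (eqF lk (cmA Uid gT2 0 9) (cmB Uid gT2 cmL2 0 9)) = true := by decide +kernel
theorem rel2_0_9_w : eqWW lk nP (cmA Uid gT2 0 9) (cmB Uid gT2 cmL2 0 9) = true :=
  eqWW_of_eqF lk nP _ _ [(0, 6000), (6000, 6000), (12000, 6000), (18000, 6000), (24000, 6000), (30000, 1671)] (by decide) (AllChunks.cons rel2_0_9_w_c0 (AllChunks.cons rel2_0_9_w_c1 (AllChunks.cons rel2_0_9_w_c2 (AllChunks.cons rel2_0_9_w_c3 (AllChunks.cons rel2_0_9_w_c4 (AllChunks.cons rel2_0_9_w_c5 (AllChunks.nil)))))))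

theorem rel2_0_9 : relChk1 lk nP Uid 2 gT2 sqL2 cmL2 (0, 9) = true :=
  relChk1_off lk nP Uid 2 gT2 sqL2 cmL2 0 9 (by decide) rel2_0_9_w

theorem rel2_0_10_w_c0 : allR 0 4285 (eqF lk (cmA Uid gT2 0 10) (cmB Uid gT2 cmL2 0 10)) = true := by decide +kernel
theorem rel2_0_10_w_c1 : allR 4285 4285 (eqF lk (cmA Uid gT2 0 10) (cmB Uid gT2 cmL2 0 10)) = true := by decide +kernel
theorem rel2_0_10_w_c2 : allR 8570 4285 (eqF lk (cmA Uid gT2 0 10) (cmB Uid gT2 cmL2 0 10)) = true := by decide +kernel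
theorem rel2_0_10_w_c3 : allR 12855 4285 (eqF lk (cmA Uid gT2 0 10) (cmB Uid gT2 cmL2 0 10)) = true := by decide +kernel
theorem rel2_0_10_w_c4 : allR 17140 4285 (eqF lk (cmA Uid gT2 0 10) (cmB Uid gT2 cmL2 0 10)) = true := by decide +kernel
theorem rel2_0_10_w_c5 : allR 21425 4285 (eqF lk (cmA Uid gT2 0 10) (cmB Uid gT2 cmL2 0 10)) = true := by decide +kernel
theorem rel2_0_10_w_c6 : allR 25710 4285 (eqF lk (cmA Uid gT2 0 10) (cmB Uid gT2 cmL2 0 10)) = true := by decide +kernel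
theorem rel2_0_10_w_c7 : allR 29995 1676 (eqF lk (cmA Uid gT2 0 10) (cmB Uid gT2 cmL2 0 10)) = true := by decide +kernel
theorem rel2_0_10_w : eqWW lk nP (cmA Uid gT2 0 10) (cmB Uid gT2 cmL2 0 10) = true :=
  eqWW_of_eqF lk nP _ _ [(0, 4285), (4285, 4285), (8570, 4285), (12855, 4285), (17140, 4285), (21425, 4285), (25710, 4285), (29995, 1676)] (by decide) (AllChunks.cons rel2_0_10_w_c0 (AllChunks.cons rel2_0_10_w_c1 (AllChunks.cons rel2_0_10_w_c2 (AllChunks.cons rel2_0_10_w_c3 (AllChunks.cons rel2_0_10_w_c4 (AllChunks.cons rel2_0_10_w_c5 (AllChunks.cons rel2_0_10_w_c6 (AllChunks.cons rel2_0_10_w_c7 (AllChunks.nil)))))))))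

theorem rel2_0_10 : relChk1 lk nP Uid 2 gT2 sqL2 cmL2 (0, 10) = true :=
  relChk1_off lk nP Uid 2 gT2 sqL2 cmL2 0 10 (by decide) rel2_0_10_w

theorem rel2_0_11_w_c0 : allR 0 6000 (eqF lk (cmA Uid gT2 0 11) (cmB Uid gT2 cmL2 0 11)) = true := by decide +kernel
theorem rel2_0_11_w_c1 : allR 6000 6000 (eqF lk (cmA Uid gT2 0 11) (cmB Uid gT2 cmL2 0 11)) = true := by decide +kernel
theorem rel2_0_11_w_c2 : allR 12000 6000 (eqF lk (cmA Uid gT2 0 11) (cmB Uid gT2 cmL2 0 11)) = true := by decide +kernel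
theorem rel2_0_11_w_c3 : allR 18000 6000 (eqF lk (cmA Uid gT2 0 11) (cmB Uid gT2 cmL2 0 11)) = true := by decide +kernel
theorem rel2_0_11_w_c4 : allR 24000 6000 (eqF lk (cmA Uid gT2 0 11) (cmB Uid gT2 cmL2 0 11)) = true := by decide +kernel
theorem rel2_0_11_w_c5 : allR 30000 1671 (eqF lk (cmA Uid gT2 0 11) (cmB Uid gT2 cmL2 0 11)) = true := by decide +kernel
theorem rel2_0_11_w : eqWW lk nP (cmA Uid gT2 0 11) (cmB Uid gT2 cmL2 0 11) = true :=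
  eqWW_of_eqF lk nP _ _ [(0, 6000), (6000, 6000), (12000, 6000), (18000, 6000), (24000, 6000), (30000, 1671)] (by decide) (AllChunks.cons rel2_0_11_w_c0 (AllChunks.cons rel2_0_11_w_c1 (AllChunks.cons rel2_0_11_w_c2 (AllChunks.cons rel2_0_11_w_c3 (AllChunks.cons rel2_0_11_w_c4 (AllChunks.cons rel2_0_11_w_c5 (AllChunks.nil)))))))

theorem rel2_0_11 : relChk1 lk nP Uid 2 gT2 sqL2 cmL2 (0, 11) = true :=
  relChk1_off lk nP Uid 2 gT2 sqL2 cmL2 0 11 (by decide) rel2_0_11_w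

theorem rel2_0_12_w_c0 : allR 0 6000 (eqF lk (cmA Uid gT2 0 12) (cmB Uid gT2 cmL2 0 12)) = true := by decide +kernel
theorem rel2_0_12_w_c1 : allR 6000 6000 (eqF lk (cmA Uid gT2 0 12) (cmB Uid gT2 cmL2 0 12)) = true := by decide +kernel
theorem rel2_0_12_w_c2 : allR 12000 6000 (eqF lk (cmA Uid gT2 0 12) (cmB Uid gT2 cmL2 0 12)) = true := by decide +kernel
theorem rel2_0_12_w_c3 : allR 18000 6000 (eqF lk (cmA Uid gT2 0 12) (cmB Uid gT2 cmL2 0 12)) = true := by decide +kernel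
theorem rel2_0_12_w_c4 : allR 24000 6000 (eqF lk (cmA Uid gT2 0 12) (cmB Uid gT2 cmL2 0 12)) = true := by decide +kernel
theorem rel2_0_12_w_c5 : allR 30000 1671 (eqF lk (cmA Uid gT2 0 12) (cmB Uid gT2 cmL2 0 12)) = true := by decide +kernel
theorem rel2_0_12_w : eqWW lk nP (cmA Uid gT2 0 12) (cmB Uid gT2 cmL2 0 12) = true :=
  eqWW_of_eqF lk nP _ _ [(0, 6000), (6000, 6000), (12000, 6000), (18000, 6000), (24000, 6000), (30000, 1671)] (by decide) (AllChunks.cons rel2_0_12_w_c0 (AllChunks.cons rel2_0_12_w_c1 (AllChunks.cons rel2_0_12_w_c2 (AllChunks.cons rel2_0_12_w_c3 (AllChunks.cons rel2_0_12_w_c4 (AllChunks.cons rel2_0_12_w_c5 (AllChunks.nil)))))))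

theorem rel2_0_12 : relChk1 lk nP Uid 2 gT2 sqL2 cmL2 (0, 12) = true :=
  relChk1_off lk nP Uid 2 gT2 sqL2 cmL2 0 12 (by decide) rel2_0_12_w

theorem rel2_0_13_w_c0 : allR 0 6000 (eqF lk (cmA Uid gT2 0 13) (cmB Uid gT2 cmL2 0 13)) = true := by decide +kernel
theorem rel2_0_13_w_c1 : allR 6000 6000 (eqF lk (cmA Uid gT2 0 13) (cmB Uid gT2 cmL2 0 13)) = true := by decide +kernel
theorem rel2_0_13_w_c2 : allR 12000 6000 (eqF lk (cmA Uid gT2 0 13) (cmB Uid gT2 cmL2 0 13)) = true := by decide +kernel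
theorem rel2_0_13_w_c3 : allR 18000 6000 (eqF lk (cmA Uid gT2 0 13) (cmB Uid gT2 cmL2 0 13)) = true := by decide +kernel
theorem rel2_0_13_w_c4 : allR 24000 6000 (eqF lk (cmA Uid gT2 0 13) (cmB Uid gT2 cmL2 0 13)) = true := by decide +kernel
theorem rel2_0_13_w_c5 : allR 30000 1671 (eqF lk (cmA Uid gT2 0 13) (cmB Uid gT2 cmL2 0 13)) = true := by decide +kernel
theorem rel2_0_13_w : eqWW lk nP (cmA Uid gT2 0 13) (cmB Uid gT2 cmL2 0 13) = true :=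
  eqWW_of_eqF lk nP _ _ [(0, 6000), (6000, 6000), (12000, 6000), (18000, 6000), (24000, 6000), (30000, 1671)] (by decide) (AllChunks.cons rel2_0_13_w_c0 (AllChunks.cons rel2_0_13_w_c1 (AllChunks.cons rel2_0_13_w_c2 (AllChunks.cons rel2_0_13_w_c3 (AllChunks.cons rel2_0_13_w_c4 (AllChunks.cons rel2_0_13_w_c5 (AllChunks.nil)))))))

theorem rel2_0_13 : relChk1 lk nP Uid 2 gT2 sqL2 cmL2 (0, 13) = true :=
  relChk1_off lk nP Uid 2 gT2 sqL2 cmL2 0 13 (by decide) rel2_0_13_w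

theorem rel2_0_14_w_c0 : allR 0 6000 (eqF lk (cmA Uid gT2 0 14) (cmB Uid gT2 cmL2 0 14)) = true := by decide +kernel
theorem rel2_0_14_w_c1 : allR 6000 6000 (eqF lk (cmA Uid gT2 0 14) (cmB Uid gT2 cmL2 0 14)) = true := by decide +kernel
theorem rel2_0_14_w_c2 : allR 12000 6000 (eqF lk (cmA Uid gT2 0 14) (cmB Uid gT2 cmL2 0 14)) = true := by decide +kernel
theorem rel2_0_14_w_c3 : allR 18000 6000 (eqF lk (cmA Uid gT2 0 14) (cmB Uid gT2 cmL2 0 14)) = true := by decide +kernel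
theorem rel2_0_14_w_c4 : allR 24000 6000 (eqF lk (cmA Uid gT2 0 14) (cmB Uid gT2 cmL2 0 14)) = true := by decide +kernel
theorem rel2_0_14_w_c5 : allR 30000 1671 (eqF lk (cmA Uid gT2 0 14) (cmB Uid gT2 cmL2 0 14)) = true := by decide +kernel
theorem rel2_0_14_w : eqWW lk nP (cmA Uid gT2 0 14) (cmB Uid gT2 cmL2 0 14) = true :=
  eqWW_of_eqF lk nP _ _ [(0, 6000), (6000, 6000), (12000, 6000), (18000, 6000), (24000, 6000), (30000, 1671)] (by decide) (AllChunks.cons rel2_0_14_w_c0 (AllChunks.cons rel2_0_14_w_c1 (AllChunks.cons rel2_0_14_w_c2 (AllChunks.cons rel2_0_14_w_c3 (AllChunks.cons rel2_0_14_w_c4 (AllChunks.cons rel2_0_14_w_c5 (AllChunks.nil)))))))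

theorem rel2_0_14 : relChk1 lk nP Uid 2 gT2 sqL2 cmL2 (0, 14) = true :=
  relChk1_off lk nP Uid 2 gT2 sqL2 cmL2 0 14 (by decide) rel2_0_14_w

theorem rel2_0_15_w_c0 : allR 0 6000 (eqF lk (cmA Uid gT2 0 15) (cmB Uid gT2 cmL2 0 15)) = true := by decide +kernel
theorem rel2_0_15_w_c1 : allR 6000 6000 (eqF lk (cmA Uid gT2 0 15) (cmB Uid gT2 cmL2 0 15)) = true := by decide +kernel
theorem rel2_0_15_w_c2 : allR 12000 6000 (eqF lk (cmA Uid gT2 0 15) (cmB Uid gT2 cmL2 0 15)) = true := by decide +kernel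
theorem rel2_0_15_w_c3 : allR 18000 6000 (eqF lk (cmA Uid gT2 0 15) (cmB Uid gT2 cmL2 0 15)) = true := by decide +kernel
theorem rel2_0_15_w_c4 : allR 24000 6000 (eqF lk (cmA Uid gT2 0 15) (cmB Uid gT2 cmL2 0 15)) = true := by decide +kernel
theorem rel2_0_15_w_c5 : allR 30000 1671 (eqF lk (cmA Uid gT2 0 15) (cmB Uid gT2 cmL2 0 15)) = true := by decide +kernel
theorem rel2_0_15_w : eqWW lk nP (cmA Uid gT2 0 15) (cmB Uid gT2 cmL2 0 15) = true :=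
  eqWW_of_eqF lk nP _ _ [(0, 6000), (6000, 6000), (12000, 6000), (18000, 6000), (24000, 6000), (30000, 1671)] (by decide) (AllChunks.cons rel2_0_15_w_c0 (AllChunks.cons rel2_0_15_w_c1 (AllChunks.cons rel2_0_15_w_c2 (AllChunks.cons rel2_0_15_w_c3 (AllChunks.cons rel2_0_15_w_c4 (AllChunks.cons rel2_0_15_w_c5 (AllChunks.nil)))))))

theorem rel2_0_15 : relChk1 lk nP Uid 2 gT2 sqL2 cmL2 (0, 15) = true :=
  relChk1_off lk nP Uid 2 gT2 sqL2 cmL2 0 15 (by decide) rel2_0_15_w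

theorem rel2_0_16_w_c0 : allR 0 7500 (eqF lk (cmA Uid gT2 0 16) (cmB Uid gT2 cmL2 0 16)) = true := by decide +kernel
theorem rel2_0_16_w_c1 : allR 7500 7500 (eqF lk (cmA Uid gT2 0 16) (cmB Uid gT2 cmL2 0 16)) = true := by decide +kernel
theorem rel2_0_16_w_c2 : allR 15000 7500 (eqF lk (cmA Uid gT2 0 16) (cmB Uid gT2 cmL2 0 16)) = true := by decide +kernel
theorem rel2_0_16_w_c3 : allR 22500 7500 (eqF lk (cmA Uid gT2 0 16) (cmB Uid gT2 cmL2 0 16)) = true := by decide +kernel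
theorem rel2_0_16_w_c4 : allR 30000 1671 (eqF lk (cmA Uid gT2 0 16) (cmB Uid gT2 cmL2 0 16)) = true := by decide +kernel
theorem rel2_0_16_w : eqWW lk nP (cmA Uid gT2 0 16) (cmB Uid gT2 cmL2 0 16) = true :=
  eqWW_of_eqF lk nP _ _ [(0, 7500), (7500, 7500), (15000, 7500), (22500, 7500), (30000, 1671)] (by decide) (AllChunks.cons rel2_0_16_w_c0 (AllChunks.cons rel2_0_16_w_c1 (AllChunks.cons rel2_0_16_w_c2 (AllChunks.cons rel2_0_16_w_c3 (AllChunks.cons rel2_0_16_w_c4 (AllChunks.nil))))))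

theorem rel2_0_16 : relChk1 lk nP Uid 2 gT2 sqL2 cmL2 (0, 16) = true :=
  relChk1_off lk nP Uid 2 gT2 sqL2 cmL2 0 16 (by decide) rel2_0_16_w

theorem rel2_0_17_w_c0 : allR 0 7500 (eqF lk (cmA Uid gT2 0 17) (cmB Uid gT2 cmL2 0 17)) = true := by decide +kernel
theorem rel2_0_17_w_c1 : allR 7500 7500 (eqF lk (cmA Uid gT2 0 17) (cmB Uid gT2 cmL2 0 17)) = true := by decide +kernel
theorem rel2_0_17_w_c2 : allR 15000 7500 (eqF lk (cmA Uid gT2 0 17) (cmB Uid gT2 cmL2 0 17)) = true := by decide +kernel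
theorem rel2_0_17_w_c3 : allR 22500 7500 (eqF lk (cmA Uid gT2 0 17) (cmB Uid gT2 cmL2 0 17)) = true := by decide +kernel
theorem rel2_0_17_w_c4 : allR 30000 1671 (eqF lk (cmA Uid gT2 0 17) (cmB Uid gT2 cmL2 0 17)) = true := by decide +kernel
theorem rel2_0_17_w : eqWW lk nP (cmA Uid gT2 0 17) (cmB Uid gT2 cmL2 0 17) = true :=
  eqWW_of_eqF lk nP _ _ [(0, 7500), (7500, 7500), (15000, 7500), (22500, 7500), (30000, 1671)] (by decide) (AllChunks.cons rel2_0_17_w_c0 (AllChunks.cons rel2_0_17_w_c1 (AllChunks.cons rel2_0_17_w_c2 (AllChunks.cons rel2_0_17_w_c3 (AllChunks.cons rel2_0_17_w_c4 (AllChunks.nil))))))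

theorem rel2_0_17 : relChk1 lk nP Uid 2 gT2 sqL2 cmL2 (0, 17) = true :=
  relChk1_off lk nP Uid 2 gT2 sqL2 cmL2 0 17 (by decide) rel2_0_17_w

theorem rel2_1_1_w_c0 : allR 0 10000 (eqF lk (sqA Uid 2 gT2 1) (sqB Uid gT2 sqL2 1)) = true := by decide +kernel
theorem rel2_1_1_w_c1 : allR 10000 10000 (eqF lk (sqA Uid 2 gT2 1) (sqB Uid gT2 sqL2 1)) = true := by decide +kernel
theorem rel2_1_1_w_c2 : allR 20000 10000 (eqF lk (sqA Uid 2 gT2 1) (sqB Uid gT2 sqL2 1)) = true := by decide +kernel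
theorem rel2_1_1_w_c3 : allR 30000 1671 (eqF lk (sqA Uid 2 gT2 1) (sqB Uid gT2 sqL2 1)) = true := by decide +kernel
theorem rel2_1_1_w : eqWW lk nP (sqA Uid 2 gT2 1) (sqB Uid gT2 sqL2 1) = true :=
  eqWW_of_eqF lk nP _ _ [(0, 10000), (10000, 10000), (20000, 10000), (30000, 1671)] (by decide) (AllChunks.cons rel2_1_1_w_c0 (AllChunks.cons rel2_1_1_w_c1 (AllChunks.cons rel2_1_1_w_c2 (AllChunks.cons rel2_1_1_w_c3 (AllChunks.nil)))))

theorem rel2_1_1 : relChk1 lk nP Uid 2 gT2 sqL2 cmL2 (1, 1) = true :=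
  relChk1_diag lk nP Uid 2 gT2 sqL2 cmL2 1 rel2_1_1_w

theorem rel2_1_2_w_c0 : allR 0 7500 (eqF lk (cmA Uid gT2 1 2) (cmB Uid gT2 cmL2 1 2)) = true := by decide +kernel
theorem rel2_1_2_w_c1 : allR 7500 7500 (eqF lk (cmA Uid gT2 1 2) (cmB Uid gT2 cmL2 1 2)) = true := by decide +kernel
theorem rel2_1_2_w_c2 : allR 15000 7500 (eqF lk (cmA Uid gT2 1 2) (cmB Uid gT2 cmL2 1 2)) = true := by decide +kernel
theorem rel2_1_2_w_c3 : allR 22500 7500 (eqF lk (cmA Uid gT2 1 2) (cmB Uid gT2 cmL2 1 2)) = true := by decide +kernel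
theorem rel2_1_2_w_c4 : allR 30000 1671 (eqF lk (cmA Uid gT2 1 2) (cmB Uid gT2 cmL2 1 2)) = true := by decide +kernel
theorem rel2_1_2_w : eqWW lk nP (cmA Uid gT2 1 2) (cmB Uid gT2 cmL2 1 2) = true :=
  eqWW_of_eqF lk nP _ _ [(0, 7500), (7500, 7500), (15000, 7500), (22500, 7500), (30000, 1671)] (by decide) (AllChunks.cons rel2_1_2_w_c0 (AllChunks.cons rel2_1_2_w_c1 (AllChunks.cons rel2_1_2_w_c2 (AllChunks.cons rel2_1_2_w_c3 (AllChunks.cons rel2_1_2_w_c4 (AllChunks.nil))))))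

theorem rel2_1_2 : relChk1 lk nP Uid 2 gT2 sqL2 cmL2 (1, 2) = true :=
  relChk1_off lk nP Uid 2 gT2 sqL2 cmL2 1 2 (by decide) rel2_1_2_w

theorem relpart2x0_ok : relsPart lk nP Uid 2 gT2 sqL2 cmL2 relpart2x0 = true :=
  relsPart_of_allRel _ (AllRel.cons rel2_0_0 (AllRel.cons rel2_0_1 (AllRel.cons rel2_0_2 (AllRel.cons rel2_0_3 (AllRel.cons rel2_0_4 (AllRel.cons rel2_0_5 (AllRel.cons rel2_0_6 (AllRel.cons rel2_0_7 (AllRel.cons rel2_0_8 (AllRel.cons rel2_0_9 (AllRel.cons rel2_0_10 (AllRel.cons rel2_0_11 (AllRel.cons rel2_0_12 (AllRel.cons rel2_0_13 (AllRel.cons rel2_0_14 (AllRel.cons rel2_0_15 (AllRel.cons rel2_0_16 (AllRel.cons rel2_0_17 (AllRel.cons rel2_1_1 (AllRel.cons rel2_1_2 (AllRel.nil lk nP Uid 2 gT2 sqL2 cmL2)))))))))))))))))))))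

end Cfsg.Agent.Lib.Helper28.Fi
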