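import Mathlib
import Cfsg.Agent.Lib.Helper28.Fi.Core
import Cfsg.Agent.Lib.Helper28.Fi.Chunk
import Cfsg.Agent.Lib.Helper28.Fi.Rel
import Cfsg.Agent.Lib.Helper28.Fi.Lists
import Cfsg.Agent.Lib.Helper28.Fi.Data2

set_option autoImplicit false
set_option maxRecDepth 1000000
set_option Elab.async false

/-! Checks of the relations of a Sylow 2-subgroup of Fi23, part 4 (generated). -/

namespace Cfsg.Agent.Lib.Helper28.Fi

open Cfsg.Agent.Lib.Helper5.CP Cfsg.Agent.Lib.Helper5.PcP Cfsg.Agent.Lib.Helper5.PcT Cfsg.Agent.Lib.Helper12.TC.Fi23o31671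

theorem rel2_4_17_w_c0 : allR 0 7500 (eqF lk (cmA Uid gT2 4 17) (cmB Uid gT2 cmL2 4 17)) = true := by decide +kernel
theorem rel2_4_17_w_c1 : allR 7500 7500 (eqF lk (cmA Uid gT2 4 17) (cmB Uid gT2 cmL2 4 17)) = true := by decide +kernel
theorem rel2_4_17_w_c2 : allR 15000 7500 (eqF lk (cmA Uid gT2 4 17) (cmB Uid gT2 cmL2 4 17)) = true := by decide +kernel
theorem rel2_4_17_w_c3 : allR 22500 7500 (eqF lk (cmA Uid gT2 4 17) (cmB Uid gT2 cmL2 4 17)) = true := by decide +kernel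
theorem rel2_4_17_w_c4 : allR 30000 1671 (eqF lk (cmA Uid gT2 4 17) (cmB Uid gT2 cmL2 4 17)) = true := by decide +kernel
theorem rel2_4_17_w : eqWW lk nP (cmA Uid gT2 4 17) (cmB Uid gT2 cmL2 4 17) = true :=
  eqWW_of_eqF lk nP _ _ [(0, 7500), (7500, 7500), (15000, 7500), (22500, 7500), (30000, 1671)] (by decide) (AllChunks.cons rel2_4_17_w_c0 (AllChunks.cons rel2_4_17_w_c1 (AllChunks.cons rel2_4_17_w_c2 (AllChunks.cons rel2_4_17_w_c3 (AllChunks.cons rel2_4_17_w_c4 (AllChunks.nil))))))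

theorem rel2_4_17 : relChk1 lk nP Uid 2 gT2 sqL2 cmL2 (4, 17) = true :=
  relChk1_off lk nP Uid 2 gT2 sqL2 cmL2 4 17 (by decide) rel2_4_17_w

theorem rel2_5_5_w_c0 : allR 0 6000 (eqF lk (sqA Uid 2 gT2 5) (sqB Uid gT2 sqL2 5)) = true := by decide +kernel
theorem rel2_5_5_w_c1 : allR 6000 6000 (eqF lk (sqA Uid 2 gT2 5) (sqB Uid gT2 sqL2 5)) = true := by decide +kernel
theorem rel2_5_5_w_c2 : allR 12000 6000 (eqF lk (sqA Uid 2 gT2 5) (sqB Uid gT2 sqL2 5)) = true := by decide +kernel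
theorem rel2_5_5_w_c3 : allR 18000 6000 (eqF lk (sqA Uid 2 gT2 5) (sqB Uid gT2 sqL2 5)) = true := by decide +kernel
theorem rel2_5_5_w_c4 : allR 24000 6000 (eqF lk (sqA Uid 2 gT2 5) (sqB Uid gT2 sqL2 5)) = true := by decide +kernel
theorem rel2_5_5_w_c5 : allR 30000 1671 (eqF lk (sqA Uid 2 gT2 5) (sqB Uid gT2 sqL2 5)) = true := by decide +kernel
theorem rel2_5_5_w : eqWW lk nP (sqA Uid 2 gT2 5) (sqB Uid gT2 sqL2 5) = true :=
  eqWW_of_eqF lk nP _ _ [(0, 6000), (6000, 6000), (12000, 6000), (18000, 6000), (24000, 6000), (30000, 1671)] (by decide) (AllChunks.cons rel2_5_5_w_c0 (AllChunks.cons rel2_5_5_w_c1 (AllChunks.cons rel2_5_5_w_c2 (AllChunks.cons rel2_5_5_w_c3 (AllChunks.cons rel2_5_5_w_c4 (AllChunks.cons rel2_5_5_w_c5 (AllChunks.nil)))))))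

theorem rel2_5_5 : relChk1 lk nP Uid 2 gT2 sqL2 cmL2 (5, 5) = true :=
  relChk1_diag lk nP Uid 2 gT2 sqL2 cmL2 5 rel2_5_5_w

theorem rel2_5_6_w_c0 : allR 0 4285 (eqF lk (cmA Uid gT2 5 6) (cmB Uid gT2 cmL2 5 6)) = true := by decide +kernel
theorem rel2_5_6_w_c1 : allR 4285 4285 (eqF lk (cmA Uid gT2 5 6) (cmB Uid gT2 cmL2 5 6)) = true := by decide +kernel
theorem rel2_5_6_w_c2 : allR 8570 4285 (eqF lk (cmA Uid gT2 5 6) (cmB Uid gT2 cmL2 5 6)) = true := by decide +kernel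
theorem rel2_5_6_w_c3 : allR 12855 4285 (eqF lk (cmA Uid gT2 5 6) (cmB Uid gT2 cmL2 5 6)) = true := by decide +kernel
theorem rel2_5_6_w_c4 : allR 17140 4285 (eqF lk (cmA Uid gT2 5 6) (cmB Uid gT2 cmL2 5 6)) = true := by decide +kernel
theorem rel2_5_6_w_c5 : allR 21425 4285 (eqF lk (cmA Uid gT2 5 6) (cmB Uid gT2 cmL2 5 6)) = true := by decide +kernel
theorem rel2_5_6_w_c6 : allR 25710 4285 (eqF lk (cmA Uid gT2 5 6) (cmB Uid gT2 cmL2 5 6)) = true := by decide +kernel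
theorem rel2_5_6_w_c7 : allR 29995 1676 (eqF lk (cmA Uid gT2 5 6) (cmB Uid gT2 cmL2 5 6)) = true := by decide +kernel
theorem rel2_5_6_w : eqWW lk nP (cmA Uid gT2 5 6) (cmB Uid gT2 cmL2 5 6) = true :=
  eqWW_of_eqF lk nP _ _ [(0, 4285), (4285, 4285), (8570, 4285), (12855, 4285), (17140, 4285), (21425, 4285), (25710, 4285), (29995, 1676)] (by decide) (AllChunks.cons rel2_5_6_w_c0 (AllChunks.cons rel2_5_6_w_c1 (AllChunks.cons rel2_5_6_w_c2 (AllChunks.cons rel2_5_6_w_c3 (AllChunks.cons rel2_5_6_w_c4 (AllChunks.cons rel2_5_6_w_c5 (AllChunks.cons rel2_5_6_w_c6 (AllChunks.cons rel2_5_6_w_c7 (AllChunks.nil)))))))))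

theorem rel2_5_6 : relChk1 lk nP Uid 2 gT2 sqL2 cmL2 (5, 6) = true :=
  relChk1_off lk nP Uid 2 gT2 sqL2 cmL2 5 6 (by decide) rel2_5_6_w

theorem rel2_5_7_w_c0 : allR 0 6000 (eqF lk (cmA Uid gT2 5 7) (cmB Uid gT2 cmL2 5 7)) = true := by decide +kernel
theorem rel2_5_7_w_c1 : allR 6000 6000 (eqF lk (cmA Uid gT2 5 7) (cmB Uid gT2 cmL2 5 7)) = true := by decide +kernel
theorem rel2_5_7_w_c2 : allR 12000 6000 (eqF lk (cmA Uid gT2 5 7) (cmB Uid gT2 cmL2 5 7)) = true := by decide +kernel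
theorem rel2_5_7_w_c3 : allR 18000 6000 (eqF lk (cmA Uid gT2 5 7) (cmB Uid gT2 cmL2 5 7)) = true := by decide +kernel
theorem rel2_5_7_w_c4 : allR 24000 6000 (eqF lk (cmA Uid gT2 5 7) (cmB Uid gT2 cmL2 5 7)) = true := by decide +kernel
theorem rel2_5_7_w_c5 : allR 30000 1671 (eqF lk (cmA Uid gT2 5 7) (cmB Uid gT2 cmL2 5 7)) = true := by decide +kernel
theorem rel2_5_7_w : eqWW lk nP (cmA Uid gT2 5 7) (cmB Uid gT2 cmL2 5 7) = true :=
  eqWW_of_eqF lk nP _ _ [(0, 6000), (6000, 6000), (12000, 6000), (18000, 6000), (24000, 6000), (30000, 1671)] (by decide) (AllChunks.cons rel2_5_7_w_c0 (AllChunks.cons rel2_5_7_w_c1 (AllChunks.cons rel2_5_7_w_c2 (AllChunks.cons rel2_5_7_w_c3 (AllChunks.cons rel2_5_7_w_c4 (AllChunks.cons rel2_5_7_w_c5 (AllChunks.nil)))))))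

theorem rel2_5_7 : relChk1 lk nP Uid 2 gT2 sqL2 cmL2 (5, 7) = true :=
  relChk1_off lk nP Uid 2 gT2 sqL2 cmL2 5 7 (by decide) rel2_5_7_w

theorem rel2_5_8_w_c0 : allR 0 7500 (eqF lk (cmA Uid gT2 5 8) (cmB Uid gT2 cmL2 5 8)) = true := by decide +kernel
theorem rel2_5_8_w_c1 : allR 7500 7500 (eqF lk (cmA Uid gT2 5 8) (cmB Uid gT2 cmL2 5 8)) = true := by decide +kernel
theorem rel2_5_8_w_c2 : allR 15000 7500 (eqF lk (cmA Uid gT2 5 8) (cmB Uid gT2 cmL2 5 8)) = true := by decide +kernel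
theorem rel2_5_8_w_c3 : allR 22500 7500 (eqF lk (cmA Uid gT2 5 8) (cmB Uid gT2 cmL2 5 8)) = true := by decide +kernel
theorem rel2_5_8_w_c4 : allR 30000 1671 (eqF lk (cmA Uid gT2 5 8) (cmB Uid gT2 cmL2 5 8)) = true := by decide +kernel
theorem rel2_5_8_w : eqWW lk nP (cmA Uid gT2 5 8) (cmB Uid gT2 cmL2 5 8) = true :=
  eqWW_of_eqF lk nP _ _ [(0, 7500), (7500, 7500), (15000, 7500), (22500, 7500), (30000, 1671)] (by decide) (AllChunks.cons rel2_5_8_w_c0 (AllChunks.cons rel2_5_8_w_c1 (AllChunks.cons rel2_5_8_w_c2 (AllChunks.cons rel2_5_8_w_c3 (AllChunks.cons rel2_5_8_w_c4 (AllChunks.nil))))))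

theorem rel2_5_8 : relChk1 lk nP Uid 2 gT2 sqL2 cmL2 (5, 8) = true :=
  relChk1_off lk nP Uid 2 gT2 sqL2 cmL2 5 8 (by decide) rel2_5_8_w

theorem rel2_5_9_w_c0 : allR 0 5000 (eqF lk (cmA Uid gT2 5 9) (cmB Uid gT2 cmL2 5 9)) = true := by decide +kernel
theorem rel2_5_9_w_c1 : allR 5000 5000 (eqF lk (cmA Uid gT2 5 9) (cmB Uid gT2 cmL2 5 9)) = true := by decide +kernel
theorem rel2_5_9_w_c2 : allR 10000 5000 (eqF lk (cmA Uid gT2 5 9) (cmB Uid gT2 cmL2 5 9)) = true := by decide +kernel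
theorem rel2_5_9_w_c3 : allR 15000 5000 (eqF lk (cmA Uid gT2 5 9) (cmB Uid gT2 cmL2 5 9)) = true := by decide +kernel
theorem rel2_5_9_w_c4 : allR 20000 5000 (eqF lk (cmA Uid gT2 5 9) (cmB Uid gT2 cmL2 5 9)) = true := by decide +kernel
theorem rel2_5_9_w_c5 : allR 25000 5000 (eqF lk (cmA Uid gT2 5 9) (cmB Uid gT2 cmL2 5 9)) = true := by decide +kernel
theorem rel2_5_9_w_c6 : allR 30000 1671 (eqF lk (cmA Uid gT2 5 9) (cmB Uid gT2 cmL2 5 9)) = true := by decide +kernel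
theorem rel2_5_9_w : eqWW lk nP (cmA Uid gT2 5 9) (cmB Uid gT2 cmL2 5 9) = true :=
  eqWW_of_eqF lk nP _ _ [(0, 5000), (5000, 5000), (10000, 5000), (15000, 5000), (20000, 5000), (25000, 5000), (30000, 1671)] (by decide) (AllChunks.cons rel2_5_9_w_c0 (AllChunks.cons rel2_5_9_w_c1 (AllChunks.cons rel2_5_9_w_c2 (AllChunks.cons rel2_5_9_w_c3 (AllChunks.cons rel2_5_9_w_c4 (AllChunks.cons rel2_5_9_w_c5 (AllChunks.cons rel2_5_9_w_c6 (AllChunks.nil))))))))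

theorem rel2_5_9 : relChk1 lk nP Uid 2 gT2 sqL2 cmL2 (5, 9) = true :=
  relChk1_off lk nP Uid 2 gT2 sqL2 cmL2 5 9 (by decide) rel2_5_9_w

theorem rel2_5_10_w_c0 : allR 0 5000 (eqF lk (cmA Uid gT2 5 10) (cmB Uid gT2 cmL2 5 10)) = true := by decide +kernel
theorem rel2_5_10_w_c1 : allR 5000 5000 (eqF lk (cmA Uid gT2 5 10) (cmB Uid gT2 cmL2 5 10)) = true := by decide +kernel
theorem rel2_5_10_w_c2 : allR 10000 5000 (eqF lk (cmA Uid gT2 5 10) (cmB Uid gT2 cmL2 5 10)) = true := by decide +kernel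
theorem rel2_5_10_w_c3 : allR 15000 5000 (eqF lk (cmA Uid gT2 5 10) (cmB Uid gT2 cmL2 5 10)) = true := by decide +kernel
theorem rel2_5_10_w_c4 : allR 20000 5000 (eqF lk (cmA Uid gT2 5 10) (cmB Uid gT2 cmL2 5 10)) = true := by decide +kernel
theorem rel2_5_10_w_c5 : allR 25000 5000 (eqF lk (cmA Uid gT2 5 10) (cmB Uid gT2 cmL2 5 10)) = true := by decide +kernel
theorem rel2_5_10_w_c6 : allR 30000 1671 (eqF lk (cmA Uid gT2 5 10) (cmB Uid gT2 cmL2 5 10)) = true := by decide +kernel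
theorem rel2_5_10_w : eqWW lk nP (cmA Uid gT2 5 10) (cmB Uid gT2 cmL2 5 10) = true :=
  eqWW_of_eqF lk nP _ _ [(0, 5000), (5000, 5000), (10000, 5000), (15000, 5000), (20000, 5000), (25000, 5000), (30000, 1671)] (by decide) (AllChunks.cons rel2_5_10_w_c0 (AllChunks.cons rel2_5_10_w_c1 (AllChunks.cons rel2_5_10_w_c2 (AllChunks.cons rel2_5_10_w_c3 (AllChunks.cons rel2_5_10_w_c4 (AllChunks.cons rel2_5_10_w_c5 (AllChunks.cons rel2_5_10_w_c6 (AllChunks.nil))))))))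

theorem rel2_5_10 : relChk1 lk nP Uid 2 gT2 sqL2 cmL2 (5, 10) = true :=
  relChk1_off lk nP Uid 2 gT2 sqL2 cmL2 5 10 (by decide) rel2_5_10_w

theorem rel2_5_11_w_c0 : allR 0 3750 (eqF lk (cmA Uid gT2 5 11) (cmB Uid gT2 cmL2 5 11)) = true := by decide +kernel
theorem rel2_5_11_w_c1 : allR 3750 3750 (eqF lk (cmA Uid gT2 5 11) (cmB Uid gT2 cmL2 5 11)) = true := by decide +kernel
theorem rel2_5_11_w_c2 : allR 7500 3750 (eqF lk (cmA Uid gT2 5 11) (cmB Uid gT2 cmL2 5 11)) = true := by decide +kernel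
theorem rel2_5_11_w_c3 : allR 11250 3750 (eqF lk (cmA Uid gT2 5 11) (cmB Uid gT2 cmL2 5 11)) = true := by decide +kernel
theorem rel2_5_11_w_c4 : allR 15000 3750 (eqF lk (cmA Uid gT2 5 11) (cmB Uid gT2 cmL2 5 11)) = true := by decide +kernel
theorem rel2_5_11_w_c5 : allR 18750 3750 (eqF lk (cmA Uid gT2 5 11) (cmB Uid gT2 cmL2 5 11)) = true := by decide +kernel
theorem rel2_5_11_w_c6 : allR 22500 3750 (eqF lk (cmA Uid gT2 5 11) (cmB Uid gT2 cmL2 5 11)) = true := by decide +kernel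
theorem rel2_5_11_w_c7 : allR 26250 3750 (eqF lk (cmA Uid gT2 5 11) (cmB Uid gT2 cmL2 5 11)) = true := by decide +kernel
theorem rel2_5_11_w_c8 : allR 30000 1671 (eqF lk (cmA Uid gT2 5 11) (cmB Uid gT2 cmL2 5 11)) = true := by decide +kernel
theorem rel2_5_11_w : eqWW lk nP (cmA Uid gT2 5 11) (cmB Uid gT2 cmL2 5 11) = true :=
  eqWW_of_eqF lk nP _ _ [(0, 3750), (3750, 3750), (7500, 3750), (11250, 3750), (15000, 3750), (18750, 3750), (22500, 3750), (26250, 3750), (30000, 1671)] (by decide) (AllChunks.cons rel2_5_11_w_c0 (AllChunks.cons rel2_5_11_w_c1 (AllChunks.cons rel2_5_11_w_c2 (AllChunks.cons rel2_5_11_w_c3 (AllChunks.cons rel2_5_11_w_c4 (AllChunks.cons rel2_5_11_w_c5 (AllChunks.cons rel2_5_11_w_c6 (AllChunks.cons rel2_5_11_w_c7 (AllChunks.cons rel2_5_11_w_c8 (AllChunks.nil))))))))))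

theorem rel2_5_11 : relChk1 lk nP Uid 2 gT2 sqL2 cmL2 (5, 11) = true :=
  relChk1_off lk nP Uid 2 gT2 sqL2 cmL2 5 11 (by decide) rel2_5_11_w

theorem rel2_5_12_w_c0 : allR 0 7500 (eqF lk (cmA Uid gT2 5 12) (cmB Uid gT2 cmL2 5 12)) = true := by decide +kernel
theorem rel2_5_12_w_c1 : allR 7500 7500 (eqF lk (cmA Uid gT2 5 12) (cmB Uid gT2 cmL2 5 12)) = true := by decide +kernel
theorem rel2_5_12_w_c2 : allR 15000 7500 (eqF lk (cmA Uid gT2 5 12) (cmB Uid gT2 cmL2 5 12)) = true := by decide +kernel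
theorem rel2_5_12_w_c3 : allR 22500 7500 (eqF lk (cmA Uid gT2 5 12) (cmB Uid gT2 cmL2 5 12)) = true := by decide +kernel
theorem rel2_5_12_w_c4 : allR 30000 1671 (eqF lk (cmA Uid gT2 5 12) (cmB Uid gT2 cmL2 5 12)) = true := by decide +kernel
theorem rel2_5_12_w : eqWW lk nP (cmA Uid gT2 5 12) (cmB Uid gT2 cmL2 5 12) = true :=
  eqWW_of_eqF lk nP _ _ [(0, 7500), (7500, 7500), (15000, 7500), (22500, 7500), (30000, 1671)] (by decide) (AllChunks.cons rel2_5_12_w_c0 (AllChunks.cons rel2_5_12_w_c1 (AllChunks.cons rel2_5_12_w_c2 (AllChunks.cons rel2_5_12_w_c3 (AllChunks.cons rel2_5_12_w_c4 (AllChunks.nil))))))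

theorem rel2_5_12 : relChk1 lk nP Uid 2 gT2 sqL2 cmL2 (5, 12) = true :=
  relChk1_off lk nP Uid 2 gT2 sqL2 cmL2 5 12 (by decide) rel2_5_12_w

theorem rel2_5_13_w_c0 : allR 0 6000 (eqF lk (cmA Uid gT2 5 13) (cmB Uid gT2 cmL2 5 13)) = true := by decide +kernel
theorem rel2_5_13_w_c1 : allR 6000 6000 (eqF lk (cmA Uid gT2 5 13) (cmB Uid gT2 cmL2 5 13)) = true := by decide +kernel
theorem rel2_5_13_w_c2 : allR 12000 6000 (eqF lk (cmA Uid gT2 5 13) (cmB Uid gT2 cmL2 5 13)) = true := by decide +kernel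
theorem rel2_5_13_w_c3 : allR 18000 6000 (eqF lk (cmA Uid gT2 5 13) (cmB Uid gT2 cmL2 5 13)) = true := by decide +kernel
theorem rel2_5_13_w_c4 : allR 24000 6000 (eqF lk (cmA Uid gT2 5 13) (cmB Uid gT2 cmL2 5 13)) = true := by decide +kernel
theorem rel2_5_13_w_c5 : allR 30000 1671 (eqF lk (cmA Uid gT2 5 13) (cmB Uid gT2 cmL2 5 13)) = true := by decide +kernel
theorem rel2_5_13_w : eqWW lk nP (cmA Uid gT2 5 13) (cmB Uid gT2 cmL2 5 13) = true :=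
  eqWW_of_eqF lk nP _ _ [(0, 6000), (6000, 6000), (12000, 6000), (18000, 6000), (24000, 6000), (30000, 1671)] (by decide) (AllChunks.cons rel2_5_13_w_c0 (AllChunks.cons rel2_5_13_w_c1 (AllChunks.cons rel2_5_13_w_c2 (AllChunks.cons rel2_5_13_w_c3 (AllChunks.cons rel2_5_13_w_c4 (AllChunks.cons rel2_5_13_w_c5 (AllChunks.nil)))))))

theorem rel2_5_13 : relChk1 lk nP Uid 2 gT2 sqL2 cmL2 (5, 13) = true :=
  relChk1_off lk nP Uid 2 gT2 sqL2 cmL2 5 13 (by decide) rel2_5_13_w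

theorem rel2_5_14_w_c0 : allR 0 6000 (eqF lk (cmA Uid gT2 5 14) (cmB Uid gT2 cmL2 5 14)) = true := by decide +kernel
theorem rel2_5_14_w_c1 : allR 6000 6000 (eqF lk (cmA Uid gT2 5 14) (cmB Uid gT2 cmL2 5 14)) = true := by decide +kernel
theorem rel2_5_14_w_c2 : allR 12000 6000 (eqF lk (cmA Uid gT2 5 14) (cmB Uid gT2 cmL2 5 14)) = true := by decide +kernel
theorem rel2_5_14_w_c3 : allR 18000 6000 (eqF lk (cmA Uid gT2 5 14) (cmB Uid gT2 cmL2 5 14)) = true := by decide +kernel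
theorem rel2_5_14_w_c4 : allR 24000 6000 (eqF lk (cmA Uid gT2 5 14) (cmB Uid gT2 cmL2 5 14)) = true := by decide +kernel
theorem rel2_5_14_w_c5 : allR 30000 1671 (eqF lk (cmA Uid gT2 5 14) (cmB Uid gT2 cmL2 5 14)) = true := by decide +kernel
theorem rel2_5_14_w : eqWW lk nP (cmA Uid gT2 5 14) (cmB Uid gT2 cmL2 5 14) = true :=
  eqWW_of_eqF lk nP _ _ [(0, 6000), (6000, 6000), (12000, 6000), (18000, 6000), (24000, 6000), (30000, 1671)] (by decide) (AllChunks.cons rel2_5_14_w_c0 (AllChunks.cons rel2_5_14_w_c1 (AllChunks.cons rel2_5_14_w_c2 (AllChunks.cons rel2_5_14_w_c3 (AllChunks.cons rel2_5_14_w_c4 (AllChunks.cons rel2_5_14_w_c5 (AllChunks.nil)))))))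

theorem rel2_5_14 : relChk1 lk nP Uid 2 gT2 sqL2 cmL2 (5, 14) = true :=
  relChk1_off lk nP Uid 2 gT2 sqL2 cmL2 5 14 (by decide) rel2_5_14_w

theorem rel2_5_15_w_c0 : allR 0 7500 (eqF lk (cmA Uid gT2 5 15) (cmB Uid gT2 cmL2 5 15)) = true := by decide +kernel
theorem rel2_5_15_w_c1 : allR 7500 7500 (eqF lk (cmA Uid gT2 5 15) (cmB Uid gT2 cmL2 5 15)) = true := by decide +kernel
theorem rel2_5_15_w_c2 : allR 15000 7500 (eqF lk (cmA Uid gT2 5 15) (cmB Uid gT2 cmL2 5 15)) = true := by decide +kernel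
theorem rel2_5_15_w_c3 : allR 22500 7500 (eqF lk (cmA Uid gT2 5 15) (cmB Uid gT2 cmL2 5 15)) = true := by decide +kernel
theorem rel2_5_15_w_c4 : allR 30000 1671 (eqF lk (cmA Uid gT2 5 15) (cmB Uid gT2 cmL2 5 15)) = true := by decide +kernel
theorem rel2_5_15_w : eqWW lk nP (cmA Uid gT2 5 15) (cmB Uid gT2 cmL2 5 15) = true :=
  eqWW_of_eqF lk nP _ _ [(0, 7500), (7500, 7500), (15000, 7500), (22500, 7500), (30000, 1671)] (by decide) (AllChunks.cons rel2_5_15_w_c0 (AllChunks.cons rel2_5_15_w_c1 (AllChunks.cons rel2_5_15_w_c2 (AllChunks.cons rel2_5_15_w_c3 (AllChunks.cons rel2_5_15_w_c4 (AllChunks.nil))))))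

theorem rel2_5_15 : relChk1 lk nP Uid 2 gT2 sqL2 cmL2 (5, 15) = true :=
  relChk1_off lk nP Uid 2 gT2 sqL2 cmL2 5 15 (by decide) rel2_5_15_w

theorem rel2_5_16_w_c0 : allR 0 7500 (eqF lk (cmA Uid gT2 5 16) (cmB Uid gT2 cmL2 5 16)) = true := by decide +kernel
theorem rel2_5_16_w_c1 : allR 7500 7500 (eqF lk (cmA Uid gT2 5 16) (cmB Uid gT2 cmL2 5 16)) = true := by decide +kernel
theorem rel2_5_16_w_c2 : allR 15000 7500 (eqF lk (cmA Uid gT2 5 16) (cmB Uid gT2 cmL2 5 16)) = true := by decide +kernel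
theorem rel2_5_16_w_c3 : allR 22500 7500 (eqF lk (cmA Uid gT2 5 16) (cmB Uid gT2 cmL2 5 16)) = true := by decide +kernel
theorem rel2_5_16_w_c4 : allR 30000 1671 (eqF lk (cmA Uid gT2 5 16) (cmB Uid gT2 cmL2 5 16)) = true := by decide +kernel
theorem rel2_5_16_w : eqWW lk nP (cmA Uid gT2 5 16) (cmB Uid gT2 cmL2 5 16) = true :=
  eqWW_of_eqF lk nP _ _ [(0, 7500), (7500, 7500), (15000, 7500), (22500, 7500), (30000, 1671)] (by decide) (AllChunks.cons rel2_5_16_w_c0 (AllChunks.cons rel2_5_16_w_c1 (AllChunks.cons rel2_5_16_w_c2 (AllChunks.cons rel2_5_16_w_c3 (AllChunks.cons rel2_5_16_w_c4 (AllChunks.nil))))))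

theorem rel2_5_16 : relChk1 lk nP Uid 2 gT2 sqL2 cmL2 (5, 16) = true :=
  relChk1_off lk nP Uid 2 gT2 sqL2 cmL2 5 16 (by decide) rel2_5_16_w

theorem rel2_5_17_w_c0 : allR 0 7500 (eqF lk (cmA Uid gT2 5 17) (cmB Uid gT2 cmL2 5 17)) = true := by decide +kernel
theorem rel2_5_17_w_c1 : allR 7500 7500 (eqF lk (cmA Uid gT2 5 17) (cmB Uid gT2 cmL2 5 17)) = true := by decide +kernel
theorem rel2_5_17_w_c2 : allR 15000 7500 (eqF lk (cmA Uid gT2 5 17) (cmB Uid gT2 cmL2 5 17)) = true := by decide +kernel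
theorem rel2_5_17_w_c3 : allR 22500 7500 (eqF lk (cmA Uid gT2 5 17) (cmB Uid gT2 cmL2 5 17)) = true := by decide +kernel
theorem rel2_5_17_w_c4 : allR 30000 1671 (eqF lk (cmA Uid gT2 5 17) (cmB Uid gT2 cmL2 5 17)) = true := by decide +kernel
theorem rel2_5_17_w : eqWW lk nP (cmA Uid gT2 5 17) (cmB Uid gT2 cmL2 5 17) = true :=
  eqWW_of_eqF lk nP _ _ [(0, 7500), (7500, 7500), (15000, 7500), (22500, 7500), (30000, 1671)] (by decide) (AllChunks.cons rel2_5_17_w_c0 (AllChunks.cons rel2_5_17_w_c1 (AllChunks.cons rel2_5_17_w_c2 (AllChunks.cons rel2_5_17_w_c3 (AllChunks.cons rel2_5_17_w_c4 (AllChunks.nil))))))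

theorem rel2_5_17 : relChk1 lk nP Uid 2 gT2 sqL2 cmL2 (5, 17) = true :=
  relChk1_off lk nP Uid 2 gT2 sqL2 cmL2 5 17 (by decide) rel2_5_17_w

theorem rel2_6_6_w_c0 : allR 0 15000 (eqF lk (sqA Uid 2 gT2 6) (sqB Uid gT2 sqL2 6)) = true := by decide +kernel
theorem rel2_6_6_w_c1 : allR 15000 15000 (eqF lk (sqA Uid 2 gT2 6) (sqB Uid gT2 sqL2 6)) = true := by decide +kernel
theorem rel2_6_6_w_c2 : allR 30000 1671 (eqF lk (sqA Uid 2 gT2 6) (sqB Uid gT2 sqL2 6)) = true := by decide +kernel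
theorem rel2_6_6_w : eqWW lk nP (sqA Uid 2 gT2 6) (sqB Uid gT2 sqL2 6) = true :=
  eqWW_of_eqF lk nP _ _ [(0, 15000), (15000, 15000), (30000, 1671)] (by decide) (AllChunks.cons rel2_6_6_w_c0 (AllChunks.cons rel2_6_6_w_c1 (AllChunks.cons rel2_6_6_w_c2 (AllChunks.nil))))

theorem rel2_6_6 : relChk1 lk nP Uid 2 gT2 sqL2 cmL2 (6, 6) = true :=
  relChk1_diag lk nP Uid 2 gT2 sqL2 cmL2 6 rel2_6_6_w

theorem rel2_6_7_w_c0 : allR 0 7500 (eqF lk (cmA Uid gT2 6 7) (cmB Uid gT2 cmL2 6 7)) = true := by decide +kernel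
theorem rel2_6_7_w_c1 : allR 7500 7500 (eqF lk (cmA Uid gT2 6 7) (cmB Uid gT2 cmL2 6 7)) = true := by decide +kernel
theorem rel2_6_7_w_c2 : allR 15000 7500 (eqF lk (cmA Uid gT2 6 7) (cmB Uid gT2 cmL2 6 7)) = true := by decide +kernel
theorem rel2_6_7_w_c3 : allR 22500 7500 (eqF lk (cmA Uid gT2 6 7) (cmB Uid gT2 cmL2 6 7)) = true := by decide +kernel
theorem rel2_6_7_w_c4 : allR 30000 1671 (eqF lk (cmA Uid gT2 6 7) (cmB Uid gT2 cmL2 6 7)) = true := by decide +kernel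
theorem rel2_6_7_w : eqWW lk nP (cmA Uid gT2 6 7) (cmB Uid gT2 cmL2 6 7) = true :=
  eqWW_of_eqF lk nP _ _ [(0, 7500), (7500, 7500), (15000, 7500), (22500, 7500), (30000, 1671)] (by decide) (AllChunks.cons rel2_6_7_w_c0 (AllChunks.cons rel2_6_7_w_c1 (AllChunks.cons rel2_6_7_w_c2 (AllChunks.cons rel2_6_7_w_c3 (AllChunks.cons rel2_6_7_w_c4 (AllChunks.nil))))))

theorem rel2_6_7 : relChk1 lk nP Uid 2 gT2 sqL2 cmL2 (6, 7) = true :=
  relChk1_off lk nP Uid 2 gT2 sqL2 cmL2 6 7 (by decide) rel2_6_7_w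

theorem rel2_6_8_w_c0 : allR 0 7500 (eqF lk (cmA Uid gT2 6 8) (cmB Uid gT2 cmL2 6 8)) = true := by decide +kernel
theorem rel2_6_8_w_c1 : allR 7500 7500 (eqF lk (cmA Uid gT2 6 8) (cmB Uid gT2 cmL2 6 8)) = true := by decide +kernel
theorem rel2_6_8_w_c2 : allR 15000 7500 (eqF lk (cmA Uid gT2 6 8) (cmB Uid gT2 cmL2 6 8)) = true := by decide +kernel
theorem rel2_6_8_w_c3 : allR 22500 7500 (eqF lk (cmA Uid gT2 6 8) (cmB Uid gT2 cmL2 6 8)) = true := by decide +kernel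
theorem rel2_6_8_w_c4 : allR 30000 1671 (eqF lk (cmA Uid gT2 6 8) (cmB Uid gT2 cmL2 6 8)) = true := by decide +kernel
theorem rel2_6_8_w : eqWW lk nP (cmA Uid gT2 6 8) (cmB Uid gT2 cmL2 6 8) = true :=
  eqWW_of_eqF lk nP _ _ [(0, 7500), (7500, 7500), (15000, 7500), (22500, 7500), (30000, 1671)] (by decide) (AllChunks.cons rel2_6_8_w_c0 (AllChunks.cons rel2_6_8_w_c1 (AllChunks.cons rel2_6_8_w_c2 (AllChunks.cons rel2_6_8_w_c3 (AllChunks.cons rel2_6_8_w_c4 (AllChunks.nil))))))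

theorem rel2_6_8 : relChk1 lk nP Uid 2 gT2 sqL2 cmL2 (6, 8) = true :=
  relChk1_off lk nP Uid 2 gT2 sqL2 cmL2 6 8 (by decide) rel2_6_8_w

theorem rel2_6_9_w_c0 : allR 0 3750 (eqF lk (cmA Uid gT2 6 9) (cmB Uid gT2 cmL2 6 9)) = true := by decide +kernel
theorem rel2_6_9_w_c1 : allR 3750 3750 (eqF lk (cmA Uid gT2 6 9) (cmB Uid gT2 cmL2 6 9)) = true := by decide +kernel
theorem rel2_6_9_w_c2 : allR 7500 3750 (eqF lk (cmA Uid gT2 6 9) (cmB Uid gT2 cmL2 6 9)) = true := by decide +kernel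
theorem rel2_6_9_w_c3 : allR 11250 3750 (eqF lk (cmA Uid gT2 6 9) (cmB Uid gT2 cmL2 6 9)) = true := by decide +kernel
theorem rel2_6_9_w_c4 : allR 15000 3750 (eqF lk (cmA Uid gT2 6 9) (cmB Uid gT2 cmL2 6 9)) = true := by decide +kernel
theorem rel2_6_9_w_c5 : allR 18750 3750 (eqF lk (cmA Uid gT2 6 9) (cmB Uid gT2 cmL2 6 9)) = true := by decide +kernel
theorem rel2_6_9_w_c6 : allR 22500 3750 (eqF lk (cmA Uid gT2 6 9) (cmB Uid gT2 cmL2 6 9)) = true := by decide +kernel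
theorem rel2_6_9_w_c7 : allR 26250 3750 (eqF lk (cmA Uid gT2 6 9) (cmB Uid gT2 cmL2 6 9)) = true := by decide +kernel
theorem rel2_6_9_w_c8 : allR 30000 1671 (eqF lk (cmA Uid gT2 6 9) (cmB Uid gT2 cmL2 6 9)) = true := by decide +kernel
theorem rel2_6_9_w : eqWW lk nP (cmA Uid gT2 6 9) (cmB Uid gT2 cmL2 6 9) = true :=
  eqWW_of_eqF lk nP _ _ [(0, 3750), (3750, 3750), (7500, 3750), (11250, 3750), (15000, 3750), (18750, 3750), (22500, 3750), (26250, 3750), (30000, 1671)] (by decide) (AllChunks.cons rel2_6_9_w_c0 (AllChunks.cons rel2_6_9_w_c1 (AllChunks.cons rel2_6_9_w_c2 (AllChunks.cons rel2_6_9_w_c3 (AllChunks.cons rel2_6_9_w_c4 (AllChunks.cons rel2_6_9_w_c5 (AllChunks.cons rel2_6_9_w_c6 (AllChunks.cons rel2_6_9_w_c7 (AllChunks.cons rel2_6_9_w_c8 (AllChunks.nil))))))))))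

theorem rel2_6_9 : relChk1 lk nP Uid 2 gT2 sqL2 cmL2 (6, 9) = true :=
  relChk1_off lk nP Uid 2 gT2 sqL2 cmL2 6 9 (by decide) rel2_6_9_w

theorem rel2_6_10_w_c0 : allR 0 5000 (eqF lk (cmA Uid gT2 6 10) (cmB Uid gT2 cmL2 6 10)) = true := by decide +kernel
theorem rel2_6_10_w_c1 : allR 5000 5000 (eqF lk (cmA Uid gT2 6 10) (cmB Uid gT2 cmL2 6 10)) = true := by decide +kernel
theorem rel2_6_10_w_c2 : allR 10000 5000 (eqF lk (cmA Uid gT2 6 10) (cmB Uid gT2 cmL2 6 10)) = true := by decide +kernel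
theorem rel2_6_10_w_c3 : allR 15000 5000 (eqF lk (cmA Uid gT2 6 10) (cmB Uid gT2 cmL2 6 10)) = true := by decide +kernel
theorem rel2_6_10_w_c4 : allR 20000 5000 (eqF lk (cmA Uid gT2 6 10) (cmB Uid gT2 cmL2 6 10)) = true := by decide +kernel
theorem rel2_6_10_w_c5 : allR 25000 5000 (eqF lk (cmA Uid gT2 6 10) (cmB Uid gT2 cmL2 6 10)) = true := by decide +kernel
theorem rel2_6_10_w_c6 : allR 30000 1671 (eqF lk (cmA Uid gT2 6 10) (cmB Uid gT2 cmL2 6 10)) = true := by decide +kernel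
theorem rel2_6_10_w : eqWW lk nP (cmA Uid gT2 6 10) (cmB Uid gT2 cmL2 6 10) = true :=
  eqWW_of_eqF lk nP _ _ [(0, 5000), (5000, 5000), (10000, 5000), (15000, 5000), (20000, 5000), (25000, 5000), (30000, 1671)] (by decide) (AllChunks.cons rel2_6_10_w_c0 (AllChunks.cons rel2_6_10_w_c1 (AllChunks.cons rel2_6_10_w_c2 (AllChunks.cons rel2_6_10_w_c3 (AllChunks.cons rel2_6_10_w_c4 (AllChunks.cons rel2_6_10_w_c5 (AllChunks.cons rel2_6_10_w_c6 (AllChunks.nil))))))))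

theorem rel2_6_10 : relChk1 lk nP Uid 2 gT2 sqL2 cmL2 (6, 10) = true :=
  relChk1_off lk nP Uid 2 gT2 sqL2 cmL2 6 10 (by decide) rel2_6_10_w

theorem rel2_6_11_w_c0 : allR 0 7500 (eqF lk (cmA Uid gT2 6 11) (cmB Uid gT2 cmL2 6 11)) = true := by decide +kernel
theorem rel2_6_11_w_c1 : allR 7500 7500 (eqF lk (cmA Uid gT2 6 11) (cmB Uid gT2 cmL2 6 11)) = true := by decide +kernel
theorem rel2_6_11_w_c2 : allR 15000 7500 (eqF lk (cmA Uid gT2 6 11) (cmB Uid gT2 cmL2 6 11)) = true := by decide +kernel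
theorem rel2_6_11_w_c3 : allR 22500 7500 (eqF lk (cmA Uid gT2 6 11) (cmB Uid gT2 cmL2 6 11)) = true := by decide +kernel
theorem rel2_6_11_w_c4 : allR 30000 1671 (eqF lk (cmA Uid gT2 6 11) (cmB Uid gT2 cmL2 6 11)) = true := by decide +kernel
theorem rel2_6_11_w : eqWW lk nP (cmA Uid gT2 6 11) (cmB Uid gT2 cmL2 6 11) = true :=
  eqWW_of_eqF lk nP _ _ [(0, 7500), (7500, 7500), (15000, 7500), (22500, 7500), (30000, 1671)] (by decide) (AllChunks.cons rel2_6_11_w_c0 (AllChunks.cons rel2_6_11_w_c1 (AllChunks.cons rel2_6_11_w_c2 (AllChunks.cons rel2_6_11_w_c3 (AllChunks.cons rel2_6_11_w_c4 (AllChunks.nil))))))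

theorem rel2_6_11 : relChk1 lk nP Uid 2 gT2 sqL2 cmL2 (6, 11) = true :=
  relChk1_off lk nP Uid 2 gT2 sqL2 cmL2 6 11 (by decide) rel2_6_11_w

theorem rel2_6_12_w_c0 : allR 0 7500 (eqF lk (cmA Uid gT2 6 12) (cmB Uid gT2 cmL2 6 12)) = true := by decide +kernel
theorem rel2_6_12_w_c1 : allR 7500 7500 (eqF lk (cmA Uid gT2 6 12) (cmB Uid gT2 cmL2 6 12)) = true := by decide +kernel
theorem rel2_6_12_w_c2 : allR 15000 7500 (eqF lk (cmA Uid gT2 6 12) (cmB Uid gT2 cmL2 6 12)) = true := by decide +kernel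
theorem rel2_6_12_w_c3 : allR 22500 7500 (eqF lk (cmA Uid gT2 6 12) (cmB Uid gT2 cmL2 6 12)) = true := by decide +kernel
theorem rel2_6_12_w_c4 : allR 30000 1671 (eqF lk (cmA Uid gT2 6 12) (cmB Uid gT2 cmL2 6 12)) = true := by decide +kernel
theorem rel2_6_12_w : eqWW lk nP (cmA Uid gT2 6 12) (cmB Uid gT2 cmL2 6 12) = true :=
  eqWW_of_eqF lk nP _ _ [(0, 7500), (7500, 7500), (15000, 7500), (22500, 7500), (30000, 1671)] (by decide) (AllChunks.cons rel2_6_12_w_c0 (AllChunks.cons rel2_6_12_w_c1 (AllChunks.cons rel2_6_12_w_c2 (AllChunks.cons rel2_6_12_w_c3 (AllChunks.cons rel2_6_12_w_c4 (AllChunks.nil))))))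

theorem rel2_6_12 : relChk1 lk nP Uid 2 gT2 sqL2 cmL2 (6, 12) = true :=
  relChk1_off lk nP Uid 2 gT2 sqL2 cmL2 6 12 (by decide) rel2_6_12_w

theorem rel2_6_13_w_c0 : allR 0 6000 (eqF lk (cmA Uid gT2 6 13) (cmB Uid gT2 cmL2 6 13)) = true := by decide +kernel
theorem rel2_6_13_w_c1 : allR 6000 6000 (eqF lk (cmA Uid gT2 6 13) (cmB Uid gT2 cmL2 6 13)) = true := by decide +kernel
theorem rel2_6_13_w_c2 : allR 12000 6000 (eqF lk (cmA Uid gT2 6 13) (cmB Uid gT2 cmL2 6 13)) = true := by decide +kernel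
theorem rel2_6_13_w_c3 : allR 18000 6000 (eqF lk (cmA Uid gT2 6 13) (cmB Uid gT2 cmL2 6 13)) = true := by decide +kernel
theorem rel2_6_13_w_c4 : allR 24000 6000 (eqF lk (cmA Uid gT2 6 13) (cmB Uid gT2 cmL2 6 13)) = true := by decide +kernel
theorem rel2_6_13_w_c5 : allR 30000 1671 (eqF lk (cmA Uid gT2 6 13) (cmB Uid gT2 cmL2 6 13)) = true := by decide +kernel
theorem rel2_6_13_w : eqWW lk nP (cmA Uid gT2 6 13) (cmB Uid gT2 cmL2 6 13) = true :=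
  eqWW_of_eqF lk nP _ _ [(0, 6000), (6000, 6000), (12000, 6000), (18000, 6000), (24000, 6000), (30000, 1671)] (by decide) (AllChunks.cons rel2_6_13_w_c0 (AllChunks.cons rel2_6_13_w_c1 (AllChunks.cons rel2_6_13_w_c2 (AllChunks.cons rel2_6_13_w_c3 (AllChunks.cons rel2_6_13_w_c4 (AllChunks.cons rel2_6_13_w_c5 (AllChunks.nil)))))))

theorem rel2_6_13 : relChk1 lk nP Uid 2 gT2 sqL2 cmL2 (6, 13) = true :=
  relChk1_off lk nP Uid 2 gT2 sqL2 cmL2 6 13 (by decide) rel2_6_13_w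

theorem relpart2x4_ok : relsPart lk nP Uid 2 gT2 sqL2 cmL2 relpart2x4 = true :=
  relsPart_of_allRel _ (AllRel.cons rel2_4_17 (AllRel.cons rel2_5_5 (AllRel.cons rel2_5_6 (AllRel.cons rel2_5_7 (AllRel.cons rel2_5_8 (AllRel.cons rel2_5_9 (AllRel.cons rel2_5_10 (AllRel.cons rel2_5_11 (AllRel.cons rel2_5_12 (AllRel.cons rel2_5_13 (AllRel.cons rel2_5_14 (AllRel.cons rel2_5_15 (AllRel.cons rel2_5_16 (AllRel.cons rel2_5_17 (AllRel.cons rel2_6_6 (AllRel.cons rel2_6_7 (AllRel.cons rel2_6_8 (AllRel.cons rel2_6_9 (AllRel.cons rel2_6_10 (AllRel.cons rel2_6_11 (AllRel.cons rel2_6_12 (AllRel.cons rel2_6_13 (AllRel.nil lk nP Uid 2 gT2 sqL2 cmL2)))))))))))))))))))))))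

end Cfsg.Agent.Lib.Helper28.Fi
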