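import Mathlib
import Cfsg.Agent.Lib.Helper28.Fi.Core
import Cfsg.Agent.Lib.Helper28.Fi.Chunk
import Cfsg.Agent.Lib.Helper28.Fi.Rel
import Cfsg.Agent.Lib.Helper28.Fi.Lists
import Cfsg.Agent.Lib.Helper28.Fi.Data2

set_option autoImplicit false
set_option maxRecDepth 1000000
set_option Elab.async false

/-! Checks of the relations of a Sylow 2-subgroup of Fi23, part 5 (generated). -/

namespace Cfsg.Agent.Lib.Helper28.Fi

open Cfsg.Agent.Lib.Helper5.CP Cfsg.Agent.Lib.Helper5.PcP Cfsg.Agent.Lib.Helper5.PcT Cfsg.Agent.Lib.Helper12.TC.Fi23o31671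

theorem rel2_6_14_w_c0 : allR 0 6000 (eqF lk (cmA Uid gT2 6 14) (cmB Uid gT2 cmL2 6 14)) = true := by decide +kernel
theorem rel2_6_14_w_c1 : allR 6000 6000 (eqF lk (cmA Uid gT2 6 14) (cmB Uid gT2 cmL2 6 14)) = true := by decide +kernel
theorem rel2_6_14_w_c2 : allR 12000 6000 (eqF lk (cmA Uid gT2 6 14) (cmB Uid gT2 cmL2 6 14)) = true := by decide +kernel
theorem rel2_6_14_w_c3 : allR 18000 6000 (eqF lk (cmA Uid gT2 6 14) (cmB Uid gT2 cmL2 6 14)) = true := by decide +kernel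
theorem rel2_6_14_w_c4 : allR 24000 6000 (eqF lk (cmA Uid gT2 6 14) (cmB Uid gT2 cmL2 6 14)) = true := by decide +kernel
theorem rel2_6_14_w_c5 : allR 30000 1671 (eqF lk (cmA Uid gT2 6 14) (cmB Uid gT2 cmL2 6 14)) = true := by decide +kernel
theorem rel2_6_14_w : eqWW lk nP (cmA Uid gT2 6 14) (cmB Uid gT2 cmL2 6 14) = true :=
  eqWW_of_eqF lk nP _ _ [(0, 6000), (6000, 6000), (12000, 6000), (18000, 6000), (24000, 6000), (30000, 1671)] (by decide) (AllChunks.cons rel2_6_14_w_c0 (AllChunks.cons rel2_6_14_w_c1 (AllChunks.cons rel2_6_14_w_c2 (AllChunks.cons rel2_6_14_w_c3 (AllChunks.cons rel2_6_14_w_c4 (AllChunks.cons rel2_6_14_w_c5 (AllChunks.nil)))))))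

theorem rel2_6_14 : relChk1 lk nP Uid 2 gT2 sqL2 cmL2 (6, 14) = true :=
  relChk1_off lk nP Uid 2 gT2 sqL2 cmL2 6 14 (by decide) rel2_6_14_w

theorem rel2_6_15_w_c0 : allR 0 7500 (eqF lk (cmA Uid gT2 6 15) (cmB Uid gT2 cmL2 6 15)) = true := by decide +kernel
theorem rel2_6_15_w_c1 : allR 7500 7500 (eqF lk (cmA Uid gT2 6 15) (cmB Uid gT2 cmL2 6 15)) = true := by decide +kernel
theorem rel2_6_15_w_c2 : allR 15000 7500 (eqF lk (cmA Uid gT2 6 15) (cmB Uid gT2 cmL2 6 15)) = true := by decide +kernel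
theorem rel2_6_15_w_c3 : allR 22500 7500 (eqF lk (cmA Uid gT2 6 15) (cmB Uid gT2 cmL2 6 15)) = true := by decide +kernel
theorem rel2_6_15_w_c4 : allR 30000 1671 (eqF lk (cmA Uid gT2 6 15) (cmB Uid gT2 cmL2 6 15)) = true := by decide +kernel
theorem rel2_6_15_w : eqWW lk nP (cmA Uid gT2 6 15) (cmB Uid gT2 cmL2 6 15) = true :=
  eqWW_of_eqF lk nP _ _ [(0, 7500), (7500, 7500), (15000, 7500), (22500, 7500), (30000, 1671)] (by decide) (AllChunks.cons rel2_6_15_w_c0 (AllChunks.cons rel2_6_15_w_c1 (AllChunks.cons rel2_6_15_w_c2 (AllChunks.cons rel2_6_15_w_c3 (AllChunks.cons rel2_6_15_w_c4 (AllChunks.nil))))))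

theorem rel2_6_15 : relChk1 lk nP Uid 2 gT2 sqL2 cmL2 (6, 15) = true :=
  relChk1_off lk nP Uid 2 gT2 sqL2 cmL2 6 15 (by decide) rel2_6_15_w

theorem rel2_6_16_w_c0 : allR 0 7500 (eqF lk (cmA Uid gT2 6 16) (cmB Uid gT2 cmL2 6 16)) = true := by decide +kernel
theorem rel2_6_16_w_c1 : allR 7500 7500 (eqF lk (cmA Uid gT2 6 16) (cmB Uid gT2 cmL2 6 16)) = true := by decide +kernel
theorem rel2_6_16_w_c2 : allR 15000 7500 (eqF lk (cmA Uid gT2 6 16) (cmB Uid gT2 cmL2 6 16)) = true := by decide +kernel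
theorem rel2_6_16_w_c3 : allR 22500 7500 (eqF lk (cmA Uid gT2 6 16) (cmB Uid gT2 cmL2 6 16)) = true := by decide +kernel
theorem rel2_6_16_w_c4 : allR 30000 1671 (eqF lk (cmA Uid gT2 6 16) (cmB Uid gT2 cmL2 6 16)) = true := by decide +kernel
theorem rel2_6_16_w : eqWW lk nP (cmA Uid gT2 6 16) (cmB Uid gT2 cmL2 6 16) = true :=
  eqWW_of_eqF lk nP _ _ [(0, 7500), (7500, 7500), (15000, 7500), (22500, 7500), (30000, 1671)] (by decide) (AllChunks.cons rel2_6_16_w_c0 (AllChunks.cons rel2_6_16_w_c1 (AllChunks.cons rel2_6_16_w_c2 (AllChunks.cons rel2_6_16_w_c3 (AllChunks.cons rel2_6_16_w_c4 (AllChunks.nil))))))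

theorem rel2_6_16 : relChk1 lk nP Uid 2 gT2 sqL2 cmL2 (6, 16) = true :=
  relChk1_off lk nP Uid 2 gT2 sqL2 cmL2 6 16 (by decide) rel2_6_16_w

theorem rel2_6_17_w_c0 : allR 0 7500 (eqF lk (cmA Uid gT2 6 17) (cmB Uid gT2 cmL2 6 17)) = true := by decide +kernel
theorem rel2_6_17_w_c1 : allR 7500 7500 (eqF lk (cmA Uid gT2 6 17) (cmB Uid gT2 cmL2 6 17)) = true := by decide +kernel
theorem rel2_6_17_w_c2 : allR 15000 7500 (eqF lk (cmA Uid gT2 6 17) (cmB Uid gT2 cmL2 6 17)) = true := by decide +kernel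
theorem rel2_6_17_w_c3 : allR 22500 7500 (eqF lk (cmA Uid gT2 6 17) (cmB Uid gT2 cmL2 6 17)) = true := by decide +kernel
theorem rel2_6_17_w_c4 : allR 30000 1671 (eqF lk (cmA Uid gT2 6 17) (cmB Uid gT2 cmL2 6 17)) = true := by decide +kernel
theorem rel2_6_17_w : eqWW lk nP (cmA Uid gT2 6 17) (cmB Uid gT2 cmL2 6 17) = true :=
  eqWW_of_eqF lk nP _ _ [(0, 7500), (7500, 7500), (15000, 7500), (22500, 7500), (30000, 1671)] (by decide) (AllChunks.cons rel2_6_17_w_c0 (AllChunks.cons rel2_6_17_w_c1 (AllChunks.cons rel2_6_17_w_c2 (AllChunks.cons rel2_6_17_w_c3 (AllChunks.cons rel2_6_17_w_c4 (AllChunks.nil))))))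

theorem rel2_6_17 : relChk1 lk nP Uid 2 gT2 sqL2 cmL2 (6, 17) = true :=
  relChk1_off lk nP Uid 2 gT2 sqL2 cmL2 6 17 (by decide) rel2_6_17_w

theorem rel2_7_7_w_c0 : allR 0 15000 (eqF lk (sqA Uid 2 gT2 7) (sqB Uid gT2 sqL2 7)) = true := by decide +kernel
theorem rel2_7_7_w_c1 : allR 15000 15000 (eqF lk (sqA Uid 2 gT2 7) (sqB Uid gT2 sqL2 7)) = true := by decide +kernel
theorem rel2_7_7_w_c2 : allR 30000 1671 (eqF lk (sqA Uid 2 gT2 7) (sqB Uid gT2 sqL2 7)) = true := by decide +kernel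
theorem rel2_7_7_w : eqWW lk nP (sqA Uid 2 gT2 7) (sqB Uid gT2 sqL2 7) = true :=
  eqWW_of_eqF lk nP _ _ [(0, 15000), (15000, 15000), (30000, 1671)] (by decide) (AllChunks.cons rel2_7_7_w_c0 (AllChunks.cons rel2_7_7_w_c1 (AllChunks.cons rel2_7_7_w_c2 (AllChunks.nil))))

theorem rel2_7_7 : relChk1 lk nP Uid 2 gT2 sqL2 cmL2 (7, 7) = true :=
  relChk1_diag lk nP Uid 2 gT2 sqL2 cmL2 7 rel2_7_7_w

theorem rel2_7_8_w_c0 : allR 0 7500 (eqF lk (cmA Uid gT2 7 8) (cmB Uid gT2 cmL2 7 8)) = true := by decide +kernel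
theorem rel2_7_8_w_c1 : allR 7500 7500 (eqF lk (cmA Uid gT2 7 8) (cmB Uid gT2 cmL2 7 8)) = true := by decide +kernel
theorem rel2_7_8_w_c2 : allR 15000 7500 (eqF lk (cmA Uid gT2 7 8) (cmB Uid gT2 cmL2 7 8)) = true := by decide +kernel
theorem rel2_7_8_w_c3 : allR 22500 7500 (eqF lk (cmA Uid gT2 7 8) (cmB Uid gT2 cmL2 7 8)) = true := by decide +kernel
theorem rel2_7_8_w_c4 : allR 30000 1671 (eqF lk (cmA Uid gT2 7 8) (cmB Uid gT2 cmL2 7 8)) = true := by decide +kernel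
theorem rel2_7_8_w : eqWW lk nP (cmA Uid gT2 7 8) (cmB Uid gT2 cmL2 7 8) = true :=
  eqWW_of_eqF lk nP _ _ [(0, 7500), (7500, 7500), (15000, 7500), (22500, 7500), (30000, 1671)] (by decide) (AllChunks.cons rel2_7_8_w_c0 (AllChunks.cons rel2_7_8_w_c1 (AllChunks.cons rel2_7_8_w_c2 (AllChunks.cons rel2_7_8_w_c3 (AllChunks.cons rel2_7_8_w_c4 (AllChunks.nil))))))

theorem rel2_7_8 : relChk1 lk nP Uid 2 gT2 sqL2 cmL2 (7, 8) = true :=
  relChk1_off lk nP Uid 2 gT2 sqL2 cmL2 7 8 (by decide) rel2_7_8_w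

theorem rel2_7_9_w_c0 : allR 0 3750 (eqF lk (cmA Uid gT2 7 9) (cmB Uid gT2 cmL2 7 9)) = true := by decide +kernel
theorem rel2_7_9_w_c1 : allR 3750 3750 (eqF lk (cmA Uid gT2 7 9) (cmB Uid gT2 cmL2 7 9)) = true := by decide +kernel
theorem rel2_7_9_w_c2 : allR 7500 3750 (eqF lk (cmA Uid gT2 7 9) (cmB Uid gT2 cmL2 7 9)) = true := by decide +kernel
theorem rel2_7_9_w_c3 : allR 11250 3750 (eqF lk (cmA Uid gT2 7 9) (cmB Uid gT2 cmL2 7 9)) = true := by decide +kernel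
theorem rel2_7_9_w_c4 : allR 15000 3750 (eqF lk (cmA Uid gT2 7 9) (cmB Uid gT2 cmL2 7 9)) = true := by decide +kernel
theorem rel2_7_9_w_c5 : allR 18750 3750 (eqF lk (cmA Uid gT2 7 9) (cmB Uid gT2 cmL2 7 9)) = true := by decide +kernel
theorem rel2_7_9_w_c6 : allR 22500 3750 (eqF lk (cmA Uid gT2 7 9) (cmB Uid gT2 cmL2 7 9)) = true := by decide +kernel
theorem rel2_7_9_w_c7 : allR 26250 3750 (eqF lk (cmA Uid gT2 7 9) (cmB Uid gT2 cmL2 7 9)) = true := by decide +kernel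
theorem rel2_7_9_w_c8 : allR 30000 1671 (eqF lk (cmA Uid gT2 7 9) (cmB Uid gT2 cmL2 7 9)) = true := by decide +kernel
theorem rel2_7_9_w : eqWW lk nP (cmA Uid gT2 7 9) (cmB Uid gT2 cmL2 7 9) = true :=
  eqWW_of_eqF lk nP _ _ [(0, 3750), (3750, 3750), (7500, 3750), (11250, 3750), (15000, 3750), (18750, 3750), (22500, 3750), (26250, 3750), (30000, 1671)] (by decide) (AllChunks.cons rel2_7_9_w_c0 (AllChunks.cons rel2_7_9_w_c1 (AllChunks.cons rel2_7_9_w_c2 (AllChunks.cons rel2_7_9_w_c3 (AllChunks.cons rel2_7_9_w_c4 (AllChunks.cons rel2_7_9_w_c5 (AllChunks.cons rel2_7_9_w_c6 (AllChunks.cons rel2_7_9_w_c7 (AllChunks.cons rel2_7_9_w_c8 (AllChunks.nil))))))))))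

theorem rel2_7_9 : relChk1 lk nP Uid 2 gT2 sqL2 cmL2 (7, 9) = true :=
  relChk1_off lk nP Uid 2 gT2 sqL2 cmL2 7 9 (by decide) rel2_7_9_w

theorem rel2_7_10_w_c0 : allR 0 7500 (eqF lk (cmA Uid gT2 7 10) (cmB Uid gT2 cmL2 7 10)) = true := by decide +kernel
theorem rel2_7_10_w_c1 : allR 7500 7500 (eqF lk (cmA Uid gT2 7 10) (cmB Uid gT2 cmL2 7 10)) = true := by decide +kernel
theorem rel2_7_10_w_c2 : allR 15000 7500 (eqF lk (cmA Uid gT2 7 10) (cmB Uid gT2 cmL2 7 10)) = true := by decide +kernel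
theorem rel2_7_10_w_c3 : allR 22500 7500 (eqF lk (cmA Uid gT2 7 10) (cmB Uid gT2 cmL2 7 10)) = true := by decide +kernel
theorem rel2_7_10_w_c4 : allR 30000 1671 (eqF lk (cmA Uid gT2 7 10) (cmB Uid gT2 cmL2 7 10)) = true := by decide +kernel
theorem rel2_7_10_w : eqWW lk nP (cmA Uid gT2 7 10) (cmB Uid gT2 cmL2 7 10) = true :=
  eqWW_of_eqF lk nP _ _ [(0, 7500), (7500, 7500), (15000, 7500), (22500, 7500), (30000, 1671)] (by decide) (AllChunks.cons rel2_7_10_w_c0 (AllChunks.cons rel2_7_10_w_c1 (AllChunks.cons rel2_7_10_w_c2 (AllChunks.cons rel2_7_10_w_c3 (AllChunks.cons rel2_7_10_w_c4 (AllChunks.nil))))))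

theorem rel2_7_10 : relChk1 lk nP Uid 2 gT2 sqL2 cmL2 (7, 10) = true :=
  relChk1_off lk nP Uid 2 gT2 sqL2 cmL2 7 10 (by decide) rel2_7_10_w

theorem rel2_7_11_w_c0 : allR 0 7500 (eqF lk (cmA Uid gT2 7 11) (cmB Uid gT2 cmL2 7 11)) = true := by decide +kernel
theorem rel2_7_11_w_c1 : allR 7500 7500 (eqF lk (cmA Uid gT2 7 11) (cmB Uid gT2 cmL2 7 11)) = true := by decide +kernel
theorem rel2_7_11_w_c2 : allR 15000 7500 (eqF lk (cmA Uid gT2 7 11) (cmB Uid gT2 cmL2 7 11)) = true := by decide +kernel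
theorem rel2_7_11_w_c3 : allR 22500 7500 (eqF lk (cmA Uid gT2 7 11) (cmB Uid gT2 cmL2 7 11)) = true := by decide +kernel
theorem rel2_7_11_w_c4 : allR 30000 1671 (eqF lk (cmA Uid gT2 7 11) (cmB Uid gT2 cmL2 7 11)) = true := by decide +kernel
theorem rel2_7_11_w : eqWW lk nP (cmA Uid gT2 7 11) (cmB Uid gT2 cmL2 7 11) = true :=
  eqWW_of_eqF lk nP _ _ [(0, 7500), (7500, 7500), (15000, 7500), (22500, 7500), (30000, 1671)] (by decide) (AllChunks.cons rel2_7_11_w_c0 (AllChunks.cons rel2_7_11_w_c1 (AllChunks.cons rel2_7_11_w_c2 (AllChunks.cons rel2_7_11_w_c3 (AllChunks.cons rel2_7_11_w_c4 (AllChunks.nil))))))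

theorem rel2_7_11 : relChk1 lk nP Uid 2 gT2 sqL2 cmL2 (7, 11) = true :=
  relChk1_off lk nP Uid 2 gT2 sqL2 cmL2 7 11 (by decide) rel2_7_11_w

theorem rel2_7_12_w_c0 : allR 0 7500 (eqF lk (cmA Uid gT2 7 12) (cmB Uid gT2 cmL2 7 12)) = true := by decide +kernel
theorem rel2_7_12_w_c1 : allR 7500 7500 (eqF lk (cmA Uid gT2 7 12) (cmB Uid gT2 cmL2 7 12)) = true := by decide +kernel
theorem rel2_7_12_w_c2 : allR 15000 7500 (eqF lk (cmA Uid gT2 7 12) (cmB Uid gT2 cmL2 7 12)) = true := by decide +kernel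
theorem rel2_7_12_w_c3 : allR 22500 7500 (eqF lk (cmA Uid gT2 7 12) (cmB Uid gT2 cmL2 7 12)) = true := by decide +kernel
theorem rel2_7_12_w_c4 : allR 30000 1671 (eqF lk (cmA Uid gT2 7 12) (cmB Uid gT2 cmL2 7 12)) = true := by decide +kernel
theorem rel2_7_12_w : eqWW lk nP (cmA Uid gT2 7 12) (cmB Uid gT2 cmL2 7 12) = true :=
  eqWW_of_eqF lk nP _ _ [(0, 7500), (7500, 7500), (15000, 7500), (22500, 7500), (30000, 1671)] (by decide) (AllChunks.cons rel2_7_12_w_c0 (AllChunks.cons rel2_7_12_w_c1 (AllChunks.cons rel2_7_12_w_c2 (AllChunks.cons rel2_7_12_w_c3 (AllChunks.cons rel2_7_12_w_c4 (AllChunks.nil))))))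

theorem rel2_7_12 : relChk1 lk nP Uid 2 gT2 sqL2 cmL2 (7, 12) = true :=
  relChk1_off lk nP Uid 2 gT2 sqL2 cmL2 7 12 (by decide) rel2_7_12_w

theorem rel2_7_13_w_c0 : allR 0 6000 (eqF lk (cmA Uid gT2 7 13) (cmB Uid gT2 cmL2 7 13)) = true := by decide +kernel
theorem rel2_7_13_w_c1 : allR 6000 6000 (eqF lk (cmA Uid gT2 7 13) (cmB Uid gT2 cmL2 7 13)) = true := by decide +kernel
theorem rel2_7_13_w_c2 : allR 12000 6000 (eqF lk (cmA Uid gT2 7 13) (cmB Uid gT2 cmL2 7 13)) = true := by decide +kernel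
theorem rel2_7_13_w_c3 : allR 18000 6000 (eqF lk (cmA Uid gT2 7 13) (cmB Uid gT2 cmL2 7 13)) = true := by decide +kernel
theorem rel2_7_13_w_c4 : allR 24000 6000 (eqF lk (cmA Uid gT2 7 13) (cmB Uid gT2 cmL2 7 13)) = true := by decide +kernel
theorem rel2_7_13_w_c5 : allR 30000 1671 (eqF lk (cmA Uid gT2 7 13) (cmB Uid gT2 cmL2 7 13)) = true := by decide +kernel
theorem rel2_7_13_w : eqWW lk nP (cmA Uid gT2 7 13) (cmB Uid gT2 cmL2 7 13) = true :=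
  eqWW_of_eqF lk nP _ _ [(0, 6000), (6000, 6000), (12000, 6000), (18000, 6000), (24000, 6000), (30000, 1671)] (by decide) (AllChunks.cons rel2_7_13_w_c0 (AllChunks.cons rel2_7_13_w_c1 (AllChunks.cons rel2_7_13_w_c2 (AllChunks.cons rel2_7_13_w_c3 (AllChunks.cons rel2_7_13_w_c4 (AllChunks.cons rel2_7_13_w_c5 (AllChunks.nil)))))))

theorem rel2_7_13 : relChk1 lk nP Uid 2 gT2 sqL2 cmL2 (7, 13) = true :=
  relChk1_off lk nP Uid 2 gT2 sqL2 cmL2 7 13 (by decide) rel2_7_13_w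

theorem rel2_7_14_w_c0 : allR 0 7500 (eqF lk (cmA Uid gT2 7 14) (cmB Uid gT2 cmL2 7 14)) = true := by decide +kernel
theorem rel2_7_14_w_c1 : allR 7500 7500 (eqF lk (cmA Uid gT2 7 14) (cmB Uid gT2 cmL2 7 14)) = true := by decide +kernel
theorem rel2_7_14_w_c2 : allR 15000 7500 (eqF lk (cmA Uid gT2 7 14) (cmB Uid gT2 cmL2 7 14)) = true := by decide +kernel
theorem rel2_7_14_w_c3 : allR 22500 7500 (eqF lk (cmA Uid gT2 7 14) (cmB Uid gT2 cmL2 7 14)) = true := by decide +kernel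
theorem rel2_7_14_w_c4 : allR 30000 1671 (eqF lk (cmA Uid gT2 7 14) (cmB Uid gT2 cmL2 7 14)) = true := by decide +kernel
theorem rel2_7_14_w : eqWW lk nP (cmA Uid gT2 7 14) (cmB Uid gT2 cmL2 7 14) = true :=
  eqWW_of_eqF lk nP _ _ [(0, 7500), (7500, 7500), (15000, 7500), (22500, 7500), (30000, 1671)] (by decide) (AllChunks.cons rel2_7_14_w_c0 (AllChunks.cons rel2_7_14_w_c1 (AllChunks.cons rel2_7_14_w_c2 (AllChunks.cons rel2_7_14_w_c3 (AllChunks.cons rel2_7_14_w_c4 (AllChunks.nil))))))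

theorem rel2_7_14 : relChk1 lk nP Uid 2 gT2 sqL2 cmL2 (7, 14) = true :=
  relChk1_off lk nP Uid 2 gT2 sqL2 cmL2 7 14 (by decide) rel2_7_14_w

theorem rel2_7_15_w_c0 : allR 0 7500 (eqF lk (cmA Uid gT2 7 15) (cmB Uid gT2 cmL2 7 15)) = true := by decide +kernel
theorem rel2_7_15_w_c1 : allR 7500 7500 (eqF lk (cmA Uid gT2 7 15) (cmB Uid gT2 cmL2 7 15)) = true := by decide +kernel
theorem rel2_7_15_w_c2 : allR 15000 7500 (eqF lk (cmA Uid gT2 7 15) (cmB Uid gT2 cmL2 7 15)) = true := by decide +kernel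
theorem rel2_7_15_w_c3 : allR 22500 7500 (eqF lk (cmA Uid gT2 7 15) (cmB Uid gT2 cmL2 7 15)) = true := by decide +kernel
theorem rel2_7_15_w_c4 : allR 30000 1671 (eqF lk (cmA Uid gT2 7 15) (cmB Uid gT2 cmL2 7 15)) = true := by decide +kernel
theorem rel2_7_15_w : eqWW lk nP (cmA Uid gT2 7 15) (cmB Uid gT2 cmL2 7 15) = true :=
  eqWW_of_eqF lk nP _ _ [(0, 7500), (7500, 7500), (15000, 7500), (22500, 7500), (30000, 1671)] (by decide) (AllChunks.cons rel2_7_15_w_c0 (AllChunks.cons rel2_7_15_w_c1 (AllChunks.cons rel2_7_15_w_c2 (AllChunks.cons rel2_7_15_w_c3 (AllChunks.cons rel2_7_15_w_c4 (AllChunks.nil))))))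

theorem rel2_7_15 : relChk1 lk nP Uid 2 gT2 sqL2 cmL2 (7, 15) = true :=
  relChk1_off lk nP Uid 2 gT2 sqL2 cmL2 7 15 (by decide) rel2_7_15_w

theorem rel2_7_16_w_c0 : allR 0 7500 (eqF lk (cmA Uid gT2 7 16) (cmB Uid gT2 cmL2 7 16)) = true := by decide +kernel
theorem rel2_7_16_w_c1 : allR 7500 7500 (eqF lk (cmA Uid gT2 7 16) (cmB Uid gT2 cmL2 7 16)) = true := by decide +kernel
theorem rel2_7_16_w_c2 : allR 15000 7500 (eqF lk (cmA Uid gT2 7 16) (cmB Uid gT2 cmL2 7 16)) = true := by decide +kernel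
theorem rel2_7_16_w_c3 : allR 22500 7500 (eqF lk (cmA Uid gT2 7 16) (cmB Uid gT2 cmL2 7 16)) = true := by decide +kernel
theorem rel2_7_16_w_c4 : allR 30000 1671 (eqF lk (cmA Uid gT2 7 16) (cmB Uid gT2 cmL2 7 16)) = true := by decide +kernel
theorem rel2_7_16_w : eqWW lk nP (cmA Uid gT2 7 16) (cmB Uid gT2 cmL2 7 16) = true :=
  eqWW_of_eqF lk nP _ _ [(0, 7500), (7500, 7500), (15000, 7500), (22500, 7500), (30000, 1671)] (by decide) (AllChunks.cons rel2_7_16_w_c0 (AllChunks.cons rel2_7_16_w_c1 (AllChunks.cons rel2_7_16_w_c2 (AllChunks.cons rel2_7_16_w_c3 (AllChunks.cons rel2_7_16_w_c4 (AllChunks.nil))))))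

theorem rel2_7_16 : relChk1 lk nP Uid 2 gT2 sqL2 cmL2 (7, 16) = true :=
  relChk1_off lk nP Uid 2 gT2 sqL2 cmL2 7 16 (by decide) rel2_7_16_w

theorem rel2_7_17_w_c0 : allR 0 7500 (eqF lk (cmA Uid gT2 7 17) (cmB Uid gT2 cmL2 7 17)) = true := by decide +kernel
theorem rel2_7_17_w_c1 : allR 7500 7500 (eqF lk (cmA Uid gT2 7 17) (cmB Uid gT2 cmL2 7 17)) = true := by decide +kernel
theorem rel2_7_17_w_c2 : allR 15000 7500 (eqF lk (cmA Uid gT2 7 17) (cmB Uid gT2 cmL2 7 17)) = true := by decide +kernel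
theorem rel2_7_17_w_c3 : allR 22500 7500 (eqF lk (cmA Uid gT2 7 17) (cmB Uid gT2 cmL2 7 17)) = true := by decide +kernel
theorem rel2_7_17_w_c4 : allR 30000 1671 (eqF lk (cmA Uid gT2 7 17) (cmB Uid gT2 cmL2 7 17)) = true := by decide +kernel
theorem rel2_7_17_w : eqWW lk nP (cmA Uid gT2 7 17) (cmB Uid gT2 cmL2 7 17) = true :=
  eqWW_of_eqF lk nP _ _ [(0, 7500), (7500, 7500), (15000, 7500), (22500, 7500), (30000, 1671)] (by decide) (AllChunks.cons rel2_7_17_w_c0 (AllChunks.cons rel2_7_17_w_c1 (AllChunks.cons rel2_7_17_w_c2 (AllChunks.cons rel2_7_17_w_c3 (AllChunks.cons rel2_7_17_w_c4 (AllChunks.nil))))))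

theorem rel2_7_17 : relChk1 lk nP Uid 2 gT2 sqL2 cmL2 (7, 17) = true :=
  relChk1_off lk nP Uid 2 gT2 sqL2 cmL2 7 17 (by decide) rel2_7_17_w

theorem rel2_8_8_w_c0 : allR 0 15000 (eqF lk (sqA Uid 2 gT2 8) (sqB Uid gT2 sqL2 8)) = true := by decide +kernel
theorem rel2_8_8_w_c1 : allR 15000 15000 (eqF lk (sqA Uid 2 gT2 8) (sqB Uid gT2 sqL2 8)) = true := by decide +kernel
theorem rel2_8_8_w_c2 : allR 30000 1671 (eqF lk (sqA Uid 2 gT2 8) (sqB Uid gT2 sqL2 8)) = true := by decide +kernel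
theorem rel2_8_8_w : eqWW lk nP (sqA Uid 2 gT2 8) (sqB Uid gT2 sqL2 8) = true :=
  eqWW_of_eqF lk nP _ _ [(0, 15000), (15000, 15000), (30000, 1671)] (by decide) (AllChunks.cons rel2_8_8_w_c0 (AllChunks.cons rel2_8_8_w_c1 (AllChunks.cons rel2_8_8_w_c2 (AllChunks.nil))))

theorem rel2_8_8 : relChk1 lk nP Uid 2 gT2 sqL2 cmL2 (8, 8) = true :=
  relChk1_diag lk nP Uid 2 gT2 sqL2 cmL2 8 rel2_8_8_w

theorem rel2_8_9_w_c0 : allR 0 6000 (eqF lk (cmA Uid gT2 8 9) (cmB Uid gT2 cmL2 8 9)) = true := by decide +kernel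
theorem rel2_8_9_w_c1 : allR 6000 6000 (eqF lk (cmA Uid gT2 8 9) (cmB Uid gT2 cmL2 8 9)) = true := by decide +kernel
theorem rel2_8_9_w_c2 : allR 12000 6000 (eqF lk (cmA Uid gT2 8 9) (cmB Uid gT2 cmL2 8 9)) = true := by decide +kernel
theorem rel2_8_9_w_c3 : allR 18000 6000 (eqF lk (cmA Uid gT2 8 9) (cmB Uid gT2 cmL2 8 9)) = true := by decide +kernel
theorem rel2_8_9_w_c4 : allR 24000 6000 (eqF lk (cmA Uid gT2 8 9) (cmB Uid gT2 cmL2 8 9)) = true := by decide +kernel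
theorem rel2_8_9_w_c5 : allR 30000 1671 (eqF lk (cmA Uid gT2 8 9) (cmB Uid gT2 cmL2 8 9)) = true := by decide +kernel
theorem rel2_8_9_w : eqWW lk nP (cmA Uid gT2 8 9) (cmB Uid gT2 cmL2 8 9) = true :=
  eqWW_of_eqF lk nP _ _ [(0, 6000), (6000, 6000), (12000, 6000), (18000, 6000), (24000, 6000), (30000, 1671)] (by decide) (AllChunks.cons rel2_8_9_w_c0 (AllChunks.cons rel2_8_9_w_c1 (AllChunks.cons rel2_8_9_w_c2 (AllChunks.cons rel2_8_9_w_c3 (AllChunks.cons rel2_8_9_w_c4 (AllChunks.cons rel2_8_9_w_c5 (AllChunks.nil)))))))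

theorem rel2_8_9 : relChk1 lk nP Uid 2 gT2 sqL2 cmL2 (8, 9) = true :=
  relChk1_off lk nP Uid 2 gT2 sqL2 cmL2 8 9 (by decide) rel2_8_9_w

theorem rel2_8_10_w_c0 : allR 0 6000 (eqF lk (cmA Uid gT2 8 10) (cmB Uid gT2 cmL2 8 10)) = true := by decide +kernel
theorem rel2_8_10_w_c1 : allR 6000 6000 (eqF lk (cmA Uid gT2 8 10) (cmB Uid gT2 cmL2 8 10)) = true := by decide +kernel
theorem rel2_8_10_w_c2 : allR 12000 6000 (eqF lk (cmA Uid gT2 8 10) (cmB Uid gT2 cmL2 8 10)) = true := by decide +kernel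
theorem rel2_8_10_w_c3 : allR 18000 6000 (eqF lk (cmA Uid gT2 8 10) (cmB Uid gT2 cmL2 8 10)) = true := by decide +kernel
theorem rel2_8_10_w_c4 : allR 24000 6000 (eqF lk (cmA Uid gT2 8 10) (cmB Uid gT2 cmL2 8 10)) = true := by decide +kernel
theorem rel2_8_10_w_c5 : allR 30000 1671 (eqF lk (cmA Uid gT2 8 10) (cmB Uid gT2 cmL2 8 10)) = true := by decide +kernel
theorem rel2_8_10_w : eqWW lk nP (cmA Uid gT2 8 10) (cmB Uid gT2 cmL2 8 10) = true :=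
  eqWW_of_eqF lk nP _ _ [(0, 6000), (6000, 6000), (12000, 6000), (18000, 6000), (24000, 6000), (30000, 1671)] (by decide) (AllChunks.cons rel2_8_10_w_c0 (AllChunks.cons rel2_8_10_w_c1 (AllChunks.cons rel2_8_10_w_c2 (AllChunks.cons rel2_8_10_w_c3 (AllChunks.cons rel2_8_10_w_c4 (AllChunks.cons rel2_8_10_w_c5 (AllChunks.nil)))))))

theorem rel2_8_10 : relChk1 lk nP Uid 2 gT2 sqL2 cmL2 (8, 10) = true :=
  relChk1_off lk nP Uid 2 gT2 sqL2 cmL2 8 10 (by decide) rel2_8_10_w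

theorem rel2_8_11_w_c0 : allR 0 6000 (eqF lk (cmA Uid gT2 8 11) (cmB Uid gT2 cmL2 8 11)) = true := by decide +kernel
theorem rel2_8_11_w_c1 : allR 6000 6000 (eqF lk (cmA Uid gT2 8 11) (cmB Uid gT2 cmL2 8 11)) = true := by decide +kernel
theorem rel2_8_11_w_c2 : allR 12000 6000 (eqF lk (cmA Uid gT2 8 11) (cmB Uid gT2 cmL2 8 11)) = true := by decide +kernel
theorem rel2_8_11_w_c3 : allR 18000 6000 (eqF lk (cmA Uid gT2 8 11) (cmB Uid gT2 cmL2 8 11)) = true := by decide +kernel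
theorem rel2_8_11_w_c4 : allR 24000 6000 (eqF lk (cmA Uid gT2 8 11) (cmB Uid gT2 cmL2 8 11)) = true := by decide +kernel
theorem rel2_8_11_w_c5 : allR 30000 1671 (eqF lk (cmA Uid gT2 8 11) (cmB Uid gT2 cmL2 8 11)) = true := by decide +kernel
theorem rel2_8_11_w : eqWW lk nP (cmA Uid gT2 8 11) (cmB Uid gT2 cmL2 8 11) = true :=
  eqWW_of_eqF lk nP _ _ [(0, 6000), (6000, 6000), (12000, 6000), (18000, 6000), (24000, 6000), (30000, 1671)] (by decide) (AllChunks.cons rel2_8_11_w_c0 (AllChunks.cons rel2_8_11_w_c1 (AllChunks.cons rel2_8_11_w_c2 (AllChunks.cons rel2_8_11_w_c3 (AllChunks.cons rel2_8_11_w_c4 (AllChunks.cons rel2_8_11_w_c5 (AllChunks.nil)))))))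

theorem rel2_8_11 : relChk1 lk nP Uid 2 gT2 sqL2 cmL2 (8, 11) = true :=
  relChk1_off lk nP Uid 2 gT2 sqL2 cmL2 8 11 (by decide) rel2_8_11_w

theorem rel2_8_12_w_c0 : allR 0 7500 (eqF lk (cmA Uid gT2 8 12) (cmB Uid gT2 cmL2 8 12)) = true := by decide +kernel
theorem rel2_8_12_w_c1 : allR 7500 7500 (eqF lk (cmA Uid gT2 8 12) (cmB Uid gT2 cmL2 8 12)) = true := by decide +kernel
theorem rel2_8_12_w_c2 : allR 15000 7500 (eqF lk (cmA Uid gT2 8 12) (cmB Uid gT2 cmL2 8 12)) = true := by decide +kernel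
theorem rel2_8_12_w_c3 : allR 22500 7500 (eqF lk (cmA Uid gT2 8 12) (cmB Uid gT2 cmL2 8 12)) = true := by decide +kernel
theorem rel2_8_12_w_c4 : allR 30000 1671 (eqF lk (cmA Uid gT2 8 12) (cmB Uid gT2 cmL2 8 12)) = true := by decide +kernel
theorem rel2_8_12_w : eqWW lk nP (cmA Uid gT2 8 12) (cmB Uid gT2 cmL2 8 12) = true :=
  eqWW_of_eqF lk nP _ _ [(0, 7500), (7500, 7500), (15000, 7500), (22500, 7500), (30000, 1671)] (by decide) (AllChunks.cons rel2_8_12_w_c0 (AllChunks.cons rel2_8_12_w_c1 (AllChunks.cons rel2_8_12_w_c2 (AllChunks.cons rel2_8_12_w_c3 (AllChunks.cons rel2_8_12_w_c4 (AllChunks.nil))))))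

theorem rel2_8_12 : relChk1 lk nP Uid 2 gT2 sqL2 cmL2 (8, 12) = true :=
  relChk1_off lk nP Uid 2 gT2 sqL2 cmL2 8 12 (by decide) rel2_8_12_w

theorem rel2_8_13_w_c0 : allR 0 7500 (eqF lk (cmA Uid gT2 8 13) (cmB Uid gT2 cmL2 8 13)) = true := by decide +kernel
theorem rel2_8_13_w_c1 : allR 7500 7500 (eqF lk (cmA Uid gT2 8 13) (cmB Uid gT2 cmL2 8 13)) = true := by decide +kernel
theorem rel2_8_13_w_c2 : allR 15000 7500 (eqF lk (cmA Uid gT2 8 13) (cmB Uid gT2 cmL2 8 13)) = true := by decide +kernel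
theorem rel2_8_13_w_c3 : allR 22500 7500 (eqF lk (cmA Uid gT2 8 13) (cmB Uid gT2 cmL2 8 13)) = true := by decide +kernel
theorem rel2_8_13_w_c4 : allR 30000 1671 (eqF lk (cmA Uid gT2 8 13) (cmB Uid gT2 cmL2 8 13)) = true := by decide +kernel
theorem rel2_8_13_w : eqWW lk nP (cmA Uid gT2 8 13) (cmB Uid gT2 cmL2 8 13) = true :=
  eqWW_of_eqF lk nP _ _ [(0, 7500), (7500, 7500), (15000, 7500), (22500, 7500), (30000, 1671)] (by decide) (AllChunks.cons rel2_8_13_w_c0 (AllChunks.cons rel2_8_13_w_c1 (AllChunks.cons rel2_8_13_w_c2 (AllChunks.cons rel2_8_13_w_c3 (AllChunks.cons rel2_8_13_w_c4 (AllChunks.nil))))))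

theorem rel2_8_13 : relChk1 lk nP Uid 2 gT2 sqL2 cmL2 (8, 13) = true :=
  relChk1_off lk nP Uid 2 gT2 sqL2 cmL2 8 13 (by decide) rel2_8_13_w

theorem rel2_8_14_w_c0 : allR 0 7500 (eqF lk (cmA Uid gT2 8 14) (cmB Uid gT2 cmL2 8 14)) = true := by decide +kernel
theorem rel2_8_14_w_c1 : allR 7500 7500 (eqF lk (cmA Uid gT2 8 14) (cmB Uid gT2 cmL2 8 14)) = true := by decide +kernel
theorem rel2_8_14_w_c2 : allR 15000 7500 (eqF lk (cmA Uid gT2 8 14) (cmB Uid gT2 cmL2 8 14)) = true := by decide +kernel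
theorem rel2_8_14_w_c3 : allR 22500 7500 (eqF lk (cmA Uid gT2 8 14) (cmB Uid gT2 cmL2 8 14)) = true := by decide +kernel
theorem rel2_8_14_w_c4 : allR 30000 1671 (eqF lk (cmA Uid gT2 8 14) (cmB Uid gT2 cmL2 8 14)) = true := by decide +kernel
theorem rel2_8_14_w : eqWW lk nP (cmA Uid gT2 8 14) (cmB Uid gT2 cmL2 8 14) = true :=
  eqWW_of_eqF lk nP _ _ [(0, 7500), (7500, 7500), (15000, 7500), (22500, 7500), (30000, 1671)] (by decide) (AllChunks.cons rel2_8_14_w_c0 (AllChunks.cons rel2_8_14_w_c1 (AllChunks.cons rel2_8_14_w_c2 (AllChunks.cons rel2_8_14_w_c3 (AllChunks.cons rel2_8_14_w_c4 (AllChunks.nil))))))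

theorem rel2_8_14 : relChk1 lk nP Uid 2 gT2 sqL2 cmL2 (8, 14) = true :=
  relChk1_off lk nP Uid 2 gT2 sqL2 cmL2 8 14 (by decide) rel2_8_14_w

theorem rel2_8_15_w_c0 : allR 0 7500 (eqF lk (cmA Uid gT2 8 15) (cmB Uid gT2 cmL2 8 15)) = true := by decide +kernel
theorem rel2_8_15_w_c1 : allR 7500 7500 (eqF lk (cmA Uid gT2 8 15) (cmB Uid gT2 cmL2 8 15)) = true := by decide +kernel
theorem rel2_8_15_w_c2 : allR 15000 7500 (eqF lk (cmA Uid gT2 8 15) (cmB Uid gT2 cmL2 8 15)) = true := by decide +kernel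
theorem rel2_8_15_w_c3 : allR 22500 7500 (eqF lk (cmA Uid gT2 8 15) (cmB Uid gT2 cmL2 8 15)) = true := by decide +kernel
theorem rel2_8_15_w_c4 : allR 30000 1671 (eqF lk (cmA Uid gT2 8 15) (cmB Uid gT2 cmL2 8 15)) = true := by decide +kernel
theorem rel2_8_15_w : eqWW lk nP (cmA Uid gT2 8 15) (cmB Uid gT2 cmL2 8 15) = true :=
  eqWW_of_eqF lk nP _ _ [(0, 7500), (7500, 7500), (15000, 7500), (22500, 7500), (30000, 1671)] (by decide) (AllChunks.cons rel2_8_15_w_c0 (AllChunks.cons rel2_8_15_w_c1 (AllChunks.cons rel2_8_15_w_c2 (AllChunks.cons rel2_8_15_w_c3 (AllChunks.cons rel2_8_15_w_c4 (AllChunks.nil))))))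

theorem rel2_8_15 : relChk1 lk nP Uid 2 gT2 sqL2 cmL2 (8, 15) = true :=
  relChk1_off lk nP Uid 2 gT2 sqL2 cmL2 8 15 (by decide) rel2_8_15_w

theorem rel2_8_16_w_c0 : allR 0 7500 (eqF lk (cmA Uid gT2 8 16) (cmB Uid gT2 cmL2 8 16)) = true := by decide +kernel
theorem rel2_8_16_w_c1 : allR 7500 7500 (eqF lk (cmA Uid gT2 8 16) (cmB Uid gT2 cmL2 8 16)) = true := by decide +kernel
theorem rel2_8_16_w_c2 : allR 15000 7500 (eqF lk (cmA Uid gT2 8 16) (cmB Uid gT2 cmL2 8 16)) = true := by decide +kernel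
theorem rel2_8_16_w_c3 : allR 22500 7500 (eqF lk (cmA Uid gT2 8 16) (cmB Uid gT2 cmL2 8 16)) = true := by decide +kernel
theorem rel2_8_16_w_c4 : allR 30000 1671 (eqF lk (cmA Uid gT2 8 16) (cmB Uid gT2 cmL2 8 16)) = true := by decide +kernel
theorem rel2_8_16_w : eqWW lk nP (cmA Uid gT2 8 16) (cmB Uid gT2 cmL2 8 16) = true :=
  eqWW_of_eqF lk nP _ _ [(0, 7500), (7500, 7500), (15000, 7500), (22500, 7500), (30000, 1671)] (by decide) (AllChunks.cons rel2_8_16_w_c0 (AllChunks.cons rel2_8_16_w_c1 (AllChunks.cons rel2_8_16_w_c2 (AllChunks.cons rel2_8_16_w_c3 (AllChunks.cons rel2_8_16_w_c4 (AllChunks.nil))))))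

theorem rel2_8_16 : relChk1 lk nP Uid 2 gT2 sqL2 cmL2 (8, 16) = true :=
  relChk1_off lk nP Uid 2 gT2 sqL2 cmL2 8 16 (by decide) rel2_8_16_w

theorem rel2_8_17_w_c0 : allR 0 7500 (eqF lk (cmA Uid gT2 8 17) (cmB Uid gT2 cmL2 8 17)) = true := by decide +kernel
theorem rel2_8_17_w_c1 : allR 7500 7500 (eqF lk (cmA Uid gT2 8 17) (cmB Uid gT2 cmL2 8 17)) = true := by decide +kernel
theorem rel2_8_17_w_c2 : allR 15000 7500 (eqF lk (cmA Uid gT2 8 17) (cmB Uid gT2 cmL2 8 17)) = true := by decide +kernel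
theorem rel2_8_17_w_c3 : allR 22500 7500 (eqF lk (cmA Uid gT2 8 17) (cmB Uid gT2 cmL2 8 17)) = true := by decide +kernel
theorem rel2_8_17_w_c4 : allR 30000 1671 (eqF lk (cmA Uid gT2 8 17) (cmB Uid gT2 cmL2 8 17)) = true := by decide +kernel
theorem rel2_8_17_w : eqWW lk nP (cmA Uid gT2 8 17) (cmB Uid gT2 cmL2 8 17) = true :=
  eqWW_of_eqF lk nP _ _ [(0, 7500), (7500, 7500), (15000, 7500), (22500, 7500), (30000, 1671)] (by decide) (AllChunks.cons rel2_8_17_w_c0 (AllChunks.cons rel2_8_17_w_c1 (AllChunks.cons rel2_8_17_w_c2 (AllChunks.cons rel2_8_17_w_c3 (AllChunks.cons rel2_8_17_w_c4 (AllChunks.nil))))))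

theorem rel2_8_17 : relChk1 lk nP Uid 2 gT2 sqL2 cmL2 (8, 17) = true :=
  relChk1_off lk nP Uid 2 gT2 sqL2 cmL2 8 17 (by decide) rel2_8_17_w

theorem rel2_9_9_w_c0 : allR 0 10000 (eqF lk (sqA Uid 2 gT2 9) (sqB Uid gT2 sqL2 9)) = true := by decide +kernel
theorem rel2_9_9_w_c1 : allR 10000 10000 (eqF lk (sqA Uid 2 gT2 9) (sqB Uid gT2 sqL2 9)) = true := by decide +kernel
theorem rel2_9_9_w_c2 : allR 20000 10000 (eqF lk (sqA Uid 2 gT2 9) (sqB Uid gT2 sqL2 9)) = true := by decide +kernel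
theorem rel2_9_9_w_c3 : allR 30000 1671 (eqF lk (sqA Uid 2 gT2 9) (sqB Uid gT2 sqL2 9)) = true := by decide +kernel
theorem rel2_9_9_w : eqWW lk nP (sqA Uid 2 gT2 9) (sqB Uid gT2 sqL2 9) = true :=
  eqWW_of_eqF lk nP _ _ [(0, 10000), (10000, 10000), (20000, 10000), (30000, 1671)] (by decide) (AllChunks.cons rel2_9_9_w_c0 (AllChunks.cons rel2_9_9_w_c1 (AllChunks.cons rel2_9_9_w_c2 (AllChunks.cons rel2_9_9_w_c3 (AllChunks.nil)))))

theorem rel2_9_9 : relChk1 lk nP Uid 2 gT2 sqL2 cmL2 (9, 9) = true :=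
  relChk1_diag lk nP Uid 2 gT2 sqL2 cmL2 9 rel2_9_9_w

theorem relpart2x5_ok : relsPart lk nP Uid 2 gT2 sqL2 cmL2 relpart2x5 = true :=
  relsPart_of_allRel _ (AllRel.cons rel2_6_14 (AllRel.cons rel2_6_15 (AllRel.cons rel2_6_16 (AllRel.cons rel2_6_17 (AllRel.cons rel2_7_7 (AllRel.cons rel2_7_8 (AllRel.cons rel2_7_9 (AllRel.cons rel2_7_10 (AllRel.cons rel2_7_11 (AllRel.cons rel2_7_12 (AllRel.cons rel2_7_13 (AllRel.cons rel2_7_14 (AllRel.cons rel2_7_15 (AllRel.cons rel2_7_16 (AllRel.cons rel2_7_17 (AllRel.cons rel2_8_8 (AllRel.cons rel2_8_9 (AllRel.cons rel2_8_10 (AllRel.cons rel2_8_11 (AllRel.cons rel2_8_12 (AllRel.cons rel2_8_13 (AllRel.cons rel2_8_14 (AllRel.cons rel2_8_15 (AllRel.cons rel2_8_16 (AllRel.cons rel2_8_17 (AllRel.cons rel2_9_9 (AllRel.nil lk nP Uid 2 gT2 sqL2 cmL2)))))))))))))))))))))))))))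

end Cfsg.Agent.Lib.Helper28.Fi
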