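import Mathlib
import Cfsg.Agent.Lib.Helper28.Fi.Core
import Cfsg.Agent.Lib.Helper28.Fi.Chunk
import Cfsg.Agent.Lib.Helper28.Fi.Rel
import Cfsg.Agent.Lib.Helper28.Fi.Lists
import Cfsg.Agent.Lib.Helper28.Fi.Data2

set_option autoImplicit false
set_option maxRecDepth 1000000
set_option Elab.async false

/-! Checks of the relations of a Sylow 2-subgroup of Fi23, part 6 (generated). -/

namespace Cfsg.Agent.Lib.Helper28.Fi

open Cfsg.Agent.Lib.Helper5.CP Cfsg.Agent.Lib.Helper5.PcP Cfsg.Agent.Lib.Helper5.PcT Cfsg.Agent.Lib.Helper12.TC.Fi23o31671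

theorem rel2_9_10_w_c0 : allR 0 6000 (eqF lk (cmA Uid gT2 9 10) (cmB Uid gT2 cmL2 9 10)) = true := by decide +kernel
theorem rel2_9_10_w_c1 : allR 6000 6000 (eqF lk (cmA Uid gT2 9 10) (cmB Uid gT2 cmL2 9 10)) = true := by decide +kernel
theorem rel2_9_10_w_c2 : allR 12000 6000 (eqF lk (cmA Uid gT2 9 10) (cmB Uid gT2 cmL2 9 10)) = true := by decide +kernel
theorem rel2_9_10_w_c3 : allR 18000 6000 (eqF lk (cmA Uid gT2 9 10) (cmB Uid gT2 cmL2 9 10)) = true := by decide +kernel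
theorem rel2_9_10_w_c4 : allR 24000 6000 (eqF lk (cmA Uid gT2 9 10) (cmB Uid gT2 cmL2 9 10)) = true := by decide +kernel
theorem rel2_9_10_w_c5 : allR 30000 1671 (eqF lk (cmA Uid gT2 9 10) (cmB Uid gT2 cmL2 9 10)) = true := by decide +kernel
theorem rel2_9_10_w : eqWW lk nP (cmA Uid gT2 9 10) (cmB Uid gT2 cmL2 9 10) = true :=
  eqWW_of_eqF lk nP _ _ [(0, 6000), (6000, 6000), (12000, 6000), (18000, 6000), (24000, 6000), (30000, 1671)] (by decide) (AllChunks.cons rel2_9_10_w_c0 (AllChunks.cons rel2_9_10_w_c1 (AllChunks.cons rel2_9_10_w_c2 (AllChunks.cons rel2_9_10_w_c3 (AllChunks.cons rel2_9_10_w_c4 (AllChunks.cons rel2_9_10_w_c5 (AllChunks.nil)))))))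

theorem rel2_9_10 : relChk1 lk nP Uid 2 gT2 sqL2 cmL2 (9, 10) = true :=
  relChk1_off lk nP Uid 2 gT2 sqL2 cmL2 9 10 (by decide) rel2_9_10_w

theorem rel2_9_11_w_c0 : allR 0 6000 (eqF lk (cmA Uid gT2 9 11) (cmB Uid gT2 cmL2 9 11)) = true := by decide +kernel
theorem rel2_9_11_w_c1 : allR 6000 6000 (eqF lk (cmA Uid gT2 9 11) (cmB Uid gT2 cmL2 9 11)) = true := by decide +kernel
theorem rel2_9_11_w_c2 : allR 12000 6000 (eqF lk (cmA Uid gT2 9 11) (cmB Uid gT2 cmL2 9 11)) = true := by decide +kernel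
theorem rel2_9_11_w_c3 : allR 18000 6000 (eqF lk (cmA Uid gT2 9 11) (cmB Uid gT2 cmL2 9 11)) = true := by decide +kernel
theorem rel2_9_11_w_c4 : allR 24000 6000 (eqF lk (cmA Uid gT2 9 11) (cmB Uid gT2 cmL2 9 11)) = true := by decide +kernel
theorem rel2_9_11_w_c5 : allR 30000 1671 (eqF lk (cmA Uid gT2 9 11) (cmB Uid gT2 cmL2 9 11)) = true := by decide +kernel
theorem rel2_9_11_w : eqWW lk nP (cmA Uid gT2 9 11) (cmB Uid gT2 cmL2 9 11) = true :=
  eqWW_of_eqF lk nP _ _ [(0, 6000), (6000, 6000), (12000, 6000), (18000, 6000), (24000, 6000), (30000, 1671)] (by decide) (AllChunks.cons rel2_9_11_w_c0 (AllChunks.cons rel2_9_11_w_c1 (AllChunks.cons rel2_9_11_w_c2 (AllChunks.cons rel2_9_11_w_c3 (AllChunks.cons rel2_9_11_w_c4 (AllChunks.cons rel2_9_11_w_c5 (AllChunks.nil)))))))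

theorem rel2_9_11 : relChk1 lk nP Uid 2 gT2 sqL2 cmL2 (9, 11) = true :=
  relChk1_off lk nP Uid 2 gT2 sqL2 cmL2 9 11 (by decide) rel2_9_11_w

theorem rel2_9_12_w_c0 : allR 0 7500 (eqF lk (cmA Uid gT2 9 12) (cmB Uid gT2 cmL2 9 12)) = true := by decide +kernel
theorem rel2_9_12_w_c1 : allR 7500 7500 (eqF lk (cmA Uid gT2 9 12) (cmB Uid gT2 cmL2 9 12)) = true := by decide +kernel
theorem rel2_9_12_w_c2 : allR 15000 7500 (eqF lk (cmA Uid gT2 9 12) (cmB Uid gT2 cmL2 9 12)) = true := by decide +kernel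
theorem rel2_9_12_w_c3 : allR 22500 7500 (eqF lk (cmA Uid gT2 9 12) (cmB Uid gT2 cmL2 9 12)) = true := by decide +kernel
theorem rel2_9_12_w_c4 : allR 30000 1671 (eqF lk (cmA Uid gT2 9 12) (cmB Uid gT2 cmL2 9 12)) = true := by decide +kernel
theorem rel2_9_12_w : eqWW lk nP (cmA Uid gT2 9 12) (cmB Uid gT2 cmL2 9 12) = true :=
  eqWW_of_eqF lk nP _ _ [(0, 7500), (7500, 7500), (15000, 7500), (22500, 7500), (30000, 1671)] (by decide) (AllChunks.cons rel2_9_12_w_c0 (AllChunks.cons rel2_9_12_w_c1 (AllChunks.cons rel2_9_12_w_c2 (AllChunks.cons rel2_9_12_w_c3 (AllChunks.cons rel2_9_12_w_c4 (AllChunks.nil))))))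

theorem rel2_9_12 : relChk1 lk nP Uid 2 gT2 sqL2 cmL2 (9, 12) = true :=
  relChk1_off lk nP Uid 2 gT2 sqL2 cmL2 9 12 (by decide) rel2_9_12_w

theorem rel2_9_13_w_c0 : allR 0 7500 (eqF lk (cmA Uid gT2 9 13) (cmB Uid gT2 cmL2 9 13)) = true := by decide +kernel
theorem rel2_9_13_w_c1 : allR 7500 7500 (eqF lk (cmA Uid gT2 9 13) (cmB Uid gT2 cmL2 9 13)) = true := by decide +kernel
theorem rel2_9_13_w_c2 : allR 15000 7500 (eqF lk (cmA Uid gT2 9 13) (cmB Uid gT2 cmL2 9 13)) = true := by decide +kernel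
theorem rel2_9_13_w_c3 : allR 22500 7500 (eqF lk (cmA Uid gT2 9 13) (cmB Uid gT2 cmL2 9 13)) = true := by decide +kernel
theorem rel2_9_13_w_c4 : allR 30000 1671 (eqF lk (cmA Uid gT2 9 13) (cmB Uid gT2 cmL2 9 13)) = true := by decide +kernel
theorem rel2_9_13_w : eqWW lk nP (cmA Uid gT2 9 13) (cmB Uid gT2 cmL2 9 13) = true :=
  eqWW_of_eqF lk nP _ _ [(0, 7500), (7500, 7500), (15000, 7500), (22500, 7500), (30000, 1671)] (by decide) (AllChunks.cons rel2_9_13_w_c0 (AllChunks.cons rel2_9_13_w_c1 (AllChunks.cons rel2_9_13_w_c2 (AllChunks.cons rel2_9_13_w_c3 (AllChunks.cons rel2_9_13_w_c4 (AllChunks.nil))))))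

theorem rel2_9_13 : relChk1 lk nP Uid 2 gT2 sqL2 cmL2 (9, 13) = true :=
  relChk1_off lk nP Uid 2 gT2 sqL2 cmL2 9 13 (by decide) rel2_9_13_w

theorem rel2_9_14_w_c0 : allR 0 7500 (eqF lk (cmA Uid gT2 9 14) (cmB Uid gT2 cmL2 9 14)) = true := by decide +kernel
theorem rel2_9_14_w_c1 : allR 7500 7500 (eqF lk (cmA Uid gT2 9 14) (cmB Uid gT2 cmL2 9 14)) = true := by decide +kernel
theorem rel2_9_14_w_c2 : allR 15000 7500 (eqF lk (cmA Uid gT2 9 14) (cmB Uid gT2 cmL2 9 14)) = true := by decide +kernel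
theorem rel2_9_14_w_c3 : allR 22500 7500 (eqF lk (cmA Uid gT2 9 14) (cmB Uid gT2 cmL2 9 14)) = true := by decide +kernel
theorem rel2_9_14_w_c4 : allR 30000 1671 (eqF lk (cmA Uid gT2 9 14) (cmB Uid gT2 cmL2 9 14)) = true := by decide +kernel
theorem rel2_9_14_w : eqWW lk nP (cmA Uid gT2 9 14) (cmB Uid gT2 cmL2 9 14) = true :=
  eqWW_of_eqF lk nP _ _ [(0, 7500), (7500, 7500), (15000, 7500), (22500, 7500), (30000, 1671)] (by decide) (AllChunks.cons rel2_9_14_w_c0 (AllChunks.cons rel2_9_14_w_c1 (AllChunks.cons rel2_9_14_w_c2 (AllChunks.cons rel2_9_14_w_c3 (AllChunks.cons rel2_9_14_w_c4 (AllChunks.nil))))))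

theorem rel2_9_14 : relChk1 lk nP Uid 2 gT2 sqL2 cmL2 (9, 14) = true :=
  relChk1_off lk nP Uid 2 gT2 sqL2 cmL2 9 14 (by decide) rel2_9_14_w

theorem rel2_9_15_w_c0 : allR 0 7500 (eqF lk (cmA Uid gT2 9 15) (cmB Uid gT2 cmL2 9 15)) = true := by decide +kernel
theorem rel2_9_15_w_c1 : allR 7500 7500 (eqF lk (cmA Uid gT2 9 15) (cmB Uid gT2 cmL2 9 15)) = true := by decide +kernel
theorem rel2_9_15_w_c2 : allR 15000 7500 (eqF lk (cmA Uid gT2 9 15) (cmB Uid gT2 cmL2 9 15)) = true := by decide +kernel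
theorem rel2_9_15_w_c3 : allR 22500 7500 (eqF lk (cmA Uid gT2 9 15) (cmB Uid gT2 cmL2 9 15)) = true := by decide +kernel
theorem rel2_9_15_w_c4 : allR 30000 1671 (eqF lk (cmA Uid gT2 9 15) (cmB Uid gT2 cmL2 9 15)) = true := by decide +kernel
theorem rel2_9_15_w : eqWW lk nP (cmA Uid gT2 9 15) (cmB Uid gT2 cmL2 9 15) = true :=
  eqWW_of_eqF lk nP _ _ [(0, 7500), (7500, 7500), (15000, 7500), (22500, 7500), (30000, 1671)] (by decide) (AllChunks.cons rel2_9_15_w_c0 (AllChunks.cons rel2_9_15_w_c1 (AllChunks.cons rel2_9_15_w_c2 (AllChunks.cons rel2_9_15_w_c3 (AllChunks.cons rel2_9_15_w_c4 (AllChunks.nil))))))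

theorem rel2_9_15 : relChk1 lk nP Uid 2 gT2 sqL2 cmL2 (9, 15) = true :=
  relChk1_off lk nP Uid 2 gT2 sqL2 cmL2 9 15 (by decide) rel2_9_15_w

theorem rel2_9_16_w_c0 : allR 0 7500 (eqF lk (cmA Uid gT2 9 16) (cmB Uid gT2 cmL2 9 16)) = true := by decide +kernel
theorem rel2_9_16_w_c1 : allR 7500 7500 (eqF lk (cmA Uid gT2 9 16) (cmB Uid gT2 cmL2 9 16)) = true := by decide +kernel
theorem rel2_9_16_w_c2 : allR 15000 7500 (eqF lk (cmA Uid gT2 9 16) (cmB Uid gT2 cmL2 9 16)) = true := by decide +kernel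
theorem rel2_9_16_w_c3 : allR 22500 7500 (eqF lk (cmA Uid gT2 9 16) (cmB Uid gT2 cmL2 9 16)) = true := by decide +kernel
theorem rel2_9_16_w_c4 : allR 30000 1671 (eqF lk (cmA Uid gT2 9 16) (cmB Uid gT2 cmL2 9 16)) = true := by decide +kernel
theorem rel2_9_16_w : eqWW lk nP (cmA Uid gT2 9 16) (cmB Uid gT2 cmL2 9 16) = true :=
  eqWW_of_eqF lk nP _ _ [(0, 7500), (7500, 7500), (15000, 7500), (22500, 7500), (30000, 1671)] (by decide) (AllChunks.cons rel2_9_16_w_c0 (AllChunks.cons rel2_9_16_w_c1 (AllChunks.cons rel2_9_16_w_c2 (AllChunks.cons rel2_9_16_w_c3 (AllChunks.cons rel2_9_16_w_c4 (AllChunks.nil))))))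

theorem rel2_9_16 : relChk1 lk nP Uid 2 gT2 sqL2 cmL2 (9, 16) = true :=
  relChk1_off lk nP Uid 2 gT2 sqL2 cmL2 9 16 (by decide) rel2_9_16_w

theorem rel2_9_17_w_c0 : allR 0 7500 (eqF lk (cmA Uid gT2 9 17) (cmB Uid gT2 cmL2 9 17)) = true := by decide +kernel
theorem rel2_9_17_w_c1 : allR 7500 7500 (eqF lk (cmA Uid gT2 9 17) (cmB Uid gT2 cmL2 9 17)) = true := by decide +kernel
theorem rel2_9_17_w_c2 : allR 15000 7500 (eqF lk (cmA Uid gT2 9 17) (cmB Uid gT2 cmL2 9 17)) = true := by decide +kernel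
theorem rel2_9_17_w_c3 : allR 22500 7500 (eqF lk (cmA Uid gT2 9 17) (cmB Uid gT2 cmL2 9 17)) = true := by decide +kernel
theorem rel2_9_17_w_c4 : allR 30000 1671 (eqF lk (cmA Uid gT2 9 17) (cmB Uid gT2 cmL2 9 17)) = true := by decide +kernel
theorem rel2_9_17_w : eqWW lk nP (cmA Uid gT2 9 17) (cmB Uid gT2 cmL2 9 17) = true :=
  eqWW_of_eqF lk nP _ _ [(0, 7500), (7500, 7500), (15000, 7500), (22500, 7500), (30000, 1671)] (by decide) (AllChunks.cons rel2_9_17_w_c0 (AllChunks.cons rel2_9_17_w_c1 (AllChunks.cons rel2_9_17_w_c2 (AllChunks.cons rel2_9_17_w_c3 (AllChunks.cons rel2_9_17_w_c4 (AllChunks.nil))))))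

theorem rel2_9_17 : relChk1 lk nP Uid 2 gT2 sqL2 cmL2 (9, 17) = true :=
  relChk1_off lk nP Uid 2 gT2 sqL2 cmL2 9 17 (by decide) rel2_9_17_w

theorem rel2_10_10_w_c0 : allR 0 15000 (eqF lk (sqA Uid 2 gT2 10) (sqB Uid gT2 sqL2 10)) = true := by decide +kernel
theorem rel2_10_10_w_c1 : allR 15000 15000 (eqF lk (sqA Uid 2 gT2 10) (sqB Uid gT2 sqL2 10)) = true := by decide +kernel
theorem rel2_10_10_w_c2 : allR 30000 1671 (eqF lk (sqA Uid 2 gT2 10) (sqB Uid gT2 sqL2 10)) = true := by decide +kernel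
theorem rel2_10_10_w : eqWW lk nP (sqA Uid 2 gT2 10) (sqB Uid gT2 sqL2 10) = true :=
  eqWW_of_eqF lk nP _ _ [(0, 15000), (15000, 15000), (30000, 1671)] (by decide) (AllChunks.cons rel2_10_10_w_c0 (AllChunks.cons rel2_10_10_w_c1 (AllChunks.cons rel2_10_10_w_c2 (AllChunks.nil))))

theorem rel2_10_10 : relChk1 lk nP Uid 2 gT2 sqL2 cmL2 (10, 10) = true :=
  relChk1_diag lk nP Uid 2 gT2 sqL2 cmL2 10 rel2_10_10_w

theorem rel2_10_11_w_c0 : allR 0 7500 (eqF lk (cmA Uid gT2 10 11) (cmB Uid gT2 cmL2 10 11)) = true := by decide +kernel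
theorem rel2_10_11_w_c1 : allR 7500 7500 (eqF lk (cmA Uid gT2 10 11) (cmB Uid gT2 cmL2 10 11)) = true := by decide +kernel
theorem rel2_10_11_w_c2 : allR 15000 7500 (eqF lk (cmA Uid gT2 10 11) (cmB Uid gT2 cmL2 10 11)) = true := by decide +kernel
theorem rel2_10_11_w_c3 : allR 22500 7500 (eqF lk (cmA Uid gT2 10 11) (cmB Uid gT2 cmL2 10 11)) = true := by decide +kernel
theorem rel2_10_11_w_c4 : allR 30000 1671 (eqF lk (cmA Uid gT2 10 11) (cmB Uid gT2 cmL2 10 11)) = true := by decide +kernel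
theorem rel2_10_11_w : eqWW lk nP (cmA Uid gT2 10 11) (cmB Uid gT2 cmL2 10 11) = true :=
  eqWW_of_eqF lk nP _ _ [(0, 7500), (7500, 7500), (15000, 7500), (22500, 7500), (30000, 1671)] (by decide) (AllChunks.cons rel2_10_11_w_c0 (AllChunks.cons rel2_10_11_w_c1 (AllChunks.cons rel2_10_11_w_c2 (AllChunks.cons rel2_10_11_w_c3 (AllChunks.cons rel2_10_11_w_c4 (AllChunks.nil))))))

theorem rel2_10_11 : relChk1 lk nP Uid 2 gT2 sqL2 cmL2 (10, 11) = true :=
  relChk1_off lk nP Uid 2 gT2 sqL2 cmL2 10 11 (by decide) rel2_10_11_w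

theorem rel2_10_12_w_c0 : allR 0 7500 (eqF lk (cmA Uid gT2 10 12) (cmB Uid gT2 cmL2 10 12)) = true := by decide +kernel
theorem rel2_10_12_w_c1 : allR 7500 7500 (eqF lk (cmA Uid gT2 10 12) (cmB Uid gT2 cmL2 10 12)) = true := by decide +kernel
theorem rel2_10_12_w_c2 : allR 15000 7500 (eqF lk (cmA Uid gT2 10 12) (cmB Uid gT2 cmL2 10 12)) = true := by decide +kernel
theorem rel2_10_12_w_c3 : allR 22500 7500 (eqF lk (cmA Uid gT2 10 12) (cmB Uid gT2 cmL2 10 12)) = true := by decide +kernel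
theorem rel2_10_12_w_c4 : allR 30000 1671 (eqF lk (cmA Uid gT2 10 12) (cmB Uid gT2 cmL2 10 12)) = true := by decide +kernel
theorem rel2_10_12_w : eqWW lk nP (cmA Uid gT2 10 12) (cmB Uid gT2 cmL2 10 12) = true :=
  eqWW_of_eqF lk nP _ _ [(0, 7500), (7500, 7500), (15000, 7500), (22500, 7500), (30000, 1671)] (by decide) (AllChunks.cons rel2_10_12_w_c0 (AllChunks.cons rel2_10_12_w_c1 (AllChunks.cons rel2_10_12_w_c2 (AllChunks.cons rel2_10_12_w_c3 (AllChunks.cons rel2_10_12_w_c4 (AllChunks.nil))))))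

theorem rel2_10_12 : relChk1 lk nP Uid 2 gT2 sqL2 cmL2 (10, 12) = true :=
  relChk1_off lk nP Uid 2 gT2 sqL2 cmL2 10 12 (by decide) rel2_10_12_w

theorem rel2_10_13_w_c0 : allR 0 7500 (eqF lk (cmA Uid gT2 10 13) (cmB Uid gT2 cmL2 10 13)) = true := by decide +kernel
theorem rel2_10_13_w_c1 : allR 7500 7500 (eqF lk (cmA Uid gT2 10 13) (cmB Uid gT2 cmL2 10 13)) = true := by decide +kernel
theorem rel2_10_13_w_c2 : allR 15000 7500 (eqF lk (cmA Uid gT2 10 13) (cmB Uid gT2 cmL2 10 13)) = true := by decide +kernel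
theorem rel2_10_13_w_c3 : allR 22500 7500 (eqF lk (cmA Uid gT2 10 13) (cmB Uid gT2 cmL2 10 13)) = true := by decide +kernel
theorem rel2_10_13_w_c4 : allR 30000 1671 (eqF lk (cmA Uid gT2 10 13) (cmB Uid gT2 cmL2 10 13)) = true := by decide +kernel
theorem rel2_10_13_w : eqWW lk nP (cmA Uid gT2 10 13) (cmB Uid gT2 cmL2 10 13) = true :=
  eqWW_of_eqF lk nP _ _ [(0, 7500), (7500, 7500), (15000, 7500), (22500, 7500), (30000, 1671)] (by decide) (AllChunks.cons rel2_10_13_w_c0 (AllChunks.cons rel2_10_13_w_c1 (AllChunks.cons rel2_10_13_w_c2 (AllChunks.cons rel2_10_13_w_c3 (AllChunks.cons rel2_10_13_w_c4 (AllChunks.nil))))))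

theorem rel2_10_13 : relChk1 lk nP Uid 2 gT2 sqL2 cmL2 (10, 13) = true :=
  relChk1_off lk nP Uid 2 gT2 sqL2 cmL2 10 13 (by decide) rel2_10_13_w

theorem rel2_10_14_w_c0 : allR 0 7500 (eqF lk (cmA Uid gT2 10 14) (cmB Uid gT2 cmL2 10 14)) = true := by decide +kernel
theorem rel2_10_14_w_c1 : allR 7500 7500 (eqF lk (cmA Uid gT2 10 14) (cmB Uid gT2 cmL2 10 14)) = true := by decide +kernel
theorem rel2_10_14_w_c2 : allR 15000 7500 (eqF lk (cmA Uid gT2 10 14) (cmB Uid gT2 cmL2 10 14)) = true := by decide +kernel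
theorem rel2_10_14_w_c3 : allR 22500 7500 (eqF lk (cmA Uid gT2 10 14) (cmB Uid gT2 cmL2 10 14)) = true := by decide +kernel
theorem rel2_10_14_w_c4 : allR 30000 1671 (eqF lk (cmA Uid gT2 10 14) (cmB Uid gT2 cmL2 10 14)) = true := by decide +kernel
theorem rel2_10_14_w : eqWW lk nP (cmA Uid gT2 10 14) (cmB Uid gT2 cmL2 10 14) = true :=
  eqWW_of_eqF lk nP _ _ [(0, 7500), (7500, 7500), (15000, 7500), (22500, 7500), (30000, 1671)] (by decide) (AllChunks.cons rel2_10_14_w_c0 (AllChunks.cons rel2_10_14_w_c1 (AllChunks.cons rel2_10_14_w_c2 (AllChunks.cons rel2_10_14_w_c3 (AllChunks.cons rel2_10_14_w_c4 (AllChunks.nil))))))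

theorem rel2_10_14 : relChk1 lk nP Uid 2 gT2 sqL2 cmL2 (10, 14) = true :=
  relChk1_off lk nP Uid 2 gT2 sqL2 cmL2 10 14 (by decide) rel2_10_14_w

theorem rel2_10_15_w_c0 : allR 0 7500 (eqF lk (cmA Uid gT2 10 15) (cmB Uid gT2 cmL2 10 15)) = true := by decide +kernel
theorem rel2_10_15_w_c1 : allR 7500 7500 (eqF lk (cmA Uid gT2 10 15) (cmB Uid gT2 cmL2 10 15)) = true := by decide +kernel
theorem rel2_10_15_w_c2 : allR 15000 7500 (eqF lk (cmA Uid gT2 10 15) (cmB Uid gT2 cmL2 10 15)) = true := by decide +kernel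
theorem rel2_10_15_w_c3 : allR 22500 7500 (eqF lk (cmA Uid gT2 10 15) (cmB Uid gT2 cmL2 10 15)) = true := by decide +kernel
theorem rel2_10_15_w_c4 : allR 30000 1671 (eqF lk (cmA Uid gT2 10 15) (cmB Uid gT2 cmL2 10 15)) = true := by decide +kernel
theorem rel2_10_15_w : eqWW lk nP (cmA Uid gT2 10 15) (cmB Uid gT2 cmL2 10 15) = true :=
  eqWW_of_eqF lk nP _ _ [(0, 7500), (7500, 7500), (15000, 7500), (22500, 7500), (30000, 1671)] (by decide) (AllChunks.cons rel2_10_15_w_c0 (AllChunks.cons rel2_10_15_w_c1 (AllChunks.cons rel2_10_15_w_c2 (AllChunks.cons rel2_10_15_w_c3 (AllChunks.cons rel2_10_15_w_c4 (AllChunks.nil))))))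

theorem rel2_10_15 : relChk1 lk nP Uid 2 gT2 sqL2 cmL2 (10, 15) = true :=
  relChk1_off lk nP Uid 2 gT2 sqL2 cmL2 10 15 (by decide) rel2_10_15_w

theorem rel2_10_16_w_c0 : allR 0 7500 (eqF lk (cmA Uid gT2 10 16) (cmB Uid gT2 cmL2 10 16)) = true := by decide +kernel
theorem rel2_10_16_w_c1 : allR 7500 7500 (eqF lk (cmA Uid gT2 10 16) (cmB Uid gT2 cmL2 10 16)) = true := by decide +kernel
theorem rel2_10_16_w_c2 : allR 15000 7500 (eqF lk (cmA Uid gT2 10 16) (cmB Uid gT2 cmL2 10 16)) = true := by decide +kernel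
theorem rel2_10_16_w_c3 : allR 22500 7500 (eqF lk (cmA Uid gT2 10 16) (cmB Uid gT2 cmL2 10 16)) = true := by decide +kernel
theorem rel2_10_16_w_c4 : allR 30000 1671 (eqF lk (cmA Uid gT2 10 16) (cmB Uid gT2 cmL2 10 16)) = true := by decide +kernel
theorem rel2_10_16_w : eqWW lk nP (cmA Uid gT2 10 16) (cmB Uid gT2 cmL2 10 16) = true :=
  eqWW_of_eqF lk nP _ _ [(0, 7500), (7500, 7500), (15000, 7500), (22500, 7500), (30000, 1671)] (by decide) (AllChunks.cons rel2_10_16_w_c0 (AllChunks.cons rel2_10_16_w_c1 (AllChunks.cons rel2_10_16_w_c2 (AllChunks.cons rel2_10_16_w_c3 (AllChunks.cons rel2_10_16_w_c4 (AllChunks.nil))))))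

theorem rel2_10_16 : relChk1 lk nP Uid 2 gT2 sqL2 cmL2 (10, 16) = true :=
  relChk1_off lk nP Uid 2 gT2 sqL2 cmL2 10 16 (by decide) rel2_10_16_w

theorem rel2_10_17_w_c0 : allR 0 7500 (eqF lk (cmA Uid gT2 10 17) (cmB Uid gT2 cmL2 10 17)) = true := by decide +kernel
theorem rel2_10_17_w_c1 : allR 7500 7500 (eqF lk (cmA Uid gT2 10 17) (cmB Uid gT2 cmL2 10 17)) = true := by decide +kernel
theorem rel2_10_17_w_c2 : allR 15000 7500 (eqF lk (cmA Uid gT2 10 17) (cmB Uid gT2 cmL2 10 17)) = true := by decide +kernel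
theorem rel2_10_17_w_c3 : allR 22500 7500 (eqF lk (cmA Uid gT2 10 17) (cmB Uid gT2 cmL2 10 17)) = true := by decide +kernel
theorem rel2_10_17_w_c4 : allR 30000 1671 (eqF lk (cmA Uid gT2 10 17) (cmB Uid gT2 cmL2 10 17)) = true := by decide +kernel
theorem rel2_10_17_w : eqWW lk nP (cmA Uid gT2 10 17) (cmB Uid gT2 cmL2 10 17) = true :=
  eqWW_of_eqF lk nP _ _ [(0, 7500), (7500, 7500), (15000, 7500), (22500, 7500), (30000, 1671)] (by decide) (AllChunks.cons rel2_10_17_w_c0 (AllChunks.cons rel2_10_17_w_c1 (AllChunks.cons rel2_10_17_w_c2 (AllChunks.cons rel2_10_17_w_c3 (AllChunks.cons rel2_10_17_w_c4 (AllChunks.nil))))))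

theorem rel2_10_17 : relChk1 lk nP Uid 2 gT2 sqL2 cmL2 (10, 17) = true :=
  relChk1_off lk nP Uid 2 gT2 sqL2 cmL2 10 17 (by decide) rel2_10_17_w

theorem rel2_11_11_w_c0 : allR 0 15000 (eqF lk (sqA Uid 2 gT2 11) (sqB Uid gT2 sqL2 11)) = true := by decide +kernel
theorem rel2_11_11_w_c1 : allR 15000 15000 (eqF lk (sqA Uid 2 gT2 11) (sqB Uid gT2 sqL2 11)) = true := by decide +kernel
theorem rel2_11_11_w_c2 : allR 30000 1671 (eqF lk (sqA Uid 2 gT2 11) (sqB Uid gT2 sqL2 11)) = true := by decide +kernel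
theorem rel2_11_11_w : eqWW lk nP (sqA Uid 2 gT2 11) (sqB Uid gT2 sqL2 11) = true :=
  eqWW_of_eqF lk nP _ _ [(0, 15000), (15000, 15000), (30000, 1671)] (by decide) (AllChunks.cons rel2_11_11_w_c0 (AllChunks.cons rel2_11_11_w_c1 (AllChunks.cons rel2_11_11_w_c2 (AllChunks.nil))))

theorem rel2_11_11 : relChk1 lk nP Uid 2 gT2 sqL2 cmL2 (11, 11) = true :=
  relChk1_diag lk nP Uid 2 gT2 sqL2 cmL2 11 rel2_11_11_w

theorem rel2_11_12_w_c0 : allR 0 7500 (eqF lk (cmA Uid gT2 11 12) (cmB Uid gT2 cmL2 11 12)) = true := by decide +kernel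
theorem rel2_11_12_w_c1 : allR 7500 7500 (eqF lk (cmA Uid gT2 11 12) (cmB Uid gT2 cmL2 11 12)) = true := by decide +kernel
theorem rel2_11_12_w_c2 : allR 15000 7500 (eqF lk (cmA Uid gT2 11 12) (cmB Uid gT2 cmL2 11 12)) = true := by decide +kernel
theorem rel2_11_12_w_c3 : allR 22500 7500 (eqF lk (cmA Uid gT2 11 12) (cmB Uid gT2 cmL2 11 12)) = true := by decide +kernel
theorem rel2_11_12_w_c4 : allR 30000 1671 (eqF lk (cmA Uid gT2 11 12) (cmB Uid gT2 cmL2 11 12)) = true := by decide +kernel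
theorem rel2_11_12_w : eqWW lk nP (cmA Uid gT2 11 12) (cmB Uid gT2 cmL2 11 12) = true :=
  eqWW_of_eqF lk nP _ _ [(0, 7500), (7500, 7500), (15000, 7500), (22500, 7500), (30000, 1671)] (by decide) (AllChunks.cons rel2_11_12_w_c0 (AllChunks.cons rel2_11_12_w_c1 (AllChunks.cons rel2_11_12_w_c2 (AllChunks.cons rel2_11_12_w_c3 (AllChunks.cons rel2_11_12_w_c4 (AllChunks.nil))))))

theorem rel2_11_12 : relChk1 lk nP Uid 2 gT2 sqL2 cmL2 (11, 12) = true :=
  relChk1_off lk nP Uid 2 gT2 sqL2 cmL2 11 12 (by decide) rel2_11_12_w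

theorem rel2_11_13_w_c0 : allR 0 7500 (eqF lk (cmA Uid gT2 11 13) (cmB Uid gT2 cmL2 11 13)) = true := by decide +kernel
theorem rel2_11_13_w_c1 : allR 7500 7500 (eqF lk (cmA Uid gT2 11 13) (cmB Uid gT2 cmL2 11 13)) = true := by decide +kernel
theorem rel2_11_13_w_c2 : allR 15000 7500 (eqF lk (cmA Uid gT2 11 13) (cmB Uid gT2 cmL2 11 13)) = true := by decide +kernel
theorem rel2_11_13_w_c3 : allR 22500 7500 (eqF lk (cmA Uid gT2 11 13) (cmB Uid gT2 cmL2 11 13)) = true := by decide +kernel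
theorem rel2_11_13_w_c4 : allR 30000 1671 (eqF lk (cmA Uid gT2 11 13) (cmB Uid gT2 cmL2 11 13)) = true := by decide +kernel
theorem rel2_11_13_w : eqWW lk nP (cmA Uid gT2 11 13) (cmB Uid gT2 cmL2 11 13) = true :=
  eqWW_of_eqF lk nP _ _ [(0, 7500), (7500, 7500), (15000, 7500), (22500, 7500), (30000, 1671)] (by decide) (AllChunks.cons rel2_11_13_w_c0 (AllChunks.cons rel2_11_13_w_c1 (AllChunks.cons rel2_11_13_w_c2 (AllChunks.cons rel2_11_13_w_c3 (AllChunks.cons rel2_11_13_w_c4 (AllChunks.nil))))))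

theorem rel2_11_13 : relChk1 lk nP Uid 2 gT2 sqL2 cmL2 (11, 13) = true :=
  relChk1_off lk nP Uid 2 gT2 sqL2 cmL2 11 13 (by decide) rel2_11_13_w

theorem rel2_11_14_w_c0 : allR 0 7500 (eqF lk (cmA Uid gT2 11 14) (cmB Uid gT2 cmL2 11 14)) = true := by decide +kernel
theorem rel2_11_14_w_c1 : allR 7500 7500 (eqF lk (cmA Uid gT2 11 14) (cmB Uid gT2 cmL2 11 14)) = true := by decide +kernel
theorem rel2_11_14_w_c2 : allR 15000 7500 (eqF lk (cmA Uid gT2 11 14) (cmB Uid gT2 cmL2 11 14)) = true := by decide +kernel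
theorem rel2_11_14_w_c3 : allR 22500 7500 (eqF lk (cmA Uid gT2 11 14) (cmB Uid gT2 cmL2 11 14)) = true := by decide +kernel
theorem rel2_11_14_w_c4 : allR 30000 1671 (eqF lk (cmA Uid gT2 11 14) (cmB Uid gT2 cmL2 11 14)) = true := by decide +kernel
theorem rel2_11_14_w : eqWW lk nP (cmA Uid gT2 11 14) (cmB Uid gT2 cmL2 11 14) = true :=
  eqWW_of_eqF lk nP _ _ [(0, 7500), (7500, 7500), (15000, 7500), (22500, 7500), (30000, 1671)] (by decide) (AllChunks.cons rel2_11_14_w_c0 (AllChunks.cons rel2_11_14_w_c1 (AllChunks.cons rel2_11_14_w_c2 (AllChunks.cons rel2_11_14_w_c3 (AllChunks.cons rel2_11_14_w_c4 (AllChunks.nil))))))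

theorem rel2_11_14 : relChk1 lk nP Uid 2 gT2 sqL2 cmL2 (11, 14) = true :=
  relChk1_off lk nP Uid 2 gT2 sqL2 cmL2 11 14 (by decide) rel2_11_14_w

theorem rel2_11_15_w_c0 : allR 0 7500 (eqF lk (cmA Uid gT2 11 15) (cmB Uid gT2 cmL2 11 15)) = true := by decide +kernel
theorem rel2_11_15_w_c1 : allR 7500 7500 (eqF lk (cmA Uid gT2 11 15) (cmB Uid gT2 cmL2 11 15)) = true := by decide +kernel
theorem rel2_11_15_w_c2 : allR 15000 7500 (eqF lk (cmA Uid gT2 11 15) (cmB Uid gT2 cmL2 11 15)) = true := by decide +kernel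
theorem rel2_11_15_w_c3 : allR 22500 7500 (eqF lk (cmA Uid gT2 11 15) (cmB Uid gT2 cmL2 11 15)) = true := by decide +kernel
theorem rel2_11_15_w_c4 : allR 30000 1671 (eqF lk (cmA Uid gT2 11 15) (cmB Uid gT2 cmL2 11 15)) = true := by decide +kernel
theorem rel2_11_15_w : eqWW lk nP (cmA Uid gT2 11 15) (cmB Uid gT2 cmL2 11 15) = true :=
  eqWW_of_eqF lk nP _ _ [(0, 7500), (7500, 7500), (15000, 7500), (22500, 7500), (30000, 1671)] (by decide) (AllChunks.cons rel2_11_15_w_c0 (AllChunks.cons rel2_11_15_w_c1 (AllChunks.cons rel2_11_15_w_c2 (AllChunks.cons rel2_11_15_w_c3 (AllChunks.cons rel2_11_15_w_c4 (AllChunks.nil))))))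

theorem rel2_11_15 : relChk1 lk nP Uid 2 gT2 sqL2 cmL2 (11, 15) = true :=
  relChk1_off lk nP Uid 2 gT2 sqL2 cmL2 11 15 (by decide) rel2_11_15_w

theorem rel2_11_16_w_c0 : allR 0 7500 (eqF lk (cmA Uid gT2 11 16) (cmB Uid gT2 cmL2 11 16)) = true := by decide +kernel
theorem rel2_11_16_w_c1 : allR 7500 7500 (eqF lk (cmA Uid gT2 11 16) (cmB Uid gT2 cmL2 11 16)) = true := by decide +kernel
theorem rel2_11_16_w_c2 : allR 15000 7500 (eqF lk (cmA Uid gT2 11 16) (cmB Uid gT2 cmL2 11 16)) = true := by decide +kernel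
theorem rel2_11_16_w_c3 : allR 22500 7500 (eqF lk (cmA Uid gT2 11 16) (cmB Uid gT2 cmL2 11 16)) = true := by decide +kernel
theorem rel2_11_16_w_c4 : allR 30000 1671 (eqF lk (cmA Uid gT2 11 16) (cmB Uid gT2 cmL2 11 16)) = true := by decide +kernel
theorem rel2_11_16_w : eqWW lk nP (cmA Uid gT2 11 16) (cmB Uid gT2 cmL2 11 16) = true :=
  eqWW_of_eqF lk nP _ _ [(0, 7500), (7500, 7500), (15000, 7500), (22500, 7500), (30000, 1671)] (by decide) (AllChunks.cons rel2_11_16_w_c0 (AllChunks.cons rel2_11_16_w_c1 (AllChunks.cons rel2_11_16_w_c2 (AllChunks.cons rel2_11_16_w_c3 (AllChunks.cons rel2_11_16_w_c4 (AllChunks.nil))))))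

theorem rel2_11_16 : relChk1 lk nP Uid 2 gT2 sqL2 cmL2 (11, 16) = true :=
  relChk1_off lk nP Uid 2 gT2 sqL2 cmL2 11 16 (by decide) rel2_11_16_w

theorem rel2_11_17_w_c0 : allR 0 7500 (eqF lk (cmA Uid gT2 11 17) (cmB Uid gT2 cmL2 11 17)) = true := by decide +kernel
theorem rel2_11_17_w_c1 : allR 7500 7500 (eqF lk (cmA Uid gT2 11 17) (cmB Uid gT2 cmL2 11 17)) = true := by decide +kernel
theorem rel2_11_17_w_c2 : allR 15000 7500 (eqF lk (cmA Uid gT2 11 17) (cmB Uid gT2 cmL2 11 17)) = true := by decide +kernel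
theorem rel2_11_17_w_c3 : allR 22500 7500 (eqF lk (cmA Uid gT2 11 17) (cmB Uid gT2 cmL2 11 17)) = true := by decide +kernel
theorem rel2_11_17_w_c4 : allR 30000 1671 (eqF lk (cmA Uid gT2 11 17) (cmB Uid gT2 cmL2 11 17)) = true := by decide +kernel
theorem rel2_11_17_w : eqWW lk nP (cmA Uid gT2 11 17) (cmB Uid gT2 cmL2 11 17) = true :=
  eqWW_of_eqF lk nP _ _ [(0, 7500), (7500, 7500), (15000, 7500), (22500, 7500), (30000, 1671)] (by decide) (AllChunks.cons rel2_11_17_w_c0 (AllChunks.cons rel2_11_17_w_c1 (AllChunks.cons rel2_11_17_w_c2 (AllChunks.cons rel2_11_17_w_c3 (AllChunks.cons rel2_11_17_w_c4 (AllChunks.nil))))))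

theorem rel2_11_17 : relChk1 lk nP Uid 2 gT2 sqL2 cmL2 (11, 17) = true :=
  relChk1_off lk nP Uid 2 gT2 sqL2 cmL2 11 17 (by decide) rel2_11_17_w

theorem rel2_12_12_w_c0 : allR 0 15000 (eqF lk (sqA Uid 2 gT2 12) (sqB Uid gT2 sqL2 12)) = true := by decide +kernel
theorem rel2_12_12_w_c1 : allR 15000 15000 (eqF lk (sqA Uid 2 gT2 12) (sqB Uid gT2 sqL2 12)) = true := by decide +kernel
theorem rel2_12_12_w_c2 : allR 30000 1671 (eqF lk (sqA Uid 2 gT2 12) (sqB Uid gT2 sqL2 12)) = true := by decide +kernel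
theorem rel2_12_12_w : eqWW lk nP (sqA Uid 2 gT2 12) (sqB Uid gT2 sqL2 12) = true :=
  eqWW_of_eqF lk nP _ _ [(0, 15000), (15000, 15000), (30000, 1671)] (by decide) (AllChunks.cons rel2_12_12_w_c0 (AllChunks.cons rel2_12_12_w_c1 (AllChunks.cons rel2_12_12_w_c2 (AllChunks.nil))))

theorem rel2_12_12 : relChk1 lk nP Uid 2 gT2 sqL2 cmL2 (12, 12) = true :=
  relChk1_diag lk nP Uid 2 gT2 sqL2 cmL2 12 rel2_12_12_w

theorem rel2_12_13_w_c0 : allR 0 7500 (eqF lk (cmA Uid gT2 12 13) (cmB Uid gT2 cmL2 12 13)) = true := by decide +kernel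
theorem rel2_12_13_w_c1 : allR 7500 7500 (eqF lk (cmA Uid gT2 12 13) (cmB Uid gT2 cmL2 12 13)) = true := by decide +kernel
theorem rel2_12_13_w_c2 : allR 15000 7500 (eqF lk (cmA Uid gT2 12 13) (cmB Uid gT2 cmL2 12 13)) = true := by decide +kernel
theorem rel2_12_13_w_c3 : allR 22500 7500 (eqF lk (cmA Uid gT2 12 13) (cmB Uid gT2 cmL2 12 13)) = true := by decide +kernel
theorem rel2_12_13_w_c4 : allR 30000 1671 (eqF lk (cmA Uid gT2 12 13) (cmB Uid gT2 cmL2 12 13)) = true := by decide +kernel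
theorem rel2_12_13_w : eqWW lk nP (cmA Uid gT2 12 13) (cmB Uid gT2 cmL2 12 13) = true :=
  eqWW_of_eqF lk nP _ _ [(0, 7500), (7500, 7500), (15000, 7500), (22500, 7500), (30000, 1671)] (by decide) (AllChunks.cons rel2_12_13_w_c0 (AllChunks.cons rel2_12_13_w_c1 (AllChunks.cons rel2_12_13_w_c2 (AllChunks.cons rel2_12_13_w_c3 (AllChunks.cons rel2_12_13_w_c4 (AllChunks.nil))))))

theorem rel2_12_13 : relChk1 lk nP Uid 2 gT2 sqL2 cmL2 (12, 13) = true :=
  relChk1_off lk nP Uid 2 gT2 sqL2 cmL2 12 13 (by decide) rel2_12_13_w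

theorem rel2_12_14_w_c0 : allR 0 7500 (eqF lk (cmA Uid gT2 12 14) (cmB Uid gT2 cmL2 12 14)) = true := by decide +kernel
theorem rel2_12_14_w_c1 : allR 7500 7500 (eqF lk (cmA Uid gT2 12 14) (cmB Uid gT2 cmL2 12 14)) = true := by decide +kernel
theorem rel2_12_14_w_c2 : allR 15000 7500 (eqF lk (cmA Uid gT2 12 14) (cmB Uid gT2 cmL2 12 14)) = true := by decide +kernel
theorem rel2_12_14_w_c3 : allR 22500 7500 (eqF lk (cmA Uid gT2 12 14) (cmB Uid gT2 cmL2 12 14)) = true := by decide +kernel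
theorem rel2_12_14_w_c4 : allR 30000 1671 (eqF lk (cmA Uid gT2 12 14) (cmB Uid gT2 cmL2 12 14)) = true := by decide +kernel
theorem rel2_12_14_w : eqWW lk nP (cmA Uid gT2 12 14) (cmB Uid gT2 cmL2 12 14) = true :=
  eqWW_of_eqF lk nP _ _ [(0, 7500), (7500, 7500), (15000, 7500), (22500, 7500), (30000, 1671)] (by decide) (AllChunks.cons rel2_12_14_w_c0 (AllChunks.cons rel2_12_14_w_c1 (AllChunks.cons rel2_12_14_w_c2 (AllChunks.cons rel2_12_14_w_c3 (AllChunks.cons rel2_12_14_w_c4 (AllChunks.nil))))))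

theorem rel2_12_14 : relChk1 lk nP Uid 2 gT2 sqL2 cmL2 (12, 14) = true :=
  relChk1_off lk nP Uid 2 gT2 sqL2 cmL2 12 14 (by decide) rel2_12_14_w

theorem rel2_12_15_w_c0 : allR 0 7500 (eqF lk (cmA Uid gT2 12 15) (cmB Uid gT2 cmL2 12 15)) = true := by decide +kernel
theorem rel2_12_15_w_c1 : allR 7500 7500 (eqF lk (cmA Uid gT2 12 15) (cmB Uid gT2 cmL2 12 15)) = true := by decide +kernel
theorem rel2_12_15_w_c2 : allR 15000 7500 (eqF lk (cmA Uid gT2 12 15) (cmB Uid gT2 cmL2 12 15)) = true := by decide +kernel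
theorem rel2_12_15_w_c3 : allR 22500 7500 (eqF lk (cmA Uid gT2 12 15) (cmB Uid gT2 cmL2 12 15)) = true := by decide +kernel
theorem rel2_12_15_w_c4 : allR 30000 1671 (eqF lk (cmA Uid gT2 12 15) (cmB Uid gT2 cmL2 12 15)) = true := by decide +kernel
theorem rel2_12_15_w : eqWW lk nP (cmA Uid gT2 12 15) (cmB Uid gT2 cmL2 12 15) = true :=
  eqWW_of_eqF lk nP _ _ [(0, 7500), (7500, 7500), (15000, 7500), (22500, 7500), (30000, 1671)] (by decide) (AllChunks.cons rel2_12_15_w_c0 (AllChunks.cons rel2_12_15_w_c1 (AllChunks.cons rel2_12_15_w_c2 (AllChunks.cons rel2_12_15_w_c3 (AllChunks.cons rel2_12_15_w_c4 (AllChunks.nil))))))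

theorem rel2_12_15 : relChk1 lk nP Uid 2 gT2 sqL2 cmL2 (12, 15) = true :=
  relChk1_off lk nP Uid 2 gT2 sqL2 cmL2 12 15 (by decide) rel2_12_15_w

theorem rel2_12_16_w_c0 : allR 0 7500 (eqF lk (cmA Uid gT2 12 16) (cmB Uid gT2 cmL2 12 16)) = true := by decide +kernel
theorem rel2_12_16_w_c1 : allR 7500 7500 (eqF lk (cmA Uid gT2 12 16) (cmB Uid gT2 cmL2 12 16)) = true := by decide +kernel
theorem rel2_12_16_w_c2 : allR 15000 7500 (eqF lk (cmA Uid gT2 12 16) (cmB Uid gT2 cmL2 12 16)) = true := by decide +kernel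
theorem rel2_12_16_w_c3 : allR 22500 7500 (eqF lk (cmA Uid gT2 12 16) (cmB Uid gT2 cmL2 12 16)) = true := by decide +kernel
theorem rel2_12_16_w_c4 : allR 30000 1671 (eqF lk (cmA Uid gT2 12 16) (cmB Uid gT2 cmL2 12 16)) = true := by decide +kernel
theorem rel2_12_16_w : eqWW lk nP (cmA Uid gT2 12 16) (cmB Uid gT2 cmL2 12 16) = true :=
  eqWW_of_eqF lk nP _ _ [(0, 7500), (7500, 7500), (15000, 7500), (22500, 7500), (30000, 1671)] (by decide) (AllChunks.cons rel2_12_16_w_c0 (AllChunks.cons rel2_12_16_w_c1 (AllChunks.cons rel2_12_16_w_c2 (AllChunks.cons rel2_12_16_w_c3 (AllChunks.cons rel2_12_16_w_c4 (AllChunks.nil))))))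

theorem rel2_12_16 : relChk1 lk nP Uid 2 gT2 sqL2 cmL2 (12, 16) = true :=
  relChk1_off lk nP Uid 2 gT2 sqL2 cmL2 12 16 (by decide) rel2_12_16_w

theorem relpart2x6_ok : relsPart lk nP Uid 2 gT2 sqL2 cmL2 relpart2x6 = true :=
  relsPart_of_allRel _ (AllRel.cons rel2_9_10 (AllRel.cons rel2_9_11 (AllRel.cons rel2_9_12 (AllRel.cons rel2_9_13 (AllRel.cons rel2_9_14 (AllRel.cons rel2_9_15 (AllRel.cons rel2_9_16 (AllRel.cons rel2_9_17 (AllRel.cons rel2_10_10 (AllRel.cons rel2_10_11 (AllRel.cons rel2_10_12 (AllRel.cons rel2_10_13 (AllRel.cons rel2_10_14 (AllRel.cons rel2_10_15 (AllRel.cons rel2_10_16 (AllRel.cons rel2_10_17 (AllRel.cons rel2_11_11 (AllRel.cons rel2_11_12 (AllRel.cons rel2_11_13 (AllRel.cons rel2_11_14 (AllRel.cons rel2_11_15 (AllRel.cons rel2_11_16 (AllRel.cons rel2_11_17 (AllRel.cons rel2_12_12 (AllRel.cons rel2_12_13 (AllRel.cons rel2_12_14 (AllRel.cons rel2_12_15 (AllRel.cons rel2_12_16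 (AllRel.nil lk nP Uid 2 gT2 sqL2 cmL2)))))))))))))))))))))))))))))

end Cfsg.Agent.Lib.Helper28.Fi
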