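import Mathlib
import Cfsg.Agent.Lib.Helper28.Fi.Core
import Cfsg.Agent.Lib.Helper28.Fi.Chunk
import Cfsg.Agent.Lib.Helper28.Fi.Rel
import Cfsg.Agent.Lib.Helper28.Fi.Lists
import Cfsg.Agent.Lib.Helper28.Fi.Data2

set_option autoImplicit false
set_option maxRecDepth 1000000
set_option Elab.async false

/-! Checks of the relations of a Sylow 2-subgroup of Fi23, part 7 (generated). -/

namespace Cfsg.Agent.Lib.Helper28.Fi

open Cfsg.Agent.Lib.Helper5.CP Cfsg.Agent.Lib.Helper5.PcP Cfsg.Agent.Lib.Helper5.PcT Cfsg.Agent.Lib.Helper12.TC.Fi23o31671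

theorem rel2_12_17_w_c0 : allR 0 7500 (eqF lk (cmA Uid gT2 12 17) (cmB Uid gT2 cmL2 12 17)) = true := by decide +kernel
theorem rel2_12_17_w_c1 : allR 7500 7500 (eqF lk (cmA Uid gT2 12 17) (cmB Uid gT2 cmL2 12 17)) = true := by decide +kernel
theorem rel2_12_17_w_c2 : allR 15000 7500 (eqF lk (cmA Uid gT2 12 17) (cmB Uid gT2 cmL2 12 17)) = true := by decide +kernel
theorem rel2_12_17_w_c3 : allR 22500 7500 (eqF lk (cmA Uid gT2 12 17) (cmB Uid gT2 cmL2 12 17)) = true := by decide +kernel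
theorem rel2_12_17_w_c4 : allR 30000 1671 (eqF lk (cmA Uid gT2 12 17) (cmB Uid gT2 cmL2 12 17)) = true := by decide +kernel
theorem rel2_12_17_w : eqWW lk nP (cmA Uid gT2 12 17) (cmB Uid gT2 cmL2 12 17) = true :=
  eqWW_of_eqF lk nP _ _ [(0, 7500), (7500, 7500), (15000, 7500), (22500, 7500), (30000, 1671)] (by decide) (AllChunks.cons rel2_12_17_w_c0 (AllChunks.cons rel2_12_17_w_c1 (AllChunks.cons rel2_12_17_w_c2 (AllChunks.cons rel2_12_17_w_c3 (AllChunks.cons rel2_12_17_w_c4 (AllChunks.nil))))))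

theorem rel2_12_17 : relChk1 lk nP Uid 2 gT2 sqL2 cmL2 (12, 17) = true :=
  relChk1_off lk nP Uid 2 gT2 sqL2 cmL2 12 17 (by decide) rel2_12_17_w

theorem rel2_13_13_w_c0 : allR 0 15000 (eqF lk (sqA Uid 2 gT2 13) (sqB Uid gT2 sqL2 13)) = true := by decide +kernel
theorem rel2_13_13_w_c1 : allR 15000 15000 (eqF lk (sqA Uid 2 gT2 13) (sqB Uid gT2 sqL2 13)) = true := by decide +kernel
theorem rel2_13_13_w_c2 : allR 30000 1671 (eqF lk (sqA Uid 2 gT2 13) (sqB Uid gT2 sqL2 13)) = true := by decide +kernel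
theorem rel2_13_13_w : eqWW lk nP (sqA Uid 2 gT2 13) (sqB Uid gT2 sqL2 13) = true :=
  eqWW_of_eqF lk nP _ _ [(0, 15000), (15000, 15000), (30000, 1671)] (by decide) (AllChunks.cons rel2_13_13_w_c0 (AllChunks.cons rel2_13_13_w_c1 (AllChunks.cons rel2_13_13_w_c2 (AllChunks.nil))))

theorem rel2_13_13 : relChk1 lk nP Uid 2 gT2 sqL2 cmL2 (13, 13) = true :=
  relChk1_diag lk nP Uid 2 gT2 sqL2 cmL2 13 rel2_13_13_w

theorem rel2_13_14_w_c0 : allR 0 7500 (eqF lk (cmA Uid gT2 13 14) (cmB Uid gT2 cmL2 13 14)) = true := by decide +kernel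
theorem rel2_13_14_w_c1 : allR 7500 7500 (eqF lk (cmA Uid gT2 13 14) (cmB Uid gT2 cmL2 13 14)) = true := by decide +kernel
theorem rel2_13_14_w_c2 : allR 15000 7500 (eqF lk (cmA Uid gT2 13 14) (cmB Uid gT2 cmL2 13 14)) = true := by decide +kernel
theorem rel2_13_14_w_c3 : allR 22500 7500 (eqF lk (cmA Uid gT2 13 14) (cmB Uid gT2 cmL2 13 14)) = true := by decide +kernel
theorem rel2_13_14_w_c4 : allR 30000 1671 (eqF lk (cmA Uid gT2 13 14) (cmB Uid gT2 cmL2 13 14)) = true := by decide +kernel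
theorem rel2_13_14_w : eqWW lk nP (cmA Uid gT2 13 14) (cmB Uid gT2 cmL2 13 14) = true :=
  eqWW_of_eqF lk nP _ _ [(0, 7500), (7500, 7500), (15000, 7500), (22500, 7500), (30000, 1671)] (by decide) (AllChunks.cons rel2_13_14_w_c0 (AllChunks.cons rel2_13_14_w_c1 (AllChunks.cons rel2_13_14_w_c2 (AllChunks.cons rel2_13_14_w_c3 (AllChunks.cons rel2_13_14_w_c4 (AllChunks.nil))))))

theorem rel2_13_14 : relChk1 lk nP Uid 2 gT2 sqL2 cmL2 (13, 14) = true :=
  relChk1_off lk nP Uid 2 gT2 sqL2 cmL2 13 14 (by decide) rel2_13_14_w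

theorem rel2_13_15_w_c0 : allR 0 7500 (eqF lk (cmA Uid gT2 13 15) (cmB Uid gT2 cmL2 13 15)) = true := by decide +kernel
theorem rel2_13_15_w_c1 : allR 7500 7500 (eqF lk (cmA Uid gT2 13 15) (cmB Uid gT2 cmL2 13 15)) = true := by decide +kernel
theorem rel2_13_15_w_c2 : allR 15000 7500 (eqF lk (cmA Uid gT2 13 15) (cmB Uid gT2 cmL2 13 15)) = true := by decide +kernel
theorem rel2_13_15_w_c3 : allR 22500 7500 (eqF lk (cmA Uid gT2 13 15) (cmB Uid gT2 cmL2 13 15)) = true := by decide +kernel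
theorem rel2_13_15_w_c4 : allR 30000 1671 (eqF lk (cmA Uid gT2 13 15) (cmB Uid gT2 cmL2 13 15)) = true := by decide +kernel
theorem rel2_13_15_w : eqWW lk nP (cmA Uid gT2 13 15) (cmB Uid gT2 cmL2 13 15) = true :=
  eqWW_of_eqF lk nP _ _ [(0, 7500), (7500, 7500), (15000, 7500), (22500, 7500), (30000, 1671)] (by decide) (AllChunks.cons rel2_13_15_w_c0 (AllChunks.cons rel2_13_15_w_c1 (AllChunks.cons rel2_13_15_w_c2 (AllChunks.cons rel2_13_15_w_c3 (AllChunks.cons rel2_13_15_w_c4 (AllChunks.nil))))))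

theorem rel2_13_15 : relChk1 lk nP Uid 2 gT2 sqL2 cmL2 (13, 15) = true :=
  relChk1_off lk nP Uid 2 gT2 sqL2 cmL2 13 15 (by decide) rel2_13_15_w

theorem rel2_13_16_w_c0 : allR 0 7500 (eqF lk (cmA Uid gT2 13 16) (cmB Uid gT2 cmL2 13 16)) = true := by decide +kernel
theorem rel2_13_16_w_c1 : allR 7500 7500 (eqF lk (cmA Uid gT2 13 16) (cmB Uid gT2 cmL2 13 16)) = true := by decide +kernel
theorem rel2_13_16_w_c2 : allR 15000 7500 (eqF lk (cmA Uid gT2 13 16) (cmB Uid gT2 cmL2 13 16)) = true := by decide +kernel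
theorem rel2_13_16_w_c3 : allR 22500 7500 (eqF lk (cmA Uid gT2 13 16) (cmB Uid gT2 cmL2 13 16)) = true := by decide +kernel
theorem rel2_13_16_w_c4 : allR 30000 1671 (eqF lk (cmA Uid gT2 13 16) (cmB Uid gT2 cmL2 13 16)) = true := by decide +kernel
theorem rel2_13_16_w : eqWW lk nP (cmA Uid gT2 13 16) (cmB Uid gT2 cmL2 13 16) = true :=
  eqWW_of_eqF lk nP _ _ [(0, 7500), (7500, 7500), (15000, 7500), (22500, 7500), (30000, 1671)] (by decide) (AllChunks.cons rel2_13_16_w_c0 (AllChunks.cons rel2_13_16_w_c1 (AllChunks.cons rel2_13_16_w_c2 (AllChunks.cons rel2_13_16_w_c3 (AllChunks.cons rel2_13_16_w_c4 (AllChunks.nil))))))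

theorem rel2_13_16 : relChk1 lk nP Uid 2 gT2 sqL2 cmL2 (13, 16) = true :=
  relChk1_off lk nP Uid 2 gT2 sqL2 cmL2 13 16 (by decide) rel2_13_16_w

theorem rel2_13_17_w_c0 : allR 0 7500 (eqF lk (cmA Uid gT2 13 17) (cmB Uid gT2 cmL2 13 17)) = true := by decide +kernel
theorem rel2_13_17_w_c1 : allR 7500 7500 (eqF lk (cmA Uid gT2 13 17) (cmB Uid gT2 cmL2 13 17)) = true := by decide +kernel
theorem rel2_13_17_w_c2 : allR 15000 7500 (eqF lk (cmA Uid gT2 13 17) (cmB Uid gT2 cmL2 13 17)) = true := by decide +kernel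
theorem rel2_13_17_w_c3 : allR 22500 7500 (eqF lk (cmA Uid gT2 13 17) (cmB Uid gT2 cmL2 13 17)) = true := by decide +kernel
theorem rel2_13_17_w_c4 : allR 30000 1671 (eqF lk (cmA Uid gT2 13 17) (cmB Uid gT2 cmL2 13 17)) = true := by decide +kernel
theorem rel2_13_17_w : eqWW lk nP (cmA Uid gT2 13 17) (cmB Uid gT2 cmL2 13 17) = true :=
  eqWW_of_eqF lk nP _ _ [(0, 7500), (7500, 7500), (15000, 7500), (22500, 7500), (30000, 1671)] (by decide) (AllChunks.cons rel2_13_17_w_c0 (AllChunks.cons rel2_13_17_w_c1 (AllChunks.cons rel2_13_17_w_c2 (AllChunks.cons rel2_13_17_w_c3 (AllChunks.cons rel2_13_17_w_c4 (AllChunks.nil))))))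

theorem rel2_13_17 : relChk1 lk nP Uid 2 gT2 sqL2 cmL2 (13, 17) = true :=
  relChk1_off lk nP Uid 2 gT2 sqL2 cmL2 13 17 (by decide) rel2_13_17_w

theorem rel2_14_14_w_c0 : allR 0 15000 (eqF lk (sqA Uid 2 gT2 14) (sqB Uid gT2 sqL2 14)) = true := by decide +kernel
theorem rel2_14_14_w_c1 : allR 15000 15000 (eqF lk (sqA Uid 2 gT2 14) (sqB Uid gT2 sqL2 14)) = true := by decide +kernel
theorem rel2_14_14_w_c2 : allR 30000 1671 (eqF lk (sqA Uid 2 gT2 14) (sqB Uid gT2 sqL2 14)) = true := by decide +kernel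
theorem rel2_14_14_w : eqWW lk nP (sqA Uid 2 gT2 14) (sqB Uid gT2 sqL2 14) = true :=
  eqWW_of_eqF lk nP _ _ [(0, 15000), (15000, 15000), (30000, 1671)] (by decide) (AllChunks.cons rel2_14_14_w_c0 (AllChunks.cons rel2_14_14_w_c1 (AllChunks.cons rel2_14_14_w_c2 (AllChunks.nil))))

theorem rel2_14_14 : relChk1 lk nP Uid 2 gT2 sqL2 cmL2 (14, 14) = true :=
  relChk1_diag lk nP Uid 2 gT2 sqL2 cmL2 14 rel2_14_14_w

theorem rel2_14_15_w_c0 : allR 0 7500 (eqF lk (cmA Uid gT2 14 15) (cmB Uid gT2 cmL2 14 15)) = true := by decide +kernel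
theorem rel2_14_15_w_c1 : allR 7500 7500 (eqF lk (cmA Uid gT2 14 15) (cmB Uid gT2 cmL2 14 15)) = true := by decide +kernel
theorem rel2_14_15_w_c2 : allR 15000 7500 (eqF lk (cmA Uid gT2 14 15) (cmB Uid gT2 cmL2 14 15)) = true := by decide +kernel
theorem rel2_14_15_w_c3 : allR 22500 7500 (eqF lk (cmA Uid gT2 14 15) (cmB Uid gT2 cmL2 14 15)) = true := by decide +kernel
theorem rel2_14_15_w_c4 : allR 30000 1671 (eqF lk (cmA Uid gT2 14 15) (cmB Uid gT2 cmL2 14 15)) = true := by decide +kernel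
theorem rel2_14_15_w : eqWW lk nP (cmA Uid gT2 14 15) (cmB Uid gT2 cmL2 14 15) = true :=
  eqWW_of_eqF lk nP _ _ [(0, 7500), (7500, 7500), (15000, 7500), (22500, 7500), (30000, 1671)] (by decide) (AllChunks.cons rel2_14_15_w_c0 (AllChunks.cons rel2_14_15_w_c1 (AllChunks.cons rel2_14_15_w_c2 (AllChunks.cons rel2_14_15_w_c3 (AllChunks.cons rel2_14_15_w_c4 (AllChunks.nil))))))

theorem rel2_14_15 : relChk1 lk nP Uid 2 gT2 sqL2 cmL2 (14, 15) = true :=
  relChk1_off lk nP Uid 2 gT2 sqL2 cmL2 14 15 (by decide) rel2_14_15_w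

theorem rel2_14_16_w_c0 : allR 0 7500 (eqF lk (cmA Uid gT2 14 16) (cmB Uid gT2 cmL2 14 16)) = true := by decide +kernel
theorem rel2_14_16_w_c1 : allR 7500 7500 (eqF lk (cmA Uid gT2 14 16) (cmB Uid gT2 cmL2 14 16)) = true := by decide +kernel
theorem rel2_14_16_w_c2 : allR 15000 7500 (eqF lk (cmA Uid gT2 14 16) (cmB Uid gT2 cmL2 14 16)) = true := by decide +kernel
theorem rel2_14_16_w_c3 : allR 22500 7500 (eqF lk (cmA Uid gT2 14 16) (cmB Uid gT2 cmL2 14 16)) = true := by decide +kernel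
theorem rel2_14_16_w_c4 : allR 30000 1671 (eqF lk (cmA Uid gT2 14 16) (cmB Uid gT2 cmL2 14 16)) = true := by decide +kernel
theorem rel2_14_16_w : eqWW lk nP (cmA Uid gT2 14 16) (cmB Uid gT2 cmL2 14 16) = true :=
  eqWW_of_eqF lk nP _ _ [(0, 7500), (7500, 7500), (15000, 7500), (22500, 7500), (30000, 1671)] (by decide) (AllChunks.cons rel2_14_16_w_c0 (AllChunks.cons rel2_14_16_w_c1 (AllChunks.cons rel2_14_16_w_c2 (AllChunks.cons rel2_14_16_w_c3 (AllChunks.cons rel2_14_16_w_c4 (AllChunks.nil))))))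

theorem rel2_14_16 : relChk1 lk nP Uid 2 gT2 sqL2 cmL2 (14, 16) = true :=
  relChk1_off lk nP Uid 2 gT2 sqL2 cmL2 14 16 (by decide) rel2_14_16_w

theorem rel2_14_17_w_c0 : allR 0 7500 (eqF lk (cmA Uid gT2 14 17) (cmB Uid gT2 cmL2 14 17)) = true := by decide +kernel
theorem rel2_14_17_w_c1 : allR 7500 7500 (eqF lk (cmA Uid gT2 14 17) (cmB Uid gT2 cmL2 14 17)) = true := by decide +kernel
theorem rel2_14_17_w_c2 : allR 15000 7500 (eqF lk (cmA Uid gT2 14 17) (cmB Uid gT2 cmL2 14 17)) = true := by decide +kernel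
theorem rel2_14_17_w_c3 : allR 22500 7500 (eqF lk (cmA Uid gT2 14 17) (cmB Uid gT2 cmL2 14 17)) = true := by decide +kernel
theorem rel2_14_17_w_c4 : allR 30000 1671 (eqF lk (cmA Uid gT2 14 17) (cmB Uid gT2 cmL2 14 17)) = true := by decide +kernel
theorem rel2_14_17_w : eqWW lk nP (cmA Uid gT2 14 17) (cmB Uid gT2 cmL2 14 17) = true :=
  eqWW_of_eqF lk nP _ _ [(0, 7500), (7500, 7500), (15000, 7500), (22500, 7500), (30000, 1671)] (by decide) (AllChunks.cons rel2_14_17_w_c0 (AllChunks.cons rel2_14_17_w_c1 (AllChunks.cons rel2_14_17_w_c2 (AllChunks.cons rel2_14_17_w_c3 (AllChunks.cons rel2_14_17_w_c4 (AllChunks.nil))))))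

theorem rel2_14_17 : relChk1 lk nP Uid 2 gT2 sqL2 cmL2 (14, 17) = true :=
  relChk1_off lk nP Uid 2 gT2 sqL2 cmL2 14 17 (by decide) rel2_14_17_w

theorem rel2_15_15_w_c0 : allR 0 15000 (eqF lk (sqA Uid 2 gT2 15) (sqB Uid gT2 sqL2 15)) = true := by decide +kernel
theorem rel2_15_15_w_c1 : allR 15000 15000 (eqF lk (sqA Uid 2 gT2 15) (sqB Uid gT2 sqL2 15)) = true := by decide +kernel
theorem rel2_15_15_w_c2 : allR 30000 1671 (eqF lk (sqA Uid 2 gT2 15) (sqB Uid gT2 sqL2 15)) = true := by decide +kernel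
theorem rel2_15_15_w : eqWW lk nP (sqA Uid 2 gT2 15) (sqB Uid gT2 sqL2 15) = true :=
  eqWW_of_eqF lk nP _ _ [(0, 15000), (15000, 15000), (30000, 1671)] (by decide) (AllChunks.cons rel2_15_15_w_c0 (AllChunks.cons rel2_15_15_w_c1 (AllChunks.cons rel2_15_15_w_c2 (AllChunks.nil))))

theorem rel2_15_15 : relChk1 lk nP Uid 2 gT2 sqL2 cmL2 (15, 15) = true :=
  relChk1_diag lk nP Uid 2 gT2 sqL2 cmL2 15 rel2_15_15_w

theorem rel2_15_16_w_c0 : allR 0 7500 (eqF lk (cmA Uid gT2 15 16) (cmB Uid gT2 cmL2 15 16)) = true := by decide +kernel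
theorem rel2_15_16_w_c1 : allR 7500 7500 (eqF lk (cmA Uid gT2 15 16) (cmB Uid gT2 cmL2 15 16)) = true := by decide +kernel
theorem rel2_15_16_w_c2 : allR 15000 7500 (eqF lk (cmA Uid gT2 15 16) (cmB Uid gT2 cmL2 15 16)) = true := by decide +kernel
theorem rel2_15_16_w_c3 : allR 22500 7500 (eqF lk (cmA Uid gT2 15 16) (cmB Uid gT2 cmL2 15 16)) = true := by decide +kernel
theorem rel2_15_16_w_c4 : allR 30000 1671 (eqF lk (cmA Uid gT2 15 16) (cmB Uid gT2 cmL2 15 16)) = true := by decide +kernel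
theorem rel2_15_16_w : eqWW lk nP (cmA Uid gT2 15 16) (cmB Uid gT2 cmL2 15 16) = true :=
  eqWW_of_eqF lk nP _ _ [(0, 7500), (7500, 7500), (15000, 7500), (22500, 7500), (30000, 1671)] (by decide) (AllChunks.cons rel2_15_16_w_c0 (AllChunks.cons rel2_15_16_w_c1 (AllChunks.cons rel2_15_16_w_c2 (AllChunks.cons rel2_15_16_w_c3 (AllChunks.cons rel2_15_16_w_c4 (AllChunks.nil))))))

theorem rel2_15_16 : relChk1 lk nP Uid 2 gT2 sqL2 cmL2 (15, 16) = true :=
  relChk1_off lk nP Uid 2 gT2 sqL2 cmL2 15 16 (by decide) rel2_15_16_w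

theorem rel2_15_17_w_c0 : allR 0 7500 (eqF lk (cmA Uid gT2 15 17) (cmB Uid gT2 cmL2 15 17)) = true := by decide +kernel
theorem rel2_15_17_w_c1 : allR 7500 7500 (eqF lk (cmA Uid gT2 15 17) (cmB Uid gT2 cmL2 15 17)) = true := by decide +kernel
theorem rel2_15_17_w_c2 : allR 15000 7500 (eqF lk (cmA Uid gT2 15 17) (cmB Uid gT2 cmL2 15 17)) = true := by decide +kernel
theorem rel2_15_17_w_c3 : allR 22500 7500 (eqF lk (cmA Uid gT2 15 17) (cmB Uid gT2 cmL2 15 17)) = true := by decide +kernel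
theorem rel2_15_17_w_c4 : allR 30000 1671 (eqF lk (cmA Uid gT2 15 17) (cmB Uid gT2 cmL2 15 17)) = true := by decide +kernel
theorem rel2_15_17_w : eqWW lk nP (cmA Uid gT2 15 17) (cmB Uid gT2 cmL2 15 17) = true :=
  eqWW_of_eqF lk nP _ _ [(0, 7500), (7500, 7500), (15000, 7500), (22500, 7500), (30000, 1671)] (by decide) (AllChunks.cons rel2_15_17_w_c0 (AllChunks.cons rel2_15_17_w_c1 (AllChunks.cons rel2_15_17_w_c2 (AllChunks.cons rel2_15_17_w_c3 (AllChunks.cons rel2_15_17_w_c4 (AllChunks.nil))))))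

theorem rel2_15_17 : relChk1 lk nP Uid 2 gT2 sqL2 cmL2 (15, 17) = true :=
  relChk1_off lk nP Uid 2 gT2 sqL2 cmL2 15 17 (by decide) rel2_15_17_w

theorem rel2_16_16_w_c0 : allR 0 15000 (eqF lk (sqA Uid 2 gT2 16) (sqB Uid gT2 sqL2 16)) = true := by decide +kernel
theorem rel2_16_16_w_c1 : allR 15000 15000 (eqF lk (sqA Uid 2 gT2 16) (sqB Uid gT2 sqL2 16)) = true := by decide +kernel
theorem rel2_16_16_w_c2 : allR 30000 1671 (eqF lk (sqA Uid 2 gT2 16) (sqB Uid gT2 sqL2 16)) = true := by decide +kernel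
theorem rel2_16_16_w : eqWW lk nP (sqA Uid 2 gT2 16) (sqB Uid gT2 sqL2 16) = true :=
  eqWW_of_eqF lk nP _ _ [(0, 15000), (15000, 15000), (30000, 1671)] (by decide) (AllChunks.cons rel2_16_16_w_c0 (AllChunks.cons rel2_16_16_w_c1 (AllChunks.cons rel2_16_16_w_c2 (AllChunks.nil))))

theorem rel2_16_16 : relChk1 lk nP Uid 2 gT2 sqL2 cmL2 (16, 16) = true :=
  relChk1_diag lk nP Uid 2 gT2 sqL2 cmL2 16 rel2_16_16_w

theorem rel2_16_17_w_c0 : allR 0 7500 (eqF lk (cmA Uid gT2 16 17) (cmB Uid gT2 cmL2 16 17)) = true := by decide +kernel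
theorem rel2_16_17_w_c1 : allR 7500 7500 (eqF lk (cmA Uid gT2 16 17) (cmB Uid gT2 cmL2 16 17)) = true := by decide +kernel
theorem rel2_16_17_w_c2 : allR 15000 7500 (eqF lk (cmA Uid gT2 16 17) (cmB Uid gT2 cmL2 16 17)) = true := by decide +kernel
theorem rel2_16_17_w_c3 : allR 22500 7500 (eqF lk (cmA Uid gT2 16 17) (cmB Uid gT2 cmL2 16 17)) = true := by decide +kernel
theorem rel2_16_17_w_c4 : allR 30000 1671 (eqF lk (cmA Uid gT2 16 17) (cmB Uid gT2 cmL2 16 17)) = true := by decide +kernel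
theorem rel2_16_17_w : eqWW lk nP (cmA Uid gT2 16 17) (cmB Uid gT2 cmL2 16 17) = true :=
  eqWW_of_eqF lk nP _ _ [(0, 7500), (7500, 7500), (15000, 7500), (22500, 7500), (30000, 1671)] (by decide) (AllChunks.cons rel2_16_17_w_c0 (AllChunks.cons rel2_16_17_w_c1 (AllChunks.cons rel2_16_17_w_c2 (AllChunks.cons rel2_16_17_w_c3 (AllChunks.cons rel2_16_17_w_c4 (AllChunks.nil))))))

theorem rel2_16_17 : relChk1 lk nP Uid 2 gT2 sqL2 cmL2 (16, 17) = true :=
  relChk1_off lk nP Uid 2 gT2 sqL2 cmL2 16 17 (by decide) rel2_16_17_w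

theorem rel2_17_17_w_c0 : allR 0 15000 (eqF lk (sqA Uid 2 gT2 17) (sqB Uid gT2 sqL2 17)) = true := by decide +kernel
theorem rel2_17_17_w_c1 : allR 15000 15000 (eqF lk (sqA Uid 2 gT2 17) (sqB Uid gT2 sqL2 17)) = true := by decide +kernel
theorem rel2_17_17_w_c2 : allR 30000 1671 (eqF lk (sqA Uid 2 gT2 17) (sqB Uid gT2 sqL2 17)) = true := by decide +kernel
theorem rel2_17_17_w : eqWW lk nP (sqA Uid 2 gT2 17) (sqB Uid gT2 sqL2 17) = true :=
  eqWW_of_eqF lk nP _ _ [(0, 15000), (15000, 15000), (30000, 1671)] (by decide) (AllChunks.cons rel2_17_17_w_c0 (AllChunks.cons rel2_17_17_w_c1 (AllChunks.cons rel2_17_17_w_c2 (AllChunks.nil))))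

theorem rel2_17_17 : relChk1 lk nP Uid 2 gT2 sqL2 cmL2 (17, 17) = true :=
  relChk1_diag lk nP Uid 2 gT2 sqL2 cmL2 17 rel2_17_17_w

theorem relpart2x7_ok : relsPart lk nP Uid 2 gT2 sqL2 cmL2 relpart2x7 = true :=
  relsPart_of_allRel _ (AllRel.cons rel2_12_17 (AllRel.cons rel2_13_13 (AllRel.cons rel2_13_14 (AllRel.cons rel2_13_15 (AllRel.cons rel2_13_16 (AllRel.cons rel2_13_17 (AllRel.cons rel2_14_14 (AllRel.cons rel2_14_15 (AllRel.cons rel2_14_16 (AllRel.cons rel2_14_17 (AllRel.cons rel2_15_15 (AllRel.cons rel2_15_16 (AllRel.cons rel2_15_17 (AllRel.cons rel2_16_16 (AllRel.cons rel2_16_17 (AllRel.cons rel2_17_17 (AllRel.nil lk nP Uid 2 gT2 sqL2 cmL2)))))))))))))))))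

end Cfsg.Agent.Lib.Helper28.Fi
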