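import Mathlib
import Cfsg.Agent.Lib.Helper5.PcPH
import Cfsg.Agent.Lib.Helper5.PcPK
import Cfsg.Agent.Lib.Helper28.Fi.Core
import Cfsg.Agent.Lib.Helper28.Fi.Chunk
import Cfsg.Agent.Lib.Helper28.Fi.Rel
import Cfsg.Agent.Lib.Helper28.Fi.Lists
import Cfsg.Agent.Lib.Helper28.Fi.Data2
import Cfsg.Agent.Lib.Helper28.Fi.Rel2x0
import Cfsg.Agent.Lib.Helper28.Fi.Rel2x1
import Cfsg.Agent.Lib.Helper28.Fi.Rel2x2
import Cfsg.Agent.Lib.Helper28.Fi.Rel2x3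
import Cfsg.Agent.Lib.Helper28.Fi.Rel2x4
import Cfsg.Agent.Lib.Helper28.Fi.Rel2x5
import Cfsg.Agent.Lib.Helper28.Fi.Rel2x6
import Cfsg.Agent.Lib.Helper28.Fi.Rel2x7
import Cfsg.Agent.Lib.Helper28.Fi.Fus2x0
import Cfsg.Agent.Lib.Helper28.Fi.Fus2x1
import Cfsg.Agent.Lib.Helper28.Fi.CertV2

set_option autoImplicit false
set_option maxRecDepth 1000000
set_option Elab.async false

/-! Assembly of the checks for a Sylow 2-subgroup of Fi23 (generated). -/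

namespace Cfsg.Agent.Lib.Helper28.Fi

open Cfsg.Agent.Lib.Helper5.CP Cfsg.Agent.Lib.Helper5.PcP Cfsg.Agent.Lib.Helper5.PcT Cfsg.Agent.Lib.Helper12.TC.Fi23o31671

theorem data2_ok : dataOK 18 sqL2 cmL2 = true := by decide +kernel

theorem rels2_ok : relsChkP lk nP Uid 2 gT2 18 sqL2 cmL2 = true := by
  apply relsChkP_of_parts lk nP Uid 2 _ 18 sqL2 cmL2 relparts2 (by decide +kernel)
  intro L hL
  simp only [relparts2, List.mem_cons, List.not_mem_nil, or_false] at hL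
  rcases hL with rfl | rfl | rfl | rfl | rfl | rfl | rfl | rfl
  · exact relpart2x0_ok
  · exact relpart2x1_ok
  · exact relpart2x2_ok
  · exact relpart2x3_ok
  · exact relpart2x4_ok
  · exact relpart2x5_ok
  · exact relpart2x6_ok
  · exact relpart2x7_ok

theorem pw2_ok : pwChk lk nP Uid 2 gT2 hT2 pwL2 = true :=
  pwChk_cons lk nP Uid 2 gT2 hT2 pw2e0 _ pw2e0_a pw2e0_b (pwChk_cons lk nP Uid 2 gT2 hT2 pw2e1 _ pw2e1_a pw2e1_b (pwChk_cons lk nP Uid 2 gT2 hT2 pw2e2 _ pw2e2_a pw2e2_b (pwChk_cons lk nP Uid 2 gT2 hT2 pw2e3 _ pw2e3_a pw2e3_b (pwChk_cons lk nP Uid 2 gT2 hT2 pw2e4 _ pw2e4_a pw2e4_b (pwChk_cons lk nP Uid 2 gT2 hT2 pw2e5 _ pw2e5_a pw2e5_b (pwChk_cons lk nP Uid 2 gT2 hT2 pw2e6 _ pw2e6_a pw2e6_b (pwChk_nil lk nP Uid 2 gT2 hT2)))))))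

theorem cm2_ok : cmChk lk nP Uid gT2 hT2 cmEL2 = true :=
  cmChk_cons lk nP Uid gT2 hT2 cm2e0 _ cm2e0_a cm2e0_b cm2e0_c (cmChk_cons lk nP Uid gT2 hT2 cm2e1 _ cm2e1_a cm2e1_b cm2e1_c (cmChk_cons lk nP Uid gT2 hT2 cm2e2 _ cm2e2_a cm2e2_b cm2e2_c (cmChk_cons lk nP Uid gT2 hT2 cm2e3 _ cm2e3_a cm2e3_b cm2e3_c (cmChk_nil lk nP Uid gT2 hT2))))

theorem levels2_ok : chainChk lk nP Uid gT2 [] levels2 = true := by
  decide +kernel

theorem levels2_prod : chainProd levels2 = 2 ^ 18 := by decide +kernel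

end Cfsg.Agent.Lib.Helper28.Fi
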