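import Mathlib
import Cfsg.Agent.Lib.Helper28.Fi.Core
import Cfsg.Agent.Lib.Helper28.Fi.Chunk
import Cfsg.Agent.Lib.Helper28.Fi.Rel
import Cfsg.Agent.Lib.Helper28.Fi.Lists
import Cfsg.Agent.Lib.Helper28.Fi.Data3

set_option autoImplicit false
set_option maxRecDepth 1000000
set_option Elab.async false

/-! Checks of fusion in a Sylow 3-subgroup of Fi23, part 0 (generated). -/

namespace Cfsg.Agent.Lib.Helper28.Fi

open Cfsg.Agent.Lib.Helper5.CP Cfsg.Agent.Lib.Helper5.PcP Cfsg.Agent.Lib.Helper5.PcT Cfsg.Agent.Lib.Helper12.TC.Fi23o31671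

theorem pw3e0_a_c0 : allR 0 2727 (eqF lk (pwA1 Uid gT3 hT3 pw3e0) (pwB1 Uid gT3 hT3 pw3e0)) = true := by decide +kernel
theorem pw3e0_a_c1 : allR 2727 2727 (eqF lk (pwA1 Uid gT3 hT3 pw3e0) (pwB1 Uid gT3 hT3 pw3e0)) = true := by decide +kernel
theorem pw3e0_a_c2 : allR 5454 2727 (eqF lk (pwA1 Uid gT3 hT3 pw3e0) (pwB1 Uid gT3 hT3 pw3e0)) = true := by decide +kernel
theorem pw3e0_a_c3 : allR 8181 2727 (eqF lk (pwA1 Uid gT3 hT3 pw3e0) (pwB1 Uid gT3 hT3 pw3e0)) = true := by decide +kernel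
theorem pw3e0_a_c4 : allR 10908 2727 (eqF lk (pwA1 Uid gT3 hT3 pw3e0) (pwB1 Uid gT3 hT3 pw3e0)) = true := by decide +kernel
theorem pw3e0_a_c5 : allR 13635 2727 (eqF lk (pwA1 Uid gT3 hT3 pw3e0) (pwB1 Uid gT3 hT3 pw3e0)) = true := by decide +kernel
theorem pw3e0_a_c6 : allR 16362 2727 (eqF lk (pwA1 Uid gT3 hT3 pw3e0) (pwB1 Uid gT3 hT3 pw3e0)) = true := by decide +kernel
theorem pw3e0_a_c7 : allR 19089 2727 (eqF lk (pwA1 Uid gT3 hT3 pw3e0) (pwB1 Uid gT3 hT3 pw3e0)) = true := by decide +kernel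
theorem pw3e0_a_c8 : allR 21816 2727 (eqF lk (pwA1 Uid gT3 hT3 pw3e0) (pwB1 Uid gT3 hT3 pw3e0)) = true := by decide +kernel
theorem pw3e0_a_c9 : allR 24543 2727 (eqF lk (pwA1 Uid gT3 hT3 pw3e0) (pwB1 Uid gT3 hT3 pw3e0)) = true := by decide +kernel
theorem pw3e0_a_c10 : allR 27270 2727 (eqF lk (pwA1 Uid gT3 hT3 pw3e0) (pwB1 Uid gT3 hT3 pw3e0)) = true := by decide +kernel
theorem pw3e0_a_c11 : allR 29997 1674 (eqF lk (pwA1 Uid gT3 hT3 pw3e0) (pwB1 Uid gT3 hT3 pw3e0)) = true := by decide +kernel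
theorem pw3e0_a : eqWW lk nP (pwA1 Uid gT3 hT3 pw3e0) (pwB1 Uid gT3 hT3 pw3e0) = true :=
  eqWW_of_eqF lk nP _ _ [(0, 2727), (2727, 2727), (5454, 2727), (8181, 2727), (10908, 2727), (13635, 2727), (16362, 2727), (19089, 2727), (21816, 2727), (24543, 2727), (27270, 2727), (29997, 1674)] (by decide) (AllChunks.cons pw3e0_a_c0 (AllChunks.cons pw3e0_a_c1 (AllChunks.cons pw3e0_a_c2 (AllChunks.cons pw3e0_a_c3 (AllChunks.cons pw3e0_a_c4 (AllChunks.cons pw3e0_a_c5 (AllChunks.cons pw3e0_a_c6 (AllChunks.cons pw3e0_a_c7 (AllChunks.cons pw3e0_a_c8 (AllChunks.cons pw3e0_a_c9 (AllChunks.cons pw3e0_a_c10 (AllChunks.cons pw3e0_a_c11 (AllChunks.nil)))))))))))))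

theorem pw3e0_b_c0 : allR 0 10000 (eqF lk (pwA2 Uid 3 gT3 pw3e0) ([])) = true := by decide +kernel
theorem pw3e0_b_c1 : allR 10000 10000 (eqF lk (pwA2 Uid 3 gT3 pw3e0) ([])) = true := by decide +kernel
theorem pw3e0_b_c2 : allR 20000 10000 (eqF lk (pwA2 Uid 3 gT3 pw3e0) ([])) = true := by decide +kernel
theorem pw3e0_b_c3 : allR 30000 1671 (eqF lk (pwA2 Uid 3 gT3 pw3e0) ([])) = true := by decide +kernel
theorem pw3e0_b : eqWW lk nP (pwA2 Uid 3 gT3 pw3e0) ([]) = true :=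
  eqWW_of_eqF lk nP _ _ [(0, 10000), (10000, 10000), (20000, 10000), (30000, 1671)] (by decide) (AllChunks.cons pw3e0_b_c0 (AllChunks.cons pw3e0_b_c1 (AllChunks.cons pw3e0_b_c2 (AllChunks.cons pw3e0_b_c3 (AllChunks.nil)))))

theorem pw3e1_a_c0 : allR 0 1875 (eqF lk (pwA1 Uid gT3 hT3 pw3e1) (pwB1 Uid gT3 hT3 pw3e1)) = true := by decide +kernel
theorem pw3e1_a_c1 : allR 1875 1875 (eqF lk (pwA1 Uid gT3 hT3 pw3e1) (pwB1 Uid gT3 hT3 pw3e1)) = true := by decide +kernel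
theorem pw3e1_a_c2 : allR 3750 1875 (eqF lk (pwA1 Uid gT3 hT3 pw3e1) (pwB1 Uid gT3 hT3 pw3e1)) = true := by decide +kernel
theorem pw3e1_a_c3 : allR 5625 1875 (eqF lk (pwA1 Uid gT3 hT3 pw3e1) (pwB1 Uid gT3 hT3 pw3e1)) = true := by decide +kernel
theorem pw3e1_a_c4 : allR 7500 1875 (eqF lk (pwA1 Uid gT3 hT3 pw3e1) (pwB1 Uid gT3 hT3 pw3e1)) = true := by decide +kernel
theorem pw3e1_a_c5 : allR 9375 1875 (eqF lk (pwA1 Uid gT3 hT3 pw3e1) (pwB1 Uid gT3 hT3 pw3e1)) = true := by decide +kernel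
theorem pw3e1_a_c6 : allR 11250 1875 (eqF lk (pwA1 Uid gT3 hT3 pw3e1) (pwB1 Uid gT3 hT3 pw3e1)) = true := by decide +kernel
theorem pw3e1_a_c7 : allR 13125 1875 (eqF lk (pwA1 Uid gT3 hT3 pw3e1) (pwB1 Uid gT3 hT3 pw3e1)) = true := by decide +kernel
theorem pw3e1_a_c8 : allR 15000 1875 (eqF lk (pwA1 Uid gT3 hT3 pw3e1) (pwB1 Uid gT3 hT3 pw3e1)) = true := by decide +kernel
theorem pw3e1_a_c9 : allR 16875 1875 (eqF lk (pwA1 Uid gT3 hT3 pw3e1) (pwB1 Uid gT3 hT3 pw3e1)) = true := by decide +kernel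
theorem pw3e1_a_c10 : allR 18750 1875 (eqF lk (pwA1 Uid gT3 hT3 pw3e1) (pwB1 Uid gT3 hT3 pw3e1)) = true := by decide +kernel
theorem pw3e1_a_c11 : allR 20625 1875 (eqF lk (pwA1 Uid gT3 hT3 pw3e1) (pwB1 Uid gT3 hT3 pw3e1)) = true := by decide +kernel
theorem pw3e1_a_c12 : allR 22500 1875 (eqF lk (pwA1 Uid gT3 hT3 pw3e1) (pwB1 Uid gT3 hT3 pw3e1)) = true := by decide +kernel
theorem pw3e1_a_c13 : allR 24375 1875 (eqF lk (pwA1 Uid gT3 hT3 pw3e1) (pwB1 Uid gT3 hT3 pw3e1)) = true := by decide +kernel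
theorem pw3e1_a_c14 : allR 26250 1875 (eqF lk (pwA1 Uid gT3 hT3 pw3e1) (pwB1 Uid gT3 hT3 pw3e1)) = true := by decide +kernel
theorem pw3e1_a_c15 : allR 28125 1875 (eqF lk (pwA1 Uid gT3 hT3 pw3e1) (pwB1 Uid gT3 hT3 pw3e1)) = true := by decide +kernel
theorem pw3e1_a_c16 : allR 30000 1671 (eqF lk (pwA1 Uid gT3 hT3 pw3e1) (pwB1 Uid gT3 hT3 pw3e1)) = true := by decide +kernel
theorem pw3e1_a : eqWW lk nP (pwA1 Uid gT3 hT3 pw3e1) (pwB1 Uid gT3 hT3 pw3e1) = true :=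
  eqWW_of_eqF lk nP _ _ [(0, 1875), (1875, 1875), (3750, 1875), (5625, 1875), (7500, 1875), (9375, 1875), (11250, 1875), (13125, 1875), (15000, 1875), (16875, 1875), (18750, 1875), (20625, 1875), (22500, 1875), (24375, 1875), (26250, 1875), (28125, 1875), (30000, 1671)] (by decide) (AllChunks.cons pw3e1_a_c0 (AllChunks.cons pw3e1_a_c1 (AllChunks.cons pw3e1_a_c2 (AllChunks.cons pw3e1_a_c3 (AllChunks.cons pw3e1_a_c4 (AllChunks.cons pw3e1_a_c5 (AllChunks.cons pw3e1_a_c6 (AllChunks.cons pw3e1_a_c7 (AllChunks.cons pw3e1_a_c8 (AllChunks.cons pw3e1_a_c9 (AllChunks.cons pw3e1_a_c10 (AllChunks.cons pw3e1_a_c11 (AllChunks.cons pw3e1_a_c12 (AllChunks.cons pw3e1_a_c13 (AllChunks.cons pw3e1_a_c14 (AllChunks.cons pw3e1_a_c15 (AllChunks.cons pw3e1_a_c16 (AllChunks.nil))))))))))))))))))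

theorem pw3e1_b_c0 : allR 0 5000 (eqF lk (pwA2 Uid 3 gT3 pw3e1) ([])) = true := by decide +kernel
theorem pw3e1_b_c1 : allR 5000 5000 (eqF lk (pwA2 Uid 3 gT3 pw3e1) ([])) = true := by decide +kernel
theorem pw3e1_b_c2 : allR 10000 5000 (eqF lk (pwA2 Uid 3 gT3 pw3e1) ([])) = true := by decide +kernel
theorem pw3e1_b_c3 : allR 15000 5000 (eqF lk (pwA2 Uid 3 gT3 pw3e1) ([])) = true := by decide +kernel
theorem pw3e1_b_c4 : allR 20000 5000 (eqF lk (pwA2 Uid 3 gT3 pw3e1) ([])) = true := by decide +kernel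
theorem pw3e1_b_c5 : allR 25000 5000 (eqF lk (pwA2 Uid 3 gT3 pw3e1) ([])) = true := by decide +kernel
theorem pw3e1_b_c6 : allR 30000 1671 (eqF lk (pwA2 Uid 3 gT3 pw3e1) ([])) = true := by decide +kernel
theorem pw3e1_b : eqWW lk nP (pwA2 Uid 3 gT3 pw3e1) ([]) = true :=
  eqWW_of_eqF lk nP _ _ [(0, 5000), (5000, 5000), (10000, 5000), (15000, 5000), (20000, 5000), (25000, 5000), (30000, 1671)] (by decide) (AllChunks.cons pw3e1_b_c0 (AllChunks.cons pw3e1_b_c1 (AllChunks.cons pw3e1_b_c2 (AllChunks.cons pw3e1_b_c3 (AllChunks.cons pw3e1_b_c4 (AllChunks.cons pw3e1_b_c5 (AllChunks.cons pw3e1_b_c6 (AllChunks.nil))))))))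

theorem pw3e2_a_c0 : allR 0 2000 (eqF lk (pwA1 Uid gT3 hT3 pw3e2) (pwB1 Uid gT3 hT3 pw3e2)) = true := by decide +kernel
theorem pw3e2_a_c1 : allR 2000 2000 (eqF lk (pwA1 Uid gT3 hT3 pw3e2) (pwB1 Uid gT3 hT3 pw3e2)) = true := by decide +kernel
theorem pw3e2_a_c2 : allR 4000 2000 (eqF lk (pwA1 Uid gT3 hT3 pw3e2) (pwB1 Uid gT3 hT3 pw3e2)) = true := by decide +kernel
theorem pw3e2_a_c3 : allR 6000 2000 (eqF lk (pwA1 Uid gT3 hT3 pw3e2) (pwB1 Uid gT3 hT3 pw3e2)) = true := by decide +kernel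
theorem pw3e2_a_c4 : allR 8000 2000 (eqF lk (pwA1 Uid gT3 hT3 pw3e2) (pwB1 Uid gT3 hT3 pw3e2)) = true := by decide +kernel
theorem pw3e2_a_c5 : allR 10000 2000 (eqF lk (pwA1 Uid gT3 hT3 pw3e2) (pwB1 Uid gT3 hT3 pw3e2)) = true := by decide +kernel
theorem pw3e2_a_c6 : allR 12000 2000 (eqF lk (pwA1 Uid gT3 hT3 pw3e2) (pwB1 Uid gT3 hT3 pw3e2)) = true := by decide +kernel
theorem pw3e2_a_c7 : allR 14000 2000 (eqF lk (pwA1 Uid gT3 hT3 pw3e2) (pwB1 Uid gT3 hT3 pw3e2)) = true := by decide +kernel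
theorem pw3e2_a_c8 : allR 16000 2000 (eqF lk (pwA1 Uid gT3 hT3 pw3e2) (pwB1 Uid gT3 hT3 pw3e2)) = true := by decide +kernel
theorem pw3e2_a_c9 : allR 18000 2000 (eqF lk (pwA1 Uid gT3 hT3 pw3e2) (pwB1 Uid gT3 hT3 pw3e2)) = true := by decide +kernel
theorem pw3e2_a_c10 : allR 20000 2000 (eqF lk (pwA1 Uid gT3 hT3 pw3e2) (pwB1 Uid gT3 hT3 pw3e2)) = true := by decide +kernel
theorem pw3e2_a_c11 : allR 22000 2000 (eqF lk (pwA1 Uid gT3 hT3 pw3e2) (pwB1 Uid gT3 hT3 pw3e2)) = true := by decide +kernel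
theorem pw3e2_a_c12 : allR 24000 2000 (eqF lk (pwA1 Uid gT3 hT3 pw3e2) (pwB1 Uid gT3 hT3 pw3e2)) = true := by decide +kernel
theorem pw3e2_a_c13 : allR 26000 2000 (eqF lk (pwA1 Uid gT3 hT3 pw3e2) (pwB1 Uid gT3 hT3 pw3e2)) = true := by decide +kernel
theorem pw3e2_a_c14 : allR 28000 2000 (eqF lk (pwA1 Uid gT3 hT3 pw3e2) (pwB1 Uid gT3 hT3 pw3e2)) = true := by decide +kernel
theorem pw3e2_a_c15 : allR 30000 1671 (eqF lk (pwA1 Uid gT3 hT3 pw3e2) (pwB1 Uid gT3 hT3 pw3e2)) = true := by decide +kernel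
theorem pw3e2_a : eqWW lk nP (pwA1 Uid gT3 hT3 pw3e2) (pwB1 Uid gT3 hT3 pw3e2) = true :=
  eqWW_of_eqF lk nP _ _ [(0, 2000), (2000, 2000), (4000, 2000), (6000, 2000), (8000, 2000), (10000, 2000), (12000, 2000), (14000, 2000), (16000, 2000), (18000, 2000), (20000, 2000), (22000, 2000), (24000, 2000), (26000, 2000), (28000, 2000), (30000, 1671)] (by decide) (AllChunks.cons pw3e2_a_c0 (AllChunks.cons pw3e2_a_c1 (AllChunks.cons pw3e2_a_c2 (AllChunks.cons pw3e2_a_c3 (AllChunks.cons pw3e2_a_c4 (AllChunks.cons pw3e2_a_c5 (AllChunks.cons pw3e2_a_c6 (AllChunks.cons pw3e2_a_c7 (AllChunks.cons pw3e2_a_c8 (AllChunks.cons pw3e2_a_c9 (AllChunks.cons pw3e2_a_c10 (AllChunks.cons pw3e2_a_c11 (AllChunks.cons pw3e2_a_c12 (AllChunks.cons pw3e2_a_c13 (AllChunks.cons pw3e2_a_c14 (AllChunks.cons pw3e2_a_c15 (AllChunks.nil)))))))))))))))))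

theorem pw3e2_b_c0 : allR 0 5000 (eqF lk (pwA2 Uid 3 gT3 pw3e2) ([])) = true := by decide +kernel
theorem pw3e2_b_c1 : allR 5000 5000 (eqF lk (pwA2 Uid 3 gT3 pw3e2) ([])) = true := by decide +kernel
theorem pw3e2_b_c2 : allR 10000 5000 (eqF lk (pwA2 Uid 3 gT3 pw3e2) ([])) = true := by decide +kernel
theorem pw3e2_b_c3 : allR 15000 5000 (eqF lk (pwA2 Uid 3 gT3 pw3e2) ([])) = true := by decide +kernel
theorem pw3e2_b_c4 : allR 20000 5000 (eqF lk (pwA2 Uid 3 gT3 pw3e2) ([])) = true := by decide +kernel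
theorem pw3e2_b_c5 : allR 25000 5000 (eqF lk (pwA2 Uid 3 gT3 pw3e2) ([])) = true := by decide +kernel
theorem pw3e2_b_c6 : allR 30000 1671 (eqF lk (pwA2 Uid 3 gT3 pw3e2) ([])) = true := by decide +kernel
theorem pw3e2_b : eqWW lk nP (pwA2 Uid 3 gT3 pw3e2) ([]) = true :=
  eqWW_of_eqF lk nP _ _ [(0, 5000), (5000, 5000), (10000, 5000), (15000, 5000), (20000, 5000), (25000, 5000), (30000, 1671)] (by decide) (AllChunks.cons pw3e2_b_c0 (AllChunks.cons pw3e2_b_c1 (AllChunks.cons pw3e2_b_c2 (AllChunks.cons pw3e2_b_c3 (AllChunks.cons pw3e2_b_c4 (AllChunks.cons pw3e2_b_c5 (AllChunks.cons pw3e2_b_c6 (AllChunks.nil))))))))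

theorem pw3e3_a_c0 : allR 0 1875 (eqF lk (pwA1 Uid gT3 hT3 pw3e3) (pwB1 Uid gT3 hT3 pw3e3)) = true := by decide +kernel
theorem pw3e3_a_c1 : allR 1875 1875 (eqF lk (pwA1 Uid gT3 hT3 pw3e3) (pwB1 Uid gT3 hT3 pw3e3)) = true := by decide +kernel
theorem pw3e3_a_c2 : allR 3750 1875 (eqF lk (pwA1 Uid gT3 hT3 pw3e3) (pwB1 Uid gT3 hT3 pw3e3)) = true := by decide +kernel
theorem pw3e3_a_c3 : allR 5625 1875 (eqF lk (pwA1 Uid gT3 hT3 pw3e3) (pwB1 Uid gT3 hT3 pw3e3)) = true := by decide +kernel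
theorem pw3e3_a_c4 : allR 7500 1875 (eqF lk (pwA1 Uid gT3 hT3 pw3e3) (pwB1 Uid gT3 hT3 pw3e3)) = true := by decide +kernel
theorem pw3e3_a_c5 : allR 9375 1875 (eqF lk (pwA1 Uid gT3 hT3 pw3e3) (pwB1 Uid gT3 hT3 pw3e3)) = true := by decide +kernel
theorem pw3e3_a_c6 : allR 11250 1875 (eqF lk (pwA1 Uid gT3 hT3 pw3e3) (pwB1 Uid gT3 hT3 pw3e3)) = true := by decide +kernel
theorem pw3e3_a_c7 : allR 13125 1875 (eqF lk (pwA1 Uid gT3 hT3 pw3e3) (pwB1 Uid gT3 hT3 pw3e3)) = true := by decide +kernel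
theorem pw3e3_a_c8 : allR 15000 1875 (eqF lk (pwA1 Uid gT3 hT3 pw3e3) (pwB1 Uid gT3 hT3 pw3e3)) = true := by decide +kernel
theorem pw3e3_a_c9 : allR 16875 1875 (eqF lk (pwA1 Uid gT3 hT3 pw3e3) (pwB1 Uid gT3 hT3 pw3e3)) = true := by decide +kernel
theorem pw3e3_a_c10 : allR 18750 1875 (eqF lk (pwA1 Uid gT3 hT3 pw3e3) (pwB1 Uid gT3 hT3 pw3e3)) = true := by decide +kernel
theorem pw3e3_a_c11 : allR 20625 1875 (eqF lk (pwA1 Uid gT3 hT3 pw3e3) (pwB1 Uid gT3 hT3 pw3e3)) = true := by decide +kernel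
theorem pw3e3_a_c12 : allR 22500 1875 (eqF lk (pwA1 Uid gT3 hT3 pw3e3) (pwB1 Uid gT3 hT3 pw3e3)) = true := by decide +kernel
theorem pw3e3_a_c13 : allR 24375 1875 (eqF lk (pwA1 Uid gT3 hT3 pw3e3) (pwB1 Uid gT3 hT3 pw3e3)) = true := by decide +kernel
theorem pw3e3_a_c14 : allR 26250 1875 (eqF lk (pwA1 Uid gT3 hT3 pw3e3) (pwB1 Uid gT3 hT3 pw3e3)) = true := by decide +kernel
theorem pw3e3_a_c15 : allR 28125 1875 (eqF lk (pwA1 Uid gT3 hT3 pw3e3) (pwB1 Uid gT3 hT3 pw3e3)) = true := by decide +kernel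
theorem pw3e3_a_c16 : allR 30000 1671 (eqF lk (pwA1 Uid gT3 hT3 pw3e3) (pwB1 Uid gT3 hT3 pw3e3)) = true := by decide +kernel
theorem pw3e3_a : eqWW lk nP (pwA1 Uid gT3 hT3 pw3e3) (pwB1 Uid gT3 hT3 pw3e3) = true :=
  eqWW_of_eqF lk nP _ _ [(0, 1875), (1875, 1875), (3750, 1875), (5625, 1875), (7500, 1875), (9375, 1875), (11250, 1875), (13125, 1875), (15000, 1875), (16875, 1875), (18750, 1875), (20625, 1875), (22500, 1875), (24375, 1875), (26250, 1875), (28125, 1875), (30000, 1671)] (by decide) (AllChunks.cons pw3e3_a_c0 (AllChunks.cons pw3e3_a_c1 (AllChunks.cons pw3e3_a_c2 (AllChunks.cons pw3e3_a_c3 (AllChunks.cons pw3e3_a_c4 (AllChunks.cons pw3e3_a_c5 (AllChunks.cons pw3e3_a_c6 (AllChunks.cons pw3e3_a_c7 (AllChunks.cons pw3e3_a_c8 (AllChunks.cons pw3e3_a_c9 (AllChunks.cons pw3e3_a_c10 (AllChunks.cons pw3e3_a_c11 (AllChunks.cons pw3e3_a_c12 (AllChunks.cons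 pw3e3_a_c13 (AllChunks.cons pw3e3_a_c14 (AllChunks.cons pw3e3_a_c15 (AllChunks.cons pw3e3_a_c16 (AllChunks.nil))))))))))))))))))

theorem pw3e3_b_c0 : allR 0 10000 (eqF lk (pwA2 Uid 3 gT3 pw3e3) ([])) = true := by decide +kernel
theorem pw3e3_b_c1 : allR 10000 10000 (eqF lk (pwA2 Uid 3 gT3 pw3e3) ([])) = true := by decide +kernel
theorem pw3e3_b_c2 : allR 20000 10000 (eqF lk (pwA2 Uid 3 gT3 pw3e3) ([])) = true := by decide +kernel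
theorem pw3e3_b_c3 : allR 30000 1671 (eqF lk (pwA2 Uid 3 gT3 pw3e3) ([])) = true := by decide +kernel
theorem pw3e3_b : eqWW lk nP (pwA2 Uid 3 gT3 pw3e3) ([]) = true :=
  eqWW_of_eqF lk nP _ _ [(0, 10000), (10000, 10000), (20000, 10000), (30000, 1671)] (by decide) (AllChunks.cons pw3e3_b_c0 (AllChunks.cons pw3e3_b_c1 (AllChunks.cons pw3e3_b_c2 (AllChunks.cons pw3e3_b_c3 (AllChunks.nil)))))

theorem cm3e0_a_c0 : allR 0 2727 (eqF lk (cmA1 Uid gT3 hT3 cm3e0) (cmB1 Uid gT3 hT3 cm3e0)) = true := by decide +kernel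
theorem cm3e0_a_c1 : allR 2727 2727 (eqF lk (cmA1 Uid gT3 hT3 cm3e0) (cmB1 Uid gT3 hT3 cm3e0)) = true := by decide +kernel
theorem cm3e0_a_c2 : allR 5454 2727 (eqF lk (cmA1 Uid gT3 hT3 cm3e0) (cmB1 Uid gT3 hT3 cm3e0)) = true := by decide +kernel
theorem cm3e0_a_c3 : allR 8181 2727 (eqF lk (cmA1 Uid gT3 hT3 cm3e0) (cmB1 Uid gT3 hT3 cm3e0)) = true := by decide +kernel
theorem cm3e0_a_c4 : allR 10908 2727 (eqF lk (cmA1 Uid gT3 hT3 cm3e0) (cmB1 Uid gT3 hT3 cm3e0)) = true := by decide +kernel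
theorem cm3e0_a_c5 : allR 13635 2727 (eqF lk (cmA1 Uid gT3 hT3 cm3e0) (cmB1 Uid gT3 hT3 cm3e0)) = true := by decide +kernel
theorem cm3e0_a_c6 : allR 16362 2727 (eqF lk (cmA1 Uid gT3 hT3 cm3e0) (cmB1 Uid gT3 hT3 cm3e0)) = true := by decide +kernel
theorem cm3e0_a_c7 : allR 19089 2727 (eqF lk (cmA1 Uid gT3 hT3 cm3e0) (cmB1 Uid gT3 hT3 cm3e0)) = true := by decide +kernel
theorem cm3e0_a_c8 : allR 21816 2727 (eqF lk (cmA1 Uid gT3 hT3 cm3e0) (cmB1 Uid gT3 hT3 cm3e0)) = true := by decide +kernel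
theorem cm3e0_a_c9 : allR 24543 2727 (eqF lk (cmA1 Uid gT3 hT3 cm3e0) (cmB1 Uid gT3 hT3 cm3e0)) = true := by decide +kernel
theorem cm3e0_a_c10 : allR 27270 2727 (eqF lk (cmA1 Uid gT3 hT3 cm3e0) (cmB1 Uid gT3 hT3 cm3e0)) = true := by decide +kernel
theorem cm3e0_a_c11 : allR 29997 1674 (eqF lk (cmA1 Uid gT3 hT3 cm3e0) (cmB1 Uid gT3 hT3 cm3e0)) = true := by decide +kernel
theorem cm3e0_a : eqWW lk nP (cmA1 Uid gT3 hT3 cm3e0) (cmB1 Uid gT3 hT3 cm3e0) = true :=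
  eqWW_of_eqF lk nP _ _ [(0, 2727), (2727, 2727), (5454, 2727), (8181, 2727), (10908, 2727), (13635, 2727), (16362, 2727), (19089, 2727), (21816, 2727), (24543, 2727), (27270, 2727), (29997, 1674)] (by decide) (AllChunks.cons cm3e0_a_c0 (AllChunks.cons cm3e0_a_c1 (AllChunks.cons cm3e0_a_c2 (AllChunks.cons cm3e0_a_c3 (AllChunks.cons cm3e0_a_c4 (AllChunks.cons cm3e0_a_c5 (AllChunks.cons cm3e0_a_c6 (AllChunks.cons cm3e0_a_c7 (AllChunks.cons cm3e0_a_c8 (AllChunks.cons cm3e0_a_c9 (AllChunks.cons cm3e0_a_c10 (AllChunks.cons cm3e0_a_c11 (AllChunks.nil)))))))))))))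

theorem cm3e0_b_c0 : allR 0 2500 (eqF lk (cmA2 Uid gT3 hT3 cm3e0) (cmB2 Uid gT3 hT3 cm3e0)) = true := by decide +kernel
theorem cm3e0_b_c1 : allR 2500 2500 (eqF lk (cmA2 Uid gT3 hT3 cm3e0) (cmB2 Uid gT3 hT3 cm3e0)) = true := by decide +kernel
theorem cm3e0_b_c2 : allR 5000 2500 (eqF lk (cmA2 Uid gT3 hT3 cm3e0) (cmB2 Uid gT3 hT3 cm3e0)) = true := by decide +kernel
theorem cm3e0_b_c3 : allR 7500 2500 (eqF lk (cmA2 Uid gT3 hT3 cm3e0) (cmB2 Uid gT3 hT3 cm3e0)) = true := by decide +kernel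
theorem cm3e0_b_c4 : allR 10000 2500 (eqF lk (cmA2 Uid gT3 hT3 cm3e0) (cmB2 Uid gT3 hT3 cm3e0)) = true := by decide +kernel
theorem cm3e0_b_c5 : allR 12500 2500 (eqF lk (cmA2 Uid gT3 hT3 cm3e0) (cmB2 Uid gT3 hT3 cm3e0)) = true := by decide +kernel
theorem cm3e0_b_c6 : allR 15000 2500 (eqF lk (cmA2 Uid gT3 hT3 cm3e0) (cmB2 Uid gT3 hT3 cm3e0)) = true := by decide +kernel
theorem cm3e0_b_c7 : allR 17500 2500 (eqF lk (cmA2 Uid gT3 hT3 cm3e0) (cmB2 Uid gT3 hT3 cm3e0)) = true := by decide +kernel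
theorem cm3e0_b_c8 : allR 20000 2500 (eqF lk (cmA2 Uid gT3 hT3 cm3e0) (cmB2 Uid gT3 hT3 cm3e0)) = true := by decide +kernel
theorem cm3e0_b_c9 : allR 22500 2500 (eqF lk (cmA2 Uid gT3 hT3 cm3e0) (cmB2 Uid gT3 hT3 cm3e0)) = true := by decide +kernel
theorem cm3e0_b_c10 : allR 25000 2500 (eqF lk (cmA2 Uid gT3 hT3 cm3e0) (cmB2 Uid gT3 hT3 cm3e0)) = true := by decide +kernel
theorem cm3e0_b_c11 : allR 27500 2500 (eqF lk (cmA2 Uid gT3 hT3 cm3e0) (cmB2 Uid gT3 hT3 cm3e0)) = true := by decide +kernel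
theorem cm3e0_b_c12 : allR 30000 1671 (eqF lk (cmA2 Uid gT3 hT3 cm3e0) (cmB2 Uid gT3 hT3 cm3e0)) = true := by decide +kernel
theorem cm3e0_b : eqWW lk nP (cmA2 Uid gT3 hT3 cm3e0) (cmB2 Uid gT3 hT3 cm3e0) = true :=
  eqWW_of_eqF lk nP _ _ [(0, 2500), (2500, 2500), (5000, 2500), (7500, 2500), (10000, 2500), (12500, 2500), (15000, 2500), (17500, 2500), (20000, 2500), (22500, 2500), (25000, 2500), (27500, 2500), (30000, 1671)] (by decide) (AllChunks.cons cm3e0_b_c0 (AllChunks.cons cm3e0_b_c1 (AllChunks.cons cm3e0_b_c2 (AllChunks.cons cm3e0_b_c3 (AllChunks.cons cm3e0_b_c4 (AllChunks.cons cm3e0_b_c5 (AllChunks.cons cm3e0_b_c6 (AllChunks.cons cm3e0_b_c7 (AllChunks.cons cm3e0_b_c8 (AllChunks.cons cm3e0_b_c9 (AllChunks.cons cm3e0_b_c10 (AllChunks.cons cm3e0_b_c11 (AllChunks.cons cm3e0_b_c12 (AllChunks.nil))))))))))))))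

theorem cm3e0_c_c0 : allR 0 7500 (eqF lk (cmA3 Uid gT3 cm3e0) (cmB3 Uid gT3 cm3e0)) = true := by decide +kernel
theorem cm3e0_c_c1 : allR 7500 7500 (eqF lk (cmA3 Uid gT3 cm3e0) (cmB3 Uid gT3 cm3e0)) = true := by decide +kernel
theorem cm3e0_c_c2 : allR 15000 7500 (eqF lk (cmA3 Uid gT3 cm3e0) (cmB3 Uid gT3 cm3e0)) = true := by decide +kernel
theorem cm3e0_c_c3 : allR 22500 7500 (eqF lk (cmA3 Uid gT3 cm3e0) (cmB3 Uid gT3 cm3e0)) = true := by decide +kernel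
theorem cm3e0_c_c4 : allR 30000 1671 (eqF lk (cmA3 Uid gT3 cm3e0) (cmB3 Uid gT3 cm3e0)) = true := by decide +kernel
theorem cm3e0_c : eqWW lk nP (cmA3 Uid gT3 cm3e0) (cmB3 Uid gT3 cm3e0) = true :=
  eqWW_of_eqF lk nP _ _ [(0, 7500), (7500, 7500), (15000, 7500), (22500, 7500), (30000, 1671)] (by decide) (AllChunks.cons cm3e0_c_c0 (AllChunks.cons cm3e0_c_c1 (AllChunks.cons cm3e0_c_c2 (AllChunks.cons cm3e0_c_c3 (AllChunks.cons cm3e0_c_c4 (AllChunks.nil))))))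

end Cfsg.Agent.Lib.Helper28.Fi
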