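import Mathlib
import Cfsg.Agent.Lib.Helper28.Fi.Core
import Cfsg.Agent.Lib.Helper28.Fi.Chunk
import Cfsg.Agent.Lib.Helper28.Fi.Rel
import Cfsg.Agent.Lib.Helper28.Fi.Lists
import Cfsg.Agent.Lib.Helper28.Fi.Data3

set_option autoImplicit false
set_option maxRecDepth 1000000
set_option Elab.async false

/-! Checks of fusion in a Sylow 3-subgroup of Fi23, part 1 (generated). -/

namespace Cfsg.Agent.Lib.Helper28.Fi

open Cfsg.Agent.Lib.Helper5.CP Cfsg.Agent.Lib.Helper5.PcP Cfsg.Agent.Lib.Helper5.PcT Cfsg.Agent.Lib.Helper12.TC.Fi23o31671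

theorem cm3e1_a_c0 : allR 0 1428 (eqF lk (cmA1 Uid gT3 hT3 cm3e1) (cmB1 Uid gT3 hT3 cm3e1)) = true := by decide +kernel
theorem cm3e1_a_c1 : allR 1428 1428 (eqF lk (cmA1 Uid gT3 hT3 cm3e1) (cmB1 Uid gT3 hT3 cm3e1)) = true := by decide +kernel
theorem cm3e1_a_c2 : allR 2856 1428 (eqF lk (cmA1 Uid gT3 hT3 cm3e1) (cmB1 Uid gT3 hT3 cm3e1)) = true := by decide +kernel
theorem cm3e1_a_c3 : allR 4284 1428 (eqF lk (cmA1 Uid gT3 hT3 cm3e1) (cmB1 Uid gT3 hT3 cm3e1)) = true := by decide +kernel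
theorem cm3e1_a_c4 : allR 5712 1428 (eqF lk (cmA1 Uid gT3 hT3 cm3e1) (cmB1 Uid gT3 hT3 cm3e1)) = true := by decide +kernel
theorem cm3e1_a_c5 : allR 7140 1428 (eqF lk (cmA1 Uid gT3 hT3 cm3e1) (cmB1 Uid gT3 hT3 cm3e1)) = true := by decide +kernel
theorem cm3e1_a_c6 : allR 8568 1428 (eqF lk (cmA1 Uid gT3 hT3 cm3e1) (cmB1 Uid gT3 hT3 cm3e1)) = true := by decide +kernel
theorem cm3e1_a_c7 : allR 9996 1428 (eqF lk (cmA1 Uid gT3 hT3 cm3e1) (cmB1 Uid gT3 hT3 cm3e1)) = true := by decide +kernel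
theorem cm3e1_a_c8 : allR 11424 1428 (eqF lk (cmA1 Uid gT3 hT3 cm3e1) (cmB1 Uid gT3 hT3 cm3e1)) = true := by decide +kernel
theorem cm3e1_a_c9 : allR 12852 1428 (eqF lk (cmA1 Uid gT3 hT3 cm3e1) (cmB1 Uid gT3 hT3 cm3e1)) = true := by decide +kernel
theorem cm3e1_a_c10 : allR 14280 1428 (eqF lk (cmA1 Uid gT3 hT3 cm3e1) (cmB1 Uid gT3 hT3 cm3e1)) = true := by decide +kernel
theorem cm3e1_a_c11 : allR 15708 1428 (eqF lk (cmA1 Uid gT3 hT3 cm3e1) (cmB1 Uid gT3 hT3 cm3e1)) = true := by decide +kernel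
theorem cm3e1_a_c12 : allR 17136 1428 (eqF lk (cmA1 Uid gT3 hT3 cm3e1) (cmB1 Uid gT3 hT3 cm3e1)) = true := by decide +kernel
theorem cm3e1_a_c13 : allR 18564 1428 (eqF lk (cmA1 Uid gT3 hT3 cm3e1) (cmB1 Uid gT3 hT3 cm3e1)) = true := by decide +kernel
theorem cm3e1_a_c14 : allR 19992 1428 (eqF lk (cmA1 Uid gT3 hT3 cm3e1) (cmB1 Uid gT3 hT3 cm3e1)) = true := by decide +kernel
theorem cm3e1_a_c15 : allR 21420 1428 (eqF lk (cmA1 Uid gT3 hT3 cm3e1) (cmB1 Uid gT3 hT3 cm3e1)) = true := by decide +kernel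
theorem cm3e1_a_c16 : allR 22848 1428 (eqF lk (cmA1 Uid gT3 hT3 cm3e1) (cmB1 Uid gT3 hT3 cm3e1)) = true := by decide +kernel
theorem cm3e1_a_c17 : allR 24276 1428 (eqF lk (cmA1 Uid gT3 hT3 cm3e1) (cmB1 Uid gT3 hT3 cm3e1)) = true := by decide +kernel
theorem cm3e1_a_c18 : allR 25704 1428 (eqF lk (cmA1 Uid gT3 hT3 cm3e1) (cmB1 Uid gT3 hT3 cm3e1)) = true := by decide +kernel
theorem cm3e1_a_c19 : allR 27132 1428 (eqF lk (cmA1 Uid gT3 hT3 cm3e1) (cmB1 Uid gT3 hT3 cm3e1)) = true := by decide +kernel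
theorem cm3e1_a_c20 : allR 28560 1428 (eqF lk (cmA1 Uid gT3 hT3 cm3e1) (cmB1 Uid gT3 hT3 cm3e1)) = true := by decide +kernel
theorem cm3e1_a_c21 : allR 29988 1428 (eqF lk (cmA1 Uid gT3 hT3 cm3e1) (cmB1 Uid gT3 hT3 cm3e1)) = true := by decide +kernel
theorem cm3e1_a_c22 : allR 31416 255 (eqF lk (cmA1 Uid gT3 hT3 cm3e1) (cmB1 Uid gT3 hT3 cm3e1)) = true := by decide +kernel
theorem cm3e1_a : eqWW lk nP (cmA1 Uid gT3 hT3 cm3e1) (cmB1 Uid gT3 hT3 cm3e1) = true :=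
  eqWW_of_eqF lk nP _ _ [(0, 1428), (1428, 1428), (2856, 1428), (4284, 1428), (5712, 1428), (7140, 1428), (8568, 1428), (9996, 1428), (11424, 1428), (12852, 1428), (14280, 1428), (15708, 1428), (17136, 1428), (18564, 1428), (19992, 1428), (21420, 1428), (22848, 1428), (24276, 1428), (25704, 1428), (27132, 1428), (28560, 1428), (29988, 1428), (31416, 255)] (by decide) (AllChunks.cons cm3e1_a_c0 (AllChunks.cons cm3e1_a_c1 (AllChunks.cons cm3e1_a_c2 (AllChunks.cons cm3e1_a_c3 (AllChunks.cons cm3e1_a_c4 (AllChunks.cons cm3e1_a_c5 (AllChunks.cons cm3e1_a_c6 (AllChunks.cons cm3e1_a_c7 (AllChunks.cons cm3e1_a_c8 (AllChunks.cons cm3e1_a_c9 (AllChunks.cons cm3e1_a_c10 (AllChunks.cons cm3e1_a_c11 (AllChunks.cons cm3e1_a_c12 (AllChunks.cons cm3e1_a_c13 (AllChunks.cons cm3e1_a_c14 (AllChunks.cons cm3e1_a_c15 (AllChunks.cons cm3e1_a_c16 (AllChunks.cons cm3e1_a_c17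 (AllChunks.cons cm3e1_a_c18 (AllChunks.cons cm3e1_a_c19 (AllChunks.cons cm3e1_a_c20 (AllChunks.cons cm3e1_a_c21 (AllChunks.cons cm3e1_a_c22 (AllChunks.nil))))))))))))))))))))))))

theorem cm3e1_b_c0 : allR 0 2142 (eqF lk (cmA2 Uid gT3 hT3 cm3e1) (cmB2 Uid gT3 hT3 cm3e1)) = true := by decide +kernel
theorem cm3e1_b_c1 : allR 2142 2142 (eqF lk (cmA2 Uid gT3 hT3 cm3e1) (cmB2 Uid gT3 hT3 cm3e1)) = true := by decide +kernel
theorem cm3e1_b_c2 : allR 4284 2142 (eqF lk (cmA2 Uid gT3 hT3 cm3e1) (cmB2 Uid gT3 hT3 cm3e1)) = true := by decide +kernel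
theorem cm3e1_b_c3 : allR 6426 2142 (eqF lk (cmA2 Uid gT3 hT3 cm3e1) (cmB2 Uid gT3 hT3 cm3e1)) = true := by decide +kernel
theorem cm3e1_b_c4 : allR 8568 2142 (eqF lk (cmA2 Uid gT3 hT3 cm3e1) (cmB2 Uid gT3 hT3 cm3e1)) = true := by decide +kernel
theorem cm3e1_b_c5 : allR 10710 2142 (eqF lk (cmA2 Uid gT3 hT3 cm3e1) (cmB2 Uid gT3 hT3 cm3e1)) = true := by decide +kernel
theorem cm3e1_b_c6 : allR 12852 2142 (eqF lk (cmA2 Uid gT3 hT3 cm3e1) (cmB2 Uid gT3 hT3 cm3e1)) = true := by decide +kernel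
theorem cm3e1_b_c7 : allR 14994 2142 (eqF lk (cmA2 Uid gT3 hT3 cm3e1) (cmB2 Uid gT3 hT3 cm3e1)) = true := by decide +kernel
theorem cm3e1_b_c8 : allR 17136 2142 (eqF lk (cmA2 Uid gT3 hT3 cm3e1) (cmB2 Uid gT3 hT3 cm3e1)) = true := by decide +kernel
theorem cm3e1_b_c9 : allR 19278 2142 (eqF lk (cmA2 Uid gT3 hT3 cm3e1) (cmB2 Uid gT3 hT3 cm3e1)) = true := by decide +kernel
theorem cm3e1_b_c10 : allR 21420 2142 (eqF lk (cmA2 Uid gT3 hT3 cm3e1) (cmB2 Uid gT3 hT3 cm3e1)) = true := by decide +kernel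
theorem cm3e1_b_c11 : allR 23562 2142 (eqF lk (cmA2 Uid gT3 hT3 cm3e1) (cmB2 Uid gT3 hT3 cm3e1)) = true := by decide +kernel
theorem cm3e1_b_c12 : allR 25704 2142 (eqF lk (cmA2 Uid gT3 hT3 cm3e1) (cmB2 Uid gT3 hT3 cm3e1)) = true := by decide +kernel
theorem cm3e1_b_c13 : allR 27846 2142 (eqF lk (cmA2 Uid gT3 hT3 cm3e1) (cmB2 Uid gT3 hT3 cm3e1)) = true := by decide +kernel
theorem cm3e1_b_c14 : allR 29988 1683 (eqF lk (cmA2 Uid gT3 hT3 cm3e1) (cmB2 Uid gT3 hT3 cm3e1)) = true := by decide +kernel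
theorem cm3e1_b : eqWW lk nP (cmA2 Uid gT3 hT3 cm3e1) (cmB2 Uid gT3 hT3 cm3e1) = true :=
  eqWW_of_eqF lk nP _ _ [(0, 2142), (2142, 2142), (4284, 2142), (6426, 2142), (8568, 2142), (10710, 2142), (12852, 2142), (14994, 2142), (17136, 2142), (19278, 2142), (21420, 2142), (23562, 2142), (25704, 2142), (27846, 2142), (29988, 1683)] (by decide) (AllChunks.cons cm3e1_b_c0 (AllChunks.cons cm3e1_b_c1 (AllChunks.cons cm3e1_b_c2 (AllChunks.cons cm3e1_b_c3 (AllChunks.cons cm3e1_b_c4 (AllChunks.cons cm3e1_b_c5 (AllChunks.cons cm3e1_b_c6 (AllChunks.cons cm3e1_b_c7 (AllChunks.cons cm3e1_b_c8 (AllChunks.cons cm3e1_b_c9 (AllChunks.cons cm3e1_b_c10 (AllChunks.cons cm3e1_b_c11 (AllChunks.cons cm3e1_b_c12 (AllChunks.cons cm3e1_b_c13 (AllChunks.cons cm3e1_b_c14 (AllChunks.nil))))))))))))))))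

theorem cm3e1_c_c0 : allR 0 3750 (eqF lk (cmA3 Uid gT3 cm3e1) (cmB3 Uid gT3 cm3e1)) = true := by decide +kernel
theorem cm3e1_c_c1 : allR 3750 3750 (eqF lk (cmA3 Uid gT3 cm3e1) (cmB3 Uid gT3 cm3e1)) = true := by decide +kernel
theorem cm3e1_c_c2 : allR 7500 3750 (eqF lk (cmA3 Uid gT3 cm3e1) (cmB3 Uid gT3 cm3e1)) = true := by decide +kernel
theorem cm3e1_c_c3 : allR 11250 3750 (eqF lk (cmA3 Uid gT3 cm3e1) (cmB3 Uid gT3 cm3e1)) = true := by decide +kernel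
theorem cm3e1_c_c4 : allR 15000 3750 (eqF lk (cmA3 Uid gT3 cm3e1) (cmB3 Uid gT3 cm3e1)) = true := by decide +kernel
theorem cm3e1_c_c5 : allR 18750 3750 (eqF lk (cmA3 Uid gT3 cm3e1) (cmB3 Uid gT3 cm3e1)) = true := by decide +kernel
theorem cm3e1_c_c6 : allR 22500 3750 (eqF lk (cmA3 Uid gT3 cm3e1) (cmB3 Uid gT3 cm3e1)) = true := by decide +kernel
theorem cm3e1_c_c7 : allR 26250 3750 (eqF lk (cmA3 Uid gT3 cm3e1) (cmB3 Uid gT3 cm3e1)) = true := by decide +kernel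
theorem cm3e1_c_c8 : allR 30000 1671 (eqF lk (cmA3 Uid gT3 cm3e1) (cmB3 Uid gT3 cm3e1)) = true := by decide +kernel
theorem cm3e1_c : eqWW lk nP (cmA3 Uid gT3 cm3e1) (cmB3 Uid gT3 cm3e1) = true :=
  eqWW_of_eqF lk nP _ _ [(0, 3750), (3750, 3750), (7500, 3750), (11250, 3750), (15000, 3750), (18750, 3750), (22500, 3750), (26250, 3750), (30000, 1671)] (by decide) (AllChunks.cons cm3e1_c_c0 (AllChunks.cons cm3e1_c_c1 (AllChunks.cons cm3e1_c_c2 (AllChunks.cons cm3e1_c_c3 (AllChunks.cons cm3e1_c_c4 (AllChunks.cons cm3e1_c_c5 (AllChunks.cons cm3e1_c_c6 (AllChunks.cons cm3e1_c_c7 (AllChunks.cons cm3e1_c_c8 (AllChunks.nil))))))))))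

theorem cm3e2_a_c0 : allR 0 1875 (eqF lk (cmA1 Uid gT3 hT3 cm3e2) (cmB1 Uid gT3 hT3 cm3e2)) = true := by decide +kernel
theorem cm3e2_a_c1 : allR 1875 1875 (eqF lk (cmA1 Uid gT3 hT3 cm3e2) (cmB1 Uid gT3 hT3 cm3e2)) = true := by decide +kernel
theorem cm3e2_a_c2 : allR 3750 1875 (eqF lk (cmA1 Uid gT3 hT3 cm3e2) (cmB1 Uid gT3 hT3 cm3e2)) = true := by decide +kernel
theorem cm3e2_a_c3 : allR 5625 1875 (eqF lk (cmA1 Uid gT3 hT3 cm3e2) (cmB1 Uid gT3 hT3 cm3e2)) = true := by decide +kernel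
theorem cm3e2_a_c4 : allR 7500 1875 (eqF lk (cmA1 Uid gT3 hT3 cm3e2) (cmB1 Uid gT3 hT3 cm3e2)) = true := by decide +kernel
theorem cm3e2_a_c5 : allR 9375 1875 (eqF lk (cmA1 Uid gT3 hT3 cm3e2) (cmB1 Uid gT3 hT3 cm3e2)) = true := by decide +kernel
theorem cm3e2_a_c6 : allR 11250 1875 (eqF lk (cmA1 Uid gT3 hT3 cm3e2) (cmB1 Uid gT3 hT3 cm3e2)) = true := by decide +kernel
theorem cm3e2_a_c7 : allR 13125 1875 (eqF lk (cmA1 Uid gT3 hT3 cm3e2) (cmB1 Uid gT3 hT3 cm3e2)) = true := by decide +kernel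
theorem cm3e2_a_c8 : allR 15000 1875 (eqF lk (cmA1 Uid gT3 hT3 cm3e2) (cmB1 Uid gT3 hT3 cm3e2)) = true := by decide +kernel
theorem cm3e2_a_c9 : allR 16875 1875 (eqF lk (cmA1 Uid gT3 hT3 cm3e2) (cmB1 Uid gT3 hT3 cm3e2)) = true := by decide +kernel
theorem cm3e2_a_c10 : allR 18750 1875 (eqF lk (cmA1 Uid gT3 hT3 cm3e2) (cmB1 Uid gT3 hT3 cm3e2)) = true := by decide +kernel
theorem cm3e2_a_c11 : allR 20625 1875 (eqF lk (cmA1 Uid gT3 hT3 cm3e2) (cmB1 Uid gT3 hT3 cm3e2)) = true := by decide +kernel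
theorem cm3e2_a_c12 : allR 22500 1875 (eqF lk (cmA1 Uid gT3 hT3 cm3e2) (cmB1 Uid gT3 hT3 cm3e2)) = true := by decide +kernel
theorem cm3e2_a_c13 : allR 24375 1875 (eqF lk (cmA1 Uid gT3 hT3 cm3e2) (cmB1 Uid gT3 hT3 cm3e2)) = true := by decide +kernel
theorem cm3e2_a_c14 : allR 26250 1875 (eqF lk (cmA1 Uid gT3 hT3 cm3e2) (cmB1 Uid gT3 hT3 cm3e2)) = true := by decide +kernel
theorem cm3e2_a_c15 : allR 28125 1875 (eqF lk (cmA1 Uid gT3 hT3 cm3e2) (cmB1 Uid gT3 hT3 cm3e2)) = true := by decide +kernel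
theorem cm3e2_a_c16 : allR 30000 1671 (eqF lk (cmA1 Uid gT3 hT3 cm3e2) (cmB1 Uid gT3 hT3 cm3e2)) = true := by decide +kernel
theorem cm3e2_a : eqWW lk nP (cmA1 Uid gT3 hT3 cm3e2) (cmB1 Uid gT3 hT3 cm3e2) = true :=
  eqWW_of_eqF lk nP _ _ [(0, 1875), (1875, 1875), (3750, 1875), (5625, 1875), (7500, 1875), (9375, 1875), (11250, 1875), (13125, 1875), (15000, 1875), (16875, 1875), (18750, 1875), (20625, 1875), (22500, 1875), (24375, 1875), (26250, 1875), (28125, 1875), (30000, 1671)] (by decide) (AllChunks.cons cm3e2_a_c0 (AllChunks.cons cm3e2_a_c1 (AllChunks.cons cm3e2_a_c2 (AllChunks.cons cm3e2_a_c3 (AllChunks.cons cm3e2_a_c4 (AllChunks.cons cm3e2_a_c5 (AllChunks.cons cm3e2_a_c6 (AllChunks.cons cm3e2_a_c7 (AllChunks.cons cm3e2_a_c8 (AllChunks.cons cm3e2_a_c9 (AllChunks.cons cm3e2_a_c10 (AllChunks.cons cm3e2_a_c11 (AllChunks.cons cm3e2_a_c12 (AllChunks.cons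 cm3e2_a_c13 (AllChunks.cons cm3e2_a_c14 (AllChunks.cons cm3e2_a_c15 (AllChunks.cons cm3e2_a_c16 (AllChunks.nil))))))))))))))))))

theorem cm3e2_b_c0 : allR 0 1666 (eqF lk (cmA2 Uid gT3 hT3 cm3e2) (cmB2 Uid gT3 hT3 cm3e2)) = true := by decide +kernel
theorem cm3e2_b_c1 : allR 1666 1666 (eqF lk (cmA2 Uid gT3 hT3 cm3e2) (cmB2 Uid gT3 hT3 cm3e2)) = true := by decide +kernel
theorem cm3e2_b_c2 : allR 3332 1666 (eqF lk (cmA2 Uid gT3 hT3 cm3e2) (cmB2 Uid gT3 hT3 cm3e2)) = true := by decide +kernel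
theorem cm3e2_b_c3 : allR 4998 1666 (eqF lk (cmA2 Uid gT3 hT3 cm3e2) (cmB2 Uid gT3 hT3 cm3e2)) = true := by decide +kernel
theorem cm3e2_b_c4 : allR 6664 1666 (eqF lk (cmA2 Uid gT3 hT3 cm3e2) (cmB2 Uid gT3 hT3 cm3e2)) = true := by decide +kernel
theorem cm3e2_b_c5 : allR 8330 1666 (eqF lk (cmA2 Uid gT3 hT3 cm3e2) (cmB2 Uid gT3 hT3 cm3e2)) = true := by decide +kernel
theorem cm3e2_b_c6 : allR 9996 1666 (eqF lk (cmA2 Uid gT3 hT3 cm3e2) (cmB2 Uid gT3 hT3 cm3e2)) = true := by decide +kernel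
theorem cm3e2_b_c7 : allR 11662 1666 (eqF lk (cmA2 Uid gT3 hT3 cm3e2) (cmB2 Uid gT3 hT3 cm3e2)) = true := by decide +kernel
theorem cm3e2_b_c8 : allR 13328 1666 (eqF lk (cmA2 Uid gT3 hT3 cm3e2) (cmB2 Uid gT3 hT3 cm3e2)) = true := by decide +kernel
theorem cm3e2_b_c9 : allR 14994 1666 (eqF lk (cmA2 Uid gT3 hT3 cm3e2) (cmB2 Uid gT3 hT3 cm3e2)) = true := by decide +kernel
theorem cm3e2_b_c10 : allR 16660 1666 (eqF lk (cmA2 Uid gT3 hT3 cm3e2) (cmB2 Uid gT3 hT3 cm3e2)) = true := by decide +kernel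
theorem cm3e2_b_c11 : allR 18326 1666 (eqF lk (cmA2 Uid gT3 hT3 cm3e2) (cmB2 Uid gT3 hT3 cm3e2)) = true := by decide +kernel
theorem cm3e2_b_c12 : allR 19992 1666 (eqF lk (cmA2 Uid gT3 hT3 cm3e2) (cmB2 Uid gT3 hT3 cm3e2)) = true := by decide +kernel
theorem cm3e2_b_c13 : allR 21658 1666 (eqF lk (cmA2 Uid gT3 hT3 cm3e2) (cmB2 Uid gT3 hT3 cm3e2)) = true := by decide +kernel
theorem cm3e2_b_c14 : allR 23324 1666 (eqF lk (cmA2 Uid gT3 hT3 cm3e2) (cmB2 Uid gT3 hT3 cm3e2)) = true := by decide +kernel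
theorem cm3e2_b_c15 : allR 24990 1666 (eqF lk (cmA2 Uid gT3 hT3 cm3e2) (cmB2 Uid gT3 hT3 cm3e2)) = true := by decide +kernel
theorem cm3e2_b_c16 : allR 26656 1666 (eqF lk (cmA2 Uid gT3 hT3 cm3e2) (cmB2 Uid gT3 hT3 cm3e2)) = true := by decide +kernel
theorem cm3e2_b_c17 : allR 28322 1666 (eqF lk (cmA2 Uid gT3 hT3 cm3e2) (cmB2 Uid gT3 hT3 cm3e2)) = true := by decide +kernel
theorem cm3e2_b_c18 : allR 29988 1666 (eqF lk (cmA2 Uid gT3 hT3 cm3e2) (cmB2 Uid gT3 hT3 cm3e2)) = true := by decide +kernel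
theorem cm3e2_b_c19 : allR 31654 17 (eqF lk (cmA2 Uid gT3 hT3 cm3e2) (cmB2 Uid gT3 hT3 cm3e2)) = true := by decide +kernel
theorem cm3e2_b : eqWW lk nP (cmA2 Uid gT3 hT3 cm3e2) (cmB2 Uid gT3 hT3 cm3e2) = true :=
  eqWW_of_eqF lk nP _ _ [(0, 1666), (1666, 1666), (3332, 1666), (4998, 1666), (6664, 1666), (8330, 1666), (9996, 1666), (11662, 1666), (13328, 1666), (14994, 1666), (16660, 1666), (18326, 1666), (19992, 1666), (21658, 1666), (23324, 1666), (24990, 1666), (26656, 1666), (28322, 1666), (29988, 1666), (31654, 17)] (by decide) (AllChunks.cons cm3e2_b_c0 (AllChunks.cons cm3e2_b_c1 (AllChunks.cons cm3e2_b_c2 (AllChunks.cons cm3e2_b_c3 (AllChunks.cons cm3e2_b_c4 (AllChunks.cons cm3e2_b_c5 (AllChunks.cons cm3e2_b_c6 (AllChunks.cons cm3e2_b_c7 (AllChunks.cons cm3e2_b_c8 (AllChunks.cons cm3e2_b_c9 (AllChunks.cons cm3e2_b_c10 (AllChunks.cons cm3e2_b_c11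 (AllChunks.cons cm3e2_b_c12 (AllChunks.cons cm3e2_b_c13 (AllChunks.cons cm3e2_b_c14 (AllChunks.cons cm3e2_b_c15 (AllChunks.cons cm3e2_b_c16 (AllChunks.cons cm3e2_b_c17 (AllChunks.cons cm3e2_b_c18 (AllChunks.cons cm3e2_b_c19 (AllChunks.nil)))))))))))))))))))))

theorem cm3e2_c_c0 : allR 0 5000 (eqF lk (cmA3 Uid gT3 cm3e2) (cmB3 Uid gT3 cm3e2)) = true := by decide +kernel
theorem cm3e2_c_c1 : allR 5000 5000 (eqF lk (cmA3 Uid gT3 cm3e2) (cmB3 Uid gT3 cm3e2)) = true := by decide +kernel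
theorem cm3e2_c_c2 : allR 10000 5000 (eqF lk (cmA3 Uid gT3 cm3e2) (cmB3 Uid gT3 cm3e2)) = true := by decide +kernel
theorem cm3e2_c_c3 : allR 15000 5000 (eqF lk (cmA3 Uid gT3 cm3e2) (cmB3 Uid gT3 cm3e2)) = true := by decide +kernel
theorem cm3e2_c_c4 : allR 20000 5000 (eqF lk (cmA3 Uid gT3 cm3e2) (cmB3 Uid gT3 cm3e2)) = true := by decide +kernel
theorem cm3e2_c_c5 : allR 25000 5000 (eqF lk (cmA3 Uid gT3 cm3e2) (cmB3 Uid gT3 cm3e2)) = true := by decide +kernel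
theorem cm3e2_c_c6 : allR 30000 1671 (eqF lk (cmA3 Uid gT3 cm3e2) (cmB3 Uid gT3 cm3e2)) = true := by decide +kernel
theorem cm3e2_c : eqWW lk nP (cmA3 Uid gT3 cm3e2) (cmB3 Uid gT3 cm3e2) = true :=
  eqWW_of_eqF lk nP _ _ [(0, 5000), (5000, 5000), (10000, 5000), (15000, 5000), (20000, 5000), (25000, 5000), (30000, 1671)] (by decide) (AllChunks.cons cm3e2_c_c0 (AllChunks.cons cm3e2_c_c1 (AllChunks.cons cm3e2_c_c2 (AllChunks.cons cm3e2_c_c3 (AllChunks.cons cm3e2_c_c4 (AllChunks.cons cm3e2_c_c5 (AllChunks.cons cm3e2_c_c6 (AllChunks.nil))))))))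

end Cfsg.Agent.Lib.Helper28.Fi
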