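import Mathlib
import Cfsg.Agent.Lib.Helper28.Fi.Core
import Cfsg.Agent.Lib.Helper28.Fi.Chunk
import Cfsg.Agent.Lib.Helper28.Fi.Rel
import Cfsg.Agent.Lib.Helper28.Fi.Lists
import Cfsg.Agent.Lib.Helper28.Fi.Data3

set_option autoImplicit false
set_option maxRecDepth 1000000
set_option Elab.async false

/-! Checks of the relations of a Sylow 3-subgroup of Fi23, part 1 (generated). -/

namespace Cfsg.Agent.Lib.Helper28.Fi

open Cfsg.Agent.Lib.Helper5.CP Cfsg.Agent.Lib.Helper5.PcP Cfsg.Agent.Lib.Helper5.PcT Cfsg.Agent.Lib.Helper12.TC.Fi23o31671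

theorem rel3_1_4_w_c0 : allR 0 3000 (eqF lk (cmA Uid gT3 1 4) (cmB Uid gT3 cmL3 1 4)) = true := by decide +kernel
theorem rel3_1_4_w_c1 : allR 3000 3000 (eqF lk (cmA Uid gT3 1 4) (cmB Uid gT3 cmL3 1 4)) = true := by decide +kernel
theorem rel3_1_4_w_c2 : allR 6000 3000 (eqF lk (cmA Uid gT3 1 4) (cmB Uid gT3 cmL3 1 4)) = true := by decide +kernel
theorem rel3_1_4_w_c3 : allR 9000 3000 (eqF lk (cmA Uid gT3 1 4) (cmB Uid gT3 cmL3 1 4)) = true := by decide +kernel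
theorem rel3_1_4_w_c4 : allR 12000 3000 (eqF lk (cmA Uid gT3 1 4) (cmB Uid gT3 cmL3 1 4)) = true := by decide +kernel
theorem rel3_1_4_w_c5 : allR 15000 3000 (eqF lk (cmA Uid gT3 1 4) (cmB Uid gT3 cmL3 1 4)) = true := by decide +kernel
theorem rel3_1_4_w_c6 : allR 18000 3000 (eqF lk (cmA Uid gT3 1 4) (cmB Uid gT3 cmL3 1 4)) = true := by decide +kernel
theorem rel3_1_4_w_c7 : allR 21000 3000 (eqF lk (cmA Uid gT3 1 4) (cmB Uid gT3 cmL3 1 4)) = true := by decide +kernel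
theorem rel3_1_4_w_c8 : allR 24000 3000 (eqF lk (cmA Uid gT3 1 4) (cmB Uid gT3 cmL3 1 4)) = true := by decide +kernel
theorem rel3_1_4_w_c9 : allR 27000 3000 (eqF lk (cmA Uid gT3 1 4) (cmB Uid gT3 cmL3 1 4)) = true := by decide +kernel
theorem rel3_1_4_w_c10 : allR 30000 1671 (eqF lk (cmA Uid gT3 1 4) (cmB Uid gT3 cmL3 1 4)) = true := by decide +kernel
theorem rel3_1_4_w : eqWW lk nP (cmA Uid gT3 1 4) (cmB Uid gT3 cmL3 1 4) = true :=
  eqWW_of_eqF lk nP _ _ [(0, 3000), (3000, 3000), (6000, 3000), (9000, 3000), (12000, 3000), (15000, 3000), (18000, 3000), (21000, 3000), (24000, 3000), (27000, 3000), (30000, 1671)] (by decide) (AllChunks.cons rel3_1_4_w_c0 (AllChunks.cons rel3_1_4_w_c1 (AllChunks.cons rel3_1_4_w_c2 (AllChunks.cons rel3_1_4_w_c3 (AllChunks.cons rel3_1_4_w_c4 (AllChunks.cons rel3_1_4_w_c5 (AllChunks.cons rel3_1_4_w_c6 (AllChunks.cons rel3_1_4_w_c7 (AllChunks.cons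 rel3_1_4_w_c8 (AllChunks.cons rel3_1_4_w_c9 (AllChunks.cons rel3_1_4_w_c10 (AllChunks.nil))))))))))))

theorem rel3_1_4 : relChk1 lk nP Uid 3 gT3 sqL3 cmL3 (1, 4) = true :=
  relChk1_off lk nP Uid 3 gT3 sqL3 cmL3 1 4 (by decide) rel3_1_4_w

theorem rel3_1_5_w_c0 : allR 0 7500 (eqF lk (cmA Uid gT3 1 5) (cmB Uid gT3 cmL3 1 5)) = true := by decide +kernel
theorem rel3_1_5_w_c1 : allR 7500 7500 (eqF lk (cmA Uid gT3 1 5) (cmB Uid gT3 cmL3 1 5)) = true := by decide +kernel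
theorem rel3_1_5_w_c2 : allR 15000 7500 (eqF lk (cmA Uid gT3 1 5) (cmB Uid gT3 cmL3 1 5)) = true := by decide +kernel
theorem rel3_1_5_w_c3 : allR 22500 7500 (eqF lk (cmA Uid gT3 1 5) (cmB Uid gT3 cmL3 1 5)) = true := by decide +kernel
theorem rel3_1_5_w_c4 : allR 30000 1671 (eqF lk (cmA Uid gT3 1 5) (cmB Uid gT3 cmL3 1 5)) = true := by decide +kernel
theorem rel3_1_5_w : eqWW lk nP (cmA Uid gT3 1 5) (cmB Uid gT3 cmL3 1 5) = true :=
  eqWW_of_eqF lk nP _ _ [(0, 7500), (7500, 7500), (15000, 7500), (22500, 7500), (30000, 1671)] (by decide) (AllChunks.cons rel3_1_5_w_c0 (AllChunks.cons rel3_1_5_w_c1 (AllChunks.cons rel3_1_5_w_c2 (AllChunks.cons rel3_1_5_w_c3 (AllChunks.cons rel3_1_5_w_c4 (AllChunks.nil))))))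

theorem rel3_1_5 : relChk1 lk nP Uid 3 gT3 sqL3 cmL3 (1, 5) = true :=
  relChk1_off lk nP Uid 3 gT3 sqL3 cmL3 1 5 (by decide) rel3_1_5_w

theorem rel3_1_6_w_c0 : allR 0 5000 (eqF lk (cmA Uid gT3 1 6) (cmB Uid gT3 cmL3 1 6)) = true := by decide +kernel
theorem rel3_1_6_w_c1 : allR 5000 5000 (eqF lk (cmA Uid gT3 1 6) (cmB Uid gT3 cmL3 1 6)) = true := by decide +kernel
theorem rel3_1_6_w_c2 : allR 10000 5000 (eqF lk (cmA Uid gT3 1 6) (cmB Uid gT3 cmL3 1 6)) = true := by decide +kernel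
theorem rel3_1_6_w_c3 : allR 15000 5000 (eqF lk (cmA Uid gT3 1 6) (cmB Uid gT3 cmL3 1 6)) = true := by decide +kernel
theorem rel3_1_6_w_c4 : allR 20000 5000 (eqF lk (cmA Uid gT3 1 6) (cmB Uid gT3 cmL3 1 6)) = true := by decide +kernel
theorem rel3_1_6_w_c5 : allR 25000 5000 (eqF lk (cmA Uid gT3 1 6) (cmB Uid gT3 cmL3 1 6)) = true := by decide +kernel
theorem rel3_1_6_w_c6 : allR 30000 1671 (eqF lk (cmA Uid gT3 1 6) (cmB Uid gT3 cmL3 1 6)) = true := by decide +kernel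
theorem rel3_1_6_w : eqWW lk nP (cmA Uid gT3 1 6) (cmB Uid gT3 cmL3 1 6) = true :=
  eqWW_of_eqF lk nP _ _ [(0, 5000), (5000, 5000), (10000, 5000), (15000, 5000), (20000, 5000), (25000, 5000), (30000, 1671)] (by decide) (AllChunks.cons rel3_1_6_w_c0 (AllChunks.cons rel3_1_6_w_c1 (AllChunks.cons rel3_1_6_w_c2 (AllChunks.cons rel3_1_6_w_c3 (AllChunks.cons rel3_1_6_w_c4 (AllChunks.cons rel3_1_6_w_c5 (AllChunks.cons rel3_1_6_w_c6 (AllChunks.nil))))))))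

theorem rel3_1_6 : relChk1 lk nP Uid 3 gT3 sqL3 cmL3 (1, 6) = true :=
  relChk1_off lk nP Uid 3 gT3 sqL3 cmL3 1 6 (by decide) rel3_1_6_w

theorem rel3_1_7_w_c0 : allR 0 6000 (eqF lk (cmA Uid gT3 1 7) (cmB Uid gT3 cmL3 1 7)) = true := by decide +kernel
theorem rel3_1_7_w_c1 : allR 6000 6000 (eqF lk (cmA Uid gT3 1 7) (cmB Uid gT3 cmL3 1 7)) = true := by decide +kernel
theorem rel3_1_7_w_c2 : allR 12000 6000 (eqF lk (cmA Uid gT3 1 7) (cmB Uid gT3 cmL3 1 7)) = true := by decide +kernel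
theorem rel3_1_7_w_c3 : allR 18000 6000 (eqF lk (cmA Uid gT3 1 7) (cmB Uid gT3 cmL3 1 7)) = true := by decide +kernel
theorem rel3_1_7_w_c4 : allR 24000 6000 (eqF lk (cmA Uid gT3 1 7) (cmB Uid gT3 cmL3 1 7)) = true := by decide +kernel
theorem rel3_1_7_w_c5 : allR 30000 1671 (eqF lk (cmA Uid gT3 1 7) (cmB Uid gT3 cmL3 1 7)) = true := by decide +kernel
theorem rel3_1_7_w : eqWW lk nP (cmA Uid gT3 1 7) (cmB Uid gT3 cmL3 1 7) = true :=
  eqWW_of_eqF lk nP _ _ [(0, 6000), (6000, 6000), (12000, 6000), (18000, 6000), (24000, 6000), (30000, 1671)] (by decide) (AllChunks.cons rel3_1_7_w_c0 (AllChunks.cons rel3_1_7_w_c1 (AllChunks.cons rel3_1_7_w_c2 (AllChunks.cons rel3_1_7_w_c3 (AllChunks.cons rel3_1_7_w_c4 (AllChunks.cons rel3_1_7_w_c5 (AllChunks.nil)))))))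

theorem rel3_1_7 : relChk1 lk nP Uid 3 gT3 sqL3 cmL3 (1, 7) = true :=
  relChk1_off lk nP Uid 3 gT3 sqL3 cmL3 1 7 (by decide) rel3_1_7_w

theorem rel3_1_8_w_c0 : allR 0 5000 (eqF lk (cmA Uid gT3 1 8) (cmB Uid gT3 cmL3 1 8)) = true := by decide +kernel
theorem rel3_1_8_w_c1 : allR 5000 5000 (eqF lk (cmA Uid gT3 1 8) (cmB Uid gT3 cmL3 1 8)) = true := by decide +kernel
theorem rel3_1_8_w_c2 : allR 10000 5000 (eqF lk (cmA Uid gT3 1 8) (cmB Uid gT3 cmL3 1 8)) = true := by decide +kernel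
theorem rel3_1_8_w_c3 : allR 15000 5000 (eqF lk (cmA Uid gT3 1 8) (cmB Uid gT3 cmL3 1 8)) = true := by decide +kernel
theorem rel3_1_8_w_c4 : allR 20000 5000 (eqF lk (cmA Uid gT3 1 8) (cmB Uid gT3 cmL3 1 8)) = true := by decide +kernel
theorem rel3_1_8_w_c5 : allR 25000 5000 (eqF lk (cmA Uid gT3 1 8) (cmB Uid gT3 cmL3 1 8)) = true := by decide +kernel
theorem rel3_1_8_w_c6 : allR 30000 1671 (eqF lk (cmA Uid gT3 1 8) (cmB Uid gT3 cmL3 1 8)) = true := by decide +kernel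
theorem rel3_1_8_w : eqWW lk nP (cmA Uid gT3 1 8) (cmB Uid gT3 cmL3 1 8) = true :=
  eqWW_of_eqF lk nP _ _ [(0, 5000), (5000, 5000), (10000, 5000), (15000, 5000), (20000, 5000), (25000, 5000), (30000, 1671)] (by decide) (AllChunks.cons rel3_1_8_w_c0 (AllChunks.cons rel3_1_8_w_c1 (AllChunks.cons rel3_1_8_w_c2 (AllChunks.cons rel3_1_8_w_c3 (AllChunks.cons rel3_1_8_w_c4 (AllChunks.cons rel3_1_8_w_c5 (AllChunks.cons rel3_1_8_w_c6 (AllChunks.nil))))))))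

theorem rel3_1_8 : relChk1 lk nP Uid 3 gT3 sqL3 cmL3 (1, 8) = true :=
  relChk1_off lk nP Uid 3 gT3 sqL3 cmL3 1 8 (by decide) rel3_1_8_w

theorem rel3_1_9_w_c0 : allR 0 7500 (eqF lk (cmA Uid gT3 1 9) (cmB Uid gT3 cmL3 1 9)) = true := by decide +kernel
theorem rel3_1_9_w_c1 : allR 7500 7500 (eqF lk (cmA Uid gT3 1 9) (cmB Uid gT3 cmL3 1 9)) = true := by decide +kernel
theorem rel3_1_9_w_c2 : allR 15000 7500 (eqF lk (cmA Uid gT3 1 9) (cmB Uid gT3 cmL3 1 9)) = true := by decide +kernel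
theorem rel3_1_9_w_c3 : allR 22500 7500 (eqF lk (cmA Uid gT3 1 9) (cmB Uid gT3 cmL3 1 9)) = true := by decide +kernel
theorem rel3_1_9_w_c4 : allR 30000 1671 (eqF lk (cmA Uid gT3 1 9) (cmB Uid gT3 cmL3 1 9)) = true := by decide +kernel
theorem rel3_1_9_w : eqWW lk nP (cmA Uid gT3 1 9) (cmB Uid gT3 cmL3 1 9) = true :=
  eqWW_of_eqF lk nP _ _ [(0, 7500), (7500, 7500), (15000, 7500), (22500, 7500), (30000, 1671)] (by decide) (AllChunks.cons rel3_1_9_w_c0 (AllChunks.cons rel3_1_9_w_c1 (AllChunks.cons rel3_1_9_w_c2 (AllChunks.cons rel3_1_9_w_c3 (AllChunks.cons rel3_1_9_w_c4 (AllChunks.nil))))))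

theorem rel3_1_9 : relChk1 lk nP Uid 3 gT3 sqL3 cmL3 (1, 9) = true :=
  relChk1_off lk nP Uid 3 gT3 sqL3 cmL3 1 9 (by decide) rel3_1_9_w

theorem rel3_1_10_w_c0 : allR 0 5000 (eqF lk (cmA Uid gT3 1 10) (cmB Uid gT3 cmL3 1 10)) = true := by decide +kernel
theorem rel3_1_10_w_c1 : allR 5000 5000 (eqF lk (cmA Uid gT3 1 10) (cmB Uid gT3 cmL3 1 10)) = true := by decide +kernel
theorem rel3_1_10_w_c2 : allR 10000 5000 (eqF lk (cmA Uid gT3 1 10) (cmB Uid gT3 cmL3 1 10)) = true := by decide +kernel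
theorem rel3_1_10_w_c3 : allR 15000 5000 (eqF lk (cmA Uid gT3 1 10) (cmB Uid gT3 cmL3 1 10)) = true := by decide +kernel
theorem rel3_1_10_w_c4 : allR 20000 5000 (eqF lk (cmA Uid gT3 1 10) (cmB Uid gT3 cmL3 1 10)) = true := by decide +kernel
theorem rel3_1_10_w_c5 : allR 25000 5000 (eqF lk (cmA Uid gT3 1 10) (cmB Uid gT3 cmL3 1 10)) = true := by decide +kernel
theorem rel3_1_10_w_c6 : allR 30000 1671 (eqF lk (cmA Uid gT3 1 10) (cmB Uid gT3 cmL3 1 10)) = true := by decide +kernel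
theorem rel3_1_10_w : eqWW lk nP (cmA Uid gT3 1 10) (cmB Uid gT3 cmL3 1 10) = true :=
  eqWW_of_eqF lk nP _ _ [(0, 5000), (5000, 5000), (10000, 5000), (15000, 5000), (20000, 5000), (25000, 5000), (30000, 1671)] (by decide) (AllChunks.cons rel3_1_10_w_c0 (AllChunks.cons rel3_1_10_w_c1 (AllChunks.cons rel3_1_10_w_c2 (AllChunks.cons rel3_1_10_w_c3 (AllChunks.cons rel3_1_10_w_c4 (AllChunks.cons rel3_1_10_w_c5 (AllChunks.cons rel3_1_10_w_c6 (AllChunks.nil))))))))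

theorem rel3_1_10 : relChk1 lk nP Uid 3 gT3 sqL3 cmL3 (1, 10) = true :=
  relChk1_off lk nP Uid 3 gT3 sqL3 cmL3 1 10 (by decide) rel3_1_10_w

theorem rel3_1_11_w_c0 : allR 0 6000 (eqF lk (cmA Uid gT3 1 11) (cmB Uid gT3 cmL3 1 11)) = true := by decide +kernel
theorem rel3_1_11_w_c1 : allR 6000 6000 (eqF lk (cmA Uid gT3 1 11) (cmB Uid gT3 cmL3 1 11)) = true := by decide +kernel
theorem rel3_1_11_w_c2 : allR 12000 6000 (eqF lk (cmA Uid gT3 1 11) (cmB Uid gT3 cmL3 1 11)) = true := by decide +kernel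
theorem rel3_1_11_w_c3 : allR 18000 6000 (eqF lk (cmA Uid gT3 1 11) (cmB Uid gT3 cmL3 1 11)) = true := by decide +kernel
theorem rel3_1_11_w_c4 : allR 24000 6000 (eqF lk (cmA Uid gT3 1 11) (cmB Uid gT3 cmL3 1 11)) = true := by decide +kernel
theorem rel3_1_11_w_c5 : allR 30000 1671 (eqF lk (cmA Uid gT3 1 11) (cmB Uid gT3 cmL3 1 11)) = true := by decide +kernel
theorem rel3_1_11_w : eqWW lk nP (cmA Uid gT3 1 11) (cmB Uid gT3 cmL3 1 11) = true :=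
  eqWW_of_eqF lk nP _ _ [(0, 6000), (6000, 6000), (12000, 6000), (18000, 6000), (24000, 6000), (30000, 1671)] (by decide) (AllChunks.cons rel3_1_11_w_c0 (AllChunks.cons rel3_1_11_w_c1 (AllChunks.cons rel3_1_11_w_c2 (AllChunks.cons rel3_1_11_w_c3 (AllChunks.cons rel3_1_11_w_c4 (AllChunks.cons rel3_1_11_w_c5 (AllChunks.nil)))))))

theorem rel3_1_11 : relChk1 lk nP Uid 3 gT3 sqL3 cmL3 (1, 11) = true :=
  relChk1_off lk nP Uid 3 gT3 sqL3 cmL3 1 11 (by decide) rel3_1_11_w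

theorem rel3_1_12_w_c0 : allR 0 7500 (eqF lk (cmA Uid gT3 1 12) (cmB Uid gT3 cmL3 1 12)) = true := by decide +kernel
theorem rel3_1_12_w_c1 : allR 7500 7500 (eqF lk (cmA Uid gT3 1 12) (cmB Uid gT3 cmL3 1 12)) = true := by decide +kernel
theorem rel3_1_12_w_c2 : allR 15000 7500 (eqF lk (cmA Uid gT3 1 12) (cmB Uid gT3 cmL3 1 12)) = true := by decide +kernel
theorem rel3_1_12_w_c3 : allR 22500 7500 (eqF lk (cmA Uid gT3 1 12) (cmB Uid gT3 cmL3 1 12)) = true := by decide +kernel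
theorem rel3_1_12_w_c4 : allR 30000 1671 (eqF lk (cmA Uid gT3 1 12) (cmB Uid gT3 cmL3 1 12)) = true := by decide +kernel
theorem rel3_1_12_w : eqWW lk nP (cmA Uid gT3 1 12) (cmB Uid gT3 cmL3 1 12) = true :=
  eqWW_of_eqF lk nP _ _ [(0, 7500), (7500, 7500), (15000, 7500), (22500, 7500), (30000, 1671)] (by decide) (AllChunks.cons rel3_1_12_w_c0 (AllChunks.cons rel3_1_12_w_c1 (AllChunks.cons rel3_1_12_w_c2 (AllChunks.cons rel3_1_12_w_c3 (AllChunks.cons rel3_1_12_w_c4 (AllChunks.nil))))))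

theorem rel3_1_12 : relChk1 lk nP Uid 3 gT3 sqL3 cmL3 (1, 12) = true :=
  relChk1_off lk nP Uid 3 gT3 sqL3 cmL3 1 12 (by decide) rel3_1_12_w

theorem rel3_2_2_w_c0 : allR 0 5000 (eqF lk (sqA Uid 3 gT3 2) (sqB Uid gT3 sqL3 2)) = true := by decide +kernel
theorem rel3_2_2_w_c1 : allR 5000 5000 (eqF lk (sqA Uid 3 gT3 2) (sqB Uid gT3 sqL3 2)) = true := by decide +kernel
theorem rel3_2_2_w_c2 : allR 10000 5000 (eqF lk (sqA Uid 3 gT3 2) (sqB Uid gT3 sqL3 2)) = true := by decide +kernel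
theorem rel3_2_2_w_c3 : allR 15000 5000 (eqF lk (sqA Uid 3 gT3 2) (sqB Uid gT3 sqL3 2)) = true := by decide +kernel
theorem rel3_2_2_w_c4 : allR 20000 5000 (eqF lk (sqA Uid 3 gT3 2) (sqB Uid gT3 sqL3 2)) = true := by decide +kernel
theorem rel3_2_2_w_c5 : allR 25000 5000 (eqF lk (sqA Uid 3 gT3 2) (sqB Uid gT3 sqL3 2)) = true := by decide +kernel
theorem rel3_2_2_w_c6 : allR 30000 1671 (eqF lk (sqA Uid 3 gT3 2) (sqB Uid gT3 sqL3 2)) = true := by decide +kernel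
theorem rel3_2_2_w : eqWW lk nP (sqA Uid 3 gT3 2) (sqB Uid gT3 sqL3 2) = true :=
  eqWW_of_eqF lk nP _ _ [(0, 5000), (5000, 5000), (10000, 5000), (15000, 5000), (20000, 5000), (25000, 5000), (30000, 1671)] (by decide) (AllChunks.cons rel3_2_2_w_c0 (AllChunks.cons rel3_2_2_w_c1 (AllChunks.cons rel3_2_2_w_c2 (AllChunks.cons rel3_2_2_w_c3 (AllChunks.cons rel3_2_2_w_c4 (AllChunks.cons rel3_2_2_w_c5 (AllChunks.cons rel3_2_2_w_c6 (AllChunks.nil))))))))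

theorem rel3_2_2 : relChk1 lk nP Uid 3 gT3 sqL3 cmL3 (2, 2) = true :=
  relChk1_diag lk nP Uid 3 gT3 sqL3 cmL3 2 rel3_2_2_w

theorem rel3_2_3_w_c0 : allR 0 4285 (eqF lk (cmA Uid gT3 2 3) (cmB Uid gT3 cmL3 2 3)) = true := by decide +kernel
theorem rel3_2_3_w_c1 : allR 4285 4285 (eqF lk (cmA Uid gT3 2 3) (cmB Uid gT3 cmL3 2 3)) = true := by decide +kernel
theorem rel3_2_3_w_c2 : allR 8570 4285 (eqF lk (cmA Uid gT3 2 3) (cmB Uid gT3 cmL3 2 3)) = true := by decide +kernel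
theorem rel3_2_3_w_c3 : allR 12855 4285 (eqF lk (cmA Uid gT3 2 3) (cmB Uid gT3 cmL3 2 3)) = true := by decide +kernel
theorem rel3_2_3_w_c4 : allR 17140 4285 (eqF lk (cmA Uid gT3 2 3) (cmB Uid gT3 cmL3 2 3)) = true := by decide +kernel
theorem rel3_2_3_w_c5 : allR 21425 4285 (eqF lk (cmA Uid gT3 2 3) (cmB Uid gT3 cmL3 2 3)) = true := by decide +kernel
theorem rel3_2_3_w_c6 : allR 25710 4285 (eqF lk (cmA Uid gT3 2 3) (cmB Uid gT3 cmL3 2 3)) = true := by decide +kernel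
theorem rel3_2_3_w_c7 : allR 29995 1676 (eqF lk (cmA Uid gT3 2 3) (cmB Uid gT3 cmL3 2 3)) = true := by decide +kernel
theorem rel3_2_3_w : eqWW lk nP (cmA Uid gT3 2 3) (cmB Uid gT3 cmL3 2 3) = true :=
  eqWW_of_eqF lk nP _ _ [(0, 4285), (4285, 4285), (8570, 4285), (12855, 4285), (17140, 4285), (21425, 4285), (25710, 4285), (29995, 1676)] (by decide) (AllChunks.cons rel3_2_3_w_c0 (AllChunks.cons rel3_2_3_w_c1 (AllChunks.cons rel3_2_3_w_c2 (AllChunks.cons rel3_2_3_w_c3 (AllChunks.cons rel3_2_3_w_c4 (AllChunks.cons rel3_2_3_w_c5 (AllChunks.cons rel3_2_3_w_c6 (AllChunks.cons rel3_2_3_w_c7 (AllChunks.nil)))))))))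

theorem rel3_2_3 : relChk1 lk nP Uid 3 gT3 sqL3 cmL3 (2, 3) = true :=
  relChk1_off lk nP Uid 3 gT3 sqL3 cmL3 2 3 (by decide) rel3_2_3_w

theorem rel3_2_4_w_c0 : allR 0 3750 (eqF lk (cmA Uid gT3 2 4) (cmB Uid gT3 cmL3 2 4)) = true := by decide +kernel
theorem rel3_2_4_w_c1 : allR 3750 3750 (eqF lk (cmA Uid gT3 2 4) (cmB Uid gT3 cmL3 2 4)) = true := by decide +kernel
theorem rel3_2_4_w_c2 : allR 7500 3750 (eqF lk (cmA Uid gT3 2 4) (cmB Uid gT3 cmL3 2 4)) = true := by decide +kernel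
theorem rel3_2_4_w_c3 : allR 11250 3750 (eqF lk (cmA Uid gT3 2 4) (cmB Uid gT3 cmL3 2 4)) = true := by decide +kernel
theorem rel3_2_4_w_c4 : allR 15000 3750 (eqF lk (cmA Uid gT3 2 4) (cmB Uid gT3 cmL3 2 4)) = true := by decide +kernel
theorem rel3_2_4_w_c5 : allR 18750 3750 (eqF lk (cmA Uid gT3 2 4) (cmB Uid gT3 cmL3 2 4)) = true := by decide +kernel
theorem rel3_2_4_w_c6 : allR 22500 3750 (eqF lk (cmA Uid gT3 2 4) (cmB Uid gT3 cmL3 2 4)) = true := by decide +kernel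
theorem rel3_2_4_w_c7 : allR 26250 3750 (eqF lk (cmA Uid gT3 2 4) (cmB Uid gT3 cmL3 2 4)) = true := by decide +kernel
theorem rel3_2_4_w_c8 : allR 30000 1671 (eqF lk (cmA Uid gT3 2 4) (cmB Uid gT3 cmL3 2 4)) = true := by decide +kernel
theorem rel3_2_4_w : eqWW lk nP (cmA Uid gT3 2 4) (cmB Uid gT3 cmL3 2 4) = true :=
  eqWW_of_eqF lk nP _ _ [(0, 3750), (3750, 3750), (7500, 3750), (11250, 3750), (15000, 3750), (18750, 3750), (22500, 3750), (26250, 3750), (30000, 1671)] (by decide) (AllChunks.cons rel3_2_4_w_c0 (AllChunks.cons rel3_2_4_w_c1 (AllChunks.cons rel3_2_4_w_c2 (AllChunks.cons rel3_2_4_w_c3 (AllChunks.cons rel3_2_4_w_c4 (AllChunks.cons rel3_2_4_w_c5 (AllChunks.cons rel3_2_4_w_c6 (AllChunks.cons rel3_2_4_w_c7 (AllChunks.cons rel3_2_4_w_c8 (AllChunks.nil))))))))))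

theorem rel3_2_4 : relChk1 lk nP Uid 3 gT3 sqL3 cmL3 (2, 4) = true :=
  relChk1_off lk nP Uid 3 gT3 sqL3 cmL3 2 4 (by decide) rel3_2_4_w

theorem rel3_2_5_w_c0 : allR 0 3333 (eqF lk (cmA Uid gT3 2 5) (cmB Uid gT3 cmL3 2 5)) = true := by decide +kernel
theorem rel3_2_5_w_c1 : allR 3333 3333 (eqF lk (cmA Uid gT3 2 5) (cmB Uid gT3 cmL3 2 5)) = true := by decide +kernel
theorem rel3_2_5_w_c2 : allR 6666 3333 (eqF lk (cmA Uid gT3 2 5) (cmB Uid gT3 cmL3 2 5)) = true := by decide +kernel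
theorem rel3_2_5_w_c3 : allR 9999 3333 (eqF lk (cmA Uid gT3 2 5) (cmB Uid gT3 cmL3 2 5)) = true := by decide +kernel
theorem rel3_2_5_w_c4 : allR 13332 3333 (eqF lk (cmA Uid gT3 2 5) (cmB Uid gT3 cmL3 2 5)) = true := by decide +kernel
theorem rel3_2_5_w_c5 : allR 16665 3333 (eqF lk (cmA Uid gT3 2 5) (cmB Uid gT3 cmL3 2 5)) = true := by decide +kernel
theorem rel3_2_5_w_c6 : allR 19998 3333 (eqF lk (cmA Uid gT3 2 5) (cmB Uid gT3 cmL3 2 5)) = true := by decide +kernel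
theorem rel3_2_5_w_c7 : allR 23331 3333 (eqF lk (cmA Uid gT3 2 5) (cmB Uid gT3 cmL3 2 5)) = true := by decide +kernel
theorem rel3_2_5_w_c8 : allR 26664 3333 (eqF lk (cmA Uid gT3 2 5) (cmB Uid gT3 cmL3 2 5)) = true := by decide +kernel
theorem rel3_2_5_w_c9 : allR 29997 1674 (eqF lk (cmA Uid gT3 2 5) (cmB Uid gT3 cmL3 2 5)) = true := by decide +kernel
theorem rel3_2_5_w : eqWW lk nP (cmA Uid gT3 2 5) (cmB Uid gT3 cmL3 2 5) = true :=
  eqWW_of_eqF lk nP _ _ [(0, 3333), (3333, 3333), (6666, 3333), (9999, 3333), (13332, 3333), (16665, 3333), (19998, 3333), (23331, 3333), (26664, 3333), (29997, 1674)] (by decide) (AllChunks.cons rel3_2_5_w_c0 (AllChunks.cons rel3_2_5_w_c1 (AllChunks.cons rel3_2_5_w_c2 (AllChunks.cons rel3_2_5_w_c3 (AllChunks.cons rel3_2_5_w_c4 (AllChunks.cons rel3_2_5_w_c5 (AllChunks.cons rel3_2_5_w_c6 (AllChunks.cons rel3_2_5_w_c7 (AllChunks.cons rel3_2_5_w_c8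 (AllChunks.cons rel3_2_5_w_c9 (AllChunks.nil)))))))))))

theorem rel3_2_5 : relChk1 lk nP Uid 3 gT3 sqL3 cmL3 (2, 5) = true :=
  relChk1_off lk nP Uid 3 gT3 sqL3 cmL3 2 5 (by decide) rel3_2_5_w

theorem rel3_2_6_w_c0 : allR 0 4285 (eqF lk (cmA Uid gT3 2 6) (cmB Uid gT3 cmL3 2 6)) = true := by decide +kernel
theorem rel3_2_6_w_c1 : allR 4285 4285 (eqF lk (cmA Uid gT3 2 6) (cmB Uid gT3 cmL3 2 6)) = true := by decide +kernel
theorem rel3_2_6_w_c2 : allR 8570 4285 (eqF lk (cmA Uid gT3 2 6) (cmB Uid gT3 cmL3 2 6)) = true := by decide +kernel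
theorem rel3_2_6_w_c3 : allR 12855 4285 (eqF lk (cmA Uid gT3 2 6) (cmB Uid gT3 cmL3 2 6)) = true := by decide +kernel
theorem rel3_2_6_w_c4 : allR 17140 4285 (eqF lk (cmA Uid gT3 2 6) (cmB Uid gT3 cmL3 2 6)) = true := by decide +kernel
theorem rel3_2_6_w_c5 : allR 21425 4285 (eqF lk (cmA Uid gT3 2 6) (cmB Uid gT3 cmL3 2 6)) = true := by decide +kernel
theorem rel3_2_6_w_c6 : allR 25710 4285 (eqF lk (cmA Uid gT3 2 6) (cmB Uid gT3 cmL3 2 6)) = true := by decide +kernel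
theorem rel3_2_6_w_c7 : allR 29995 1676 (eqF lk (cmA Uid gT3 2 6) (cmB Uid gT3 cmL3 2 6)) = true := by decide +kernel
theorem rel3_2_6_w : eqWW lk nP (cmA Uid gT3 2 6) (cmB Uid gT3 cmL3 2 6) = true :=
  eqWW_of_eqF lk nP _ _ [(0, 4285), (4285, 4285), (8570, 4285), (12855, 4285), (17140, 4285), (21425, 4285), (25710, 4285), (29995, 1676)] (by decide) (AllChunks.cons rel3_2_6_w_c0 (AllChunks.cons rel3_2_6_w_c1 (AllChunks.cons rel3_2_6_w_c2 (AllChunks.cons rel3_2_6_w_c3 (AllChunks.cons rel3_2_6_w_c4 (AllChunks.cons rel3_2_6_w_c5 (AllChunks.cons rel3_2_6_w_c6 (AllChunks.cons rel3_2_6_w_c7 (AllChunks.nil)))))))))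

theorem rel3_2_6 : relChk1 lk nP Uid 3 gT3 sqL3 cmL3 (2, 6) = true :=
  relChk1_off lk nP Uid 3 gT3 sqL3 cmL3 2 6 (by decide) rel3_2_6_w

theorem rel3_2_7_w_c0 : allR 0 3750 (eqF lk (cmA Uid gT3 2 7) (cmB Uid gT3 cmL3 2 7)) = true := by decide +kernel
theorem rel3_2_7_w_c1 : allR 3750 3750 (eqF lk (cmA Uid gT3 2 7) (cmB Uid gT3 cmL3 2 7)) = true := by decide +kernel
theorem rel3_2_7_w_c2 : allR 7500 3750 (eqF lk (cmA Uid gT3 2 7) (cmB Uid gT3 cmL3 2 7)) = true := by decide +kernel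
theorem rel3_2_7_w_c3 : allR 11250 3750 (eqF lk (cmA Uid gT3 2 7) (cmB Uid gT3 cmL3 2 7)) = true := by decide +kernel
theorem rel3_2_7_w_c4 : allR 15000 3750 (eqF lk (cmA Uid gT3 2 7) (cmB Uid gT3 cmL3 2 7)) = true := by decide +kernel
theorem rel3_2_7_w_c5 : allR 18750 3750 (eqF lk (cmA Uid gT3 2 7) (cmB Uid gT3 cmL3 2 7)) = true := by decide +kernel
theorem rel3_2_7_w_c6 : allR 22500 3750 (eqF lk (cmA Uid gT3 2 7) (cmB Uid gT3 cmL3 2 7)) = true := by decide +kernel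
theorem rel3_2_7_w_c7 : allR 26250 3750 (eqF lk (cmA Uid gT3 2 7) (cmB Uid gT3 cmL3 2 7)) = true := by decide +kernel
theorem rel3_2_7_w_c8 : allR 30000 1671 (eqF lk (cmA Uid gT3 2 7) (cmB Uid gT3 cmL3 2 7)) = true := by decide +kernel
theorem rel3_2_7_w : eqWW lk nP (cmA Uid gT3 2 7) (cmB Uid gT3 cmL3 2 7) = true :=
  eqWW_of_eqF lk nP _ _ [(0, 3750), (3750, 3750), (7500, 3750), (11250, 3750), (15000, 3750), (18750, 3750), (22500, 3750), (26250, 3750), (30000, 1671)] (by decide) (AllChunks.cons rel3_2_7_w_c0 (AllChunks.cons rel3_2_7_w_c1 (AllChunks.cons rel3_2_7_w_c2 (AllChunks.cons rel3_2_7_w_c3 (AllChunks.cons rel3_2_7_w_c4 (AllChunks.cons rel3_2_7_w_c5 (AllChunks.cons rel3_2_7_w_c6 (AllChunks.cons rel3_2_7_w_c7 (AllChunks.cons rel3_2_7_w_c8 (AllChunks.nil))))))))))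

theorem rel3_2_7 : relChk1 lk nP Uid 3 gT3 sqL3 cmL3 (2, 7) = true :=
  relChk1_off lk nP Uid 3 gT3 sqL3 cmL3 2 7 (by decide) rel3_2_7_w

theorem rel3_2_8_w_c0 : allR 0 4285 (eqF lk (cmA Uid gT3 2 8) (cmB Uid gT3 cmL3 2 8)) = true := by decide +kernel
theorem rel3_2_8_w_c1 : allR 4285 4285 (eqF lk (cmA Uid gT3 2 8) (cmB Uid gT3 cmL3 2 8)) = true := by decide +kernel
theorem rel3_2_8_w_c2 : allR 8570 4285 (eqF lk (cmA Uid gT3 2 8) (cmB Uid gT3 cmL3 2 8)) = true := by decide +kernel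
theorem rel3_2_8_w_c3 : allR 12855 4285 (eqF lk (cmA Uid gT3 2 8) (cmB Uid gT3 cmL3 2 8)) = true := by decide +kernel
theorem rel3_2_8_w_c4 : allR 17140 4285 (eqF lk (cmA Uid gT3 2 8) (cmB Uid gT3 cmL3 2 8)) = true := by decide +kernel
theorem rel3_2_8_w_c5 : allR 21425 4285 (eqF lk (cmA Uid gT3 2 8) (cmB Uid gT3 cmL3 2 8)) = true := by decide +kernel
theorem rel3_2_8_w_c6 : allR 25710 4285 (eqF lk (cmA Uid gT3 2 8) (cmB Uid gT3 cmL3 2 8)) = true := by decide +kernel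
theorem rel3_2_8_w_c7 : allR 29995 1676 (eqF lk (cmA Uid gT3 2 8) (cmB Uid gT3 cmL3 2 8)) = true := by decide +kernel
theorem rel3_2_8_w : eqWW lk nP (cmA Uid gT3 2 8) (cmB Uid gT3 cmL3 2 8) = true :=
  eqWW_of_eqF lk nP _ _ [(0, 4285), (4285, 4285), (8570, 4285), (12855, 4285), (17140, 4285), (21425, 4285), (25710, 4285), (29995, 1676)] (by decide) (AllChunks.cons rel3_2_8_w_c0 (AllChunks.cons rel3_2_8_w_c1 (AllChunks.cons rel3_2_8_w_c2 (AllChunks.cons rel3_2_8_w_c3 (AllChunks.cons rel3_2_8_w_c4 (AllChunks.cons rel3_2_8_w_c5 (AllChunks.cons rel3_2_8_w_c6 (AllChunks.cons rel3_2_8_w_c7 (AllChunks.nil)))))))))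

theorem rel3_2_8 : relChk1 lk nP Uid 3 gT3 sqL3 cmL3 (2, 8) = true :=
  relChk1_off lk nP Uid 3 gT3 sqL3 cmL3 2 8 (by decide) rel3_2_8_w

theorem rel3_2_9_w_c0 : allR 0 7500 (eqF lk (cmA Uid gT3 2 9) (cmB Uid gT3 cmL3 2 9)) = true := by decide +kernel
theorem rel3_2_9_w_c1 : allR 7500 7500 (eqF lk (cmA Uid gT3 2 9) (cmB Uid gT3 cmL3 2 9)) = true := by decide +kernel
theorem rel3_2_9_w_c2 : allR 15000 7500 (eqF lk (cmA Uid gT3 2 9) (cmB Uid gT3 cmL3 2 9)) = true := by decide +kernel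
theorem rel3_2_9_w_c3 : allR 22500 7500 (eqF lk (cmA Uid gT3 2 9) (cmB Uid gT3 cmL3 2 9)) = true := by decide +kernel
theorem rel3_2_9_w_c4 : allR 30000 1671 (eqF lk (cmA Uid gT3 2 9) (cmB Uid gT3 cmL3 2 9)) = true := by decide +kernel
theorem rel3_2_9_w : eqWW lk nP (cmA Uid gT3 2 9) (cmB Uid gT3 cmL3 2 9) = true :=
  eqWW_of_eqF lk nP _ _ [(0, 7500), (7500, 7500), (15000, 7500), (22500, 7500), (30000, 1671)] (by decide) (AllChunks.cons rel3_2_9_w_c0 (AllChunks.cons rel3_2_9_w_c1 (AllChunks.cons rel3_2_9_w_c2 (AllChunks.cons rel3_2_9_w_c3 (AllChunks.cons rel3_2_9_w_c4 (AllChunks.nil))))))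

theorem rel3_2_9 : relChk1 lk nP Uid 3 gT3 sqL3 cmL3 (2, 9) = true :=
  relChk1_off lk nP Uid 3 gT3 sqL3 cmL3 2 9 (by decide) rel3_2_9_w

theorem relpart3x1_ok : relsPart lk nP Uid 3 gT3 sqL3 cmL3 relpart3x1 = true :=
  relsPart_of_allRel _ (AllRel.cons rel3_1_4 (AllRel.cons rel3_1_5 (AllRel.cons rel3_1_6 (AllRel.cons rel3_1_7 (AllRel.cons rel3_1_8 (AllRel.cons rel3_1_9 (AllRel.cons rel3_1_10 (AllRel.cons rel3_1_11 (AllRel.cons rel3_1_12 (AllRel.cons rel3_2_2 (AllRel.cons rel3_2_3 (AllRel.cons rel3_2_4 (AllRel.cons rel3_2_5 (AllRel.cons rel3_2_6 (AllRel.cons rel3_2_7 (AllRel.cons rel3_2_8 (AllRel.cons rel3_2_9 (AllRel.nil lk nP Uid 3 gT3 sqL3 cmL3))))))))))))))))))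

end Cfsg.Agent.Lib.Helper28.Fi
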