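import Mathlib
import Cfsg.Agent.Lib.Helper28.Fi.Core
import Cfsg.Agent.Lib.Helper28.Fi.Chunk
import Cfsg.Agent.Lib.Helper28.Fi.Rel
import Cfsg.Agent.Lib.Helper28.Fi.Lists
import Cfsg.Agent.Lib.Helper28.Fi.Data3

set_option autoImplicit false
set_option maxRecDepth 1000000
set_option Elab.async false

/-! Checks of the relations of a Sylow 3-subgroup of Fi23, part 4 (generated). -/

namespace Cfsg.Agent.Lib.Helper28.Fi

open Cfsg.Agent.Lib.Helper5.CP Cfsg.Agent.Lib.Helper5.PcP Cfsg.Agent.Lib.Helper5.PcT Cfsg.Agent.Lib.Helper12.TC.Fi23o31671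

theorem rel3_7_10_w_c0 : allR 0 7500 (eqF lk (cmA Uid gT3 7 10) (cmB Uid gT3 cmL3 7 10)) = true := by decide +kernel
theorem rel3_7_10_w_c1 : allR 7500 7500 (eqF lk (cmA Uid gT3 7 10) (cmB Uid gT3 cmL3 7 10)) = true := by decide +kernel
theorem rel3_7_10_w_c2 : allR 15000 7500 (eqF lk (cmA Uid gT3 7 10) (cmB Uid gT3 cmL3 7 10)) = true := by decide +kernel
theorem rel3_7_10_w_c3 : allR 22500 7500 (eqF lk (cmA Uid gT3 7 10) (cmB Uid gT3 cmL3 7 10)) = true := by decide +kernel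
theorem rel3_7_10_w_c4 : allR 30000 1671 (eqF lk (cmA Uid gT3 7 10) (cmB Uid gT3 cmL3 7 10)) = true := by decide +kernel
theorem rel3_7_10_w : eqWW lk nP (cmA Uid gT3 7 10) (cmB Uid gT3 cmL3 7 10) = true :=
  eqWW_of_eqF lk nP _ _ [(0, 7500), (7500, 7500), (15000, 7500), (22500, 7500), (30000, 1671)] (by decide) (AllChunks.cons rel3_7_10_w_c0 (AllChunks.cons rel3_7_10_w_c1 (AllChunks.cons rel3_7_10_w_c2 (AllChunks.cons rel3_7_10_w_c3 (AllChunks.cons rel3_7_10_w_c4 (AllChunks.nil))))))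

theorem rel3_7_10 : relChk1 lk nP Uid 3 gT3 sqL3 cmL3 (7, 10) = true :=
  relChk1_off lk nP Uid 3 gT3 sqL3 cmL3 7 10 (by decide) rel3_7_10_w

theorem rel3_7_11_w_c0 : allR 0 7500 (eqF lk (cmA Uid gT3 7 11) (cmB Uid gT3 cmL3 7 11)) = true := by decide +kernel
theorem rel3_7_11_w_c1 : allR 7500 7500 (eqF lk (cmA Uid gT3 7 11) (cmB Uid gT3 cmL3 7 11)) = true := by decide +kernel
theorem rel3_7_11_w_c2 : allR 15000 7500 (eqF lk (cmA Uid gT3 7 11) (cmB Uid gT3 cmL3 7 11)) = true := by decide +kernel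
theorem rel3_7_11_w_c3 : allR 22500 7500 (eqF lk (cmA Uid gT3 7 11) (cmB Uid gT3 cmL3 7 11)) = true := by decide +kernel
theorem rel3_7_11_w_c4 : allR 30000 1671 (eqF lk (cmA Uid gT3 7 11) (cmB Uid gT3 cmL3 7 11)) = true := by decide +kernel
theorem rel3_7_11_w : eqWW lk nP (cmA Uid gT3 7 11) (cmB Uid gT3 cmL3 7 11) = true :=
  eqWW_of_eqF lk nP _ _ [(0, 7500), (7500, 7500), (15000, 7500), (22500, 7500), (30000, 1671)] (by decide) (AllChunks.cons rel3_7_11_w_c0 (AllChunks.cons rel3_7_11_w_c1 (AllChunks.cons rel3_7_11_w_c2 (AllChunks.cons rel3_7_11_w_c3 (AllChunks.cons rel3_7_11_w_c4 (AllChunks.nil))))))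

theorem rel3_7_11 : relChk1 lk nP Uid 3 gT3 sqL3 cmL3 (7, 11) = true :=
  relChk1_off lk nP Uid 3 gT3 sqL3 cmL3 7 11 (by decide) rel3_7_11_w

theorem rel3_7_12_w_c0 : allR 0 7500 (eqF lk (cmA Uid gT3 7 12) (cmB Uid gT3 cmL3 7 12)) = true := by decide +kernel
theorem rel3_7_12_w_c1 : allR 7500 7500 (eqF lk (cmA Uid gT3 7 12) (cmB Uid gT3 cmL3 7 12)) = true := by decide +kernel
theorem rel3_7_12_w_c2 : allR 15000 7500 (eqF lk (cmA Uid gT3 7 12) (cmB Uid gT3 cmL3 7 12)) = true := by decide +kernel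
theorem rel3_7_12_w_c3 : allR 22500 7500 (eqF lk (cmA Uid gT3 7 12) (cmB Uid gT3 cmL3 7 12)) = true := by decide +kernel
theorem rel3_7_12_w_c4 : allR 30000 1671 (eqF lk (cmA Uid gT3 7 12) (cmB Uid gT3 cmL3 7 12)) = true := by decide +kernel
theorem rel3_7_12_w : eqWW lk nP (cmA Uid gT3 7 12) (cmB Uid gT3 cmL3 7 12) = true :=
  eqWW_of_eqF lk nP _ _ [(0, 7500), (7500, 7500), (15000, 7500), (22500, 7500), (30000, 1671)] (by decide) (AllChunks.cons rel3_7_12_w_c0 (AllChunks.cons rel3_7_12_w_c1 (AllChunks.cons rel3_7_12_w_c2 (AllChunks.cons rel3_7_12_w_c3 (AllChunks.cons rel3_7_12_w_c4 (AllChunks.nil))))))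

theorem rel3_7_12 : relChk1 lk nP Uid 3 gT3 sqL3 cmL3 (7, 12) = true :=
  relChk1_off lk nP Uid 3 gT3 sqL3 cmL3 7 12 (by decide) rel3_7_12_w

theorem rel3_8_8_w_c0 : allR 0 10000 (eqF lk (sqA Uid 3 gT3 8) (sqB Uid gT3 sqL3 8)) = true := by decide +kernel
theorem rel3_8_8_w_c1 : allR 10000 10000 (eqF lk (sqA Uid 3 gT3 8) (sqB Uid gT3 sqL3 8)) = true := by decide +kernel
theorem rel3_8_8_w_c2 : allR 20000 10000 (eqF lk (sqA Uid 3 gT3 8) (sqB Uid gT3 sqL3 8)) = true := by decide +kernel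
theorem rel3_8_8_w_c3 : allR 30000 1671 (eqF lk (sqA Uid 3 gT3 8) (sqB Uid gT3 sqL3 8)) = true := by decide +kernel
theorem rel3_8_8_w : eqWW lk nP (sqA Uid 3 gT3 8) (sqB Uid gT3 sqL3 8) = true :=
  eqWW_of_eqF lk nP _ _ [(0, 10000), (10000, 10000), (20000, 10000), (30000, 1671)] (by decide) (AllChunks.cons rel3_8_8_w_c0 (AllChunks.cons rel3_8_8_w_c1 (AllChunks.cons rel3_8_8_w_c2 (AllChunks.cons rel3_8_8_w_c3 (AllChunks.nil)))))

theorem rel3_8_8 : relChk1 lk nP Uid 3 gT3 sqL3 cmL3 (8, 8) = true :=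
  relChk1_diag lk nP Uid 3 gT3 sqL3 cmL3 8 rel3_8_8_w

theorem rel3_8_9_w_c0 : allR 0 7500 (eqF lk (cmA Uid gT3 8 9) (cmB Uid gT3 cmL3 8 9)) = true := by decide +kernel
theorem rel3_8_9_w_c1 : allR 7500 7500 (eqF lk (cmA Uid gT3 8 9) (cmB Uid gT3 cmL3 8 9)) = true := by decide +kernel
theorem rel3_8_9_w_c2 : allR 15000 7500 (eqF lk (cmA Uid gT3 8 9) (cmB Uid gT3 cmL3 8 9)) = true := by decide +kernel
theorem rel3_8_9_w_c3 : allR 22500 7500 (eqF lk (cmA Uid gT3 8 9) (cmB Uid gT3 cmL3 8 9)) = true := by decide +kernel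
theorem rel3_8_9_w_c4 : allR 30000 1671 (eqF lk (cmA Uid gT3 8 9) (cmB Uid gT3 cmL3 8 9)) = true := by decide +kernel
theorem rel3_8_9_w : eqWW lk nP (cmA Uid gT3 8 9) (cmB Uid gT3 cmL3 8 9) = true :=
  eqWW_of_eqF lk nP _ _ [(0, 7500), (7500, 7500), (15000, 7500), (22500, 7500), (30000, 1671)] (by decide) (AllChunks.cons rel3_8_9_w_c0 (AllChunks.cons rel3_8_9_w_c1 (AllChunks.cons rel3_8_9_w_c2 (AllChunks.cons rel3_8_9_w_c3 (AllChunks.cons rel3_8_9_w_c4 (AllChunks.nil))))))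

theorem rel3_8_9 : relChk1 lk nP Uid 3 gT3 sqL3 cmL3 (8, 9) = true :=
  relChk1_off lk nP Uid 3 gT3 sqL3 cmL3 8 9 (by decide) rel3_8_9_w

theorem rel3_8_10_w_c0 : allR 0 7500 (eqF lk (cmA Uid gT3 8 10) (cmB Uid gT3 cmL3 8 10)) = true := by decide +kernel
theorem rel3_8_10_w_c1 : allR 7500 7500 (eqF lk (cmA Uid gT3 8 10) (cmB Uid gT3 cmL3 8 10)) = true := by decide +kernel
theorem rel3_8_10_w_c2 : allR 15000 7500 (eqF lk (cmA Uid gT3 8 10) (cmB Uid gT3 cmL3 8 10)) = true := by decide +kernel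
theorem rel3_8_10_w_c3 : allR 22500 7500 (eqF lk (cmA Uid gT3 8 10) (cmB Uid gT3 cmL3 8 10)) = true := by decide +kernel
theorem rel3_8_10_w_c4 : allR 30000 1671 (eqF lk (cmA Uid gT3 8 10) (cmB Uid gT3 cmL3 8 10)) = true := by decide +kernel
theorem rel3_8_10_w : eqWW lk nP (cmA Uid gT3 8 10) (cmB Uid gT3 cmL3 8 10) = true :=
  eqWW_of_eqF lk nP _ _ [(0, 7500), (7500, 7500), (15000, 7500), (22500, 7500), (30000, 1671)] (by decide) (AllChunks.cons rel3_8_10_w_c0 (AllChunks.cons rel3_8_10_w_c1 (AllChunks.cons rel3_8_10_w_c2 (AllChunks.cons rel3_8_10_w_c3 (AllChunks.cons rel3_8_10_w_c4 (AllChunks.nil))))))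

theorem rel3_8_10 : relChk1 lk nP Uid 3 gT3 sqL3 cmL3 (8, 10) = true :=
  relChk1_off lk nP Uid 3 gT3 sqL3 cmL3 8 10 (by decide) rel3_8_10_w

theorem rel3_8_11_w_c0 : allR 0 7500 (eqF lk (cmA Uid gT3 8 11) (cmB Uid gT3 cmL3 8 11)) = true := by decide +kernel
theorem rel3_8_11_w_c1 : allR 7500 7500 (eqF lk (cmA Uid gT3 8 11) (cmB Uid gT3 cmL3 8 11)) = true := by decide +kernel
theorem rel3_8_11_w_c2 : allR 15000 7500 (eqF lk (cmA Uid gT3 8 11) (cmB Uid gT3 cmL3 8 11)) = true := by decide +kernel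
theorem rel3_8_11_w_c3 : allR 22500 7500 (eqF lk (cmA Uid gT3 8 11) (cmB Uid gT3 cmL3 8 11)) = true := by decide +kernel
theorem rel3_8_11_w_c4 : allR 30000 1671 (eqF lk (cmA Uid gT3 8 11) (cmB Uid gT3 cmL3 8 11)) = true := by decide +kernel
theorem rel3_8_11_w : eqWW lk nP (cmA Uid gT3 8 11) (cmB Uid gT3 cmL3 8 11) = true :=
  eqWW_of_eqF lk nP _ _ [(0, 7500), (7500, 7500), (15000, 7500), (22500, 7500), (30000, 1671)] (by decide) (AllChunks.cons rel3_8_11_w_c0 (AllChunks.cons rel3_8_11_w_c1 (AllChunks.cons rel3_8_11_w_c2 (AllChunks.cons rel3_8_11_w_c3 (AllChunks.cons rel3_8_11_w_c4 (AllChunks.nil))))))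

theorem rel3_8_11 : relChk1 lk nP Uid 3 gT3 sqL3 cmL3 (8, 11) = true :=
  relChk1_off lk nP Uid 3 gT3 sqL3 cmL3 8 11 (by decide) rel3_8_11_w

theorem rel3_8_12_w_c0 : allR 0 7500 (eqF lk (cmA Uid gT3 8 12) (cmB Uid gT3 cmL3 8 12)) = true := by decide +kernel
theorem rel3_8_12_w_c1 : allR 7500 7500 (eqF lk (cmA Uid gT3 8 12) (cmB Uid gT3 cmL3 8 12)) = true := by decide +kernel
theorem rel3_8_12_w_c2 : allR 15000 7500 (eqF lk (cmA Uid gT3 8 12) (cmB Uid gT3 cmL3 8 12)) = true := by decide +kernel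
theorem rel3_8_12_w_c3 : allR 22500 7500 (eqF lk (cmA Uid gT3 8 12) (cmB Uid gT3 cmL3 8 12)) = true := by decide +kernel
theorem rel3_8_12_w_c4 : allR 30000 1671 (eqF lk (cmA Uid gT3 8 12) (cmB Uid gT3 cmL3 8 12)) = true := by decide +kernel
theorem rel3_8_12_w : eqWW lk nP (cmA Uid gT3 8 12) (cmB Uid gT3 cmL3 8 12) = true :=
  eqWW_of_eqF lk nP _ _ [(0, 7500), (7500, 7500), (15000, 7500), (22500, 7500), (30000, 1671)] (by decide) (AllChunks.cons rel3_8_12_w_c0 (AllChunks.cons rel3_8_12_w_c1 (AllChunks.cons rel3_8_12_w_c2 (AllChunks.cons rel3_8_12_w_c3 (AllChunks.cons rel3_8_12_w_c4 (AllChunks.nil))))))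

theorem rel3_8_12 : relChk1 lk nP Uid 3 gT3 sqL3 cmL3 (8, 12) = true :=
  relChk1_off lk nP Uid 3 gT3 sqL3 cmL3 8 12 (by decide) rel3_8_12_w

theorem rel3_9_9_w_c0 : allR 0 10000 (eqF lk (sqA Uid 3 gT3 9) (sqB Uid gT3 sqL3 9)) = true := by decide +kernel
theorem rel3_9_9_w_c1 : allR 10000 10000 (eqF lk (sqA Uid 3 gT3 9) (sqB Uid gT3 sqL3 9)) = true := by decide +kernel
theorem rel3_9_9_w_c2 : allR 20000 10000 (eqF lk (sqA Uid 3 gT3 9) (sqB Uid gT3 sqL3 9)) = true := by decide +kernel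
theorem rel3_9_9_w_c3 : allR 30000 1671 (eqF lk (sqA Uid 3 gT3 9) (sqB Uid gT3 sqL3 9)) = true := by decide +kernel
theorem rel3_9_9_w : eqWW lk nP (sqA Uid 3 gT3 9) (sqB Uid gT3 sqL3 9) = true :=
  eqWW_of_eqF lk nP _ _ [(0, 10000), (10000, 10000), (20000, 10000), (30000, 1671)] (by decide) (AllChunks.cons rel3_9_9_w_c0 (AllChunks.cons rel3_9_9_w_c1 (AllChunks.cons rel3_9_9_w_c2 (AllChunks.cons rel3_9_9_w_c3 (AllChunks.nil)))))

theorem rel3_9_9 : relChk1 lk nP Uid 3 gT3 sqL3 cmL3 (9, 9) = true :=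
  relChk1_diag lk nP Uid 3 gT3 sqL3 cmL3 9 rel3_9_9_w

theorem rel3_9_10_w_c0 : allR 0 7500 (eqF lk (cmA Uid gT3 9 10) (cmB Uid gT3 cmL3 9 10)) = true := by decide +kernel
theorem rel3_9_10_w_c1 : allR 7500 7500 (eqF lk (cmA Uid gT3 9 10) (cmB Uid gT3 cmL3 9 10)) = true := by decide +kernel
theorem rel3_9_10_w_c2 : allR 15000 7500 (eqF lk (cmA Uid gT3 9 10) (cmB Uid gT3 cmL3 9 10)) = true := by decide +kernel
theorem rel3_9_10_w_c3 : allR 22500 7500 (eqF lk (cmA Uid gT3 9 10) (cmB Uid gT3 cmL3 9 10)) = true := by decide +kernel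
theorem rel3_9_10_w_c4 : allR 30000 1671 (eqF lk (cmA Uid gT3 9 10) (cmB Uid gT3 cmL3 9 10)) = true := by decide +kernel
theorem rel3_9_10_w : eqWW lk nP (cmA Uid gT3 9 10) (cmB Uid gT3 cmL3 9 10) = true :=
  eqWW_of_eqF lk nP _ _ [(0, 7500), (7500, 7500), (15000, 7500), (22500, 7500), (30000, 1671)] (by decide) (AllChunks.cons rel3_9_10_w_c0 (AllChunks.cons rel3_9_10_w_c1 (AllChunks.cons rel3_9_10_w_c2 (AllChunks.cons rel3_9_10_w_c3 (AllChunks.cons rel3_9_10_w_c4 (AllChunks.nil))))))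

theorem rel3_9_10 : relChk1 lk nP Uid 3 gT3 sqL3 cmL3 (9, 10) = true :=
  relChk1_off lk nP Uid 3 gT3 sqL3 cmL3 9 10 (by decide) rel3_9_10_w

theorem rel3_9_11_w_c0 : allR 0 7500 (eqF lk (cmA Uid gT3 9 11) (cmB Uid gT3 cmL3 9 11)) = true := by decide +kernel
theorem rel3_9_11_w_c1 : allR 7500 7500 (eqF lk (cmA Uid gT3 9 11) (cmB Uid gT3 cmL3 9 11)) = true := by decide +kernel
theorem rel3_9_11_w_c2 : allR 15000 7500 (eqF lk (cmA Uid gT3 9 11) (cmB Uid gT3 cmL3 9 11)) = true := by decide +kernel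
theorem rel3_9_11_w_c3 : allR 22500 7500 (eqF lk (cmA Uid gT3 9 11) (cmB Uid gT3 cmL3 9 11)) = true := by decide +kernel
theorem rel3_9_11_w_c4 : allR 30000 1671 (eqF lk (cmA Uid gT3 9 11) (cmB Uid gT3 cmL3 9 11)) = true := by decide +kernel
theorem rel3_9_11_w : eqWW lk nP (cmA Uid gT3 9 11) (cmB Uid gT3 cmL3 9 11) = true :=
  eqWW_of_eqF lk nP _ _ [(0, 7500), (7500, 7500), (15000, 7500), (22500, 7500), (30000, 1671)] (by decide) (AllChunks.cons rel3_9_11_w_c0 (AllChunks.cons rel3_9_11_w_c1 (AllChunks.cons rel3_9_11_w_c2 (AllChunks.cons rel3_9_11_w_c3 (AllChunks.cons rel3_9_11_w_c4 (AllChunks.nil))))))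

theorem rel3_9_11 : relChk1 lk nP Uid 3 gT3 sqL3 cmL3 (9, 11) = true :=
  relChk1_off lk nP Uid 3 gT3 sqL3 cmL3 9 11 (by decide) rel3_9_11_w

theorem rel3_9_12_w_c0 : allR 0 7500 (eqF lk (cmA Uid gT3 9 12) (cmB Uid gT3 cmL3 9 12)) = true := by decide +kernel
theorem rel3_9_12_w_c1 : allR 7500 7500 (eqF lk (cmA Uid gT3 9 12) (cmB Uid gT3 cmL3 9 12)) = true := by decide +kernel
theorem rel3_9_12_w_c2 : allR 15000 7500 (eqF lk (cmA Uid gT3 9 12) (cmB Uid gT3 cmL3 9 12)) = true := by decide +kernel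
theorem rel3_9_12_w_c3 : allR 22500 7500 (eqF lk (cmA Uid gT3 9 12) (cmB Uid gT3 cmL3 9 12)) = true := by decide +kernel
theorem rel3_9_12_w_c4 : allR 30000 1671 (eqF lk (cmA Uid gT3 9 12) (cmB Uid gT3 cmL3 9 12)) = true := by decide +kernel
theorem rel3_9_12_w : eqWW lk nP (cmA Uid gT3 9 12) (cmB Uid gT3 cmL3 9 12) = true :=
  eqWW_of_eqF lk nP _ _ [(0, 7500), (7500, 7500), (15000, 7500), (22500, 7500), (30000, 1671)] (by decide) (AllChunks.cons rel3_9_12_w_c0 (AllChunks.cons rel3_9_12_w_c1 (AllChunks.cons rel3_9_12_w_c2 (AllChunks.cons rel3_9_12_w_c3 (AllChunks.cons rel3_9_12_w_c4 (AllChunks.nil))))))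

theorem rel3_9_12 : relChk1 lk nP Uid 3 gT3 sqL3 cmL3 (9, 12) = true :=
  relChk1_off lk nP Uid 3 gT3 sqL3 cmL3 9 12 (by decide) rel3_9_12_w

theorem rel3_10_10_w_c0 : allR 0 10000 (eqF lk (sqA Uid 3 gT3 10) (sqB Uid gT3 sqL3 10)) = true := by decide +kernel
theorem rel3_10_10_w_c1 : allR 10000 10000 (eqF lk (sqA Uid 3 gT3 10) (sqB Uid gT3 sqL3 10)) = true := by decide +kernel
theorem rel3_10_10_w_c2 : allR 20000 10000 (eqF lk (sqA Uid 3 gT3 10) (sqB Uid gT3 sqL3 10)) = true := by decide +kernel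
theorem rel3_10_10_w_c3 : allR 30000 1671 (eqF lk (sqA Uid 3 gT3 10) (sqB Uid gT3 sqL3 10)) = true := by decide +kernel
theorem rel3_10_10_w : eqWW lk nP (sqA Uid 3 gT3 10) (sqB Uid gT3 sqL3 10) = true :=
  eqWW_of_eqF lk nP _ _ [(0, 10000), (10000, 10000), (20000, 10000), (30000, 1671)] (by decide) (AllChunks.cons rel3_10_10_w_c0 (AllChunks.cons rel3_10_10_w_c1 (AllChunks.cons rel3_10_10_w_c2 (AllChunks.cons rel3_10_10_w_c3 (AllChunks.nil)))))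

theorem rel3_10_10 : relChk1 lk nP Uid 3 gT3 sqL3 cmL3 (10, 10) = true :=
  relChk1_diag lk nP Uid 3 gT3 sqL3 cmL3 10 rel3_10_10_w

theorem rel3_10_11_w_c0 : allR 0 7500 (eqF lk (cmA Uid gT3 10 11) (cmB Uid gT3 cmL3 10 11)) = true := by decide +kernel
theorem rel3_10_11_w_c1 : allR 7500 7500 (eqF lk (cmA Uid gT3 10 11) (cmB Uid gT3 cmL3 10 11)) = true := by decide +kernel
theorem rel3_10_11_w_c2 : allR 15000 7500 (eqF lk (cmA Uid gT3 10 11) (cmB Uid gT3 cmL3 10 11)) = true := by decide +kernel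
theorem rel3_10_11_w_c3 : allR 22500 7500 (eqF lk (cmA Uid gT3 10 11) (cmB Uid gT3 cmL3 10 11)) = true := by decide +kernel
theorem rel3_10_11_w_c4 : allR 30000 1671 (eqF lk (cmA Uid gT3 10 11) (cmB Uid gT3 cmL3 10 11)) = true := by decide +kernel
theorem rel3_10_11_w : eqWW lk nP (cmA Uid gT3 10 11) (cmB Uid gT3 cmL3 10 11) = true :=
  eqWW_of_eqF lk nP _ _ [(0, 7500), (7500, 7500), (15000, 7500), (22500, 7500), (30000, 1671)] (by decide) (AllChunks.cons rel3_10_11_w_c0 (AllChunks.cons rel3_10_11_w_c1 (AllChunks.cons rel3_10_11_w_c2 (AllChunks.cons rel3_10_11_w_c3 (AllChunks.cons rel3_10_11_w_c4 (AllChunks.nil))))))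

theorem rel3_10_11 : relChk1 lk nP Uid 3 gT3 sqL3 cmL3 (10, 11) = true :=
  relChk1_off lk nP Uid 3 gT3 sqL3 cmL3 10 11 (by decide) rel3_10_11_w

theorem rel3_10_12_w_c0 : allR 0 7500 (eqF lk (cmA Uid gT3 10 12) (cmB Uid gT3 cmL3 10 12)) = true := by decide +kernel
theorem rel3_10_12_w_c1 : allR 7500 7500 (eqF lk (cmA Uid gT3 10 12) (cmB Uid gT3 cmL3 10 12)) = true := by decide +kernel
theorem rel3_10_12_w_c2 : allR 15000 7500 (eqF lk (cmA Uid gT3 10 12) (cmB Uid gT3 cmL3 10 12)) = true := by decide +kernel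
theorem rel3_10_12_w_c3 : allR 22500 7500 (eqF lk (cmA Uid gT3 10 12) (cmB Uid gT3 cmL3 10 12)) = true := by decide +kernel
theorem rel3_10_12_w_c4 : allR 30000 1671 (eqF lk (cmA Uid gT3 10 12) (cmB Uid gT3 cmL3 10 12)) = true := by decide +kernel
theorem rel3_10_12_w : eqWW lk nP (cmA Uid gT3 10 12) (cmB Uid gT3 cmL3 10 12) = true :=
  eqWW_of_eqF lk nP _ _ [(0, 7500), (7500, 7500), (15000, 7500), (22500, 7500), (30000, 1671)] (by decide) (AllChunks.cons rel3_10_12_w_c0 (AllChunks.cons rel3_10_12_w_c1 (AllChunks.cons rel3_10_12_w_c2 (AllChunks.cons rel3_10_12_w_c3 (AllChunks.cons rel3_10_12_w_c4 (AllChunks.nil))))))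

theorem rel3_10_12 : relChk1 lk nP Uid 3 gT3 sqL3 cmL3 (10, 12) = true :=
  relChk1_off lk nP Uid 3 gT3 sqL3 cmL3 10 12 (by decide) rel3_10_12_w

theorem rel3_11_11_w_c0 : allR 0 10000 (eqF lk (sqA Uid 3 gT3 11) (sqB Uid gT3 sqL3 11)) = true := by decide +kernel
theorem rel3_11_11_w_c1 : allR 10000 10000 (eqF lk (sqA Uid 3 gT3 11) (sqB Uid gT3 sqL3 11)) = true := by decide +kernel
theorem rel3_11_11_w_c2 : allR 20000 10000 (eqF lk (sqA Uid 3 gT3 11) (sqB Uid gT3 sqL3 11)) = true := by decide +kernel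
theorem rel3_11_11_w_c3 : allR 30000 1671 (eqF lk (sqA Uid 3 gT3 11) (sqB Uid gT3 sqL3 11)) = true := by decide +kernel
theorem rel3_11_11_w : eqWW lk nP (sqA Uid 3 gT3 11) (sqB Uid gT3 sqL3 11) = true :=
  eqWW_of_eqF lk nP _ _ [(0, 10000), (10000, 10000), (20000, 10000), (30000, 1671)] (by decide) (AllChunks.cons rel3_11_11_w_c0 (AllChunks.cons rel3_11_11_w_c1 (AllChunks.cons rel3_11_11_w_c2 (AllChunks.cons rel3_11_11_w_c3 (AllChunks.nil)))))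

theorem rel3_11_11 : relChk1 lk nP Uid 3 gT3 sqL3 cmL3 (11, 11) = true :=
  relChk1_diag lk nP Uid 3 gT3 sqL3 cmL3 11 rel3_11_11_w

theorem rel3_11_12_w_c0 : allR 0 7500 (eqF lk (cmA Uid gT3 11 12) (cmB Uid gT3 cmL3 11 12)) = true := by decide +kernel
theorem rel3_11_12_w_c1 : allR 7500 7500 (eqF lk (cmA Uid gT3 11 12) (cmB Uid gT3 cmL3 11 12)) = true := by decide +kernel
theorem rel3_11_12_w_c2 : allR 15000 7500 (eqF lk (cmA Uid gT3 11 12) (cmB Uid gT3 cmL3 11 12)) = true := by decide +kernel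
theorem rel3_11_12_w_c3 : allR 22500 7500 (eqF lk (cmA Uid gT3 11 12) (cmB Uid gT3 cmL3 11 12)) = true := by decide +kernel
theorem rel3_11_12_w_c4 : allR 30000 1671 (eqF lk (cmA Uid gT3 11 12) (cmB Uid gT3 cmL3 11 12)) = true := by decide +kernel
theorem rel3_11_12_w : eqWW lk nP (cmA Uid gT3 11 12) (cmB Uid gT3 cmL3 11 12) = true :=
  eqWW_of_eqF lk nP _ _ [(0, 7500), (7500, 7500), (15000, 7500), (22500, 7500), (30000, 1671)] (by decide) (AllChunks.cons rel3_11_12_w_c0 (AllChunks.cons rel3_11_12_w_c1 (AllChunks.cons rel3_11_12_w_c2 (AllChunks.cons rel3_11_12_w_c3 (AllChunks.cons rel3_11_12_w_c4 (AllChunks.nil))))))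

theorem rel3_11_12 : relChk1 lk nP Uid 3 gT3 sqL3 cmL3 (11, 12) = true :=
  relChk1_off lk nP Uid 3 gT3 sqL3 cmL3 11 12 (by decide) rel3_11_12_w

theorem rel3_12_12_w_c0 : allR 0 10000 (eqF lk (sqA Uid 3 gT3 12) (sqB Uid gT3 sqL3 12)) = true := by decide +kernel
theorem rel3_12_12_w_c1 : allR 10000 10000 (eqF lk (sqA Uid 3 gT3 12) (sqB Uid gT3 sqL3 12)) = true := by decide +kernel
theorem rel3_12_12_w_c2 : allR 20000 10000 (eqF lk (sqA Uid 3 gT3 12) (sqB Uid gT3 sqL3 12)) = true := by decide +kernel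
theorem rel3_12_12_w_c3 : allR 30000 1671 (eqF lk (sqA Uid 3 gT3 12) (sqB Uid gT3 sqL3 12)) = true := by decide +kernel
theorem rel3_12_12_w : eqWW lk nP (sqA Uid 3 gT3 12) (sqB Uid gT3 sqL3 12) = true :=
  eqWW_of_eqF lk nP _ _ [(0, 10000), (10000, 10000), (20000, 10000), (30000, 1671)] (by decide) (AllChunks.cons rel3_12_12_w_c0 (AllChunks.cons rel3_12_12_w_c1 (AllChunks.cons rel3_12_12_w_c2 (AllChunks.cons rel3_12_12_w_c3 (AllChunks.nil)))))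

theorem rel3_12_12 : relChk1 lk nP Uid 3 gT3 sqL3 cmL3 (12, 12) = true :=
  relChk1_diag lk nP Uid 3 gT3 sqL3 cmL3 12 rel3_12_12_w

theorem relpart3x4_ok : relsPart lk nP Uid 3 gT3 sqL3 cmL3 relpart3x4 = true :=
  relsPart_of_allRel _ (AllRel.cons rel3_7_10 (AllRel.cons rel3_7_11 (AllRel.cons rel3_7_12 (AllRel.cons rel3_8_8 (AllRel.cons rel3_8_9 (AllRel.cons rel3_8_10 (AllRel.cons rel3_8_11 (AllRel.cons rel3_8_12 (AllRel.cons rel3_9_9 (AllRel.cons rel3_9_10 (AllRel.cons rel3_9_11 (AllRel.cons rel3_9_12 (AllRel.cons rel3_10_10 (AllRel.cons rel3_10_11 (AllRel.cons rel3_10_12 (AllRel.cons rel3_11_11 (AllRel.cons rel3_11_12 (AllRel.cons rel3_12_12 (AllRel.nil lk nP Uid 3 gT3 sqL3 cmL3)))))))))))))))))))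

end Cfsg.Agent.Lib.Helper28.Fi
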