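import Mathlib
import Cfsg.Agent.Lib.Helper5.PcPH
import Cfsg.Agent.Lib.Helper5.PcPK
import Cfsg.Agent.Lib.Helper28.Fi.Core
import Cfsg.Agent.Lib.Helper28.Fi.Chunk
import Cfsg.Agent.Lib.Helper28.Fi.Rel
import Cfsg.Agent.Lib.Helper28.Fi.Lists
import Cfsg.Agent.Lib.Helper28.Fi.Data3
import Cfsg.Agent.Lib.Helper28.Fi.Rel3x0
import Cfsg.Agent.Lib.Helper28.Fi.Rel3x1
import Cfsg.Agent.Lib.Helper28.Fi.Rel3x2
import Cfsg.Agent.Lib.Helper28.Fi.Rel3x3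
import Cfsg.Agent.Lib.Helper28.Fi.Rel3x4
import Cfsg.Agent.Lib.Helper28.Fi.Fus3x0
import Cfsg.Agent.Lib.Helper28.Fi.Fus3x1
import Cfsg.Agent.Lib.Helper28.Fi.CertV3

set_option autoImplicit false
set_option maxRecDepth 1000000
set_option Elab.async false

/-! Assembly of the checks for a Sylow 3-subgroup of Fi23 (generated). -/

namespace Cfsg.Agent.Lib.Helper28.Fi

open Cfsg.Agent.Lib.Helper5.CP Cfsg.Agent.Lib.Helper5.PcP Cfsg.Agent.Lib.Helper5.PcT Cfsg.Agent.Lib.Helper12.TC.Fi23o31671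

theorem data3_ok : dataOK 13 sqL3 cmL3 = true := by decide +kernel

theorem rels3_ok : relsChkP lk nP Uid 3 gT3 13 sqL3 cmL3 = true := by
  apply relsChkP_of_parts lk nP Uid 3 _ 13 sqL3 cmL3 relparts3 (by decide +kernel)
  intro L hL
  simp only [relparts3, List.mem_cons, List.not_mem_nil, or_false] at hL
  rcases hL with rfl | rfl | rfl | rfl | rfl
  · exact relpart3x0_ok
  · exact relpart3x1_ok
  · exact relpart3x2_ok
  · exact relpart3x3_ok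
  · exact relpart3x4_ok

theorem pw3_ok : pwChk lk nP Uid 3 gT3 hT3 pwL3 = true :=
  pwChk_cons lk nP Uid 3 gT3 hT3 pw3e0 _ pw3e0_a pw3e0_b (pwChk_cons lk nP Uid 3 gT3 hT3 pw3e1 _ pw3e1_a pw3e1_b (pwChk_cons lk nP Uid 3 gT3 hT3 pw3e2 _ pw3e2_a pw3e2_b (pwChk_cons lk nP Uid 3 gT3 hT3 pw3e3 _ pw3e3_a pw3e3_b (pwChk_nil lk nP Uid 3 gT3 hT3))))

theorem cm3_ok : cmChk lk nP Uid gT3 hT3 cmEL3 = true :=
  cmChk_cons lk nP Uid gT3 hT3 cm3e0 _ cm3e0_a cm3e0_b cm3e0_c (cmChk_cons lk nP Uid gT3 hT3 cm3e1 _ cm3e1_a cm3e1_b cm3e1_c (cmChk_cons lk nP Uid gT3 hT3 cm3e2 _ cm3e2_a cm3e2_b cm3e2_c (cmChk_nil lk nP Uid gT3 hT3)))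

theorem levels3_ok : chainChk lk nP Uid gT3 [] levels3 = true := by
  decide +kernel

theorem levels3_prod : chainProd levels3 = 3 ^ 13 := by decide +kernel

end Cfsg.Agent.Lib.Helper28.Fi
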