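import Mathlib

set_option autoImplicit false
set_option maxRecDepth 1000000

/-! Certificates for a Sylow 5-subgroup of the Fischer group Fi23 (generated). -/

namespace Cfsg.Agent.Lib.Helper28.Fi

/-- the powers of the polycyclic generators -/
def sqL5 : List (List ℕ) := [[], []]

/-- the commutators of the polycyclic generators -/
def cmL5 : List (List (List ℕ)) := [[[], []], [[], []]]

/-- the consistency checks used -/
def conL5 : List (List ℕ × List ℕ) := []

/-- a pair of conjugate elements of prime order, with the index of a conjugating element -/
def pw5e0 : (List ℕ × List ℕ) × ℕ := (([0], [0, 0]), 0)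

/-- a pair of conjugate elements of prime order, with the index of a conjugating element -/
def pw5e1 : (List ℕ × List ℕ) × ℕ := (([1], [1, 1, 1]), 1)

/-- pairs of conjugate elements of prime order, with the index of a conjugating element -/
def pwL5 : List ((List ℕ × List ℕ) × ℕ) := [pw5e0, pw5e1]

/-- a pair of simultaneously conjugate commuting pairs, with the index of a conjugating element -/
def cm5e0 : (List ℕ × List ℕ × List ℕ × List ℕ) × ℕ := (([0], [1], [0, 0], [1]), 0)

/-- pairs of simultaneously conjugate commuting pairs, with the index of a conjugating element -/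
def cmEL5 : List ((List ℕ × List ℕ × List ℕ × List ℕ) × ℕ) := [cm5e0]

/-- relations to be checked, part 0 -/
def relpart5x0 : List (ℕ × ℕ) := [(0, 0), (0, 1), (1, 1)]

/-- the relations to be checked -/
def relparts5 : List (List (ℕ × ℕ)) := [relpart5x0]

/-- the forms of the correcting exponents -/
def CC5 : List (List (ℕ × ℕ)) := [[], []]

/-- the certificates -/
def certs5 : List (List ℕ) := [[0], [2, 2, 2, 2], [], [1, 1, 1]]

/-- a chain of stabilisers: base points with words with pairwise different images -/
def levels5 : List (ℕ × List (List ℕ)) := [(5, [[], [0, 0], [0, 0, 0, 0], [0], [0, 0, 0]]), (0, [[], [1, 1, 1, 1], [1, 1, 1], [1, 1], [1]])]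

end Cfsg.Agent.Lib.Helper28.Fi
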