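import Mathlib
import Cfsg.Agent.Lib.Helper5.PcPH
import Cfsg.Agent.Lib.Helper5.PcPK
import Cfsg.Agent.Lib.Helper5.PcPJ
import Cfsg.Agent.Lib.Helper28.Fi.Core
import Cfsg.Agent.Lib.Helper28.Fi.Data5

set_option autoImplicit false
set_option maxRecDepth 1000000
set_option Elab.async false

/-! Check of the certificate for a Sylow 5-subgroup of Fi23 (generated). -/

namespace Cfsg.Agent.Lib.Helper28.Fi

open Cfsg.Agent.Lib.Helper5.CP Cfsg.Agent.Lib.Helper5.PcP Cfsg.Agent.Lib.Helper5.PcT Cfsg.Agent.Lib.Helper12.TC.Fi23o31671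

theorem cert5_ok : certOKP 5 (PcD.ofLists 2 sqL5 cmL5) CC5
    (zformsP 5 (PcD.ofLists 2 sqL5 cmL5) 400 conL5
      (mkRel 5 (pwL5.map Prod.fst) [] (cmEL5.map Prod.fst) [])) certs5 = true :=
  certOKP_of_certOKV _ _ _ _ _ (by decide +kernel)

end Cfsg.Agent.Lib.Helper28.Fi
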