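import Mathlib
import Cfsg.Agent.Lib.Helper28.Fi.Core
import Cfsg.Agent.Lib.Helper28.Fi.Chunk
import Cfsg.Agent.Lib.Helper28.Fi.Rel
import Cfsg.Agent.Lib.Helper28.Fi.Lists
import Cfsg.Agent.Lib.Helper28.Fi.Data5

set_option autoImplicit false
set_option maxRecDepth 1000000
set_option Elab.async false

/-! Checks of fusion in a Sylow 5-subgroup of Fi23, part 0 (generated). -/

namespace Cfsg.Agent.Lib.Helper28.Fi

open Cfsg.Agent.Lib.Helper5.CP Cfsg.Agent.Lib.Helper5.PcP Cfsg.Agent.Lib.Helper5.PcT Cfsg.Agent.Lib.Helper12.TC.Fi23o31671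

theorem pw5e0_a_c0 : allR 0 6000 (eqF lk (pwA1 Uid gT5 hT5 pw5e0) (pwB1 Uid gT5 hT5 pw5e0)) = true := by decide +kernel
theorem pw5e0_a_c1 : allR 6000 6000 (eqF lk (pwA1 Uid gT5 hT5 pw5e0) (pwB1 Uid gT5 hT5 pw5e0)) = true := by decide +kernel
theorem pw5e0_a_c2 : allR 12000 6000 (eqF lk (pwA1 Uid gT5 hT5 pw5e0) (pwB1 Uid gT5 hT5 pw5e0)) = true := by decide +kernel
theorem pw5e0_a_c3 : allR 18000 6000 (eqF lk (pwA1 Uid gT5 hT5 pw5e0) (pwB1 Uid gT5 hT5 pw5e0)) = true := by decide +kernel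
theorem pw5e0_a_c4 : allR 24000 6000 (eqF lk (pwA1 Uid gT5 hT5 pw5e0) (pwB1 Uid gT5 hT5 pw5e0)) = true := by decide +kernel
theorem pw5e0_a_c5 : allR 30000 1671 (eqF lk (pwA1 Uid gT5 hT5 pw5e0) (pwB1 Uid gT5 hT5 pw5e0)) = true := by decide +kernel
theorem pw5e0_a : eqWW lk nP (pwA1 Uid gT5 hT5 pw5e0) (pwB1 Uid gT5 hT5 pw5e0) = true :=
  eqWW_of_eqF lk nP _ _ [(0, 6000), (6000, 6000), (12000, 6000), (18000, 6000), (24000, 6000), (30000, 1671)] (by decide) (AllChunks.cons pw5e0_a_c0 (AllChunks.cons pw5e0_a_c1 (AllChunks.cons pw5e0_a_c2 (AllChunks.cons pw5e0_a_c3 (AllChunks.cons pw5e0_a_c4 (AllChunks.cons pw5e0_a_c5 (AllChunks.nil)))))))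

theorem pw5e0_b_c0 : allR 0 6000 (eqF lk (pwA2 Uid 5 gT5 pw5e0) ([])) = true := by decide +kernel
theorem pw5e0_b_c1 : allR 6000 6000 (eqF lk (pwA2 Uid 5 gT5 pw5e0) ([])) = true := by decide +kernel
theorem pw5e0_b_c2 : allR 12000 6000 (eqF lk (pwA2 Uid 5 gT5 pw5e0) ([])) = true := by decide +kernel
theorem pw5e0_b_c3 : allR 18000 6000 (eqF lk (pwA2 Uid 5 gT5 pw5e0) ([])) = true := by decide +kernel
theorem pw5e0_b_c4 : allR 24000 6000 (eqF lk (pwA2 Uid 5 gT5 pw5e0) ([])) = true := by decide +kernel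
theorem pw5e0_b_c5 : allR 30000 1671 (eqF lk (pwA2 Uid 5 gT5 pw5e0) ([])) = true := by decide +kernel
theorem pw5e0_b : eqWW lk nP (pwA2 Uid 5 gT5 pw5e0) ([]) = true :=
  eqWW_of_eqF lk nP _ _ [(0, 6000), (6000, 6000), (12000, 6000), (18000, 6000), (24000, 6000), (30000, 1671)] (by decide) (AllChunks.cons pw5e0_b_c0 (AllChunks.cons pw5e0_b_c1 (AllChunks.cons pw5e0_b_c2 (AllChunks.cons pw5e0_b_c3 (AllChunks.cons pw5e0_b_c4 (AllChunks.cons pw5e0_b_c5 (AllChunks.nil)))))))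

theorem pw5e1_a_c0 : allR 0 5000 (eqF lk (pwA1 Uid gT5 hT5 pw5e1) (pwB1 Uid gT5 hT5 pw5e1)) = true := by decide +kernel
theorem pw5e1_a_c1 : allR 5000 5000 (eqF lk (pwA1 Uid gT5 hT5 pw5e1) (pwB1 Uid gT5 hT5 pw5e1)) = true := by decide +kernel
theorem pw5e1_a_c2 : allR 10000 5000 (eqF lk (pwA1 Uid gT5 hT5 pw5e1) (pwB1 Uid gT5 hT5 pw5e1)) = true := by decide +kernel
theorem pw5e1_a_c3 : allR 15000 5000 (eqF lk (pwA1 Uid gT5 hT5 pw5e1) (pwB1 Uid gT5 hT5 pw5e1)) = true := by decide +kernel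
theorem pw5e1_a_c4 : allR 20000 5000 (eqF lk (pwA1 Uid gT5 hT5 pw5e1) (pwB1 Uid gT5 hT5 pw5e1)) = true := by decide +kernel
theorem pw5e1_a_c5 : allR 25000 5000 (eqF lk (pwA1 Uid gT5 hT5 pw5e1) (pwB1 Uid gT5 hT5 pw5e1)) = true := by decide +kernel
theorem pw5e1_a_c6 : allR 30000 1671 (eqF lk (pwA1 Uid gT5 hT5 pw5e1) (pwB1 Uid gT5 hT5 pw5e1)) = true := by decide +kernel
theorem pw5e1_a : eqWW lk nP (pwA1 Uid gT5 hT5 pw5e1) (pwB1 Uid gT5 hT5 pw5e1) = true :=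
  eqWW_of_eqF lk nP _ _ [(0, 5000), (5000, 5000), (10000, 5000), (15000, 5000), (20000, 5000), (25000, 5000), (30000, 1671)] (by decide) (AllChunks.cons pw5e1_a_c0 (AllChunks.cons pw5e1_a_c1 (AllChunks.cons pw5e1_a_c2 (AllChunks.cons pw5e1_a_c3 (AllChunks.cons pw5e1_a_c4 (AllChunks.cons pw5e1_a_c5 (AllChunks.cons pw5e1_a_c6 (AllChunks.nil))))))))

theorem pw5e1_b_c0 : allR 0 6000 (eqF lk (pwA2 Uid 5 gT5 pw5e1) ([])) = true := by decide +kernel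
theorem pw5e1_b_c1 : allR 6000 6000 (eqF lk (pwA2 Uid 5 gT5 pw5e1) ([])) = true := by decide +kernel
theorem pw5e1_b_c2 : allR 12000 6000 (eqF lk (pwA2 Uid 5 gT5 pw5e1) ([])) = true := by decide +kernel
theorem pw5e1_b_c3 : allR 18000 6000 (eqF lk (pwA2 Uid 5 gT5 pw5e1) ([])) = true := by decide +kernel
theorem pw5e1_b_c4 : allR 24000 6000 (eqF lk (pwA2 Uid 5 gT5 pw5e1) ([])) = true := by decide +kernel
theorem pw5e1_b_c5 : allR 30000 1671 (eqF lk (pwA2 Uid 5 gT5 pw5e1) ([])) = true := by decide +kernel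
theorem pw5e1_b : eqWW lk nP (pwA2 Uid 5 gT5 pw5e1) ([]) = true :=
  eqWW_of_eqF lk nP _ _ [(0, 6000), (6000, 6000), (12000, 6000), (18000, 6000), (24000, 6000), (30000, 1671)] (by decide) (AllChunks.cons pw5e1_b_c0 (AllChunks.cons pw5e1_b_c1 (AllChunks.cons pw5e1_b_c2 (AllChunks.cons pw5e1_b_c3 (AllChunks.cons pw5e1_b_c4 (AllChunks.cons pw5e1_b_c5 (AllChunks.nil)))))))

theorem cm5e0_a_c0 : allR 0 6000 (eqF lk (cmA1 Uid gT5 hT5 cm5e0) (cmB1 Uid gT5 hT5 cm5e0)) = true := by decide +kernel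
theorem cm5e0_a_c1 : allR 6000 6000 (eqF lk (cmA1 Uid gT5 hT5 cm5e0) (cmB1 Uid gT5 hT5 cm5e0)) = true := by decide +kernel
theorem cm5e0_a_c2 : allR 12000 6000 (eqF lk (cmA1 Uid gT5 hT5 cm5e0) (cmB1 Uid gT5 hT5 cm5e0)) = true := by decide +kernel
theorem cm5e0_a_c3 : allR 18000 6000 (eqF lk (cmA1 Uid gT5 hT5 cm5e0) (cmB1 Uid gT5 hT5 cm5e0)) = true := by decide +kernel
theorem cm5e0_a_c4 : allR 24000 6000 (eqF lk (cmA1 Uid gT5 hT5 cm5e0) (cmB1 Uid gT5 hT5 cm5e0)) = true := by decide +kernel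
theorem cm5e0_a_c5 : allR 30000 1671 (eqF lk (cmA1 Uid gT5 hT5 cm5e0) (cmB1 Uid gT5 hT5 cm5e0)) = true := by decide +kernel
theorem cm5e0_a : eqWW lk nP (cmA1 Uid gT5 hT5 cm5e0) (cmB1 Uid gT5 hT5 cm5e0) = true :=
  eqWW_of_eqF lk nP _ _ [(0, 6000), (6000, 6000), (12000, 6000), (18000, 6000), (24000, 6000), (30000, 1671)] (by decide) (AllChunks.cons cm5e0_a_c0 (AllChunks.cons cm5e0_a_c1 (AllChunks.cons cm5e0_a_c2 (AllChunks.cons cm5e0_a_c3 (AllChunks.cons cm5e0_a_c4 (AllChunks.cons cm5e0_a_c5 (AllChunks.nil)))))))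

theorem cm5e0_b_c0 : allR 0 7500 (eqF lk (cmA2 Uid gT5 hT5 cm5e0) (cmB2 Uid gT5 hT5 cm5e0)) = true := by decide +kernel
theorem cm5e0_b_c1 : allR 7500 7500 (eqF lk (cmA2 Uid gT5 hT5 cm5e0) (cmB2 Uid gT5 hT5 cm5e0)) = true := by decide +kernel
theorem cm5e0_b_c2 : allR 15000 7500 (eqF lk (cmA2 Uid gT5 hT5 cm5e0) (cmB2 Uid gT5 hT5 cm5e0)) = true := by decide +kernel
theorem cm5e0_b_c3 : allR 22500 7500 (eqF lk (cmA2 Uid gT5 hT5 cm5e0) (cmB2 Uid gT5 hT5 cm5e0)) = true := by decide +kernel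
theorem cm5e0_b_c4 : allR 30000 1671 (eqF lk (cmA2 Uid gT5 hT5 cm5e0) (cmB2 Uid gT5 hT5 cm5e0)) = true := by decide +kernel
theorem cm5e0_b : eqWW lk nP (cmA2 Uid gT5 hT5 cm5e0) (cmB2 Uid gT5 hT5 cm5e0) = true :=
  eqWW_of_eqF lk nP _ _ [(0, 7500), (7500, 7500), (15000, 7500), (22500, 7500), (30000, 1671)] (by decide) (AllChunks.cons cm5e0_b_c0 (AllChunks.cons cm5e0_b_c1 (AllChunks.cons cm5e0_b_c2 (AllChunks.cons cm5e0_b_c3 (AllChunks.cons cm5e0_b_c4 (AllChunks.nil))))))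

theorem cm5e0_c_c0 : allR 0 7500 (eqF lk (cmA3 Uid gT5 cm5e0) (cmB3 Uid gT5 cm5e0)) = true := by decide +kernel
theorem cm5e0_c_c1 : allR 7500 7500 (eqF lk (cmA3 Uid gT5 cm5e0) (cmB3 Uid gT5 cm5e0)) = true := by decide +kernel
theorem cm5e0_c_c2 : allR 15000 7500 (eqF lk (cmA3 Uid gT5 cm5e0) (cmB3 Uid gT5 cm5e0)) = true := by decide +kernel
theorem cm5e0_c_c3 : allR 22500 7500 (eqF lk (cmA3 Uid gT5 cm5e0) (cmB3 Uid gT5 cm5e0)) = true := by decide +kernel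
theorem cm5e0_c_c4 : allR 30000 1671 (eqF lk (cmA3 Uid gT5 cm5e0) (cmB3 Uid gT5 cm5e0)) = true := by decide +kernel
theorem cm5e0_c : eqWW lk nP (cmA3 Uid gT5 cm5e0) (cmB3 Uid gT5 cm5e0) = true :=
  eqWW_of_eqF lk nP _ _ [(0, 7500), (7500, 7500), (15000, 7500), (22500, 7500), (30000, 1671)] (by decide) (AllChunks.cons cm5e0_c_c0 (AllChunks.cons cm5e0_c_c1 (AllChunks.cons cm5e0_c_c2 (AllChunks.cons cm5e0_c_c3 (AllChunks.cons cm5e0_c_c4 (AllChunks.nil))))))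

end Cfsg.Agent.Lib.Helper28.Fi
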