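import Mathlib
import Cfsg.Agent.Lib.Helper28.Fi.Core
import Cfsg.Agent.Lib.Helper28.Fi.Chunk
import Cfsg.Agent.Lib.Helper28.Fi.Rel
import Cfsg.Agent.Lib.Helper28.Fi.Lists
import Cfsg.Agent.Lib.Helper28.Fi.Data5

set_option autoImplicit false
set_option maxRecDepth 1000000
set_option Elab.async false

/-! Checks of the relations of a Sylow 5-subgroup of Fi23, part 0 (generated). -/

namespace Cfsg.Agent.Lib.Helper28.Fi

open Cfsg.Agent.Lib.Helper5.CP Cfsg.Agent.Lib.Helper5.PcP Cfsg.Agent.Lib.Helper5.PcT Cfsg.Agent.Lib.Helper12.TC.Fi23o31671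

theorem rel5_0_0_w_c0 : allR 0 6000 (eqF lk (sqA Uid 5 gT5 0) (sqB Uid gT5 sqL5 0)) = true := by decide +kernel
theorem rel5_0_0_w_c1 : allR 6000 6000 (eqF lk (sqA Uid 5 gT5 0) (sqB Uid gT5 sqL5 0)) = true := by decide +kernel
theorem rel5_0_0_w_c2 : allR 12000 6000 (eqF lk (sqA Uid 5 gT5 0) (sqB Uid gT5 sqL5 0)) = true := by decide +kernel
theorem rel5_0_0_w_c3 : allR 18000 6000 (eqF lk (sqA Uid 5 gT5 0) (sqB Uid gT5 sqL5 0)) = true := by decide +kernel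
theorem rel5_0_0_w_c4 : allR 24000 6000 (eqF lk (sqA Uid 5 gT5 0) (sqB Uid gT5 sqL5 0)) = true := by decide +kernel
theorem rel5_0_0_w_c5 : allR 30000 1671 (eqF lk (sqA Uid 5 gT5 0) (sqB Uid gT5 sqL5 0)) = true := by decide +kernel
theorem rel5_0_0_w : eqWW lk nP (sqA Uid 5 gT5 0) (sqB Uid gT5 sqL5 0) = true :=
  eqWW_of_eqF lk nP _ _ [(0, 6000), (6000, 6000), (12000, 6000), (18000, 6000), (24000, 6000), (30000, 1671)] (by decide) (AllChunks.cons rel5_0_0_w_c0 (AllChunks.cons rel5_0_0_w_c1 (AllChunks.cons rel5_0_0_w_c2 (AllChunks.cons rel5_0_0_w_c3 (AllChunks.cons rel5_0_0_w_c4 (AllChunks.cons rel5_0_0_w_c5 (AllChunks.nil)))))))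

theorem rel5_0_0 : relChk1 lk nP Uid 5 gT5 sqL5 cmL5 (0, 0) = true :=
  relChk1_diag lk nP Uid 5 gT5 sqL5 cmL5 0 rel5_0_0_w

theorem rel5_0_1_w_c0 : allR 0 7500 (eqF lk (cmA Uid gT5 0 1) (cmB Uid gT5 cmL5 0 1)) = true := by decide +kernel
theorem rel5_0_1_w_c1 : allR 7500 7500 (eqF lk (cmA Uid gT5 0 1) (cmB Uid gT5 cmL5 0 1)) = true := by decide +kernel
theorem rel5_0_1_w_c2 : allR 15000 7500 (eqF lk (cmA Uid gT5 0 1) (cmB Uid gT5 cmL5 0 1)) = true := by decide +kernel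
theorem rel5_0_1_w_c3 : allR 22500 7500 (eqF lk (cmA Uid gT5 0 1) (cmB Uid gT5 cmL5 0 1)) = true := by decide +kernel
theorem rel5_0_1_w_c4 : allR 30000 1671 (eqF lk (cmA Uid gT5 0 1) (cmB Uid gT5 cmL5 0 1)) = true := by decide +kernel
theorem rel5_0_1_w : eqWW lk nP (cmA Uid gT5 0 1) (cmB Uid gT5 cmL5 0 1) = true :=
  eqWW_of_eqF lk nP _ _ [(0, 7500), (7500, 7500), (15000, 7500), (22500, 7500), (30000, 1671)] (by decide) (AllChunks.cons rel5_0_1_w_c0 (AllChunks.cons rel5_0_1_w_c1 (AllChunks.cons rel5_0_1_w_c2 (AllChunks.cons rel5_0_1_w_c3 (AllChunks.cons rel5_0_1_w_c4 (AllChunks.nil))))))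

theorem rel5_0_1 : relChk1 lk nP Uid 5 gT5 sqL5 cmL5 (0, 1) = true :=
  relChk1_off lk nP Uid 5 gT5 sqL5 cmL5 0 1 (by decide) rel5_0_1_w

theorem rel5_1_1_w_c0 : allR 0 6000 (eqF lk (sqA Uid 5 gT5 1) (sqB Uid gT5 sqL5 1)) = true := by decide +kernel
theorem rel5_1_1_w_c1 : allR 6000 6000 (eqF lk (sqA Uid 5 gT5 1) (sqB Uid gT5 sqL5 1)) = true := by decide +kernel
theorem rel5_1_1_w_c2 : allR 12000 6000 (eqF lk (sqA Uid 5 gT5 1) (sqB Uid gT5 sqL5 1)) = true := by decide +kernel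
theorem rel5_1_1_w_c3 : allR 18000 6000 (eqF lk (sqA Uid 5 gT5 1) (sqB Uid gT5 sqL5 1)) = true := by decide +kernel
theorem rel5_1_1_w_c4 : allR 24000 6000 (eqF lk (sqA Uid 5 gT5 1) (sqB Uid gT5 sqL5 1)) = true := by decide +kernel
theorem rel5_1_1_w_c5 : allR 30000 1671 (eqF lk (sqA Uid 5 gT5 1) (sqB Uid gT5 sqL5 1)) = true := by decide +kernel
theorem rel5_1_1_w : eqWW lk nP (sqA Uid 5 gT5 1) (sqB Uid gT5 sqL5 1) = true :=
  eqWW_of_eqF lk nP _ _ [(0, 6000), (6000, 6000), (12000, 6000), (18000, 6000), (24000, 6000), (30000, 1671)] (by decide) (AllChunks.cons rel5_1_1_w_c0 (AllChunks.cons rel5_1_1_w_c1 (AllChunks.cons rel5_1_1_w_c2 (AllChunks.cons rel5_1_1_w_c3 (AllChunks.cons rel5_1_1_w_c4 (AllChunks.cons rel5_1_1_w_c5 (AllChunks.nil)))))))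

theorem rel5_1_1 : relChk1 lk nP Uid 5 gT5 sqL5 cmL5 (1, 1) = true :=
  relChk1_diag lk nP Uid 5 gT5 sqL5 cmL5 1 rel5_1_1_w

theorem relpart5x0_ok : relsPart lk nP Uid 5 gT5 sqL5 cmL5 relpart5x0 = true :=
  relsPart_of_allRel _ (AllRel.cons rel5_0_0 (AllRel.cons rel5_0_1 (AllRel.cons rel5_1_1 (AllRel.nil lk nP Uid 5 gT5 sqL5 cmL5))))

end Cfsg.Agent.Lib.Helper28.Fi
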