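import Mathlib
import Cfsg.Agent.Lib.Helper5.PcPH
import Cfsg.Agent.Lib.Helper5.PcPK
import Cfsg.Agent.Lib.Helper28.Fi.Core
import Cfsg.Agent.Lib.Helper28.Fi.Chunk
import Cfsg.Agent.Lib.Helper28.Fi.Rel
import Cfsg.Agent.Lib.Helper28.Fi.Lists
import Cfsg.Agent.Lib.Helper28.Fi.Data5
import Cfsg.Agent.Lib.Helper28.Fi.Rel5x0
import Cfsg.Agent.Lib.Helper28.Fi.Fus5x0
import Cfsg.Agent.Lib.Helper28.Fi.CertV5

set_option autoImplicit false
set_option maxRecDepth 1000000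
set_option Elab.async false

/-! Assembly of the checks for a Sylow 5-subgroup of Fi23 (generated). -/

namespace Cfsg.Agent.Lib.Helper28.Fi

open Cfsg.Agent.Lib.Helper5.CP Cfsg.Agent.Lib.Helper5.PcP Cfsg.Agent.Lib.Helper5.PcT Cfsg.Agent.Lib.Helper12.TC.Fi23o31671

theorem data5_ok : dataOK 2 sqL5 cmL5 = true := by decide +kernel

theorem rels5_ok : relsChkP lk nP Uid 5 gT5 2 sqL5 cmL5 = true := by
  apply relsChkP_of_parts lk nP Uid 5 _ 2 sqL5 cmL5 relparts5 (by decide +kernel)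
  intro L hL
  simp only [relparts5, List.mem_cons, List.not_mem_nil, or_false] at hL
  rcases hL with rfl
  · exact relpart5x0_ok

theorem pw5_ok : pwChk lk nP Uid 5 gT5 hT5 pwL5 = true :=
  pwChk_cons lk nP Uid 5 gT5 hT5 pw5e0 _ pw5e0_a pw5e0_b (pwChk_cons lk nP Uid 5 gT5 hT5 pw5e1 _ pw5e1_a pw5e1_b (pwChk_nil lk nP Uid 5 gT5 hT5))

theorem cm5_ok : cmChk lk nP Uid gT5 hT5 cmEL5 = true :=
  cmChk_cons lk nP Uid gT5 hT5 cm5e0 _ cm5e0_a cm5e0_b cm5e0_c (cmChk_nil lk nP Uid gT5 hT5)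

theorem levels5_ok : chainChk lk nP Uid gT5 [] levels5 = true := by
  decide +kernel

theorem levels5_prod : chainProd levels5 = 5 ^ 2 := by decide +kernel

end Cfsg.Agent.Lib.Helper28.Fi
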