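import Mathlib
import Cfsg.Agent.Lib.Helper28.Fi.Core
import Cfsg.Agent.Lib.Helper28.Fi.Chunk
import Cfsg.Agent.Lib.Helper28.Fi.Tab0
import Cfsg.Agent.Lib.Helper28.Fi.Tab1

set_option autoImplicit false
set_option maxRecDepth 1000000
set_option Elab.async false

/-! Checks that coded permutations are words in earlier ones, part 0 (generated). -/

namespace Cfsg.Agent.Lib.Helper28.Fi

open Cfsg.Agent.Lib.Helper5.CP Cfsg.Agent.Lib.Helper5.PcP Cfsg.Agent.Lib.Helper12.TC.Fi23o31671
theorem chk_t0_c0 : allR 0 8000 (fun i => Nat.beq (lk t0 i) (TT 0 i)) = true := by decide +kernel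
theorem chk_t0_c1 : allR 8000 8000 (fun i => Nat.beq (lk t0 i) (TT 0 i)) = true := by decide +kernel
theorem chk_t0_c2 : allR 16000 8000 (fun i => Nat.beq (lk t0 i) (TT 0 i)) = true := by decide +kernel
theorem chk_t0_c3 : allR 24000 7671 (fun i => Nat.beq (lk t0 i) (TT 0 i)) = true := by decide +kernel
theorem chk_t0 : allB nP (fun i => Nat.beq (lk t0 i) (TT 0 i)) = true :=
  allB_of_chunks _ nP [(0, 8000), (8000, 8000), (16000, 8000), (24000, 7671)] (by decide) (AllChunks.cons chk_t0_c0 (AllChunks.cons chk_t0_c1 (AllChunks.cons chk_t0_c2 (AllChunks.cons chk_t0_c3 (AllChunks.nil)))))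

theorem chk_t1_c0 : allR 0 8000 (fun i => Nat.beq (lk t1 i) (TT 1 i)) = true := by decide +kernel
theorem chk_t1_c1 : allR 8000 8000 (fun i => Nat.beq (lk t1 i) (TT 1 i)) = true := by decide +kernel
theorem chk_t1_c2 : allR 16000 8000 (fun i => Nat.beq (lk t1 i) (TT 1 i)) = true := by decide +kernel
theorem chk_t1_c3 : allR 24000 7671 (fun i => Nat.beq (lk t1 i) (TT 1 i)) = true := by decide +kernel
theorem chk_t1 : allB nP (fun i => Nat.beq (lk t1 i) (TT 1 i)) = true :=
  allB_of_chunks _ nP [(0, 8000), (8000, 8000), (16000, 8000), (24000, 7671)] (by decide) (AllChunks.cons chk_t1_c0 (AllChunks.cons chk_t1_c1 (AllChunks.cons chk_t1_c2 (AllChunks.cons chk_t1_c3 (AllChunks.nil)))))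

theorem chk_t2_c0 : allR 0 8000 (fun i => Nat.beq (lk t2 i) (TT 2 i)) = true := by decide +kernel
theorem chk_t2_c1 : allR 8000 8000 (fun i => Nat.beq (lk t2 i) (TT 2 i)) = true := by decide +kernel
theorem chk_t2_c2 : allR 16000 8000 (fun i => Nat.beq (lk t2 i) (TT 2 i)) = true := by decide +kernel
theorem chk_t2_c3 : allR 24000 7671 (fun i => Nat.beq (lk t2 i) (TT 2 i)) = true := by decide +kernel
theorem chk_t2 : allB nP (fun i => Nat.beq (lk t2 i) (TT 2 i)) = true :=
  allB_of_chunks _ nP [(0, 8000), (8000, 8000), (16000, 8000), (24000, 7671)] (by decide) (AllChunks.cons chk_t2_c0 (AllChunks.cons chk_t2_c1 (AllChunks.cons chk_t2_c2 (AllChunks.cons chk_t2_c3 (AllChunks.nil)))))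

theorem chk_t3_c0 : allR 0 8000 (fun i => Nat.beq (lk t3 i) (TT 3 i)) = true := by decide +kernel
theorem chk_t3_c1 : allR 8000 8000 (fun i => Nat.beq (lk t3 i) (TT 3 i)) = true := by decide +kernel
theorem chk_t3_c2 : allR 16000 8000 (fun i => Nat.beq (lk t3 i) (TT 3 i)) = true := by decide +kernel
theorem chk_t3_c3 : allR 24000 7671 (fun i => Nat.beq (lk t3 i) (TT 3 i)) = true := by decide +kernel
theorem chk_t3 : allB nP (fun i => Nat.beq (lk t3 i) (TT 3 i)) = true :=
  allB_of_chunks _ nP [(0, 8000), (8000, 8000), (16000, 8000), (24000, 7671)] (by decide) (AllChunks.cons chk_t3_c0 (AllChunks.cons chk_t3_c1 (AllChunks.cons chk_t3_c2 (AllChunks.cons chk_t3_c3 (AllChunks.nil)))))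

theorem chk_t4_c0 : allR 0 8000 (fun i => Nat.beq (lk t4 i) (TT 4 i)) = true := by decide +kernel
theorem chk_t4_c1 : allR 8000 8000 (fun i => Nat.beq (lk t4 i) (TT 4 i)) = true := by decide +kernel
theorem chk_t4_c2 : allR 16000 8000 (fun i => Nat.beq (lk t4 i) (TT 4 i)) = true := by decide +kernel
theorem chk_t4_c3 : allR 24000 7671 (fun i => Nat.beq (lk t4 i) (TT 4 i)) = true := by decide +kernel
theorem chk_t4 : allB nP (fun i => Nat.beq (lk t4 i) (TT 4 i)) = true :=
  allB_of_chunks _ nP [(0, 8000), (8000, 8000), (16000, 8000), (24000, 7671)] (by decide) (AllChunks.cons chk_t4_c0 (AllChunks.cons chk_t4_c1 (AllChunks.cons chk_t4_c2 (AllChunks.cons chk_t4_c3 (AllChunks.nil)))))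

theorem chk_t5_c0 : allR 0 8000 (fun i => Nat.beq (lk t5 i) (TT 5 i)) = true := by decide +kernel
theorem chk_t5_c1 : allR 8000 8000 (fun i => Nat.beq (lk t5 i) (TT 5 i)) = true := by decide +kernel
theorem chk_t5_c2 : allR 16000 8000 (fun i => Nat.beq (lk t5 i) (TT 5 i)) = true := by decide +kernel
theorem chk_t5_c3 : allR 24000 7671 (fun i => Nat.beq (lk t5 i) (TT 5 i)) = true := by decide +kernel
theorem chk_t5 : allB nP (fun i => Nat.beq (lk t5 i) (TT 5 i)) = true :=
  allB_of_chunks _ nP [(0, 8000), (8000, 8000), (16000, 8000), (24000, 7671)] (by decide) (AllChunks.cons chk_t5_c0 (AllChunks.cons chk_t5_c1 (AllChunks.cons chk_t5_c2 (AllChunks.cons chk_t5_c3 (AllChunks.nil)))))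

theorem chk_t6_c0 : allR 0 8000 (fun i => Nat.beq (lk t6 i) (TT 6 i)) = true := by decide +kernel
theorem chk_t6_c1 : allR 8000 8000 (fun i => Nat.beq (lk t6 i) (TT 6 i)) = true := by decide +kernel
theorem chk_t6_c2 : allR 16000 8000 (fun i => Nat.beq (lk t6 i) (TT 6 i)) = true := by decide +kernel
theorem chk_t6_c3 : allR 24000 7671 (fun i => Nat.beq (lk t6 i) (TT 6 i)) = true := by decide +kernel
theorem chk_t6 : allB nP (fun i => Nat.beq (lk t6 i) (TT 6 i)) = true :=
  allB_of_chunks _ nP [(0, 8000), (8000, 8000), (16000, 8000), (24000, 7671)] (by decide) (AllChunks.cons chk_t6_c0 (AllChunks.cons chk_t6_c1 (AllChunks.cons chk_t6_c2 (AllChunks.cons chk_t6_c3 (AllChunks.nil)))))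

theorem chk_t7_c0 : allR 0 8000 (fun i => Nat.beq (lk t7 i) (TT 7 i)) = true := by decide +kernel
theorem chk_t7_c1 : allR 8000 8000 (fun i => Nat.beq (lk t7 i) (TT 7 i)) = true := by decide +kernel
theorem chk_t7_c2 : allR 16000 8000 (fun i => Nat.beq (lk t7 i) (TT 7 i)) = true := by decide +kernel
theorem chk_t7_c3 : allR 24000 7671 (fun i => Nat.beq (lk t7 i) (TT 7 i)) = true := by decide +kernel
theorem chk_t7 : allB nP (fun i => Nat.beq (lk t7 i) (TT 7 i)) = true :=
  allB_of_chunks _ nP [(0, 8000), (8000, 8000), (16000, 8000), (24000, 7671)] (by decide) (AllChunks.cons chk_t7_c0 (AllChunks.cons chk_t7_c1 (AllChunks.cons chk_t7_c2 (AllChunks.cons chk_t7_c3 (AllChunks.nil)))))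

theorem chk_t8_c0 : allR 0 8000 (fun i => Nat.beq (lk t8 i) (TT 8 i)) = true := by decide +kernel
theorem chk_t8_c1 : allR 8000 8000 (fun i => Nat.beq (lk t8 i) (TT 8 i)) = true := by decide +kernel
theorem chk_t8_c2 : allR 16000 8000 (fun i => Nat.beq (lk t8 i) (TT 8 i)) = true := by decide +kernel
theorem chk_t8_c3 : allR 24000 7671 (fun i => Nat.beq (lk t8 i) (TT 8 i)) = true := by decide +kernel
theorem chk_t8 : allB nP (fun i => Nat.beq (lk t8 i) (TT 8 i)) = true :=
  allB_of_chunks _ nP [(0, 8000), (8000, 8000), (16000, 8000), (24000, 7671)] (by decide) (AllChunks.cons chk_t8_c0 (AllChunks.cons chk_t8_c1 (AllChunks.cons chk_t8_c2 (AllChunks.cons chk_t8_c3 (AllChunks.nil)))))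

theorem chk_t9_c0 : allR 0 8000 (fun i => Nat.beq (lk t9 i) (TT 9 i)) = true := by decide +kernel
theorem chk_t9_c1 : allR 8000 8000 (fun i => Nat.beq (lk t9 i) (TT 9 i)) = true := by decide +kernel
theorem chk_t9_c2 : allR 16000 8000 (fun i => Nat.beq (lk t9 i) (TT 9 i)) = true := by decide +kernel
theorem chk_t9_c3 : allR 24000 7671 (fun i => Nat.beq (lk t9 i) (TT 9 i)) = true := by decide +kernel
theorem chk_t9 : allB nP (fun i => Nat.beq (lk t9 i) (TT 9 i)) = true :=
  allB_of_chunks _ nP [(0, 8000), (8000, 8000), (16000, 8000), (24000, 7671)] (by decide) (AllChunks.cons chk_t9_c0 (AllChunks.cons chk_t9_c1 (AllChunks.cons chk_t9_c2 (AllChunks.cons chk_t9_c3 (AllChunks.nil)))))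

/-- the word for the coded permutation number 10 -/
noncomputable def w10 : List ℕ := [t2, t9, t1, t4, t1, t7, t7, t7]
theorem chk_t10_c0 : allR 0 3333 (fun p => Nat.beq (lk t10 p) (ev lk w10 p)) = true := by decide +kernel
theorem chk_t10_c1 : allR 3333 3333 (fun p => Nat.beq (lk t10 p) (ev lk w10 p)) = true := by decide +kernel
theorem chk_t10_c2 : allR 6666 3333 (fun p => Nat.beq (lk t10 p) (ev lk w10 p)) = true := by decide +kernel
theorem chk_t10_c3 : allR 9999 3333 (fun p => Nat.beq (lk t10 p) (ev lk w10 p)) = true := by decide +kernel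
theorem chk_t10_c4 : allR 13332 3333 (fun p => Nat.beq (lk t10 p) (ev lk w10 p)) = true := by decide +kernel
theorem chk_t10_c5 : allR 16665 3333 (fun p => Nat.beq (lk t10 p) (ev lk w10 p)) = true := by decide +kernel
theorem chk_t10_c6 : allR 19998 3333 (fun p => Nat.beq (lk t10 p) (ev lk w10 p)) = true := by decide +kernel
theorem chk_t10_c7 : allR 23331 3333 (fun p => Nat.beq (lk t10 p) (ev lk w10 p)) = true := by decide +kernel
theorem chk_t10_c8 : allR 26664 3333 (fun p => Nat.beq (lk t10 p) (ev lk w10 p)) = true := by decide +kernel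
theorem chk_t10_c9 : allR 29997 1674 (fun p => Nat.beq (lk t10 p) (ev lk w10 p)) = true := by decide +kernel
theorem chk_t10 : eqW lk nP t10 w10 = true :=
  eqW_of_chunks lk nP _ _ [(0, 3333), (3333, 3333), (6666, 3333), (9999, 3333), (13332, 3333), (16665, 3333), (19998, 3333), (23331, 3333), (26664, 3333), (29997, 1674)] (by decide) (AllChunks.cons chk_t10_c0 (AllChunks.cons chk_t10_c1 (AllChunks.cons chk_t10_c2 (AllChunks.cons chk_t10_c3 (AllChunks.cons chk_t10_c4 (AllChunks.cons chk_t10_c5 (AllChunks.cons chk_t10_c6 (AllChunks.cons chk_t10_c7 (AllChunks.cons chk_t10_c8 (AllChunks.cons chk_t10_c9 (AllChunks.nil)))))))))))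

/-- the word for the coded permutation number 11 -/
noncomputable def w11 : List ℕ := [t6, t3, t1, t7, t0, t6, t6, t9]
theorem chk_t11_c0 : allR 0 3333 (fun p => Nat.beq (lk t11 p) (ev lk w11 p)) = true := by decide +kernel
theorem chk_t11_c1 : allR 3333 3333 (fun p => Nat.beq (lk t11 p) (ev lk w11 p)) = true := by decide +kernel
theorem chk_t11_c2 : allR 6666 3333 (fun p => Nat.beq (lk t11 p) (ev lk w11 p)) = true := by decide +kernel
theorem chk_t11_c3 : allR 9999 3333 (fun p => Nat.beq (lk t11 p) (ev lk w11 p)) = true := by decide +kernel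
theorem chk_t11_c4 : allR 13332 3333 (fun p => Nat.beq (lk t11 p) (ev lk w11 p)) = true := by decide +kernel
theorem chk_t11_c5 : allR 16665 3333 (fun p => Nat.beq (lk t11 p) (ev lk w11 p)) = true := by decide +kernel
theorem chk_t11_c6 : allR 19998 3333 (fun p => Nat.beq (lk t11 p) (ev lk w11 p)) = true := by decide +kernel
theorem chk_t11_c7 : allR 23331 3333 (fun p => Nat.beq (lk t11 p) (ev lk w11 p)) = true := by decide +kernel
theorem chk_t11_c8 : allR 26664 3333 (fun p => Nat.beq (lk t11 p) (ev lk w11 p)) = true := by decide +kernel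
theorem chk_t11_c9 : allR 29997 1674 (fun p => Nat.beq (lk t11 p) (ev lk w11 p)) = true := by decide +kernel
theorem chk_t11 : eqW lk nP t11 w11 = true :=
  eqW_of_chunks lk nP _ _ [(0, 3333), (3333, 3333), (6666, 3333), (9999, 3333), (13332, 3333), (16665, 3333), (19998, 3333), (23331, 3333), (26664, 3333), (29997, 1674)] (by decide) (AllChunks.cons chk_t11_c0 (AllChunks.cons chk_t11_c1 (AllChunks.cons chk_t11_c2 (AllChunks.cons chk_t11_c3 (AllChunks.cons chk_t11_c4 (AllChunks.cons chk_t11_c5 (AllChunks.cons chk_t11_c6 (AllChunks.cons chk_t11_c7 (AllChunks.cons chk_t11_c8 (AllChunks.cons chk_t11_c9 (AllChunks.nil)))))))))))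

theorem chk_t12_c0 : allR 0 10000 (fun p => Nat.beq (ev lk [t12, t11] p) (ev lk [] p)) = true := by decide +kernel
theorem chk_t12_c1 : allR 10000 10000 (fun p => Nat.beq (ev lk [t12, t11] p) (ev lk [] p)) = true := by decide +kernel
theorem chk_t12_c2 : allR 20000 10000 (fun p => Nat.beq (ev lk [t12, t11] p) (ev lk [] p)) = true := by decide +kernel
theorem chk_t12_c3 : allR 30000 1671 (fun p => Nat.beq (ev lk [t12, t11] p) (ev lk [] p)) = true := by decide +kernel
theorem chk_t12 : eqWW lk nP [t12, t11] [] = true :=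
  eqWW_of_chunks lk nP _ _ [(0, 10000), (10000, 10000), (20000, 10000), (30000, 1671)] (by decide) (AllChunks.cons chk_t12_c0 (AllChunks.cons chk_t12_c1 (AllChunks.cons chk_t12_c2 (AllChunks.cons chk_t12_c3 (AllChunks.nil)))))

/-- the word for the coded permutation number 13 -/
noncomputable def w13 : List ℕ := [t0, t7, t4, t3, t9, t1, t5, t0]
theorem chk_t13_c0 : allR 0 3333 (fun p => Nat.beq (lk t13 p) (ev lk w13 p)) = true := by decide +kernel
theorem chk_t13_c1 : allR 3333 3333 (fun p => Nat.beq (lk t13 p) (ev lk w13 p)) = true := by decide +kernel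
theorem chk_t13_c2 : allR 6666 3333 (fun p => Nat.beq (lk t13 p) (ev lk w13 p)) = true := by decide +kernel
theorem chk_t13_c3 : allR 9999 3333 (fun p => Nat.beq (lk t13 p) (ev lk w13 p)) = true := by decide +kernel
theorem chk_t13_c4 : allR 13332 3333 (fun p => Nat.beq (lk t13 p) (ev lk w13 p)) = true := by decide +kernel
theorem chk_t13_c5 : allR 16665 3333 (fun p => Nat.beq (lk t13 p) (ev lk w13 p)) = true := by decide +kernel
theorem chk_t13_c6 : allR 19998 3333 (fun p => Nat.beq (lk t13 p) (ev lk w13 p)) = true := by decide +kernel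
theorem chk_t13_c7 : allR 23331 3333 (fun p => Nat.beq (lk t13 p) (ev lk w13 p)) = true := by decide +kernel
theorem chk_t13_c8 : allR 26664 3333 (fun p => Nat.beq (lk t13 p) (ev lk w13 p)) = true := by decide +kernel
theorem chk_t13_c9 : allR 29997 1674 (fun p => Nat.beq (lk t13 p) (ev lk w13 p)) = true := by decide +kernel
theorem chk_t13 : eqW lk nP t13 w13 = true :=
  eqW_of_chunks lk nP _ _ [(0, 3333), (3333, 3333), (6666, 3333), (9999, 3333), (13332, 3333), (16665, 3333), (19998, 3333), (23331, 3333), (26664, 3333), (29997, 1674)] (by decide) (AllChunks.cons chk_t13_c0 (AllChunks.cons chk_t13_c1 (AllChunks.cons chk_t13_c2 (AllChunks.cons chk_t13_c3 (AllChunks.cons chk_t13_c4 (AllChunks.cons chk_t13_c5 (AllChunks.cons chk_t13_c6 (AllChunks.cons chk_t13_c7 (AllChunks.cons chk_t13_c8 (AllChunks.cons chk_t13_c9 (AllChunks.nil)))))))))))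

theorem chk_t14_c0 : allR 0 10000 (fun p => Nat.beq (ev lk [t14, t13] p) (ev lk [] p)) = true := by decide +kernel
theorem chk_t14_c1 : allR 10000 10000 (fun p => Nat.beq (ev lk [t14, t13] p) (ev lk [] p)) = true := by decide +kernel
theorem chk_t14_c2 : allR 20000 10000 (fun p => Nat.beq (ev lk [t14, t13] p) (ev lk [] p)) = true := by decide +kernel
theorem chk_t14_c3 : allR 30000 1671 (fun p => Nat.beq (ev lk [t14, t13] p) (ev lk [] p)) = true := by decide +kernel
theorem chk_t14 : eqWW lk nP [t14, t13] [] = true :=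
  eqWW_of_chunks lk nP _ _ [(0, 10000), (10000, 10000), (20000, 10000), (30000, 1671)] (by decide) (AllChunks.cons chk_t14_c0 (AllChunks.cons chk_t14_c1 (AllChunks.cons chk_t14_c2 (AllChunks.cons chk_t14_c3 (AllChunks.nil)))))

/-- the word for the coded permutation number 15 -/
noncomputable def w15 : List ℕ := [t0, t0, t8, t0, t6, t3, t6, t0]
theorem chk_t15_c0 : allR 0 3333 (fun p => Nat.beq (lk t15 p) (ev lk w15 p)) = true := by decide +kernel
theorem chk_t15_c1 : allR 3333 3333 (fun p => Nat.beq (lk t15 p) (ev lk w15 p)) = true := by decide +kernel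
theorem chk_t15_c2 : allR 6666 3333 (fun p => Nat.beq (lk t15 p) (ev lk w15 p)) = true := by decide +kernel
theorem chk_t15_c3 : allR 9999 3333 (fun p => Nat.beq (lk t15 p) (ev lk w15 p)) = true := by decide +kernel
theorem chk_t15_c4 : allR 13332 3333 (fun p => Nat.beq (lk t15 p) (ev lk w15 p)) = true := by decide +kernel
theorem chk_t15_c5 : allR 16665 3333 (fun p => Nat.beq (lk t15 p) (ev lk w15 p)) = true := by decide +kernel
theorem chk_t15_c6 : allR 19998 3333 (fun p => Nat.beq (lk t15 p) (ev lk w15 p)) = true := by decide +kernel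
theorem chk_t15_c7 : allR 23331 3333 (fun p => Nat.beq (lk t15 p) (ev lk w15 p)) = true := by decide +kernel
theorem chk_t15_c8 : allR 26664 3333 (fun p => Nat.beq (lk t15 p) (ev lk w15 p)) = true := by decide +kernel
theorem chk_t15_c9 : allR 29997 1674 (fun p => Nat.beq (lk t15 p) (ev lk w15 p)) = true := by decide +kernel
theorem chk_t15 : eqW lk nP t15 w15 = true :=
  eqW_of_chunks lk nP _ _ [(0, 3333), (3333, 3333), (6666, 3333), (9999, 3333), (13332, 3333), (16665, 3333), (19998, 3333), (23331, 3333), (26664, 3333), (29997, 1674)] (by decide) (AllChunks.cons chk_t15_c0 (AllChunks.cons chk_t15_c1 (AllChunks.cons chk_t15_c2 (AllChunks.cons chk_t15_c3 (AllChunks.cons chk_t15_c4 (AllChunks.cons chk_t15_c5 (AllChunks.cons chk_t15_c6 (AllChunks.cons chk_t15_c7 (AllChunks.cons chk_t15_c8 (AllChunks.cons chk_t15_c9 (AllChunks.nil)))))))))))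

theorem chk_t16_c0 : allR 0 10000 (fun p => Nat.beq (ev lk [t16, t15] p) (ev lk [] p)) = true := by decide +kernel
theorem chk_t16_c1 : allR 10000 10000 (fun p => Nat.beq (ev lk [t16, t15] p) (ev lk [] p)) = true := by decide +kernel
theorem chk_t16_c2 : allR 20000 10000 (fun p => Nat.beq (ev lk [t16, t15] p) (ev lk [] p)) = true := by decide +kernel
theorem chk_t16_c3 : allR 30000 1671 (fun p => Nat.beq (ev lk [t16, t15] p) (ev lk [] p)) = true := by decide +kernel
theorem chk_t16 : eqWW lk nP [t16, t15] [] = true :=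
  eqWW_of_chunks lk nP _ _ [(0, 10000), (10000, 10000), (20000, 10000), (30000, 1671)] (by decide) (AllChunks.cons chk_t16_c0 (AllChunks.cons chk_t16_c1 (AllChunks.cons chk_t16_c2 (AllChunks.cons chk_t16_c3 (AllChunks.nil)))))

/-- the word for the coded permutation number 17 -/
noncomputable def w17 : List ℕ := [t8, t3, t7, t7, t8, t3, t5, t3]
theorem chk_t17_c0 : allR 0 3333 (fun p => Nat.beq (lk t17 p) (ev lk w17 p)) = true := by decide +kernel
theorem chk_t17_c1 : allR 3333 3333 (fun p => Nat.beq (lk t17 p) (ev lk w17 p)) = true := by decide +kernel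
theorem chk_t17_c2 : allR 6666 3333 (fun p => Nat.beq (lk t17 p) (ev lk w17 p)) = true := by decide +kernel
theorem chk_t17_c3 : allR 9999 3333 (fun p => Nat.beq (lk t17 p) (ev lk w17 p)) = true := by decide +kernel
theorem chk_t17_c4 : allR 13332 3333 (fun p => Nat.beq (lk t17 p) (ev lk w17 p)) = true := by decide +kernel
theorem chk_t17_c5 : allR 16665 3333 (fun p => Nat.beq (lk t17 p) (ev lk w17 p)) = true := by decide +kernel
theorem chk_t17_c6 : allR 19998 3333 (fun p => Nat.beq (lk t17 p) (ev lk w17 p)) = true := by decide +kernel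
theorem chk_t17_c7 : allR 23331 3333 (fun p => Nat.beq (lk t17 p) (ev lk w17 p)) = true := by decide +kernel
theorem chk_t17_c8 : allR 26664 3333 (fun p => Nat.beq (lk t17 p) (ev lk w17 p)) = true := by decide +kernel
theorem chk_t17_c9 : allR 29997 1674 (fun p => Nat.beq (lk t17 p) (ev lk w17 p)) = true := by decide +kernel
theorem chk_t17 : eqW lk nP t17 w17 = true :=
  eqW_of_chunks lk nP _ _ [(0, 3333), (3333, 3333), (6666, 3333), (9999, 3333), (13332, 3333), (16665, 3333), (19998, 3333), (23331, 3333), (26664, 3333), (29997, 1674)] (by decide) (AllChunks.cons chk_t17_c0 (AllChunks.cons chk_t17_c1 (AllChunks.cons chk_t17_c2 (AllChunks.cons chk_t17_c3 (AllChunks.cons chk_t17_c4 (AllChunks.cons chk_t17_c5 (AllChunks.cons chk_t17_c6 (AllChunks.cons chk_t17_c7 (AllChunks.cons chk_t17_c8 (AllChunks.cons chk_t17_c9 (AllChunks.nil)))))))))))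

end Cfsg.Agent.Lib.Helper28.Fi
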