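import Mathlib
import Cfsg.Agent.Lib.Helper28.Fi.Core
import Cfsg.Agent.Lib.Helper28.Fi.Chunk
import Cfsg.Agent.Lib.Helper28.Fi.Tab0
import Cfsg.Agent.Lib.Helper28.Fi.Tab1
import Cfsg.Agent.Lib.Helper28.Fi.Tab2
import Cfsg.Agent.Lib.Helper28.Fi.Tab3

set_option autoImplicit false
set_option maxRecDepth 1000000
set_option Elab.async false

/-! Checks that coded permutations are words in earlier ones, part 1 (generated). -/

namespace Cfsg.Agent.Lib.Helper28.Fi

open Cfsg.Agent.Lib.Helper5.CP Cfsg.Agent.Lib.Helper5.PcP Cfsg.Agent.Lib.Helper12.TC.Fi23o31671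
/-- the word for the coded permutation number 18 -/
noncomputable def w18 : List ℕ := [t3, t7, t4, t0, t6, t8, t1, t2]
theorem chk_t18_c0 : allR 0 3333 (fun p => Nat.beq (lk t18 p) (ev lk w18 p)) = true := by decide +kernel
theorem chk_t18_c1 : allR 3333 3333 (fun p => Nat.beq (lk t18 p) (ev lk w18 p)) = true := by decide +kernel
theorem chk_t18_c2 : allR 6666 3333 (fun p => Nat.beq (lk t18 p) (ev lk w18 p)) = true := by decide +kernel
theorem chk_t18_c3 : allR 9999 3333 (fun p => Nat.beq (lk t18 p) (ev lk w18 p)) = true := by decide +kernel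
theorem chk_t18_c4 : allR 13332 3333 (fun p => Nat.beq (lk t18 p) (ev lk w18 p)) = true := by decide +kernel
theorem chk_t18_c5 : allR 16665 3333 (fun p => Nat.beq (lk t18 p) (ev lk w18 p)) = true := by decide +kernel
theorem chk_t18_c6 : allR 19998 3333 (fun p => Nat.beq (lk t18 p) (ev lk w18 p)) = true := by decide +kernel
theorem chk_t18_c7 : allR 23331 3333 (fun p => Nat.beq (lk t18 p) (ev lk w18 p)) = true := by decide +kernel
theorem chk_t18_c8 : allR 26664 3333 (fun p => Nat.beq (lk t18 p) (ev lk w18 p)) = true := by decide +kernel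
theorem chk_t18_c9 : allR 29997 1674 (fun p => Nat.beq (lk t18 p) (ev lk w18 p)) = true := by decide +kernel
theorem chk_t18 : eqW lk nP t18 w18 = true :=
  eqW_of_chunks lk nP _ _ [(0, 3333), (3333, 3333), (6666, 3333), (9999, 3333), (13332, 3333), (16665, 3333), (19998, 3333), (23331, 3333), (26664, 3333), (29997, 1674)] (by decide) (AllChunks.cons chk_t18_c0 (AllChunks.cons chk_t18_c1 (AllChunks.cons chk_t18_c2 (AllChunks.cons chk_t18_c3 (AllChunks.cons chk_t18_c4 (AllChunks.cons chk_t18_c5 (AllChunks.cons chk_t18_c6 (AllChunks.cons chk_t18_c7 (AllChunks.cons chk_t18_c8 (AllChunks.cons chk_t18_c9 (AllChunks.nil)))))))))))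

theorem chk_t19_c0 : allR 0 10000 (fun p => Nat.beq (ev lk [t19, t18] p) (ev lk [] p)) = true := by decide +kernel
theorem chk_t19_c1 : allR 10000 10000 (fun p => Nat.beq (ev lk [t19, t18] p) (ev lk [] p)) = true := by decide +kernel
theorem chk_t19_c2 : allR 20000 10000 (fun p => Nat.beq (ev lk [t19, t18] p) (ev lk [] p)) = true := by decide +kernel
theorem chk_t19_c3 : allR 30000 1671 (fun p => Nat.beq (ev lk [t19, t18] p) (ev lk [] p)) = true := by decide +kernel
theorem chk_t19 : eqWW lk nP [t19, t18] [] = true :=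
  eqWW_of_chunks lk nP _ _ [(0, 10000), (10000, 10000), (20000, 10000), (30000, 1671)] (by decide) (AllChunks.cons chk_t19_c0 (AllChunks.cons chk_t19_c1 (AllChunks.cons chk_t19_c2 (AllChunks.cons chk_t19_c3 (AllChunks.nil)))))

/-- the word for the coded permutation number 20 -/
noncomputable def w20 : List ℕ := [t4, t1, t5, t8, t6, t8, t3, t4]
theorem chk_t20_c0 : allR 0 3333 (fun p => Nat.beq (lk t20 p) (ev lk w20 p)) = true := by decide +kernel
theorem chk_t20_c1 : allR 3333 3333 (fun p => Nat.beq (lk t20 p) (ev lk w20 p)) = true := by decide +kernel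
theorem chk_t20_c2 : allR 6666 3333 (fun p => Nat.beq (lk t20 p) (ev lk w20 p)) = true := by decide +kernel
theorem chk_t20_c3 : allR 9999 3333 (fun p => Nat.beq (lk t20 p) (ev lk w20 p)) = true := by decide +kernel
theorem chk_t20_c4 : allR 13332 3333 (fun p => Nat.beq (lk t20 p) (ev lk w20 p)) = true := by decide +kernel
theorem chk_t20_c5 : allR 16665 3333 (fun p => Nat.beq (lk t20 p) (ev lk w20 p)) = true := by decide +kernel
theorem chk_t20_c6 : allR 19998 3333 (fun p => Nat.beq (lk t20 p) (ev lk w20 p)) = true := by decide +kernel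
theorem chk_t20_c7 : allR 23331 3333 (fun p => Nat.beq (lk t20 p) (ev lk w20 p)) = true := by decide +kernel
theorem chk_t20_c8 : allR 26664 3333 (fun p => Nat.beq (lk t20 p) (ev lk w20 p)) = true := by decide +kernel
theorem chk_t20_c9 : allR 29997 1674 (fun p => Nat.beq (lk t20 p) (ev lk w20 p)) = true := by decide +kernel
theorem chk_t20 : eqW lk nP t20 w20 = true :=
  eqW_of_chunks lk nP _ _ [(0, 3333), (3333, 3333), (6666, 3333), (9999, 3333), (13332, 3333), (16665, 3333), (19998, 3333), (23331, 3333), (26664, 3333), (29997, 1674)] (by decide) (AllChunks.cons chk_t20_c0 (AllChunks.cons chk_t20_c1 (AllChunks.cons chk_t20_c2 (AllChunks.cons chk_t20_c3 (AllChunks.cons chk_t20_c4 (AllChunks.cons chk_t20_c5 (AllChunks.cons chk_t20_c6 (AllChunks.cons chk_t20_c7 (AllChunks.cons chk_t20_c8 (AllChunks.cons chk_t20_c9 (AllChunks.nil)))))))))))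

theorem chk_t21_c0 : allR 0 10000 (fun p => Nat.beq (ev lk [t21, t20] p) (ev lk [] p)) = true := by decide +kernel
theorem chk_t21_c1 : allR 10000 10000 (fun p => Nat.beq (ev lk [t21, t20] p) (ev lk [] p)) = true := by decide +kernel
theorem chk_t21_c2 : allR 20000 10000 (fun p => Nat.beq (ev lk [t21, t20] p) (ev lk [] p)) = true := by decide +kernel
theorem chk_t21_c3 : allR 30000 1671 (fun p => Nat.beq (ev lk [t21, t20] p) (ev lk [] p)) = true := by decide +kernel
theorem chk_t21 : eqWW lk nP [t21, t20] [] = true :=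
  eqWW_of_chunks lk nP _ _ [(0, 10000), (10000, 10000), (20000, 10000), (30000, 1671)] (by decide) (AllChunks.cons chk_t21_c0 (AllChunks.cons chk_t21_c1 (AllChunks.cons chk_t21_c2 (AllChunks.cons chk_t21_c3 (AllChunks.nil)))))

/-- the word for the coded permutation number 22 -/
noncomputable def w22 : List ℕ := [t4, t9, t7, t8, t6, t9, t0, t7]
theorem chk_t22_c0 : allR 0 3333 (fun p => Nat.beq (lk t22 p) (ev lk w22 p)) = true := by decide +kernel
theorem chk_t22_c1 : allR 3333 3333 (fun p => Nat.beq (lk t22 p) (ev lk w22 p)) = true := by decide +kernel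
theorem chk_t22_c2 : allR 6666 3333 (fun p => Nat.beq (lk t22 p) (ev lk w22 p)) = true := by decide +kernel
theorem chk_t22_c3 : allR 9999 3333 (fun p => Nat.beq (lk t22 p) (ev lk w22 p)) = true := by decide +kernel
theorem chk_t22_c4 : allR 13332 3333 (fun p => Nat.beq (lk t22 p) (ev lk w22 p)) = true := by decide +kernel
theorem chk_t22_c5 : allR 16665 3333 (fun p => Nat.beq (lk t22 p) (ev lk w22 p)) = true := by decide +kernel
theorem chk_t22_c6 : allR 19998 3333 (fun p => Nat.beq (lk t22 p) (ev lk w22 p)) = true := by decide +kernel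
theorem chk_t22_c7 : allR 23331 3333 (fun p => Nat.beq (lk t22 p) (ev lk w22 p)) = true := by decide +kernel
theorem chk_t22_c8 : allR 26664 3333 (fun p => Nat.beq (lk t22 p) (ev lk w22 p)) = true := by decide +kernel
theorem chk_t22_c9 : allR 29997 1674 (fun p => Nat.beq (lk t22 p) (ev lk w22 p)) = true := by decide +kernel
theorem chk_t22 : eqW lk nP t22 w22 = true :=
  eqW_of_chunks lk nP _ _ [(0, 3333), (3333, 3333), (6666, 3333), (9999, 3333), (13332, 3333), (16665, 3333), (19998, 3333), (23331, 3333), (26664, 3333), (29997, 1674)] (by decide) (AllChunks.cons chk_t22_c0 (AllChunks.cons chk_t22_c1 (AllChunks.cons chk_t22_c2 (AllChunks.cons chk_t22_c3 (AllChunks.cons chk_t22_c4 (AllChunks.cons chk_t22_c5 (AllChunks.cons chk_t22_c6 (AllChunks.cons chk_t22_c7 (AllChunks.cons chk_t22_c8 (AllChunks.cons chk_t22_c9 (AllChunks.nil)))))))))))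

/-- the word for the coded permutation number 23 -/
noncomputable def w23 : List ℕ := [t3, t6, t6, t2, t5, t8, t5, t1]
theorem chk_t23_c0 : allR 0 3333 (fun p => Nat.beq (lk t23 p) (ev lk w23 p)) = true := by decide +kernel
theorem chk_t23_c1 : allR 3333 3333 (fun p => Nat.beq (lk t23 p) (ev lk w23 p)) = true := by decide +kernel
theorem chk_t23_c2 : allR 6666 3333 (fun p => Nat.beq (lk t23 p) (ev lk w23 p)) = true := by decide +kernel
theorem chk_t23_c3 : allR 9999 3333 (fun p => Nat.beq (lk t23 p) (ev lk w23 p)) = true := by decide +kernel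
theorem chk_t23_c4 : allR 13332 3333 (fun p => Nat.beq (lk t23 p) (ev lk w23 p)) = true := by decide +kernel
theorem chk_t23_c5 : allR 16665 3333 (fun p => Nat.beq (lk t23 p) (ev lk w23 p)) = true := by decide +kernel
theorem chk_t23_c6 : allR 19998 3333 (fun p => Nat.beq (lk t23 p) (ev lk w23 p)) = true := by decide +kernel
theorem chk_t23_c7 : allR 23331 3333 (fun p => Nat.beq (lk t23 p) (ev lk w23 p)) = true := by decide +kernel
theorem chk_t23_c8 : allR 26664 3333 (fun p => Nat.beq (lk t23 p) (ev lk w23 p)) = true := by decide +kernel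
theorem chk_t23_c9 : allR 29997 1674 (fun p => Nat.beq (lk t23 p) (ev lk w23 p)) = true := by decide +kernel
theorem chk_t23 : eqW lk nP t23 w23 = true :=
  eqW_of_chunks lk nP _ _ [(0, 3333), (3333, 3333), (6666, 3333), (9999, 3333), (13332, 3333), (16665, 3333), (19998, 3333), (23331, 3333), (26664, 3333), (29997, 1674)] (by decide) (AllChunks.cons chk_t23_c0 (AllChunks.cons chk_t23_c1 (AllChunks.cons chk_t23_c2 (AllChunks.cons chk_t23_c3 (AllChunks.cons chk_t23_c4 (AllChunks.cons chk_t23_c5 (AllChunks.cons chk_t23_c6 (AllChunks.cons chk_t23_c7 (AllChunks.cons chk_t23_c8 (AllChunks.cons chk_t23_c9 (AllChunks.nil)))))))))))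

theorem chk_t24_c0 : allR 0 10000 (fun p => Nat.beq (ev lk [t24, t23] p) (ev lk [] p)) = true := by decide +kernel
theorem chk_t24_c1 : allR 10000 10000 (fun p => Nat.beq (ev lk [t24, t23] p) (ev lk [] p)) = true := by decide +kernel
theorem chk_t24_c2 : allR 20000 10000 (fun p => Nat.beq (ev lk [t24, t23] p) (ev lk [] p)) = true := by decide +kernel
theorem chk_t24_c3 : allR 30000 1671 (fun p => Nat.beq (ev lk [t24, t23] p) (ev lk [] p)) = true := by decide +kernel
theorem chk_t24 : eqWW lk nP [t24, t23] [] = true :=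
  eqWW_of_chunks lk nP _ _ [(0, 10000), (10000, 10000), (20000, 10000), (30000, 1671)] (by decide) (AllChunks.cons chk_t24_c0 (AllChunks.cons chk_t24_c1 (AllChunks.cons chk_t24_c2 (AllChunks.cons chk_t24_c3 (AllChunks.nil)))))

/-- the word for the coded permutation number 25 -/
noncomputable def w25 : List ℕ := [t7, t8, t1, t2, t8, t6, t5, t7]
theorem chk_t25_c0 : allR 0 3333 (fun p => Nat.beq (lk t25 p) (ev lk w25 p)) = true := by decide +kernel
theorem chk_t25_c1 : allR 3333 3333 (fun p => Nat.beq (lk t25 p) (ev lk w25 p)) = true := by decide +kernel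
theorem chk_t25_c2 : allR 6666 3333 (fun p => Nat.beq (lk t25 p) (ev lk w25 p)) = true := by decide +kernel
theorem chk_t25_c3 : allR 9999 3333 (fun p => Nat.beq (lk t25 p) (ev lk w25 p)) = true := by decide +kernel
theorem chk_t25_c4 : allR 13332 3333 (fun p => Nat.beq (lk t25 p) (ev lk w25 p)) = true := by decide +kernel
theorem chk_t25_c5 : allR 16665 3333 (fun p => Nat.beq (lk t25 p) (ev lk w25 p)) = true := by decide +kernel
theorem chk_t25_c6 : allR 19998 3333 (fun p => Nat.beq (lk t25 p) (ev lk w25 p)) = true := by decide +kernel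
theorem chk_t25_c7 : allR 23331 3333 (fun p => Nat.beq (lk t25 p) (ev lk w25 p)) = true := by decide +kernel
theorem chk_t25_c8 : allR 26664 3333 (fun p => Nat.beq (lk t25 p) (ev lk w25 p)) = true := by decide +kernel
theorem chk_t25_c9 : allR 29997 1674 (fun p => Nat.beq (lk t25 p) (ev lk w25 p)) = true := by decide +kernel
theorem chk_t25 : eqW lk nP t25 w25 = true :=
  eqW_of_chunks lk nP _ _ [(0, 3333), (3333, 3333), (6666, 3333), (9999, 3333), (13332, 3333), (16665, 3333), (19998, 3333), (23331, 3333), (26664, 3333), (29997, 1674)] (by decide) (AllChunks.cons chk_t25_c0 (AllChunks.cons chk_t25_c1 (AllChunks.cons chk_t25_c2 (AllChunks.cons chk_t25_c3 (AllChunks.cons chk_t25_c4 (AllChunks.cons chk_t25_c5 (AllChunks.cons chk_t25_c6 (AllChunks.cons chk_t25_c7 (AllChunks.cons chk_t25_c8 (AllChunks.cons chk_t25_c9 (AllChunks.nil)))))))))))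

theorem chk_t26_c0 : allR 0 10000 (fun p => Nat.beq (ev lk [t26, t25] p) (ev lk [] p)) = true := by decide +kernel
theorem chk_t26_c1 : allR 10000 10000 (fun p => Nat.beq (ev lk [t26, t25] p) (ev lk [] p)) = true := by decide +kernel
theorem chk_t26_c2 : allR 20000 10000 (fun p => Nat.beq (ev lk [t26, t25] p) (ev lk [] p)) = true := by decide +kernel
theorem chk_t26_c3 : allR 30000 1671 (fun p => Nat.beq (ev lk [t26, t25] p) (ev lk [] p)) = true := by decide +kernel
theorem chk_t26 : eqWW lk nP [t26, t25] [] = true :=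
  eqWW_of_chunks lk nP _ _ [(0, 10000), (10000, 10000), (20000, 10000), (30000, 1671)] (by decide) (AllChunks.cons chk_t26_c0 (AllChunks.cons chk_t26_c1 (AllChunks.cons chk_t26_c2 (AllChunks.cons chk_t26_c3 (AllChunks.nil)))))

/-- the word for the coded permutation number 27 -/
noncomputable def w27 : List ℕ := [t0, t7, t0, t4, t9, t9, t9, t6]
theorem chk_t27_c0 : allR 0 3333 (fun p => Nat.beq (lk t27 p) (ev lk w27 p)) = true := by decide +kernel
theorem chk_t27_c1 : allR 3333 3333 (fun p => Nat.beq (lk t27 p) (ev lk w27 p)) = true := by decide +kernel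
theorem chk_t27_c2 : allR 6666 3333 (fun p => Nat.beq (lk t27 p) (ev lk w27 p)) = true := by decide +kernel
theorem chk_t27_c3 : allR 9999 3333 (fun p => Nat.beq (lk t27 p) (ev lk w27 p)) = true := by decide +kernel
theorem chk_t27_c4 : allR 13332 3333 (fun p => Nat.beq (lk t27 p) (ev lk w27 p)) = true := by decide +kernel
theorem chk_t27_c5 : allR 16665 3333 (fun p => Nat.beq (lk t27 p) (ev lk w27 p)) = true := by decide +kernel
theorem chk_t27_c6 : allR 19998 3333 (fun p => Nat.beq (lk t27 p) (ev lk w27 p)) = true := by decide +kernel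
theorem chk_t27_c7 : allR 23331 3333 (fun p => Nat.beq (lk t27 p) (ev lk w27 p)) = true := by decide +kernel
theorem chk_t27_c8 : allR 26664 3333 (fun p => Nat.beq (lk t27 p) (ev lk w27 p)) = true := by decide +kernel
theorem chk_t27_c9 : allR 29997 1674 (fun p => Nat.beq (lk t27 p) (ev lk w27 p)) = true := by decide +kernel
theorem chk_t27 : eqW lk nP t27 w27 = true :=
  eqW_of_chunks lk nP _ _ [(0, 3333), (3333, 3333), (6666, 3333), (9999, 3333), (13332, 3333), (16665, 3333), (19998, 3333), (23331, 3333), (26664, 3333), (29997, 1674)] (by decide) (AllChunks.cons chk_t27_c0 (AllChunks.cons chk_t27_c1 (AllChunks.cons chk_t27_c2 (AllChunks.cons chk_t27_c3 (AllChunks.cons chk_t27_c4 (AllChunks.cons chk_t27_c5 (AllChunks.cons chk_t27_c6 (AllChunks.cons chk_t27_c7 (AllChunks.cons chk_t27_c8 (AllChunks.cons chk_t27_c9 (AllChunks.nil)))))))))))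

theorem chk_t28_c0 : allR 0 10000 (fun p => Nat.beq (ev lk [t28, t27] p) (ev lk [] p)) = true := by decide +kernel
theorem chk_t28_c1 : allR 10000 10000 (fun p => Nat.beq (ev lk [t28, t27] p) (ev lk [] p)) = true := by decide +kernel
theorem chk_t28_c2 : allR 20000 10000 (fun p => Nat.beq (ev lk [t28, t27] p) (ev lk [] p)) = true := by decide +kernel
theorem chk_t28_c3 : allR 30000 1671 (fun p => Nat.beq (ev lk [t28, t27] p) (ev lk [] p)) = true := by decide +kernel
theorem chk_t28 : eqWW lk nP [t28, t27] [] = true :=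
  eqWW_of_chunks lk nP _ _ [(0, 10000), (10000, 10000), (20000, 10000), (30000, 1671)] (by decide) (AllChunks.cons chk_t28_c0 (AllChunks.cons chk_t28_c1 (AllChunks.cons chk_t28_c2 (AllChunks.cons chk_t28_c3 (AllChunks.nil)))))

/-- the word for the coded permutation number 29 -/
noncomputable def w29 : List ℕ := [t2, t2, t8, t3, t0, t3, t8, t8]
theorem chk_t29_c0 : allR 0 3333 (fun p => Nat.beq (lk t29 p) (ev lk w29 p)) = true := by decide +kernel
theorem chk_t29_c1 : allR 3333 3333 (fun p => Nat.beq (lk t29 p) (ev lk w29 p)) = true := by decide +kernel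
theorem chk_t29_c2 : allR 6666 3333 (fun p => Nat.beq (lk t29 p) (ev lk w29 p)) = true := by decide +kernel
theorem chk_t29_c3 : allR 9999 3333 (fun p => Nat.beq (lk t29 p) (ev lk w29 p)) = true := by decide +kernel
theorem chk_t29_c4 : allR 13332 3333 (fun p => Nat.beq (lk t29 p) (ev lk w29 p)) = true := by decide +kernel
theorem chk_t29_c5 : allR 16665 3333 (fun p => Nat.beq (lk t29 p) (ev lk w29 p)) = true := by decide +kernel
theorem chk_t29_c6 : allR 19998 3333 (fun p => Nat.beq (lk t29 p) (ev lk w29 p)) = true := by decide +kernel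
theorem chk_t29_c7 : allR 23331 3333 (fun p => Nat.beq (lk t29 p) (ev lk w29 p)) = true := by decide +kernel
theorem chk_t29_c8 : allR 26664 3333 (fun p => Nat.beq (lk t29 p) (ev lk w29 p)) = true := by decide +kernel
theorem chk_t29_c9 : allR 29997 1674 (fun p => Nat.beq (lk t29 p) (ev lk w29 p)) = true := by decide +kernel
theorem chk_t29 : eqW lk nP t29 w29 = true :=
  eqW_of_chunks lk nP _ _ [(0, 3333), (3333, 3333), (6666, 3333), (9999, 3333), (13332, 3333), (16665, 3333), (19998, 3333), (23331, 3333), (26664, 3333), (29997, 1674)] (by decide) (AllChunks.cons chk_t29_c0 (AllChunks.cons chk_t29_c1 (AllChunks.cons chk_t29_c2 (AllChunks.cons chk_t29_c3 (AllChunks.cons chk_t29_c4 (AllChunks.cons chk_t29_c5 (AllChunks.cons chk_t29_c6 (AllChunks.cons chk_t29_c7 (AllChunks.cons chk_t29_c8 (AllChunks.cons chk_t29_c9 (AllChunks.nil)))))))))))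

/-- the word for the coded permutation number 30 -/
noncomputable def w30 : List ℕ := [t15, t20, t29, t8, t21, t17]
theorem chk_t30_c0 : allR 0 4285 (fun p => Nat.beq (lk t30 p) (ev lk w30 p)) = true := by decide +kernel
theorem chk_t30_c1 : allR 4285 4285 (fun p => Nat.beq (lk t30 p) (ev lk w30 p)) = true := by decide +kernel
theorem chk_t30_c2 : allR 8570 4285 (fun p => Nat.beq (lk t30 p) (ev lk w30 p)) = true := by decide +kernel
theorem chk_t30_c3 : allR 12855 4285 (fun p => Nat.beq (lk t30 p) (ev lk w30 p)) = true := by decide +kernel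
theorem chk_t30_c4 : allR 17140 4285 (fun p => Nat.beq (lk t30 p) (ev lk w30 p)) = true := by decide +kernel
theorem chk_t30_c5 : allR 21425 4285 (fun p => Nat.beq (lk t30 p) (ev lk w30 p)) = true := by decide +kernel
theorem chk_t30_c6 : allR 25710 4285 (fun p => Nat.beq (lk t30 p) (ev lk w30 p)) = true := by decide +kernel
theorem chk_t30_c7 : allR 29995 1676 (fun p => Nat.beq (lk t30 p) (ev lk w30 p)) = true := by decide +kernel
theorem chk_t30 : eqW lk nP t30 w30 = true :=
  eqW_of_chunks lk nP _ _ [(0, 4285), (4285, 4285), (8570, 4285), (12855, 4285), (17140, 4285), (21425, 4285), (25710, 4285), (29995, 1676)] (by decide) (AllChunks.cons chk_t30_c0 (AllChunks.cons chk_t30_c1 (AllChunks.cons chk_t30_c2 (AllChunks.cons chk_t30_c3 (AllChunks.cons chk_t30_c4 (AllChunks.cons chk_t30_c5 (AllChunks.cons chk_t30_c6 (AllChunks.cons chk_t30_c7 (AllChunks.nil)))))))))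

/-- the word for the coded permutation number 31 -/
noncomputable def w31 : List ℕ := [t24, t23, t0, t12, t25]
theorem chk_t31_c0 : allR 0 5000 (fun p => Nat.beq (lk t31 p) (ev lk w31 p)) = true := by decide +kernel
theorem chk_t31_c1 : allR 5000 5000 (fun p => Nat.beq (lk t31 p) (ev lk w31 p)) = true := by decide +kernel
theorem chk_t31_c2 : allR 10000 5000 (fun p => Nat.beq (lk t31 p) (ev lk w31 p)) = true := by decide +kernel
theorem chk_t31_c3 : allR 15000 5000 (fun p => Nat.beq (lk t31 p) (ev lk w31 p)) = true := by decide +kernel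
theorem chk_t31_c4 : allR 20000 5000 (fun p => Nat.beq (lk t31 p) (ev lk w31 p)) = true := by decide +kernel
theorem chk_t31_c5 : allR 25000 5000 (fun p => Nat.beq (lk t31 p) (ev lk w31 p)) = true := by decide +kernel
theorem chk_t31_c6 : allR 30000 1671 (fun p => Nat.beq (lk t31 p) (ev lk w31 p)) = true := by decide +kernel
theorem chk_t31 : eqW lk nP t31 w31 = true :=
  eqW_of_chunks lk nP _ _ [(0, 5000), (5000, 5000), (10000, 5000), (15000, 5000), (20000, 5000), (25000, 5000), (30000, 1671)] (by decide) (AllChunks.cons chk_t31_c0 (AllChunks.cons chk_t31_c1 (AllChunks.cons chk_t31_c2 (AllChunks.cons chk_t31_c3 (AllChunks.cons chk_t31_c4 (AllChunks.cons chk_t31_c5 (AllChunks.cons chk_t31_c6 (AllChunks.nil))))))))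

/-- the word for the coded permutation number 32 -/
noncomputable def w32 : List ℕ := [t0, t22, t26, t28, t23, t16]
theorem chk_t32_c0 : allR 0 4285 (fun p => Nat.beq (lk t32 p) (ev lk w32 p)) = true := by decide +kernel
theorem chk_t32_c1 : allR 4285 4285 (fun p => Nat.beq (lk t32 p) (ev lk w32 p)) = true := by decide +kernel
theorem chk_t32_c2 : allR 8570 4285 (fun p => Nat.beq (lk t32 p) (ev lk w32 p)) = true := by decide +kernel
theorem chk_t32_c3 : allR 12855 4285 (fun p => Nat.beq (lk t32 p) (ev lk w32 p)) = true := by decide +kernel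
theorem chk_t32_c4 : allR 17140 4285 (fun p => Nat.beq (lk t32 p) (ev lk w32 p)) = true := by decide +kernel
theorem chk_t32_c5 : allR 21425 4285 (fun p => Nat.beq (lk t32 p) (ev lk w32 p)) = true := by decide +kernel
theorem chk_t32_c6 : allR 25710 4285 (fun p => Nat.beq (lk t32 p) (ev lk w32 p)) = true := by decide +kernel
theorem chk_t32_c7 : allR 29995 1676 (fun p => Nat.beq (lk t32 p) (ev lk w32 p)) = true := by decide +kernel
theorem chk_t32 : eqW lk nP t32 w32 = true :=
  eqW_of_chunks lk nP _ _ [(0, 4285), (4285, 4285), (8570, 4285), (12855, 4285), (17140, 4285), (21425, 4285), (25710, 4285), (29995, 1676)] (by decide) (AllChunks.cons chk_t32_c0 (AllChunks.cons chk_t32_c1 (AllChunks.cons chk_t32_c2 (AllChunks.cons chk_t32_c3 (AllChunks.cons chk_t32_c4 (AllChunks.cons chk_t32_c5 (AllChunks.cons chk_t32_c6 (AllChunks.cons chk_t32_c7 (AllChunks.nil)))))))))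

theorem chk_t33_c0 : allR 0 10000 (fun p => Nat.beq (ev lk [t33, t31] p) (ev lk [] p)) = true := by decide +kernel
theorem chk_t33_c1 : allR 10000 10000 (fun p => Nat.beq (ev lk [t33, t31] p) (ev lk [] p)) = true := by decide +kernel
theorem chk_t33_c2 : allR 20000 10000 (fun p => Nat.beq (ev lk [t33, t31] p) (ev lk [] p)) = true := by decide +kernel
theorem chk_t33_c3 : allR 30000 1671 (fun p => Nat.beq (ev lk [t33, t31] p) (ev lk [] p)) = true := by decide +kernel
theorem chk_t33 : eqWW lk nP [t33, t31] [] = true :=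
  eqWW_of_chunks lk nP _ _ [(0, 10000), (10000, 10000), (20000, 10000), (30000, 1671)] (by decide) (AllChunks.cons chk_t33_c0 (AllChunks.cons chk_t33_c1 (AllChunks.cons chk_t33_c2 (AllChunks.cons chk_t33_c3 (AllChunks.nil)))))

theorem chk_t34_c0 : allR 0 10000 (fun p => Nat.beq (ev lk [t34, t32] p) (ev lk [] p)) = true := by decide +kernel
theorem chk_t34_c1 : allR 10000 10000 (fun p => Nat.beq (ev lk [t34, t32] p) (ev lk [] p)) = true := by decide +kernel
theorem chk_t34_c2 : allR 20000 10000 (fun p => Nat.beq (ev lk [t34, t32] p) (ev lk [] p)) = true := by decide +kernel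
theorem chk_t34_c3 : allR 30000 1671 (fun p => Nat.beq (ev lk [t34, t32] p) (ev lk [] p)) = true := by decide +kernel
theorem chk_t34 : eqWW lk nP [t34, t32] [] = true :=
  eqWW_of_chunks lk nP _ _ [(0, 10000), (10000, 10000), (20000, 10000), (30000, 1671)] (by decide) (AllChunks.cons chk_t34_c0 (AllChunks.cons chk_t34_c1 (AllChunks.cons chk_t34_c2 (AllChunks.cons chk_t34_c3 (AllChunks.nil)))))

/-- the word for the coded permutation number 35 -/
noncomputable def w35 : List ℕ := [t31, t34]
theorem chk_t35_c0 : allR 0 10000 (fun p => Nat.beq (lk t35 p) (ev lk w35 p)) = true := by decide +kernel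
theorem chk_t35_c1 : allR 10000 10000 (fun p => Nat.beq (lk t35 p) (ev lk w35 p)) = true := by decide +kernel
theorem chk_t35_c2 : allR 20000 10000 (fun p => Nat.beq (lk t35 p) (ev lk w35 p)) = true := by decide +kernel
theorem chk_t35_c3 : allR 30000 1671 (fun p => Nat.beq (lk t35 p) (ev lk w35 p)) = true := by decide +kernel
theorem chk_t35 : eqW lk nP t35 w35 = true :=
  eqW_of_chunks lk nP _ _ [(0, 10000), (10000, 10000), (20000, 10000), (30000, 1671)] (by decide) (AllChunks.cons chk_t35_c0 (AllChunks.cons chk_t35_c1 (AllChunks.cons chk_t35_c2 (AllChunks.cons chk_t35_c3 (AllChunks.nil)))))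

theorem chk_t36_c0 : allR 0 10000 (fun p => Nat.beq (ev lk [t36, t35] p) (ev lk [] p)) = true := by decide +kernel
theorem chk_t36_c1 : allR 10000 10000 (fun p => Nat.beq (ev lk [t36, t35] p) (ev lk [] p)) = true := by decide +kernel
theorem chk_t36_c2 : allR 20000 10000 (fun p => Nat.beq (ev lk [t36, t35] p) (ev lk [] p)) = true := by decide +kernel
theorem chk_t36_c3 : allR 30000 1671 (fun p => Nat.beq (ev lk [t36, t35] p) (ev lk [] p)) = true := by decide +kernel
theorem chk_t36 : eqWW lk nP [t36, t35] [] = true :=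
  eqWW_of_chunks lk nP _ _ [(0, 10000), (10000, 10000), (20000, 10000), (30000, 1671)] (by decide) (AllChunks.cons chk_t36_c0 (AllChunks.cons chk_t36_c1 (AllChunks.cons chk_t36_c2 (AllChunks.cons chk_t36_c3 (AllChunks.nil)))))

end Cfsg.Agent.Lib.Helper28.Fi
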