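import Mathlib
import Cfsg.Agent.Lib.Helper28.Fi.Core
import Cfsg.Agent.Lib.Helper28.Fi.Chunk
import Cfsg.Agent.Lib.Helper28.Fi.Tab0
import Cfsg.Agent.Lib.Helper28.Fi.Tab1
import Cfsg.Agent.Lib.Helper28.Fi.Tab2
import Cfsg.Agent.Lib.Helper28.Fi.Tab3
import Cfsg.Agent.Lib.Helper28.Fi.Tab4
import Cfsg.Agent.Lib.Helper28.Fi.Tab5
import Cfsg.Agent.Lib.Helper28.Fi.Tab6
import Cfsg.Agent.Lib.Helper28.Fi.Tab8

set_option autoImplicit false
set_option maxRecDepth 1000000
set_option Elab.async false

/-! Checks that coded permutations are words in earlier ones, part 12 (generated). -/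

namespace Cfsg.Agent.Lib.Helper28.Fi

open Cfsg.Agent.Lib.Helper5.CP Cfsg.Agent.Lib.Helper5.PcP Cfsg.Agent.Lib.Helper12.TC.Fi23o31671
/-- the word for the coded permutation number 103 -/
noncomputable def w103 : List ℕ := [t14, t19, t10, t18, t14, t18, t42, t36, t37, t40, t41, t41, t52, t58, t49, t49, t53, t63, t63, t61, t61, t61, t68, t67, t68, t69, t68, t67, t67, t68, t70, t77]
theorem chk_t103_c0 : allR 0 909 (fun p => Nat.beq (lk t103 p) (ev lk w103 p)) = true := by decide +kernel
theorem chk_t103_c1 : allR 909 909 (fun p => Nat.beq (lk t103 p) (ev lk w103 p)) = true := by decide +kernel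
theorem chk_t103_c2 : allR 1818 909 (fun p => Nat.beq (lk t103 p) (ev lk w103 p)) = true := by decide +kernel
theorem chk_t103_c3 : allR 2727 909 (fun p => Nat.beq (lk t103 p) (ev lk w103 p)) = true := by decide +kernel
theorem chk_t103_c4 : allR 3636 909 (fun p => Nat.beq (lk t103 p) (ev lk w103 p)) = true := by decide +kernel
theorem chk_t103_c5 : allR 4545 909 (fun p => Nat.beq (lk t103 p) (ev lk w103 p)) = true := by decide +kernel
theorem chk_t103_c6 : allR 5454 909 (fun p => Nat.beq (lk t103 p) (ev lk w103 p)) = true := by decide +kernel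
theorem chk_t103_c7 : allR 6363 909 (fun p => Nat.beq (lk t103 p) (ev lk w103 p)) = true := by decide +kernel
theorem chk_t103_c8 : allR 7272 909 (fun p => Nat.beq (lk t103 p) (ev lk w103 p)) = true := by decide +kernel
theorem chk_t103_c9 : allR 8181 909 (fun p => Nat.beq (lk t103 p) (ev lk w103 p)) = true := by decide +kernel
theorem chk_t103_c10 : allR 9090 909 (fun p => Nat.beq (lk t103 p) (ev lk w103 p)) = true := by decide +kernel
theorem chk_t103_c11 : allR 9999 909 (fun p => Nat.beq (lk t103 p) (ev lk w103 p)) = true := by decide +kernel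
theorem chk_t103_c12 : allR 10908 909 (fun p => Nat.beq (lk t103 p) (ev lk w103 p)) = true := by decide +kernel
theorem chk_t103_c13 : allR 11817 909 (fun p => Nat.beq (lk t103 p) (ev lk w103 p)) = true := by decide +kernel
theorem chk_t103_c14 : allR 12726 909 (fun p => Nat.beq (lk t103 p) (ev lk w103 p)) = true := by decide +kernel
theorem chk_t103_c15 : allR 13635 909 (fun p => Nat.beq (lk t103 p) (ev lk w103 p)) = true := by decide +kernel
theorem chk_t103_c16 : allR 14544 909 (fun p => Nat.beq (lk t103 p) (ev lk w103 p)) = true := by decide +kernel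
theorem chk_t103_c17 : allR 15453 909 (fun p => Nat.beq (lk t103 p) (ev lk w103 p)) = true := by decide +kernel
theorem chk_t103_c18 : allR 16362 909 (fun p => Nat.beq (lk t103 p) (ev lk w103 p)) = true := by decide +kernel
theorem chk_t103_c19 : allR 17271 909 (fun p => Nat.beq (lk t103 p) (ev lk w103 p)) = true := by decide +kernel
theorem chk_t103_c20 : allR 18180 909 (fun p => Nat.beq (lk t103 p) (ev lk w103 p)) = true := by decide +kernel
theorem chk_t103_c21 : allR 19089 909 (fun p => Nat.beq (lk t103 p) (ev lk w103 p)) = true := by decide +kernel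
theorem chk_t103_c22 : allR 19998 909 (fun p => Nat.beq (lk t103 p) (ev lk w103 p)) = true := by decide +kernel
theorem chk_t103_c23 : allR 20907 909 (fun p => Nat.beq (lk t103 p) (ev lk w103 p)) = true := by decide +kernel
theorem chk_t103_c24 : allR 21816 909 (fun p => Nat.beq (lk t103 p) (ev lk w103 p)) = true := by decide +kernel
theorem chk_t103_c25 : allR 22725 909 (fun p => Nat.beq (lk t103 p) (ev lk w103 p)) = true := by decide +kernel
theorem chk_t103_c26 : allR 23634 909 (fun p => Nat.beq (lk t103 p) (ev lk w103 p)) = true := by decide +kernel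
theorem chk_t103_c27 : allR 24543 909 (fun p => Nat.beq (lk t103 p) (ev lk w103 p)) = true := by decide +kernel
theorem chk_t103_c28 : allR 25452 909 (fun p => Nat.beq (lk t103 p) (ev lk w103 p)) = true := by decide +kernel
theorem chk_t103_c29 : allR 26361 909 (fun p => Nat.beq (lk t103 p) (ev lk w103 p)) = true := by decide +kernel
theorem chk_t103_c30 : allR 27270 909 (fun p => Nat.beq (lk t103 p) (ev lk w103 p)) = true := by decide +kernel
theorem chk_t103_c31 : allR 28179 909 (fun p => Nat.beq (lk t103 p) (ev lk w103 p)) = true := by decide +kernel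
theorem chk_t103_c32 : allR 29088 909 (fun p => Nat.beq (lk t103 p) (ev lk w103 p)) = true := by decide +kernel
theorem chk_t103_c33 : allR 29997 909 (fun p => Nat.beq (lk t103 p) (ev lk w103 p)) = true := by decide +kernel
theorem chk_t103_c34 : allR 30906 765 (fun p => Nat.beq (lk t103 p) (ev lk w103 p)) = true := by decide +kernel
theorem chk_t103 : eqW lk nP t103 w103 = true :=
  eqW_of_chunks lk nP _ _ [(0, 909), (909, 909), (1818, 909), (2727, 909), (3636, 909), (4545, 909), (5454, 909), (6363, 909), (7272, 909), (8181, 909), (9090, 909), (9999, 909), (10908, 909), (11817, 909), (12726, 909), (13635, 909), (14544, 909), (15453, 909), (16362, 909), (17271, 909), (18180, 909), (19089, 909), (19998, 909), (20907, 909), (21816, 909), (22725, 909), (23634, 909), (24543, 909), (25452, 909), (26361, 909), (27270, 909), (28179, 909), (29088, 909), (29997, 909), (30906, 765)] (by decide) (AllChunks.cons chk_t103_c0 (AllChunks.cons chk_t103_c1 (AllChunks.cons chk_t103_c2 (AllChunks.cons chk_t103_c3 (AllChunks.cons chk_t103_c4 (AllChunks.cons chk_t103_c5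 (AllChunks.cons chk_t103_c6 (AllChunks.cons chk_t103_c7 (AllChunks.cons chk_t103_c8 (AllChunks.cons chk_t103_c9 (AllChunks.cons chk_t103_c10 (AllChunks.cons chk_t103_c11 (AllChunks.cons chk_t103_c12 (AllChunks.cons chk_t103_c13 (AllChunks.cons chk_t103_c14 (AllChunks.cons chk_t103_c15 (AllChunks.cons chk_t103_c16 (AllChunks.cons chk_t103_c17 (AllChunks.cons chk_t103_c18 (AllChunks.cons chk_t103_c19 (AllChunks.cons chk_t103_c20 (AllChunks.cons chk_t103_c21 (AllChunks.cons chk_t103_c22 (AllChunks.cons chk_t103_c23 (AllChunks.cons chk_t103_c24 (AllChunks.cons chk_t103_c25 (AllChunks.cons chk_t103_c26 (AllChunks.cons chk_t103_c27 (AllChunks.cons chk_t103_c28 (AllChunks.cons chk_t103_c29 (AllChunks.cons chk_t103_c30 (AllChunks.cons chk_t103_c31 (AllChunks.cons chk_t103_c32 (AllChunks.cons chk_t103_c33 (AllChunks.cons chk_t103_c34 (AllChunks.nil))))))))))))))))))))))))))))))))))))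

/-- the word for the coded permutation number 104 -/
noncomputable def w104 : List ℕ := [t15, t21, t18, t14, t15, t10, t16, t39, t35, t40, t38, t42, t39, t31, t55, t54, t52, t47, t55, t65, t61, t61, t61, t69, t68, t69, t68, t67, t72, t70]
theorem chk_t104_c0 : allR 0 967 (fun p => Nat.beq (lk t104 p) (ev lk w104 p)) = true := by decide +kernel
theorem chk_t104_c1 : allR 967 967 (fun p => Nat.beq (lk t104 p) (ev lk w104 p)) = true := by decide +kernel
theorem chk_t104_c2 : allR 1934 967 (fun p => Nat.beq (lk t104 p) (ev lk w104 p)) = true := by decide +kernel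
theorem chk_t104_c3 : allR 2901 967 (fun p => Nat.beq (lk t104 p) (ev lk w104 p)) = true := by decide +kernel
theorem chk_t104_c4 : allR 3868 967 (fun p => Nat.beq (lk t104 p) (ev lk w104 p)) = true := by decide +kernel
theorem chk_t104_c5 : allR 4835 967 (fun p => Nat.beq (lk t104 p) (ev lk w104 p)) = true := by decide +kernel
theorem chk_t104_c6 : allR 5802 967 (fun p => Nat.beq (lk t104 p) (ev lk w104 p)) = true := by decide +kernel
theorem chk_t104_c7 : allR 6769 967 (fun p => Nat.beq (lk t104 p) (ev lk w104 p)) = true := by decide +kernel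
theorem chk_t104_c8 : allR 7736 967 (fun p => Nat.beq (lk t104 p) (ev lk w104 p)) = true := by decide +kernel
theorem chk_t104_c9 : allR 8703 967 (fun p => Nat.beq (lk t104 p) (ev lk w104 p)) = true := by decide +kernel
theorem chk_t104_c10 : allR 9670 967 (fun p => Nat.beq (lk t104 p) (ev lk w104 p)) = true := by decide +kernel
theorem chk_t104_c11 : allR 10637 967 (fun p => Nat.beq (lk t104 p) (ev lk w104 p)) = true := by decide +kernel
theorem chk_t104_c12 : allR 11604 967 (fun p => Nat.beq (lk t104 p) (ev lk w104 p)) = true := by decide +kernel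
theorem chk_t104_c13 : allR 12571 967 (fun p => Nat.beq (lk t104 p) (ev lk w104 p)) = true := by decide +kernel
theorem chk_t104_c14 : allR 13538 967 (fun p => Nat.beq (lk t104 p) (ev lk w104 p)) = true := by decide +kernel
theorem chk_t104_c15 : allR 14505 967 (fun p => Nat.beq (lk t104 p) (ev lk w104 p)) = true := by decide +kernel
theorem chk_t104_c16 : allR 15472 967 (fun p => Nat.beq (lk t104 p) (ev lk w104 p)) = true := by decide +kernel
theorem chk_t104_c17 : allR 16439 967 (fun p => Nat.beq (lk t104 p) (ev lk w104 p)) = true := by decide +kernel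
theorem chk_t104_c18 : allR 17406 967 (fun p => Nat.beq (lk t104 p) (ev lk w104 p)) = true := by decide +kernel
theorem chk_t104_c19 : allR 18373 967 (fun p => Nat.beq (lk t104 p) (ev lk w104 p)) = true := by decide +kernel
theorem chk_t104_c20 : allR 19340 967 (fun p => Nat.beq (lk t104 p) (ev lk w104 p)) = true := by decide +kernel
theorem chk_t104_c21 : allR 20307 967 (fun p => Nat.beq (lk t104 p) (ev lk w104 p)) = true := by decide +kernel
theorem chk_t104_c22 : allR 21274 967 (fun p => Nat.beq (lk t104 p) (ev lk w104 p)) = true := by decide +kernel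
theorem chk_t104_c23 : allR 22241 967 (fun p => Nat.beq (lk t104 p) (ev lk w104 p)) = true := by decide +kernel
theorem chk_t104_c24 : allR 23208 967 (fun p => Nat.beq (lk t104 p) (ev lk w104 p)) = true := by decide +kernel
theorem chk_t104_c25 : allR 24175 967 (fun p => Nat.beq (lk t104 p) (ev lk w104 p)) = true := by decide +kernel
theorem chk_t104_c26 : allR 25142 967 (fun p => Nat.beq (lk t104 p) (ev lk w104 p)) = true := by decide +kernel
theorem chk_t104_c27 : allR 26109 967 (fun p => Nat.beq (lk t104 p) (ev lk w104 p)) = true := by decide +kernel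
theorem chk_t104_c28 : allR 27076 967 (fun p => Nat.beq (lk t104 p) (ev lk w104 p)) = true := by decide +kernel
theorem chk_t104_c29 : allR 28043 967 (fun p => Nat.beq (lk t104 p) (ev lk w104 p)) = true := by decide +kernel
theorem chk_t104_c30 : allR 29010 967 (fun p => Nat.beq (lk t104 p) (ev lk w104 p)) = true := by decide +kernel
theorem chk_t104_c31 : allR 29977 967 (fun p => Nat.beq (lk t104 p) (ev lk w104 p)) = true := by decide +kernel
theorem chk_t104_c32 : allR 30944 727 (fun p => Nat.beq (lk t104 p) (ev lk w104 p)) = true := by decide +kernel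
theorem chk_t104 : eqW lk nP t104 w104 = true :=
  eqW_of_chunks lk nP _ _ [(0, 967), (967, 967), (1934, 967), (2901, 967), (3868, 967), (4835, 967), (5802, 967), (6769, 967), (7736, 967), (8703, 967), (9670, 967), (10637, 967), (11604, 967), (12571, 967), (13538, 967), (14505, 967), (15472, 967), (16439, 967), (17406, 967), (18373, 967), (19340, 967), (20307, 967), (21274, 967), (22241, 967), (23208, 967), (24175, 967), (25142, 967), (26109, 967), (27076, 967), (28043, 967), (29010, 967), (29977, 967), (30944, 727)] (by decide) (AllChunks.cons chk_t104_c0 (AllChunks.cons chk_t104_c1 (AllChunks.cons chk_t104_c2 (AllChunks.cons chk_t104_c3 (AllChunks.cons chk_t104_c4 (AllChunks.cons chk_t104_c5 (AllChunks.cons chk_t104_c6 (AllChunks.cons chk_t104_c7 (AllChunks.cons chk_t104_c8 (AllChunks.cons chk_t104_c9 (AllChunks.cons chk_t104_c10 (AllChunks.cons chk_t104_c11 (AllChunks.cons chk_t104_c12 (AllChunks.cons chk_t104_c13 (AllChunks.cons chk_t104_c14 (AllChunks.cons chk_t104_c15 (AllChunks.cons chk_t104_c16 (AllChunks.cons chk_t104_c17 (AllChunks.cons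 chk_t104_c18 (AllChunks.cons chk_t104_c19 (AllChunks.cons chk_t104_c20 (AllChunks.cons chk_t104_c21 (AllChunks.cons chk_t104_c22 (AllChunks.cons chk_t104_c23 (AllChunks.cons chk_t104_c24 (AllChunks.cons chk_t104_c25 (AllChunks.cons chk_t104_c26 (AllChunks.cons chk_t104_c27 (AllChunks.cons chk_t104_c28 (AllChunks.cons chk_t104_c29 (AllChunks.cons chk_t104_c30 (AllChunks.cons chk_t104_c31 (AllChunks.cons chk_t104_c32 (AllChunks.nil))))))))))))))))))))))))))))))))))

/-- the word for the coded permutation number 105 -/
noncomputable def w105 : List ℕ := [t15, t19, t10, t17, t10, t16, t33, t41, t45, t39, t42, t30, t53, t47, t55, t55, t60, t61, t66, t62, t67, t68, t67, t67, t68, t67, t67, t71, t76, t77]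
theorem chk_t105_c0 : allR 0 967 (fun p => Nat.beq (lk t105 p) (ev lk w105 p)) = true := by decide +kernel
theorem chk_t105_c1 : allR 967 967 (fun p => Nat.beq (lk t105 p) (ev lk w105 p)) = true := by decide +kernel
theorem chk_t105_c2 : allR 1934 967 (fun p => Nat.beq (lk t105 p) (ev lk w105 p)) = true := by decide +kernel
theorem chk_t105_c3 : allR 2901 967 (fun p => Nat.beq (lk t105 p) (ev lk w105 p)) = true := by decide +kernel
theorem chk_t105_c4 : allR 3868 967 (fun p => Nat.beq (lk t105 p) (ev lk w105 p)) = true := by decide +kernel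
theorem chk_t105_c5 : allR 4835 967 (fun p => Nat.beq (lk t105 p) (ev lk w105 p)) = true := by decide +kernel
theorem chk_t105_c6 : allR 5802 967 (fun p => Nat.beq (lk t105 p) (ev lk w105 p)) = true := by decide +kernel
theorem chk_t105_c7 : allR 6769 967 (fun p => Nat.beq (lk t105 p) (ev lk w105 p)) = true := by decide +kernel
theorem chk_t105_c8 : allR 7736 967 (fun p => Nat.beq (lk t105 p) (ev lk w105 p)) = true := by decide +kernel
theorem chk_t105_c9 : allR 8703 967 (fun p => Nat.beq (lk t105 p) (ev lk w105 p)) = true := by decide +kernel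
theorem chk_t105_c10 : allR 9670 967 (fun p => Nat.beq (lk t105 p) (ev lk w105 p)) = true := by decide +kernel
theorem chk_t105_c11 : allR 10637 967 (fun p => Nat.beq (lk t105 p) (ev lk w105 p)) = true := by decide +kernel
theorem chk_t105_c12 : allR 11604 967 (fun p => Nat.beq (lk t105 p) (ev lk w105 p)) = true := by decide +kernel
theorem chk_t105_c13 : allR 12571 967 (fun p => Nat.beq (lk t105 p) (ev lk w105 p)) = true := by decide +kernel
theorem chk_t105_c14 : allR 13538 967 (fun p => Nat.beq (lk t105 p) (ev lk w105 p)) = true := by decide +kernel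
theorem chk_t105_c15 : allR 14505 967 (fun p => Nat.beq (lk t105 p) (ev lk w105 p)) = true := by decide +kernel
theorem chk_t105_c16 : allR 15472 967 (fun p => Nat.beq (lk t105 p) (ev lk w105 p)) = true := by decide +kernel
theorem chk_t105_c17 : allR 16439 967 (fun p => Nat.beq (lk t105 p) (ev lk w105 p)) = true := by decide +kernel
theorem chk_t105_c18 : allR 17406 967 (fun p => Nat.beq (lk t105 p) (ev lk w105 p)) = true := by decide +kernel
theorem chk_t105_c19 : allR 18373 967 (fun p => Nat.beq (lk t105 p) (ev lk w105 p)) = true := by decide +kernel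
theorem chk_t105_c20 : allR 19340 967 (fun p => Nat.beq (lk t105 p) (ev lk w105 p)) = true := by decide +kernel
theorem chk_t105_c21 : allR 20307 967 (fun p => Nat.beq (lk t105 p) (ev lk w105 p)) = true := by decide +kernel
theorem chk_t105_c22 : allR 21274 967 (fun p => Nat.beq (lk t105 p) (ev lk w105 p)) = true := by decide +kernel
theorem chk_t105_c23 : allR 22241 967 (fun p => Nat.beq (lk t105 p) (ev lk w105 p)) = true := by decide +kernel
theorem chk_t105_c24 : allR 23208 967 (fun p => Nat.beq (lk t105 p) (ev lk w105 p)) = true := by decide +kernel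
theorem chk_t105_c25 : allR 24175 967 (fun p => Nat.beq (lk t105 p) (ev lk w105 p)) = true := by decide +kernel
theorem chk_t105_c26 : allR 25142 967 (fun p => Nat.beq (lk t105 p) (ev lk w105 p)) = true := by decide +kernel
theorem chk_t105_c27 : allR 26109 967 (fun p => Nat.beq (lk t105 p) (ev lk w105 p)) = true := by decide +kernel
theorem chk_t105_c28 : allR 27076 967 (fun p => Nat.beq (lk t105 p) (ev lk w105 p)) = true := by decide +kernel
theorem chk_t105_c29 : allR 28043 967 (fun p => Nat.beq (lk t105 p) (ev lk w105 p)) = true := by decide +kernel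
theorem chk_t105_c30 : allR 29010 967 (fun p => Nat.beq (lk t105 p) (ev lk w105 p)) = true := by decide +kernel
theorem chk_t105_c31 : allR 29977 967 (fun p => Nat.beq (lk t105 p) (ev lk w105 p)) = true := by decide +kernel
theorem chk_t105_c32 : allR 30944 727 (fun p => Nat.beq (lk t105 p) (ev lk w105 p)) = true := by decide +kernel
theorem chk_t105 : eqW lk nP t105 w105 = true :=
  eqW_of_chunks lk nP _ _ [(0, 967), (967, 967), (1934, 967), (2901, 967), (3868, 967), (4835, 967), (5802, 967), (6769, 967), (7736, 967), (8703, 967), (9670, 967), (10637, 967), (11604, 967), (12571, 967), (13538, 967), (14505, 967), (15472, 967), (16439, 967), (17406, 967), (18373, 967), (19340, 967), (20307, 967), (21274, 967), (22241, 967), (23208, 967), (24175, 967), (25142, 967), (26109, 967), (27076, 967), (28043, 967), (29010, 967), (29977, 967), (30944, 727)] (by decide) (AllChunks.cons chk_t105_c0 (AllChunks.cons chk_t105_c1 (AllChunks.cons chk_t105_c2 (AllChunks.cons chk_t105_c3 (AllChunks.cons chk_t105_c4 (AllChunks.cons chk_t105_c5 (AllChunks.cons chk_t105_c6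 (AllChunks.cons chk_t105_c7 (AllChunks.cons chk_t105_c8 (AllChunks.cons chk_t105_c9 (AllChunks.cons chk_t105_c10 (AllChunks.cons chk_t105_c11 (AllChunks.cons chk_t105_c12 (AllChunks.cons chk_t105_c13 (AllChunks.cons chk_t105_c14 (AllChunks.cons chk_t105_c15 (AllChunks.cons chk_t105_c16 (AllChunks.cons chk_t105_c17 (AllChunks.cons chk_t105_c18 (AllChunks.cons chk_t105_c19 (AllChunks.cons chk_t105_c20 (AllChunks.cons chk_t105_c21 (AllChunks.cons chk_t105_c22 (AllChunks.cons chk_t105_c23 (AllChunks.cons chk_t105_c24 (AllChunks.cons chk_t105_c25 (AllChunks.cons chk_t105_c26 (AllChunks.cons chk_t105_c27 (AllChunks.cons chk_t105_c28 (AllChunks.cons chk_t105_c29 (AllChunks.cons chk_t105_c30 (AllChunks.cons chk_t105_c31 (AllChunks.cons chk_t105_c32 (AllChunks.nil))))))))))))))))))))))))))))))))))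

end Cfsg.Agent.Lib.Helper28.Fi
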