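import Mathlib
import Cfsg.Agent.Lib.Helper28.Fi.Core
import Cfsg.Agent.Lib.Helper28.Fi.Chunk
import Cfsg.Agent.Lib.Helper28.Fi.Tab0
import Cfsg.Agent.Lib.Helper28.Fi.Tab1
import Cfsg.Agent.Lib.Helper28.Fi.Tab2
import Cfsg.Agent.Lib.Helper28.Fi.Tab3
import Cfsg.Agent.Lib.Helper28.Fi.Tab4
import Cfsg.Agent.Lib.Helper28.Fi.Tab5
import Cfsg.Agent.Lib.Helper28.Fi.Tab6
import Cfsg.Agent.Lib.Helper28.Fi.Tab8
import Cfsg.Agent.Lib.Helper28.Fi.Tab9

set_option autoImplicit false
set_option maxRecDepth 1000000
set_option Elab.async false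

/-! Checks that coded permutations are words in earlier ones, part 13 (generated). -/

namespace Cfsg.Agent.Lib.Helper28.Fi

open Cfsg.Agent.Lib.Helper5.CP Cfsg.Agent.Lib.Helper5.PcP Cfsg.Agent.Lib.Helper12.TC.Fi23o31671
/-- the word for the coded permutation number 106 -/
noncomputable def w106 : List ℕ := [t18, t17, t20, t14, t18, t18, t18, t14, t18, t41, t46, t43, t42, t39, t31, t57, t56, t47, t62, t63, t61, t68, t69, t68, t69, t68, t72, t74, t77]
theorem chk_t106_c0 : allR 0 1000 (fun p => Nat.beq (lk t106 p) (ev lk w106 p)) = true := by decide +kernel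
theorem chk_t106_c1 : allR 1000 1000 (fun p => Nat.beq (lk t106 p) (ev lk w106 p)) = true := by decide +kernel
theorem chk_t106_c2 : allR 2000 1000 (fun p => Nat.beq (lk t106 p) (ev lk w106 p)) = true := by decide +kernel
theorem chk_t106_c3 : allR 3000 1000 (fun p => Nat.beq (lk t106 p) (ev lk w106 p)) = true := by decide +kernel
theorem chk_t106_c4 : allR 4000 1000 (fun p => Nat.beq (lk t106 p) (ev lk w106 p)) = true := by decide +kernel
theorem chk_t106_c5 : allR 5000 1000 (fun p => Nat.beq (lk t106 p) (ev lk w106 p)) = true := by decide +kernel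
theorem chk_t106_c6 : allR 6000 1000 (fun p => Nat.beq (lk t106 p) (ev lk w106 p)) = true := by decide +kernel
theorem chk_t106_c7 : allR 7000 1000 (fun p => Nat.beq (lk t106 p) (ev lk w106 p)) = true := by decide +kernel
theorem chk_t106_c8 : allR 8000 1000 (fun p => Nat.beq (lk t106 p) (ev lk w106 p)) = true := by decide +kernel
theorem chk_t106_c9 : allR 9000 1000 (fun p => Nat.beq (lk t106 p) (ev lk w106 p)) = true := by decide +kernel
theorem chk_t106_c10 : allR 10000 1000 (fun p => Nat.beq (lk t106 p) (ev lk w106 p)) = true := by decide +kernel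
theorem chk_t106_c11 : allR 11000 1000 (fun p => Nat.beq (lk t106 p) (ev lk w106 p)) = true := by decide +kernel
theorem chk_t106_c12 : allR 12000 1000 (fun p => Nat.beq (lk t106 p) (ev lk w106 p)) = true := by decide +kernel
theorem chk_t106_c13 : allR 13000 1000 (fun p => Nat.beq (lk t106 p) (ev lk w106 p)) = true := by decide +kernel
theorem chk_t106_c14 : allR 14000 1000 (fun p => Nat.beq (lk t106 p) (ev lk w106 p)) = true := by decide +kernel
theorem chk_t106_c15 : allR 15000 1000 (fun p => Nat.beq (lk t106 p) (ev lk w106 p)) = true := by decide +kernel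
theorem chk_t106_c16 : allR 16000 1000 (fun p => Nat.beq (lk t106 p) (ev lk w106 p)) = true := by decide +kernel
theorem chk_t106_c17 : allR 17000 1000 (fun p => Nat.beq (lk t106 p) (ev lk w106 p)) = true := by decide +kernel
theorem chk_t106_c18 : allR 18000 1000 (fun p => Nat.beq (lk t106 p) (ev lk w106 p)) = true := by decide +kernel
theorem chk_t106_c19 : allR 19000 1000 (fun p => Nat.beq (lk t106 p) (ev lk w106 p)) = true := by decide +kernel
theorem chk_t106_c20 : allR 20000 1000 (fun p => Nat.beq (lk t106 p) (ev lk w106 p)) = true := by decide +kernel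
theorem chk_t106_c21 : allR 21000 1000 (fun p => Nat.beq (lk t106 p) (ev lk w106 p)) = true := by decide +kernel
theorem chk_t106_c22 : allR 22000 1000 (fun p => Nat.beq (lk t106 p) (ev lk w106 p)) = true := by decide +kernel
theorem chk_t106_c23 : allR 23000 1000 (fun p => Nat.beq (lk t106 p) (ev lk w106 p)) = true := by decide +kernel
theorem chk_t106_c24 : allR 24000 1000 (fun p => Nat.beq (lk t106 p) (ev lk w106 p)) = true := by decide +kernel
theorem chk_t106_c25 : allR 25000 1000 (fun p => Nat.beq (lk t106 p) (ev lk w106 p)) = true := by decide +kernel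
theorem chk_t106_c26 : allR 26000 1000 (fun p => Nat.beq (lk t106 p) (ev lk w106 p)) = true := by decide +kernel
theorem chk_t106_c27 : allR 27000 1000 (fun p => Nat.beq (lk t106 p) (ev lk w106 p)) = true := by decide +kernel
theorem chk_t106_c28 : allR 28000 1000 (fun p => Nat.beq (lk t106 p) (ev lk w106 p)) = true := by decide +kernel
theorem chk_t106_c29 : allR 29000 1000 (fun p => Nat.beq (lk t106 p) (ev lk w106 p)) = true := by decide +kernel
theorem chk_t106_c30 : allR 30000 1000 (fun p => Nat.beq (lk t106 p) (ev lk w106 p)) = true := by decide +kernel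
theorem chk_t106_c31 : allR 31000 671 (fun p => Nat.beq (lk t106 p) (ev lk w106 p)) = true := by decide +kernel
theorem chk_t106 : eqW lk nP t106 w106 = true :=
  eqW_of_chunks lk nP _ _ [(0, 1000), (1000, 1000), (2000, 1000), (3000, 1000), (4000, 1000), (5000, 1000), (6000, 1000), (7000, 1000), (8000, 1000), (9000, 1000), (10000, 1000), (11000, 1000), (12000, 1000), (13000, 1000), (14000, 1000), (15000, 1000), (16000, 1000), (17000, 1000), (18000, 1000), (19000, 1000), (20000, 1000), (21000, 1000), (22000, 1000), (23000, 1000), (24000, 1000), (25000, 1000), (26000, 1000), (27000, 1000), (28000, 1000), (29000, 1000), (30000, 1000), (31000, 671)] (by decide) (AllChunks.cons chk_t106_c0 (AllChunks.cons chk_t106_c1 (AllChunks.cons chk_t106_c2 (AllChunks.cons chk_t106_c3 (AllChunks.cons chk_t106_c4 (AllChunks.cons chk_t106_c5 (AllChunks.cons chk_t106_c6 (AllChunks.cons chk_t106_c7 (AllChunks.cons chk_t106_c8 (AllChunks.cons chk_t106_c9 (AllChunks.cons chk_t106_c10 (AllChunks.cons chk_t106_c11 (AllChunks.cons chk_t106_c12 (AllChunks.cons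 chk_t106_c13 (AllChunks.cons chk_t106_c14 (AllChunks.cons chk_t106_c15 (AllChunks.cons chk_t106_c16 (AllChunks.cons chk_t106_c17 (AllChunks.cons chk_t106_c18 (AllChunks.cons chk_t106_c19 (AllChunks.cons chk_t106_c20 (AllChunks.cons chk_t106_c21 (AllChunks.cons chk_t106_c22 (AllChunks.cons chk_t106_c23 (AllChunks.cons chk_t106_c24 (AllChunks.cons chk_t106_c25 (AllChunks.cons chk_t106_c26 (AllChunks.cons chk_t106_c27 (AllChunks.cons chk_t106_c28 (AllChunks.cons chk_t106_c29 (AllChunks.cons chk_t106_c30 (AllChunks.cons chk_t106_c31 (AllChunks.nil)))))))))))))))))))))))))))))))))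

/-- the word for the coded permutation number 107 -/
noncomputable def w107 : List ℕ := [t17, t13, t24, t10, t18, t14, t18, t33, t41, t46, t46, t42, t52, t56, t53, t56, t52, t47, t65, t62, t64, t67, t68, t67, t73, t75, t77]
theorem chk_t107_c0 : allR 0 1071 (fun p => Nat.beq (lk t107 p) (ev lk w107 p)) = true := by decide +kernel
theorem chk_t107_c1 : allR 1071 1071 (fun p => Nat.beq (lk t107 p) (ev lk w107 p)) = true := by decide +kernel
theorem chk_t107_c2 : allR 2142 1071 (fun p => Nat.beq (lk t107 p) (ev lk w107 p)) = true := by decide +kernel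
theorem chk_t107_c3 : allR 3213 1071 (fun p => Nat.beq (lk t107 p) (ev lk w107 p)) = true := by decide +kernel
theorem chk_t107_c4 : allR 4284 1071 (fun p => Nat.beq (lk t107 p) (ev lk w107 p)) = true := by decide +kernel
theorem chk_t107_c5 : allR 5355 1071 (fun p => Nat.beq (lk t107 p) (ev lk w107 p)) = true := by decide +kernel
theorem chk_t107_c6 : allR 6426 1071 (fun p => Nat.beq (lk t107 p) (ev lk w107 p)) = true := by decide +kernel
theorem chk_t107_c7 : allR 7497 1071 (fun p => Nat.beq (lk t107 p) (ev lk w107 p)) = true := by decide +kernel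
theorem chk_t107_c8 : allR 8568 1071 (fun p => Nat.beq (lk t107 p) (ev lk w107 p)) = true := by decide +kernel
theorem chk_t107_c9 : allR 9639 1071 (fun p => Nat.beq (lk t107 p) (ev lk w107 p)) = true := by decide +kernel
theorem chk_t107_c10 : allR 10710 1071 (fun p => Nat.beq (lk t107 p) (ev lk w107 p)) = true := by decide +kernel
theorem chk_t107_c11 : allR 11781 1071 (fun p => Nat.beq (lk t107 p) (ev lk w107 p)) = true := by decide +kernel
theorem chk_t107_c12 : allR 12852 1071 (fun p => Nat.beq (lk t107 p) (ev lk w107 p)) = true := by decide +kernel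
theorem chk_t107_c13 : allR 13923 1071 (fun p => Nat.beq (lk t107 p) (ev lk w107 p)) = true := by decide +kernel
theorem chk_t107_c14 : allR 14994 1071 (fun p => Nat.beq (lk t107 p) (ev lk w107 p)) = true := by decide +kernel
theorem chk_t107_c15 : allR 16065 1071 (fun p => Nat.beq (lk t107 p) (ev lk w107 p)) = true := by decide +kernel
theorem chk_t107_c16 : allR 17136 1071 (fun p => Nat.beq (lk t107 p) (ev lk w107 p)) = true := by decide +kernel
theorem chk_t107_c17 : allR 18207 1071 (fun p => Nat.beq (lk t107 p) (ev lk w107 p)) = true := by decide +kernel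
theorem chk_t107_c18 : allR 19278 1071 (fun p => Nat.beq (lk t107 p) (ev lk w107 p)) = true := by decide +kernel
theorem chk_t107_c19 : allR 20349 1071 (fun p => Nat.beq (lk t107 p) (ev lk w107 p)) = true := by decide +kernel
theorem chk_t107_c20 : allR 21420 1071 (fun p => Nat.beq (lk t107 p) (ev lk w107 p)) = true := by decide +kernel
theorem chk_t107_c21 : allR 22491 1071 (fun p => Nat.beq (lk t107 p) (ev lk w107 p)) = true := by decide +kernel
theorem chk_t107_c22 : allR 23562 1071 (fun p => Nat.beq (lk t107 p) (ev lk w107 p)) = true := by decide +kernel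
theorem chk_t107_c23 : allR 24633 1071 (fun p => Nat.beq (lk t107 p) (ev lk w107 p)) = true := by decide +kernel
theorem chk_t107_c24 : allR 25704 1071 (fun p => Nat.beq (lk t107 p) (ev lk w107 p)) = true := by decide +kernel
theorem chk_t107_c25 : allR 26775 1071 (fun p => Nat.beq (lk t107 p) (ev lk w107 p)) = true := by decide +kernel
theorem chk_t107_c26 : allR 27846 1071 (fun p => Nat.beq (lk t107 p) (ev lk w107 p)) = true := by decide +kernel
theorem chk_t107_c27 : allR 28917 1071 (fun p => Nat.beq (lk t107 p) (ev lk w107 p)) = true := by decide +kernel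
theorem chk_t107_c28 : allR 29988 1071 (fun p => Nat.beq (lk t107 p) (ev lk w107 p)) = true := by decide +kernel
theorem chk_t107_c29 : allR 31059 612 (fun p => Nat.beq (lk t107 p) (ev lk w107 p)) = true := by decide +kernel
theorem chk_t107 : eqW lk nP t107 w107 = true :=
  eqW_of_chunks lk nP _ _ [(0, 1071), (1071, 1071), (2142, 1071), (3213, 1071), (4284, 1071), (5355, 1071), (6426, 1071), (7497, 1071), (8568, 1071), (9639, 1071), (10710, 1071), (11781, 1071), (12852, 1071), (13923, 1071), (14994, 1071), (16065, 1071), (17136, 1071), (18207, 1071), (19278, 1071), (20349, 1071), (21420, 1071), (22491, 1071), (23562, 1071), (24633, 1071), (25704, 1071), (26775, 1071), (27846, 1071), (28917, 1071), (29988, 1071), (31059, 612)] (by decide) (AllChunks.cons chk_t107_c0 (AllChunks.cons chk_t107_c1 (AllChunks.cons chk_t107_c2 (AllChunks.cons chk_t107_c3 (AllChunks.cons chk_t107_c4 (AllChunks.cons chk_t107_c5 (AllChunks.cons chk_t107_c6 (AllChunks.cons chk_t107_c7 (AllChunks.cons chk_t107_c8 (AllChunks.cons chk_t107_c9 (AllChunks.cons chk_t107_c10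 (AllChunks.cons chk_t107_c11 (AllChunks.cons chk_t107_c12 (AllChunks.cons chk_t107_c13 (AllChunks.cons chk_t107_c14 (AllChunks.cons chk_t107_c15 (AllChunks.cons chk_t107_c16 (AllChunks.cons chk_t107_c17 (AllChunks.cons chk_t107_c18 (AllChunks.cons chk_t107_c19 (AllChunks.cons chk_t107_c20 (AllChunks.cons chk_t107_c21 (AllChunks.cons chk_t107_c22 (AllChunks.cons chk_t107_c23 (AllChunks.cons chk_t107_c24 (AllChunks.cons chk_t107_c25 (AllChunks.cons chk_t107_c26 (AllChunks.cons chk_t107_c27 (AllChunks.cons chk_t107_c28 (AllChunks.cons chk_t107_c29 (AllChunks.nil)))))))))))))))))))))))))))))))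

/-- the word for the coded permutation number 108 -/
noncomputable def w108 : List ℕ := [t18, t11, t15, t13, t19, t13, t18, t18, t11, t8, t41, t35, t30, t43, t42, t36, t50, t49, t56, t50, t64, t61, t63, t67, t73, t75, t77]
theorem chk_t108_c0 : allR 0 1071 (fun p => Nat.beq (lk t108 p) (ev lk w108 p)) = true := by decide +kernel
theorem chk_t108_c1 : allR 1071 1071 (fun p => Nat.beq (lk t108 p) (ev lk w108 p)) = true := by decide +kernel
theorem chk_t108_c2 : allR 2142 1071 (fun p => Nat.beq (lk t108 p) (ev lk w108 p)) = true := by decide +kernel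
theorem chk_t108_c3 : allR 3213 1071 (fun p => Nat.beq (lk t108 p) (ev lk w108 p)) = true := by decide +kernel
theorem chk_t108_c4 : allR 4284 1071 (fun p => Nat.beq (lk t108 p) (ev lk w108 p)) = true := by decide +kernel
theorem chk_t108_c5 : allR 5355 1071 (fun p => Nat.beq (lk t108 p) (ev lk w108 p)) = true := by decide +kernel
theorem chk_t108_c6 : allR 6426 1071 (fun p => Nat.beq (lk t108 p) (ev lk w108 p)) = true := by decide +kernel
theorem chk_t108_c7 : allR 7497 1071 (fun p => Nat.beq (lk t108 p) (ev lk w108 p)) = true := by decide +kernel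
theorem chk_t108_c8 : allR 8568 1071 (fun p => Nat.beq (lk t108 p) (ev lk w108 p)) = true := by decide +kernel
theorem chk_t108_c9 : allR 9639 1071 (fun p => Nat.beq (lk t108 p) (ev lk w108 p)) = true := by decide +kernel
theorem chk_t108_c10 : allR 10710 1071 (fun p => Nat.beq (lk t108 p) (ev lk w108 p)) = true := by decide +kernel
theorem chk_t108_c11 : allR 11781 1071 (fun p => Nat.beq (lk t108 p) (ev lk w108 p)) = true := by decide +kernel
theorem chk_t108_c12 : allR 12852 1071 (fun p => Nat.beq (lk t108 p) (ev lk w108 p)) = true := by decide +kernel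
theorem chk_t108_c13 : allR 13923 1071 (fun p => Nat.beq (lk t108 p) (ev lk w108 p)) = true := by decide +kernel
theorem chk_t108_c14 : allR 14994 1071 (fun p => Nat.beq (lk t108 p) (ev lk w108 p)) = true := by decide +kernel
theorem chk_t108_c15 : allR 16065 1071 (fun p => Nat.beq (lk t108 p) (ev lk w108 p)) = true := by decide +kernel
theorem chk_t108_c16 : allR 17136 1071 (fun p => Nat.beq (lk t108 p) (ev lk w108 p)) = true := by decide +kernel
theorem chk_t108_c17 : allR 18207 1071 (fun p => Nat.beq (lk t108 p) (ev lk w108 p)) = true := by decide +kernel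
theorem chk_t108_c18 : allR 19278 1071 (fun p => Nat.beq (lk t108 p) (ev lk w108 p)) = true := by decide +kernel
theorem chk_t108_c19 : allR 20349 1071 (fun p => Nat.beq (lk t108 p) (ev lk w108 p)) = true := by decide +kernel
theorem chk_t108_c20 : allR 21420 1071 (fun p => Nat.beq (lk t108 p) (ev lk w108 p)) = true := by decide +kernel
theorem chk_t108_c21 : allR 22491 1071 (fun p => Nat.beq (lk t108 p) (ev lk w108 p)) = true := by decide +kernel
theorem chk_t108_c22 : allR 23562 1071 (fun p => Nat.beq (lk t108 p) (ev lk w108 p)) = true := by decide +kernel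
theorem chk_t108_c23 : allR 24633 1071 (fun p => Nat.beq (lk t108 p) (ev lk w108 p)) = true := by decide +kernel
theorem chk_t108_c24 : allR 25704 1071 (fun p => Nat.beq (lk t108 p) (ev lk w108 p)) = true := by decide +kernel
theorem chk_t108_c25 : allR 26775 1071 (fun p => Nat.beq (lk t108 p) (ev lk w108 p)) = true := by decide +kernel
theorem chk_t108_c26 : allR 27846 1071 (fun p => Nat.beq (lk t108 p) (ev lk w108 p)) = true := by decide +kernel
theorem chk_t108_c27 : allR 28917 1071 (fun p => Nat.beq (lk t108 p) (ev lk w108 p)) = true := by decide +kernel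
theorem chk_t108_c28 : allR 29988 1071 (fun p => Nat.beq (lk t108 p) (ev lk w108 p)) = true := by decide +kernel
theorem chk_t108_c29 : allR 31059 612 (fun p => Nat.beq (lk t108 p) (ev lk w108 p)) = true := by decide +kernel
theorem chk_t108 : eqW lk nP t108 w108 = true :=
  eqW_of_chunks lk nP _ _ [(0, 1071), (1071, 1071), (2142, 1071), (3213, 1071), (4284, 1071), (5355, 1071), (6426, 1071), (7497, 1071), (8568, 1071), (9639, 1071), (10710, 1071), (11781, 1071), (12852, 1071), (13923, 1071), (14994, 1071), (16065, 1071), (17136, 1071), (18207, 1071), (19278, 1071), (20349, 1071), (21420, 1071), (22491, 1071), (23562, 1071), (24633, 1071), (25704, 1071), (26775, 1071), (27846, 1071), (28917, 1071), (29988, 1071), (31059, 612)] (by decide) (AllChunks.cons chk_t108_c0 (AllChunks.cons chk_t108_c1 (AllChunks.cons chk_t108_c2 (AllChunks.cons chk_t108_c3 (AllChunks.cons chk_t108_c4 (AllChunks.cons chk_t108_c5 (AllChunks.cons chk_t108_c6 (AllChunks.cons chk_t108_c7 (AllChunks.cons chk_t108_c8 (AllChunks.cons chk_t108_c9 (AllChunks.cons chk_t108_c10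 (AllChunks.cons chk_t108_c11 (AllChunks.cons chk_t108_c12 (AllChunks.cons chk_t108_c13 (AllChunks.cons chk_t108_c14 (AllChunks.cons chk_t108_c15 (AllChunks.cons chk_t108_c16 (AllChunks.cons chk_t108_c17 (AllChunks.cons chk_t108_c18 (AllChunks.cons chk_t108_c19 (AllChunks.cons chk_t108_c20 (AllChunks.cons chk_t108_c21 (AllChunks.cons chk_t108_c22 (AllChunks.cons chk_t108_c23 (AllChunks.cons chk_t108_c24 (AllChunks.cons chk_t108_c25 (AllChunks.cons chk_t108_c26 (AllChunks.cons chk_t108_c27 (AllChunks.cons chk_t108_c28 (AllChunks.cons chk_t108_c29 (AllChunks.nil)))))))))))))))))))))))))))))))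

/-- the word for the coded permutation number 109 -/
noncomputable def w109 : List ℕ := [t27, t23, t20, t24, t22, t41, t38, t38, t36, t48, t52, t50, t63, t69, t69, t68, t67, t71, t76]
theorem chk_t109_c0 : allR 0 1500 (fun p => Nat.beq (lk t109 p) (ev lk w109 p)) = true := by decide +kernel
theorem chk_t109_c1 : allR 1500 1500 (fun p => Nat.beq (lk t109 p) (ev lk w109 p)) = true := by decide +kernel
theorem chk_t109_c2 : allR 3000 1500 (fun p => Nat.beq (lk t109 p) (ev lk w109 p)) = true := by decide +kernel
theorem chk_t109_c3 : allR 4500 1500 (fun p => Nat.beq (lk t109 p) (ev lk w109 p)) = true := by decide +kernel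
theorem chk_t109_c4 : allR 6000 1500 (fun p => Nat.beq (lk t109 p) (ev lk w109 p)) = true := by decide +kernel
theorem chk_t109_c5 : allR 7500 1500 (fun p => Nat.beq (lk t109 p) (ev lk w109 p)) = true := by decide +kernel
theorem chk_t109_c6 : allR 9000 1500 (fun p => Nat.beq (lk t109 p) (ev lk w109 p)) = true := by decide +kernel
theorem chk_t109_c7 : allR 10500 1500 (fun p => Nat.beq (lk t109 p) (ev lk w109 p)) = true := by decide +kernel
theorem chk_t109_c8 : allR 12000 1500 (fun p => Nat.beq (lk t109 p) (ev lk w109 p)) = true := by decide +kernel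
theorem chk_t109_c9 : allR 13500 1500 (fun p => Nat.beq (lk t109 p) (ev lk w109 p)) = true := by decide +kernel
theorem chk_t109_c10 : allR 15000 1500 (fun p => Nat.beq (lk t109 p) (ev lk w109 p)) = true := by decide +kernel
theorem chk_t109_c11 : allR 16500 1500 (fun p => Nat.beq (lk t109 p) (ev lk w109 p)) = true := by decide +kernel
theorem chk_t109_c12 : allR 18000 1500 (fun p => Nat.beq (lk t109 p) (ev lk w109 p)) = true := by decide +kernel
theorem chk_t109_c13 : allR 19500 1500 (fun p => Nat.beq (lk t109 p) (ev lk w109 p)) = true := by decide +kernel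
theorem chk_t109_c14 : allR 21000 1500 (fun p => Nat.beq (lk t109 p) (ev lk w109 p)) = true := by decide +kernel
theorem chk_t109_c15 : allR 22500 1500 (fun p => Nat.beq (lk t109 p) (ev lk w109 p)) = true := by decide +kernel
theorem chk_t109_c16 : allR 24000 1500 (fun p => Nat.beq (lk t109 p) (ev lk w109 p)) = true := by decide +kernel
theorem chk_t109_c17 : allR 25500 1500 (fun p => Nat.beq (lk t109 p) (ev lk w109 p)) = true := by decide +kernel
theorem chk_t109_c18 : allR 27000 1500 (fun p => Nat.beq (lk t109 p) (ev lk w109 p)) = true := by decide +kernel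
theorem chk_t109_c19 : allR 28500 1500 (fun p => Nat.beq (lk t109 p) (ev lk w109 p)) = true := by decide +kernel
theorem chk_t109_c20 : allR 30000 1500 (fun p => Nat.beq (lk t109 p) (ev lk w109 p)) = true := by decide +kernel
theorem chk_t109_c21 : allR 31500 171 (fun p => Nat.beq (lk t109 p) (ev lk w109 p)) = true := by decide +kernel
theorem chk_t109 : eqW lk nP t109 w109 = true :=
  eqW_of_chunks lk nP _ _ [(0, 1500), (1500, 1500), (3000, 1500), (4500, 1500), (6000, 1500), (7500, 1500), (9000, 1500), (10500, 1500), (12000, 1500), (13500, 1500), (15000, 1500), (16500, 1500), (18000, 1500), (19500, 1500), (21000, 1500), (22500, 1500), (24000, 1500), (25500, 1500), (27000, 1500), (28500, 1500), (30000, 1500), (31500, 171)] (by decide) (AllChunks.cons chk_t109_c0 (AllChunks.cons chk_t109_c1 (AllChunks.cons chk_t109_c2 (AllChunks.cons chk_t109_c3 (AllChunks.cons chk_t109_c4 (AllChunks.cons chk_t109_c5 (AllChunks.cons chk_t109_c6 (AllChunks.cons chk_t109_c7 (AllChunks.cons chk_t109_c8 (AllChunks.cons chk_t109_c9 (AllChunks.cons chk_t109_c10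 (AllChunks.cons chk_t109_c11 (AllChunks.cons chk_t109_c12 (AllChunks.cons chk_t109_c13 (AllChunks.cons chk_t109_c14 (AllChunks.cons chk_t109_c15 (AllChunks.cons chk_t109_c16 (AllChunks.cons chk_t109_c17 (AllChunks.cons chk_t109_c18 (AllChunks.cons chk_t109_c19 (AllChunks.cons chk_t109_c20 (AllChunks.cons chk_t109_c21 (AllChunks.nil)))))))))))))))))))))))

end Cfsg.Agent.Lib.Helper28.Fi
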