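import Mathlib
import Cfsg.Agent.Lib.Helper28.Fi.Core
import Cfsg.Agent.Lib.Helper28.Fi.Chunk
import Cfsg.Agent.Lib.Helper28.Fi.Tab0
import Cfsg.Agent.Lib.Helper28.Fi.Tab1
import Cfsg.Agent.Lib.Helper28.Fi.Tab2
import Cfsg.Agent.Lib.Helper28.Fi.Tab3
import Cfsg.Agent.Lib.Helper28.Fi.Tab4
import Cfsg.Agent.Lib.Helper28.Fi.Tab5
import Cfsg.Agent.Lib.Helper28.Fi.Tab6
import Cfsg.Agent.Lib.Helper28.Fi.Tab9

set_option autoImplicit false
set_option maxRecDepth 1000000
set_option Elab.async false

/-! Checks that coded permutations are words in earlier ones, part 14 (generated). -/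

namespace Cfsg.Agent.Lib.Helper28.Fi

open Cfsg.Agent.Lib.Helper5.CP Cfsg.Agent.Lib.Helper5.PcP Cfsg.Agent.Lib.Helper12.TC.Fi23o31671
/-- the word for the coded permutation number 110 -/
noncomputable def w110 : List ℕ := [t26, t14, t24, t24, t22, t16, t40, t31, t47, t55, t51, t61, t69, t69, t68, t69, t68, t67, t67, t76, t77]
theorem chk_t110_c0 : allR 0 1363 (fun p => Nat.beq (lk t110 p) (ev lk w110 p)) = true := by decide +kernel
theorem chk_t110_c1 : allR 1363 1363 (fun p => Nat.beq (lk t110 p) (ev lk w110 p)) = true := by decide +kernel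
theorem chk_t110_c2 : allR 2726 1363 (fun p => Nat.beq (lk t110 p) (ev lk w110 p)) = true := by decide +kernel
theorem chk_t110_c3 : allR 4089 1363 (fun p => Nat.beq (lk t110 p) (ev lk w110 p)) = true := by decide +kernel
theorem chk_t110_c4 : allR 5452 1363 (fun p => Nat.beq (lk t110 p) (ev lk w110 p)) = true := by decide +kernel
theorem chk_t110_c5 : allR 6815 1363 (fun p => Nat.beq (lk t110 p) (ev lk w110 p)) = true := by decide +kernel
theorem chk_t110_c6 : allR 8178 1363 (fun p => Nat.beq (lk t110 p) (ev lk w110 p)) = true := by decide +kernel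
theorem chk_t110_c7 : allR 9541 1363 (fun p => Nat.beq (lk t110 p) (ev lk w110 p)) = true := by decide +kernel
theorem chk_t110_c8 : allR 10904 1363 (fun p => Nat.beq (lk t110 p) (ev lk w110 p)) = true := by decide +kernel
theorem chk_t110_c9 : allR 12267 1363 (fun p => Nat.beq (lk t110 p) (ev lk w110 p)) = true := by decide +kernel
theorem chk_t110_c10 : allR 13630 1363 (fun p => Nat.beq (lk t110 p) (ev lk w110 p)) = true := by decide +kernel
theorem chk_t110_c11 : allR 14993 1363 (fun p => Nat.beq (lk t110 p) (ev lk w110 p)) = true := by decide +kernel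
theorem chk_t110_c12 : allR 16356 1363 (fun p => Nat.beq (lk t110 p) (ev lk w110 p)) = true := by decide +kernel
theorem chk_t110_c13 : allR 17719 1363 (fun p => Nat.beq (lk t110 p) (ev lk w110 p)) = true := by decide +kernel
theorem chk_t110_c14 : allR 19082 1363 (fun p => Nat.beq (lk t110 p) (ev lk w110 p)) = true := by decide +kernel
theorem chk_t110_c15 : allR 20445 1363 (fun p => Nat.beq (lk t110 p) (ev lk w110 p)) = true := by decide +kernel
theorem chk_t110_c16 : allR 21808 1363 (fun p => Nat.beq (lk t110 p) (ev lk w110 p)) = true := by decide +kernel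
theorem chk_t110_c17 : allR 23171 1363 (fun p => Nat.beq (lk t110 p) (ev lk w110 p)) = true := by decide +kernel
theorem chk_t110_c18 : allR 24534 1363 (fun p => Nat.beq (lk t110 p) (ev lk w110 p)) = true := by decide +kernel
theorem chk_t110_c19 : allR 25897 1363 (fun p => Nat.beq (lk t110 p) (ev lk w110 p)) = true := by decide +kernel
theorem chk_t110_c20 : allR 27260 1363 (fun p => Nat.beq (lk t110 p) (ev lk w110 p)) = true := by decide +kernel
theorem chk_t110_c21 : allR 28623 1363 (fun p => Nat.beq (lk t110 p) (ev lk w110 p)) = true := by decide +kernel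
theorem chk_t110_c22 : allR 29986 1363 (fun p => Nat.beq (lk t110 p) (ev lk w110 p)) = true := by decide +kernel
theorem chk_t110_c23 : allR 31349 322 (fun p => Nat.beq (lk t110 p) (ev lk w110 p)) = true := by decide +kernel
theorem chk_t110 : eqW lk nP t110 w110 = true :=
  eqW_of_chunks lk nP _ _ [(0, 1363), (1363, 1363), (2726, 1363), (4089, 1363), (5452, 1363), (6815, 1363), (8178, 1363), (9541, 1363), (10904, 1363), (12267, 1363), (13630, 1363), (14993, 1363), (16356, 1363), (17719, 1363), (19082, 1363), (20445, 1363), (21808, 1363), (23171, 1363), (24534, 1363), (25897, 1363), (27260, 1363), (28623, 1363), (29986, 1363), (31349, 322)] (by decide) (AllChunks.cons chk_t110_c0 (AllChunks.cons chk_t110_c1 (AllChunks.cons chk_t110_c2 (AllChunks.cons chk_t110_c3 (AllChunks.cons chk_t110_c4 (AllChunks.cons chk_t110_c5 (AllChunks.cons chk_t110_c6 (AllChunks.cons chk_t110_c7 (AllChunks.cons chk_t110_c8 (AllChunks.cons chk_t110_c9 (AllChunks.cons chk_t110_c10 (AllChunks.cons chk_t110_c11 (AllChunks.cons chk_t110_c12 (AllChunks.cons chk_t110_c13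 (AllChunks.cons chk_t110_c14 (AllChunks.cons chk_t110_c15 (AllChunks.cons chk_t110_c16 (AllChunks.cons chk_t110_c17 (AllChunks.cons chk_t110_c18 (AllChunks.cons chk_t110_c19 (AllChunks.cons chk_t110_c20 (AllChunks.cons chk_t110_c21 (AllChunks.cons chk_t110_c22 (AllChunks.cons chk_t110_c23 (AllChunks.nil)))))))))))))))))))))))))

/-- the word for the coded permutation number 111 -/
noncomputable def w111 : List ℕ := [t1, t77]
theorem chk_t111_c0 : allR 0 10000 (fun p => Nat.beq (lk t111 p) (ev lk w111 p)) = true := by decide +kernel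
theorem chk_t111_c1 : allR 10000 10000 (fun p => Nat.beq (lk t111 p) (ev lk w111 p)) = true := by decide +kernel
theorem chk_t111_c2 : allR 20000 10000 (fun p => Nat.beq (lk t111 p) (ev lk w111 p)) = true := by decide +kernel
theorem chk_t111_c3 : allR 30000 1671 (fun p => Nat.beq (lk t111 p) (ev lk w111 p)) = true := by decide +kernel
theorem chk_t111 : eqW lk nP t111 w111 = true :=
  eqW_of_chunks lk nP _ _ [(0, 10000), (10000, 10000), (20000, 10000), (30000, 1671)] (by decide) (AllChunks.cons chk_t111_c0 (AllChunks.cons chk_t111_c1 (AllChunks.cons chk_t111_c2 (AllChunks.cons chk_t111_c3 (AllChunks.nil)))))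

/-- the word for the coded permutation number 112 -/
noncomputable def w112 : List ℕ := [t12, t20, t18, t18, t11, t8, t32, t35, t35, t44, t41, t59, t49, t53, t47, t64, t65, t61, t65, t67, t72, t76, t77]
theorem chk_t112_c0 : allR 0 1250 (fun p => Nat.beq (lk t112 p) (ev lk w112 p)) = true := by decide +kernel
theorem chk_t112_c1 : allR 1250 1250 (fun p => Nat.beq (lk t112 p) (ev lk w112 p)) = true := by decide +kernel
theorem chk_t112_c2 : allR 2500 1250 (fun p => Nat.beq (lk t112 p) (ev lk w112 p)) = true := by decide +kernel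
theorem chk_t112_c3 : allR 3750 1250 (fun p => Nat.beq (lk t112 p) (ev lk w112 p)) = true := by decide +kernel
theorem chk_t112_c4 : allR 5000 1250 (fun p => Nat.beq (lk t112 p) (ev lk w112 p)) = true := by decide +kernel
theorem chk_t112_c5 : allR 6250 1250 (fun p => Nat.beq (lk t112 p) (ev lk w112 p)) = true := by decide +kernel
theorem chk_t112_c6 : allR 7500 1250 (fun p => Nat.beq (lk t112 p) (ev lk w112 p)) = true := by decide +kernel
theorem chk_t112_c7 : allR 8750 1250 (fun p => Nat.beq (lk t112 p) (ev lk w112 p)) = true := by decide +kernel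
theorem chk_t112_c8 : allR 10000 1250 (fun p => Nat.beq (lk t112 p) (ev lk w112 p)) = true := by decide +kernel
theorem chk_t112_c9 : allR 11250 1250 (fun p => Nat.beq (lk t112 p) (ev lk w112 p)) = true := by decide +kernel
theorem chk_t112_c10 : allR 12500 1250 (fun p => Nat.beq (lk t112 p) (ev lk w112 p)) = true := by decide +kernel
theorem chk_t112_c11 : allR 13750 1250 (fun p => Nat.beq (lk t112 p) (ev lk w112 p)) = true := by decide +kernel
theorem chk_t112_c12 : allR 15000 1250 (fun p => Nat.beq (lk t112 p) (ev lk w112 p)) = true := by decide +kernel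
theorem chk_t112_c13 : allR 16250 1250 (fun p => Nat.beq (lk t112 p) (ev lk w112 p)) = true := by decide +kernel
theorem chk_t112_c14 : allR 17500 1250 (fun p => Nat.beq (lk t112 p) (ev lk w112 p)) = true := by decide +kernel
theorem chk_t112_c15 : allR 18750 1250 (fun p => Nat.beq (lk t112 p) (ev lk w112 p)) = true := by decide +kernel
theorem chk_t112_c16 : allR 20000 1250 (fun p => Nat.beq (lk t112 p) (ev lk w112 p)) = true := by decide +kernel
theorem chk_t112_c17 : allR 21250 1250 (fun p => Nat.beq (lk t112 p) (ev lk w112 p)) = true := by decide +kernel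
theorem chk_t112_c18 : allR 22500 1250 (fun p => Nat.beq (lk t112 p) (ev lk w112 p)) = true := by decide +kernel
theorem chk_t112_c19 : allR 23750 1250 (fun p => Nat.beq (lk t112 p) (ev lk w112 p)) = true := by decide +kernel
theorem chk_t112_c20 : allR 25000 1250 (fun p => Nat.beq (lk t112 p) (ev lk w112 p)) = true := by decide +kernel
theorem chk_t112_c21 : allR 26250 1250 (fun p => Nat.beq (lk t112 p) (ev lk w112 p)) = true := by decide +kernel
theorem chk_t112_c22 : allR 27500 1250 (fun p => Nat.beq (lk t112 p) (ev lk w112 p)) = true := by decide +kernel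
theorem chk_t112_c23 : allR 28750 1250 (fun p => Nat.beq (lk t112 p) (ev lk w112 p)) = true := by decide +kernel
theorem chk_t112_c24 : allR 30000 1250 (fun p => Nat.beq (lk t112 p) (ev lk w112 p)) = true := by decide +kernel
theorem chk_t112_c25 : allR 31250 421 (fun p => Nat.beq (lk t112 p) (ev lk w112 p)) = true := by decide +kernel
theorem chk_t112 : eqW lk nP t112 w112 = true :=
  eqW_of_chunks lk nP _ _ [(0, 1250), (1250, 1250), (2500, 1250), (3750, 1250), (5000, 1250), (6250, 1250), (7500, 1250), (8750, 1250), (10000, 1250), (11250, 1250), (12500, 1250), (13750, 1250), (15000, 1250), (16250, 1250), (17500, 1250), (18750, 1250), (20000, 1250), (21250, 1250), (22500, 1250), (23750, 1250), (25000, 1250), (26250, 1250), (27500, 1250), (28750, 1250), (30000, 1250), (31250, 421)] (by decide) (AllChunks.cons chk_t112_c0 (AllChunks.cons chk_t112_c1 (AllChunks.cons chk_t112_c2 (AllChunks.cons chk_t112_c3 (AllChunks.cons chk_t112_c4 (AllChunks.cons chk_t112_c5 (AllChunks.cons chk_t112_c6 (AllChunks.cons chk_t112_c7 (AllChunks.cons chk_t112_c8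 (AllChunks.cons chk_t112_c9 (AllChunks.cons chk_t112_c10 (AllChunks.cons chk_t112_c11 (AllChunks.cons chk_t112_c12 (AllChunks.cons chk_t112_c13 (AllChunks.cons chk_t112_c14 (AllChunks.cons chk_t112_c15 (AllChunks.cons chk_t112_c16 (AllChunks.cons chk_t112_c17 (AllChunks.cons chk_t112_c18 (AllChunks.cons chk_t112_c19 (AllChunks.cons chk_t112_c20 (AllChunks.cons chk_t112_c21 (AllChunks.cons chk_t112_c22 (AllChunks.cons chk_t112_c23 (AllChunks.cons chk_t112_c24 (AllChunks.cons chk_t112_c25 (AllChunks.nil)))))))))))))))))))))))))))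

/-- the word for the coded permutation number 113 -/
noncomputable def w113 : List ℕ := [t17, t22, t14, t24, t24, t22, t16, t40, t40, t44, t41, t40, t56, t60, t47, t55, t63, t61, t65, t67, t68, t69, t68, t67, t67, t70, t77]
theorem chk_t113_c0 : allR 0 1071 (fun p => Nat.beq (lk t113 p) (ev lk w113 p)) = true := by decide +kernel
theorem chk_t113_c1 : allR 1071 1071 (fun p => Nat.beq (lk t113 p) (ev lk w113 p)) = true := by decide +kernel
theorem chk_t113_c2 : allR 2142 1071 (fun p => Nat.beq (lk t113 p) (ev lk w113 p)) = true := by decide +kernel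
theorem chk_t113_c3 : allR 3213 1071 (fun p => Nat.beq (lk t113 p) (ev lk w113 p)) = true := by decide +kernel
theorem chk_t113_c4 : allR 4284 1071 (fun p => Nat.beq (lk t113 p) (ev lk w113 p)) = true := by decide +kernel
theorem chk_t113_c5 : allR 5355 1071 (fun p => Nat.beq (lk t113 p) (ev lk w113 p)) = true := by decide +kernel
theorem chk_t113_c6 : allR 6426 1071 (fun p => Nat.beq (lk t113 p) (ev lk w113 p)) = true := by decide +kernel
theorem chk_t113_c7 : allR 7497 1071 (fun p => Nat.beq (lk t113 p) (ev lk w113 p)) = true := by decide +kernel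
theorem chk_t113_c8 : allR 8568 1071 (fun p => Nat.beq (lk t113 p) (ev lk w113 p)) = true := by decide +kernel
theorem chk_t113_c9 : allR 9639 1071 (fun p => Nat.beq (lk t113 p) (ev lk w113 p)) = true := by decide +kernel
theorem chk_t113_c10 : allR 10710 1071 (fun p => Nat.beq (lk t113 p) (ev lk w113 p)) = true := by decide +kernel
theorem chk_t113_c11 : allR 11781 1071 (fun p => Nat.beq (lk t113 p) (ev lk w113 p)) = true := by decide +kernel
theorem chk_t113_c12 : allR 12852 1071 (fun p => Nat.beq (lk t113 p) (ev lk w113 p)) = true := by decide +kernel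
theorem chk_t113_c13 : allR 13923 1071 (fun p => Nat.beq (lk t113 p) (ev lk w113 p)) = true := by decide +kernel
theorem chk_t113_c14 : allR 14994 1071 (fun p => Nat.beq (lk t113 p) (ev lk w113 p)) = true := by decide +kernel
theorem chk_t113_c15 : allR 16065 1071 (fun p => Nat.beq (lk t113 p) (ev lk w113 p)) = true := by decide +kernel
theorem chk_t113_c16 : allR 17136 1071 (fun p => Nat.beq (lk t113 p) (ev lk w113 p)) = true := by decide +kernel
theorem chk_t113_c17 : allR 18207 1071 (fun p => Nat.beq (lk t113 p) (ev lk w113 p)) = true := by decide +kernel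
theorem chk_t113_c18 : allR 19278 1071 (fun p => Nat.beq (lk t113 p) (ev lk w113 p)) = true := by decide +kernel
theorem chk_t113_c19 : allR 20349 1071 (fun p => Nat.beq (lk t113 p) (ev lk w113 p)) = true := by decide +kernel
theorem chk_t113_c20 : allR 21420 1071 (fun p => Nat.beq (lk t113 p) (ev lk w113 p)) = true := by decide +kernel
theorem chk_t113_c21 : allR 22491 1071 (fun p => Nat.beq (lk t113 p) (ev lk w113 p)) = true := by decide +kernel
theorem chk_t113_c22 : allR 23562 1071 (fun p => Nat.beq (lk t113 p) (ev lk w113 p)) = true := by decide +kernel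
theorem chk_t113_c23 : allR 24633 1071 (fun p => Nat.beq (lk t113 p) (ev lk w113 p)) = true := by decide +kernel
theorem chk_t113_c24 : allR 25704 1071 (fun p => Nat.beq (lk t113 p) (ev lk w113 p)) = true := by decide +kernel
theorem chk_t113_c25 : allR 26775 1071 (fun p => Nat.beq (lk t113 p) (ev lk w113 p)) = true := by decide +kernel
theorem chk_t113_c26 : allR 27846 1071 (fun p => Nat.beq (lk t113 p) (ev lk w113 p)) = true := by decide +kernel
theorem chk_t113_c27 : allR 28917 1071 (fun p => Nat.beq (lk t113 p) (ev lk w113 p)) = true := by decide +kernel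
theorem chk_t113_c28 : allR 29988 1071 (fun p => Nat.beq (lk t113 p) (ev lk w113 p)) = true := by decide +kernel
theorem chk_t113_c29 : allR 31059 612 (fun p => Nat.beq (lk t113 p) (ev lk w113 p)) = true := by decide +kernel
theorem chk_t113 : eqW lk nP t113 w113 = true :=
  eqW_of_chunks lk nP _ _ [(0, 1071), (1071, 1071), (2142, 1071), (3213, 1071), (4284, 1071), (5355, 1071), (6426, 1071), (7497, 1071), (8568, 1071), (9639, 1071), (10710, 1071), (11781, 1071), (12852, 1071), (13923, 1071), (14994, 1071), (16065, 1071), (17136, 1071), (18207, 1071), (19278, 1071), (20349, 1071), (21420, 1071), (22491, 1071), (23562, 1071), (24633, 1071), (25704, 1071), (26775, 1071), (27846, 1071), (28917, 1071), (29988, 1071), (31059, 612)] (by decide) (AllChunks.cons chk_t113_c0 (AllChunks.cons chk_t113_c1 (AllChunks.cons chk_t113_c2 (AllChunks.cons chk_t113_c3 (AllChunks.cons chk_t113_c4 (AllChunks.cons chk_t113_c5 (AllChunks.cons chk_t113_c6 (AllChunks.cons chk_t113_c7 (AllChunks.cons chk_t113_c8 (AllChunks.cons chk_t113_c9 (AllChunks.cons chk_t113_c10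 (AllChunks.cons chk_t113_c11 (AllChunks.cons chk_t113_c12 (AllChunks.cons chk_t113_c13 (AllChunks.cons chk_t113_c14 (AllChunks.cons chk_t113_c15 (AllChunks.cons chk_t113_c16 (AllChunks.cons chk_t113_c17 (AllChunks.cons chk_t113_c18 (AllChunks.cons chk_t113_c19 (AllChunks.cons chk_t113_c20 (AllChunks.cons chk_t113_c21 (AllChunks.cons chk_t113_c22 (AllChunks.cons chk_t113_c23 (AllChunks.cons chk_t113_c24 (AllChunks.cons chk_t113_c25 (AllChunks.cons chk_t113_c26 (AllChunks.cons chk_t113_c27 (AllChunks.cons chk_t113_c28 (AllChunks.cons chk_t113_c29 (AllChunks.nil)))))))))))))))))))))))))))))))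

/-- the word for the coded permutation number 114 -/
noncomputable def w114 : List ℕ := [t14, t16, t25, t18, t11, t8, t35, t43, t38, t39, t31, t56, t53, t56, t50, t64, t65, t62, t67, t68, t67, t68, t69, t68, t67, t71, t75]
theorem chk_t114_c0 : allR 0 1071 (fun p => Nat.beq (lk t114 p) (ev lk w114 p)) = true := by decide +kernel
theorem chk_t114_c1 : allR 1071 1071 (fun p => Nat.beq (lk t114 p) (ev lk w114 p)) = true := by decide +kernel
theorem chk_t114_c2 : allR 2142 1071 (fun p => Nat.beq (lk t114 p) (ev lk w114 p)) = true := by decide +kernel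
theorem chk_t114_c3 : allR 3213 1071 (fun p => Nat.beq (lk t114 p) (ev lk w114 p)) = true := by decide +kernel
theorem chk_t114_c4 : allR 4284 1071 (fun p => Nat.beq (lk t114 p) (ev lk w114 p)) = true := by decide +kernel
theorem chk_t114_c5 : allR 5355 1071 (fun p => Nat.beq (lk t114 p) (ev lk w114 p)) = true := by decide +kernel
theorem chk_t114_c6 : allR 6426 1071 (fun p => Nat.beq (lk t114 p) (ev lk w114 p)) = true := by decide +kernel
theorem chk_t114_c7 : allR 7497 1071 (fun p => Nat.beq (lk t114 p) (ev lk w114 p)) = true := by decide +kernel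
theorem chk_t114_c8 : allR 8568 1071 (fun p => Nat.beq (lk t114 p) (ev lk w114 p)) = true := by decide +kernel
theorem chk_t114_c9 : allR 9639 1071 (fun p => Nat.beq (lk t114 p) (ev lk w114 p)) = true := by decide +kernel
theorem chk_t114_c10 : allR 10710 1071 (fun p => Nat.beq (lk t114 p) (ev lk w114 p)) = true := by decide +kernel
theorem chk_t114_c11 : allR 11781 1071 (fun p => Nat.beq (lk t114 p) (ev lk w114 p)) = true := by decide +kernel
theorem chk_t114_c12 : allR 12852 1071 (fun p => Nat.beq (lk t114 p) (ev lk w114 p)) = true := by decide +kernel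
theorem chk_t114_c13 : allR 13923 1071 (fun p => Nat.beq (lk t114 p) (ev lk w114 p)) = true := by decide +kernel
theorem chk_t114_c14 : allR 14994 1071 (fun p => Nat.beq (lk t114 p) (ev lk w114 p)) = true := by decide +kernel
theorem chk_t114_c15 : allR 16065 1071 (fun p => Nat.beq (lk t114 p) (ev lk w114 p)) = true := by decide +kernel
theorem chk_t114_c16 : allR 17136 1071 (fun p => Nat.beq (lk t114 p) (ev lk w114 p)) = true := by decide +kernel
theorem chk_t114_c17 : allR 18207 1071 (fun p => Nat.beq (lk t114 p) (ev lk w114 p)) = true := by decide +kernel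
theorem chk_t114_c18 : allR 19278 1071 (fun p => Nat.beq (lk t114 p) (ev lk w114 p)) = true := by decide +kernel
theorem chk_t114_c19 : allR 20349 1071 (fun p => Nat.beq (lk t114 p) (ev lk w114 p)) = true := by decide +kernel
theorem chk_t114_c20 : allR 21420 1071 (fun p => Nat.beq (lk t114 p) (ev lk w114 p)) = true := by decide +kernel
theorem chk_t114_c21 : allR 22491 1071 (fun p => Nat.beq (lk t114 p) (ev lk w114 p)) = true := by decide +kernel
theorem chk_t114_c22 : allR 23562 1071 (fun p => Nat.beq (lk t114 p) (ev lk w114 p)) = true := by decide +kernel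
theorem chk_t114_c23 : allR 24633 1071 (fun p => Nat.beq (lk t114 p) (ev lk w114 p)) = true := by decide +kernel
theorem chk_t114_c24 : allR 25704 1071 (fun p => Nat.beq (lk t114 p) (ev lk w114 p)) = true := by decide +kernel
theorem chk_t114_c25 : allR 26775 1071 (fun p => Nat.beq (lk t114 p) (ev lk w114 p)) = true := by decide +kernel
theorem chk_t114_c26 : allR 27846 1071 (fun p => Nat.beq (lk t114 p) (ev lk w114 p)) = true := by decide +kernel
theorem chk_t114_c27 : allR 28917 1071 (fun p => Nat.beq (lk t114 p) (ev lk w114 p)) = true := by decide +kernel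
theorem chk_t114_c28 : allR 29988 1071 (fun p => Nat.beq (lk t114 p) (ev lk w114 p)) = true := by decide +kernel
theorem chk_t114_c29 : allR 31059 612 (fun p => Nat.beq (lk t114 p) (ev lk w114 p)) = true := by decide +kernel
theorem chk_t114 : eqW lk nP t114 w114 = true :=
  eqW_of_chunks lk nP _ _ [(0, 1071), (1071, 1071), (2142, 1071), (3213, 1071), (4284, 1071), (5355, 1071), (6426, 1071), (7497, 1071), (8568, 1071), (9639, 1071), (10710, 1071), (11781, 1071), (12852, 1071), (13923, 1071), (14994, 1071), (16065, 1071), (17136, 1071), (18207, 1071), (19278, 1071), (20349, 1071), (21420, 1071), (22491, 1071), (23562, 1071), (24633, 1071), (25704, 1071), (26775, 1071), (27846, 1071), (28917, 1071), (29988, 1071), (31059, 612)] (by decide) (AllChunks.cons chk_t114_c0 (AllChunks.cons chk_t114_c1 (AllChunks.cons chk_t114_c2 (AllChunks.cons chk_t114_c3 (AllChunks.cons chk_t114_c4 (AllChunks.cons chk_t114_c5 (AllChunks.cons chk_t114_c6 (AllChunks.cons chk_t114_c7 (AllChunks.cons chk_t114_c8 (AllChunks.cons chk_t114_c9 (AllChunks.cons chk_t114_c10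 (AllChunks.cons chk_t114_c11 (AllChunks.cons chk_t114_c12 (AllChunks.cons chk_t114_c13 (AllChunks.cons chk_t114_c14 (AllChunks.cons chk_t114_c15 (AllChunks.cons chk_t114_c16 (AllChunks.cons chk_t114_c17 (AllChunks.cons chk_t114_c18 (AllChunks.cons chk_t114_c19 (AllChunks.cons chk_t114_c20 (AllChunks.cons chk_t114_c21 (AllChunks.cons chk_t114_c22 (AllChunks.cons chk_t114_c23 (AllChunks.cons chk_t114_c24 (AllChunks.cons chk_t114_c25 (AllChunks.cons chk_t114_c26 (AllChunks.cons chk_t114_c27 (AllChunks.cons chk_t114_c28 (AllChunks.cons chk_t114_c29 (AllChunks.nil)))))))))))))))))))))))))))))))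

end Cfsg.Agent.Lib.Helper28.Fi
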