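import Mathlib
import Cfsg.Agent.Lib.Helper28.Fi.Core
import Cfsg.Agent.Lib.Helper28.Fi.Chunk
import Cfsg.Agent.Lib.Helper28.Fi.Tab0
import Cfsg.Agent.Lib.Helper28.Fi.Tab1
import Cfsg.Agent.Lib.Helper28.Fi.Tab2
import Cfsg.Agent.Lib.Helper28.Fi.Tab3
import Cfsg.Agent.Lib.Helper28.Fi.Tab4
import Cfsg.Agent.Lib.Helper28.Fi.Tab5
import Cfsg.Agent.Lib.Helper28.Fi.Tab6
import Cfsg.Agent.Lib.Helper28.Fi.Tab9

set_option autoImplicit false
set_option maxRecDepth 1000000
set_option Elab.async false

/-! Checks that coded permutations are words in earlier ones, part 15 (generated). -/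

namespace Cfsg.Agent.Lib.Helper28.Fi

open Cfsg.Agent.Lib.Helper5.CP Cfsg.Agent.Lib.Helper5.PcP Cfsg.Agent.Lib.Helper12.TC.Fi23o31671
/-- the word for the coded permutation number 115 -/
noncomputable def w115 : List ℕ := [t22, t25, t18, t3, t20, t18, t18, t11, t8, t46, t36, t38, t42, t39, t42, t31, t49, t56, t52, t59, t55, t65, t62, t67, t67, t67, t68, t69, t68, t70, t76, t77]
theorem chk_t115_c0 : allR 0 909 (fun p => Nat.beq (lk t115 p) (ev lk w115 p)) = true := by decide +kernel
theorem chk_t115_c1 : allR 909 909 (fun p => Nat.beq (lk t115 p) (ev lk w115 p)) = true := by decide +kernel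
theorem chk_t115_c2 : allR 1818 909 (fun p => Nat.beq (lk t115 p) (ev lk w115 p)) = true := by decide +kernel
theorem chk_t115_c3 : allR 2727 909 (fun p => Nat.beq (lk t115 p) (ev lk w115 p)) = true := by decide +kernel
theorem chk_t115_c4 : allR 3636 909 (fun p => Nat.beq (lk t115 p) (ev lk w115 p)) = true := by decide +kernel
theorem chk_t115_c5 : allR 4545 909 (fun p => Nat.beq (lk t115 p) (ev lk w115 p)) = true := by decide +kernel
theorem chk_t115_c6 : allR 5454 909 (fun p => Nat.beq (lk t115 p) (ev lk w115 p)) = true := by decide +kernel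
theorem chk_t115_c7 : allR 6363 909 (fun p => Nat.beq (lk t115 p) (ev lk w115 p)) = true := by decide +kernel
theorem chk_t115_c8 : allR 7272 909 (fun p => Nat.beq (lk t115 p) (ev lk w115 p)) = true := by decide +kernel
theorem chk_t115_c9 : allR 8181 909 (fun p => Nat.beq (lk t115 p) (ev lk w115 p)) = true := by decide +kernel
theorem chk_t115_c10 : allR 9090 909 (fun p => Nat.beq (lk t115 p) (ev lk w115 p)) = true := by decide +kernel
theorem chk_t115_c11 : allR 9999 909 (fun p => Nat.beq (lk t115 p) (ev lk w115 p)) = true := by decide +kernel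
theorem chk_t115_c12 : allR 10908 909 (fun p => Nat.beq (lk t115 p) (ev lk w115 p)) = true := by decide +kernel
theorem chk_t115_c13 : allR 11817 909 (fun p => Nat.beq (lk t115 p) (ev lk w115 p)) = true := by decide +kernel
theorem chk_t115_c14 : allR 12726 909 (fun p => Nat.beq (lk t115 p) (ev lk w115 p)) = true := by decide +kernel
theorem chk_t115_c15 : allR 13635 909 (fun p => Nat.beq (lk t115 p) (ev lk w115 p)) = true := by decide +kernel
theorem chk_t115_c16 : allR 14544 909 (fun p => Nat.beq (lk t115 p) (ev lk w115 p)) = true := by decide +kernel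
theorem chk_t115_c17 : allR 15453 909 (fun p => Nat.beq (lk t115 p) (ev lk w115 p)) = true := by decide +kernel
theorem chk_t115_c18 : allR 16362 909 (fun p => Nat.beq (lk t115 p) (ev lk w115 p)) = true := by decide +kernel
theorem chk_t115_c19 : allR 17271 909 (fun p => Nat.beq (lk t115 p) (ev lk w115 p)) = true := by decide +kernel
theorem chk_t115_c20 : allR 18180 909 (fun p => Nat.beq (lk t115 p) (ev lk w115 p)) = true := by decide +kernel
theorem chk_t115_c21 : allR 19089 909 (fun p => Nat.beq (lk t115 p) (ev lk w115 p)) = true := by decide +kernel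
theorem chk_t115_c22 : allR 19998 909 (fun p => Nat.beq (lk t115 p) (ev lk w115 p)) = true := by decide +kernel
theorem chk_t115_c23 : allR 20907 909 (fun p => Nat.beq (lk t115 p) (ev lk w115 p)) = true := by decide +kernel
theorem chk_t115_c24 : allR 21816 909 (fun p => Nat.beq (lk t115 p) (ev lk w115 p)) = true := by decide +kernel
theorem chk_t115_c25 : allR 22725 909 (fun p => Nat.beq (lk t115 p) (ev lk w115 p)) = true := by decide +kernel
theorem chk_t115_c26 : allR 23634 909 (fun p => Nat.beq (lk t115 p) (ev lk w115 p)) = true := by decide +kernel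
theorem chk_t115_c27 : allR 24543 909 (fun p => Nat.beq (lk t115 p) (ev lk w115 p)) = true := by decide +kernel
theorem chk_t115_c28 : allR 25452 909 (fun p => Nat.beq (lk t115 p) (ev lk w115 p)) = true := by decide +kernel
theorem chk_t115_c29 : allR 26361 909 (fun p => Nat.beq (lk t115 p) (ev lk w115 p)) = true := by decide +kernel
theorem chk_t115_c30 : allR 27270 909 (fun p => Nat.beq (lk t115 p) (ev lk w115 p)) = true := by decide +kernel
theorem chk_t115_c31 : allR 28179 909 (fun p => Nat.beq (lk t115 p) (ev lk w115 p)) = true := by decide +kernel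
theorem chk_t115_c32 : allR 29088 909 (fun p => Nat.beq (lk t115 p) (ev lk w115 p)) = true := by decide +kernel
theorem chk_t115_c33 : allR 29997 909 (fun p => Nat.beq (lk t115 p) (ev lk w115 p)) = true := by decide +kernel
theorem chk_t115_c34 : allR 30906 765 (fun p => Nat.beq (lk t115 p) (ev lk w115 p)) = true := by decide +kernel
theorem chk_t115 : eqW lk nP t115 w115 = true :=
  eqW_of_chunks lk nP _ _ [(0, 909), (909, 909), (1818, 909), (2727, 909), (3636, 909), (4545, 909), (5454, 909), (6363, 909), (7272, 909), (8181, 909), (9090, 909), (9999, 909), (10908, 909), (11817, 909), (12726, 909), (13635, 909), (14544, 909), (15453, 909), (16362, 909), (17271, 909), (18180, 909), (19089, 909), (19998, 909), (20907, 909), (21816, 909), (22725, 909), (23634, 909), (24543, 909), (25452, 909), (26361, 909), (27270, 909), (28179, 909), (29088, 909), (29997, 909), (30906, 765)] (by decide) (AllChunks.cons chk_t115_c0 (AllChunks.cons chk_t115_c1 (AllChunks.cons chk_t115_c2 (AllChunks.cons chk_t115_c3 (AllChunks.cons chk_t115_c4 (AllChunks.cons chk_t115_c5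 (AllChunks.cons chk_t115_c6 (AllChunks.cons chk_t115_c7 (AllChunks.cons chk_t115_c8 (AllChunks.cons chk_t115_c9 (AllChunks.cons chk_t115_c10 (AllChunks.cons chk_t115_c11 (AllChunks.cons chk_t115_c12 (AllChunks.cons chk_t115_c13 (AllChunks.cons chk_t115_c14 (AllChunks.cons chk_t115_c15 (AllChunks.cons chk_t115_c16 (AllChunks.cons chk_t115_c17 (AllChunks.cons chk_t115_c18 (AllChunks.cons chk_t115_c19 (AllChunks.cons chk_t115_c20 (AllChunks.cons chk_t115_c21 (AllChunks.cons chk_t115_c22 (AllChunks.cons chk_t115_c23 (AllChunks.cons chk_t115_c24 (AllChunks.cons chk_t115_c25 (AllChunks.cons chk_t115_c26 (AllChunks.cons chk_t115_c27 (AllChunks.cons chk_t115_c28 (AllChunks.cons chk_t115_c29 (AllChunks.cons chk_t115_c30 (AllChunks.cons chk_t115_c31 (AllChunks.cons chk_t115_c32 (AllChunks.cons chk_t115_c33 (AllChunks.cons chk_t115_c34 (AllChunks.nil))))))))))))))))))))))))))))))))))))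

/-- the word for the coded permutation number 116 -/
noncomputable def w116 : List ℕ := [t2, t17, t13, t19, t25, t21, t17, t10, t16, t0, t42, t38, t42, t39, t41, t34, t55, t49, t49, t53, t63, t66, t66, t63, t51, t68, t69, t68, t67, t67, t68, t70, t74]
theorem chk_t116_c0 : allR 0 882 (fun p => Nat.beq (lk t116 p) (ev lk w116 p)) = true := by decide +kernel
theorem chk_t116_c1 : allR 882 882 (fun p => Nat.beq (lk t116 p) (ev lk w116 p)) = true := by decide +kernel
theorem chk_t116_c2 : allR 1764 882 (fun p => Nat.beq (lk t116 p) (ev lk w116 p)) = true := by decide +kernel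
theorem chk_t116_c3 : allR 2646 882 (fun p => Nat.beq (lk t116 p) (ev lk w116 p)) = true := by decide +kernel
theorem chk_t116_c4 : allR 3528 882 (fun p => Nat.beq (lk t116 p) (ev lk w116 p)) = true := by decide +kernel
theorem chk_t116_c5 : allR 4410 882 (fun p => Nat.beq (lk t116 p) (ev lk w116 p)) = true := by decide +kernel
theorem chk_t116_c6 : allR 5292 882 (fun p => Nat.beq (lk t116 p) (ev lk w116 p)) = true := by decide +kernel
theorem chk_t116_c7 : allR 6174 882 (fun p => Nat.beq (lk t116 p) (ev lk w116 p)) = true := by decide +kernel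
theorem chk_t116_c8 : allR 7056 882 (fun p => Nat.beq (lk t116 p) (ev lk w116 p)) = true := by decide +kernel
theorem chk_t116_c9 : allR 7938 882 (fun p => Nat.beq (lk t116 p) (ev lk w116 p)) = true := by decide +kernel
theorem chk_t116_c10 : allR 8820 882 (fun p => Nat.beq (lk t116 p) (ev lk w116 p)) = true := by decide +kernel
theorem chk_t116_c11 : allR 9702 882 (fun p => Nat.beq (lk t116 p) (ev lk w116 p)) = true := by decide +kernel
theorem chk_t116_c12 : allR 10584 882 (fun p => Nat.beq (lk t116 p) (ev lk w116 p)) = true := by decide +kernel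
theorem chk_t116_c13 : allR 11466 882 (fun p => Nat.beq (lk t116 p) (ev lk w116 p)) = true := by decide +kernel
theorem chk_t116_c14 : allR 12348 882 (fun p => Nat.beq (lk t116 p) (ev lk w116 p)) = true := by decide +kernel
theorem chk_t116_c15 : allR 13230 882 (fun p => Nat.beq (lk t116 p) (ev lk w116 p)) = true := by decide +kernel
theorem chk_t116_c16 : allR 14112 882 (fun p => Nat.beq (lk t116 p) (ev lk w116 p)) = true := by decide +kernel
theorem chk_t116_c17 : allR 14994 882 (fun p => Nat.beq (lk t116 p) (ev lk w116 p)) = true := by decide +kernel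
theorem chk_t116_c18 : allR 15876 882 (fun p => Nat.beq (lk t116 p) (ev lk w116 p)) = true := by decide +kernel
theorem chk_t116_c19 : allR 16758 882 (fun p => Nat.beq (lk t116 p) (ev lk w116 p)) = true := by decide +kernel
theorem chk_t116_c20 : allR 17640 882 (fun p => Nat.beq (lk t116 p) (ev lk w116 p)) = true := by decide +kernel
theorem chk_t116_c21 : allR 18522 882 (fun p => Nat.beq (lk t116 p) (ev lk w116 p)) = true := by decide +kernel
theorem chk_t116_c22 : allR 19404 882 (fun p => Nat.beq (lk t116 p) (ev lk w116 p)) = true := by decide +kernel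
theorem chk_t116_c23 : allR 20286 882 (fun p => Nat.beq (lk t116 p) (ev lk w116 p)) = true := by decide +kernel
theorem chk_t116_c24 : allR 21168 882 (fun p => Nat.beq (lk t116 p) (ev lk w116 p)) = true := by decide +kernel
theorem chk_t116_c25 : allR 22050 882 (fun p => Nat.beq (lk t116 p) (ev lk w116 p)) = true := by decide +kernel
theorem chk_t116_c26 : allR 22932 882 (fun p => Nat.beq (lk t116 p) (ev lk w116 p)) = true := by decide +kernel
theorem chk_t116_c27 : allR 23814 882 (fun p => Nat.beq (lk t116 p) (ev lk w116 p)) = true := by decide +kernel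
theorem chk_t116_c28 : allR 24696 882 (fun p => Nat.beq (lk t116 p) (ev lk w116 p)) = true := by decide +kernel
theorem chk_t116_c29 : allR 25578 882 (fun p => Nat.beq (lk t116 p) (ev lk w116 p)) = true := by decide +kernel
theorem chk_t116_c30 : allR 26460 882 (fun p => Nat.beq (lk t116 p) (ev lk w116 p)) = true := by decide +kernel
theorem chk_t116_c31 : allR 27342 882 (fun p => Nat.beq (lk t116 p) (ev lk w116 p)) = true := by decide +kernel
theorem chk_t116_c32 : allR 28224 882 (fun p => Nat.beq (lk t116 p) (ev lk w116 p)) = true := by decide +kernel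
theorem chk_t116_c33 : allR 29106 882 (fun p => Nat.beq (lk t116 p) (ev lk w116 p)) = true := by decide +kernel
theorem chk_t116_c34 : allR 29988 882 (fun p => Nat.beq (lk t116 p) (ev lk w116 p)) = true := by decide +kernel
theorem chk_t116_c35 : allR 30870 801 (fun p => Nat.beq (lk t116 p) (ev lk w116 p)) = true := by decide +kernel
theorem chk_t116 : eqW lk nP t116 w116 = true :=
  eqW_of_chunks lk nP _ _ [(0, 882), (882, 882), (1764, 882), (2646, 882), (3528, 882), (4410, 882), (5292, 882), (6174, 882), (7056, 882), (7938, 882), (8820, 882), (9702, 882), (10584, 882), (11466, 882), (12348, 882), (13230, 882), (14112, 882), (14994, 882), (15876, 882), (16758, 882), (17640, 882), (18522, 882), (19404, 882), (20286, 882), (21168, 882), (22050, 882), (22932, 882), (23814, 882), (24696, 882), (25578, 882), (26460, 882), (27342, 882), (28224, 882), (29106, 882), (29988, 882), (30870, 801)] (by decide) (AllChunks.cons chk_t116_c0 (AllChunks.cons chk_t116_c1 (AllChunks.cons chk_t116_c2 (AllChunks.cons chk_t116_c3 (AllChunks.cons chk_t116_c4 (AllChunks.cons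 chk_t116_c5 (AllChunks.cons chk_t116_c6 (AllChunks.cons chk_t116_c7 (AllChunks.cons chk_t116_c8 (AllChunks.cons chk_t116_c9 (AllChunks.cons chk_t116_c10 (AllChunks.cons chk_t116_c11 (AllChunks.cons chk_t116_c12 (AllChunks.cons chk_t116_c13 (AllChunks.cons chk_t116_c14 (AllChunks.cons chk_t116_c15 (AllChunks.cons chk_t116_c16 (AllChunks.cons chk_t116_c17 (AllChunks.cons chk_t116_c18 (AllChunks.cons chk_t116_c19 (AllChunks.cons chk_t116_c20 (AllChunks.cons chk_t116_c21 (AllChunks.cons chk_t116_c22 (AllChunks.cons chk_t116_c23 (AllChunks.cons chk_t116_c24 (AllChunks.cons chk_t116_c25 (AllChunks.cons chk_t116_c26 (AllChunks.cons chk_t116_c27 (AllChunks.cons chk_t116_c28 (AllChunks.cons chk_t116_c29 (AllChunks.cons chk_t116_c30 (AllChunks.cons chk_t116_c31 (AllChunks.cons chk_t116_c32 (AllChunks.cons chk_t116_c33 (AllChunks.cons chk_t116_c34 (AllChunks.cons chk_t116_c35 (AllChunks.nil)))))))))))))))))))))))))))))))))))))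

/-- the word for the coded permutation number 117 -/
noncomputable def w117 : List ℕ := [t23, t23, t13, t19, t26, t20, t19, t10, t16, t42, t33, t41, t41, t46, t36, t53, t55, t60, t49, t47, t66, t63, t65, t69, t69, t68, t69, t68, t67, t74, t77]
theorem chk_t117_c0 : allR 0 937 (fun p => Nat.beq (lk t117 p) (ev lk w117 p)) = true := by decide +kernel
theorem chk_t117_c1 : allR 937 937 (fun p => Nat.beq (lk t117 p) (ev lk w117 p)) = true := by decide +kernel
theorem chk_t117_c2 : allR 1874 937 (fun p => Nat.beq (lk t117 p) (ev lk w117 p)) = true := by decide +kernel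
theorem chk_t117_c3 : allR 2811 937 (fun p => Nat.beq (lk t117 p) (ev lk w117 p)) = true := by decide +kernel
theorem chk_t117_c4 : allR 3748 937 (fun p => Nat.beq (lk t117 p) (ev lk w117 p)) = true := by decide +kernel
theorem chk_t117_c5 : allR 4685 937 (fun p => Nat.beq (lk t117 p) (ev lk w117 p)) = true := by decide +kernel
theorem chk_t117_c6 : allR 5622 937 (fun p => Nat.beq (lk t117 p) (ev lk w117 p)) = true := by decide +kernel
theorem chk_t117_c7 : allR 6559 937 (fun p => Nat.beq (lk t117 p) (ev lk w117 p)) = true := by decide +kernel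
theorem chk_t117_c8 : allR 7496 937 (fun p => Nat.beq (lk t117 p) (ev lk w117 p)) = true := by decide +kernel
theorem chk_t117_c9 : allR 8433 937 (fun p => Nat.beq (lk t117 p) (ev lk w117 p)) = true := by decide +kernel
theorem chk_t117_c10 : allR 9370 937 (fun p => Nat.beq (lk t117 p) (ev lk w117 p)) = true := by decide +kernel
theorem chk_t117_c11 : allR 10307 937 (fun p => Nat.beq (lk t117 p) (ev lk w117 p)) = true := by decide +kernel
theorem chk_t117_c12 : allR 11244 937 (fun p => Nat.beq (lk t117 p) (ev lk w117 p)) = true := by decide +kernel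
theorem chk_t117_c13 : allR 12181 937 (fun p => Nat.beq (lk t117 p) (ev lk w117 p)) = true := by decide +kernel
theorem chk_t117_c14 : allR 13118 937 (fun p => Nat.beq (lk t117 p) (ev lk w117 p)) = true := by decide +kernel
theorem chk_t117_c15 : allR 14055 937 (fun p => Nat.beq (lk t117 p) (ev lk w117 p)) = true := by decide +kernel
theorem chk_t117_c16 : allR 14992 937 (fun p => Nat.beq (lk t117 p) (ev lk w117 p)) = true := by decide +kernel
theorem chk_t117_c17 : allR 15929 937 (fun p => Nat.beq (lk t117 p) (ev lk w117 p)) = true := by decide +kernel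
theorem chk_t117_c18 : allR 16866 937 (fun p => Nat.beq (lk t117 p) (ev lk w117 p)) = true := by decide +kernel
theorem chk_t117_c19 : allR 17803 937 (fun p => Nat.beq (lk t117 p) (ev lk w117 p)) = true := by decide +kernel
theorem chk_t117_c20 : allR 18740 937 (fun p => Nat.beq (lk t117 p) (ev lk w117 p)) = true := by decide +kernel
theorem chk_t117_c21 : allR 19677 937 (fun p => Nat.beq (lk t117 p) (ev lk w117 p)) = true := by decide +kernel
theorem chk_t117_c22 : allR 20614 937 (fun p => Nat.beq (lk t117 p) (ev lk w117 p)) = true := by decide +kernel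
theorem chk_t117_c23 : allR 21551 937 (fun p => Nat.beq (lk t117 p) (ev lk w117 p)) = true := by decide +kernel
theorem chk_t117_c24 : allR 22488 937 (fun p => Nat.beq (lk t117 p) (ev lk w117 p)) = true := by decide +kernel
theorem chk_t117_c25 : allR 23425 937 (fun p => Nat.beq (lk t117 p) (ev lk w117 p)) = true := by decide +kernel
theorem chk_t117_c26 : allR 24362 937 (fun p => Nat.beq (lk t117 p) (ev lk w117 p)) = true := by decide +kernel
theorem chk_t117_c27 : allR 25299 937 (fun p => Nat.beq (lk t117 p) (ev lk w117 p)) = true := by decide +kernel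
theorem chk_t117_c28 : allR 26236 937 (fun p => Nat.beq (lk t117 p) (ev lk w117 p)) = true := by decide +kernel
theorem chk_t117_c29 : allR 27173 937 (fun p => Nat.beq (lk t117 p) (ev lk w117 p)) = true := by decide +kernel
theorem chk_t117_c30 : allR 28110 937 (fun p => Nat.beq (lk t117 p) (ev lk w117 p)) = true := by decide +kernel
theorem chk_t117_c31 : allR 29047 937 (fun p => Nat.beq (lk t117 p) (ev lk w117 p)) = true := by decide +kernel
theorem chk_t117_c32 : allR 29984 937 (fun p => Nat.beq (lk t117 p) (ev lk w117 p)) = true := by decide +kernel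
theorem chk_t117_c33 : allR 30921 750 (fun p => Nat.beq (lk t117 p) (ev lk w117 p)) = true := by decide +kernel
theorem chk_t117 : eqW lk nP t117 w117 = true :=
  eqW_of_chunks lk nP _ _ [(0, 937), (937, 937), (1874, 937), (2811, 937), (3748, 937), (4685, 937), (5622, 937), (6559, 937), (7496, 937), (8433, 937), (9370, 937), (10307, 937), (11244, 937), (12181, 937), (13118, 937), (14055, 937), (14992, 937), (15929, 937), (16866, 937), (17803, 937), (18740, 937), (19677, 937), (20614, 937), (21551, 937), (22488, 937), (23425, 937), (24362, 937), (25299, 937), (26236, 937), (27173, 937), (28110, 937), (29047, 937), (29984, 937), (30921, 750)] (by decide) (AllChunks.cons chk_t117_c0 (AllChunks.cons chk_t117_c1 (AllChunks.cons chk_t117_c2 (AllChunks.cons chk_t117_c3 (AllChunks.cons chk_t117_c4 (AllChunks.cons chk_t117_c5 (AllChunks.cons chk_t117_c6 (AllChunks.cons chk_t117_c7 (AllChunks.cons chk_t117_c8 (AllChunks.cons chk_t117_c9 (AllChunks.cons chk_t117_c10 (AllChunks.cons chk_t117_c11 (AllChunks.cons chk_t117_c12 (AllChunks.cons chk_t117_c13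 (AllChunks.cons chk_t117_c14 (AllChunks.cons chk_t117_c15 (AllChunks.cons chk_t117_c16 (AllChunks.cons chk_t117_c17 (AllChunks.cons chk_t117_c18 (AllChunks.cons chk_t117_c19 (AllChunks.cons chk_t117_c20 (AllChunks.cons chk_t117_c21 (AllChunks.cons chk_t117_c22 (AllChunks.cons chk_t117_c23 (AllChunks.cons chk_t117_c24 (AllChunks.cons chk_t117_c25 (AllChunks.cons chk_t117_c26 (AllChunks.cons chk_t117_c27 (AllChunks.cons chk_t117_c28 (AllChunks.cons chk_t117_c29 (AllChunks.cons chk_t117_c30 (AllChunks.cons chk_t117_c31 (AllChunks.cons chk_t117_c32 (AllChunks.cons chk_t117_c33 (AllChunks.nil)))))))))))))))))))))))))))))))))))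

end Cfsg.Agent.Lib.Helper28.Fi
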