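import Mathlib
import Cfsg.Agent.Lib.Helper28.Fi.Core
import Cfsg.Agent.Lib.Helper28.Fi.Chunk
import Cfsg.Agent.Lib.Helper28.Fi.Tab0
import Cfsg.Agent.Lib.Helper28.Fi.Tab1
import Cfsg.Agent.Lib.Helper28.Fi.Tab2
import Cfsg.Agent.Lib.Helper28.Fi.Tab3
import Cfsg.Agent.Lib.Helper28.Fi.Tab4
import Cfsg.Agent.Lib.Helper28.Fi.Tab5
import Cfsg.Agent.Lib.Helper28.Fi.Tab6
import Cfsg.Agent.Lib.Helper28.Fi.Tab9
import Cfsg.Agent.Lib.Helper28.Fi.Tab10

set_option autoImplicit false
set_option maxRecDepth 1000000
set_option Elab.async false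

/-! Checks that coded permutations are words in earlier ones, part 16 (generated). -/

namespace Cfsg.Agent.Lib.Helper28.Fi

open Cfsg.Agent.Lib.Helper5.CP Cfsg.Agent.Lib.Helper5.PcP Cfsg.Agent.Lib.Helper12.TC.Fi23o31671
/-- the word for the coded permutation number 118 -/
noncomputable def w118 : List ℕ := [t23, t18, t23, t14, t19, t21, t24, t24, t22, t16, t46, t42, t38, t42, t46, t32, t52, t56, t52, t53, t55, t63, t66, t63, t51, t69, t68, t67, t68, t67, t68, t77]
theorem chk_t118_c0 : allR 0 909 (fun p => Nat.beq (lk t118 p) (ev lk w118 p)) = true := by decide +kernel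
theorem chk_t118_c1 : allR 909 909 (fun p => Nat.beq (lk t118 p) (ev lk w118 p)) = true := by decide +kernel
theorem chk_t118_c2 : allR 1818 909 (fun p => Nat.beq (lk t118 p) (ev lk w118 p)) = true := by decide +kernel
theorem chk_t118_c3 : allR 2727 909 (fun p => Nat.beq (lk t118 p) (ev lk w118 p)) = true := by decide +kernel
theorem chk_t118_c4 : allR 3636 909 (fun p => Nat.beq (lk t118 p) (ev lk w118 p)) = true := by decide +kernel
theorem chk_t118_c5 : allR 4545 909 (fun p => Nat.beq (lk t118 p) (ev lk w118 p)) = true := by decide +kernel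
theorem chk_t118_c6 : allR 5454 909 (fun p => Nat.beq (lk t118 p) (ev lk w118 p)) = true := by decide +kernel
theorem chk_t118_c7 : allR 6363 909 (fun p => Nat.beq (lk t118 p) (ev lk w118 p)) = true := by decide +kernel
theorem chk_t118_c8 : allR 7272 909 (fun p => Nat.beq (lk t118 p) (ev lk w118 p)) = true := by decide +kernel
theorem chk_t118_c9 : allR 8181 909 (fun p => Nat.beq (lk t118 p) (ev lk w118 p)) = true := by decide +kernel
theorem chk_t118_c10 : allR 9090 909 (fun p => Nat.beq (lk t118 p) (ev lk w118 p)) = true := by decide +kernel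
theorem chk_t118_c11 : allR 9999 909 (fun p => Nat.beq (lk t118 p) (ev lk w118 p)) = true := by decide +kernel
theorem chk_t118_c12 : allR 10908 909 (fun p => Nat.beq (lk t118 p) (ev lk w118 p)) = true := by decide +kernel
theorem chk_t118_c13 : allR 11817 909 (fun p => Nat.beq (lk t118 p) (ev lk w118 p)) = true := by decide +kernel
theorem chk_t118_c14 : allR 12726 909 (fun p => Nat.beq (lk t118 p) (ev lk w118 p)) = true := by decide +kernel
theorem chk_t118_c15 : allR 13635 909 (fun p => Nat.beq (lk t118 p) (ev lk w118 p)) = true := by decide +kernel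
theorem chk_t118_c16 : allR 14544 909 (fun p => Nat.beq (lk t118 p) (ev lk w118 p)) = true := by decide +kernel
theorem chk_t118_c17 : allR 15453 909 (fun p => Nat.beq (lk t118 p) (ev lk w118 p)) = true := by decide +kernel
theorem chk_t118_c18 : allR 16362 909 (fun p => Nat.beq (lk t118 p) (ev lk w118 p)) = true := by decide +kernel
theorem chk_t118_c19 : allR 17271 909 (fun p => Nat.beq (lk t118 p) (ev lk w118 p)) = true := by decide +kernel
theorem chk_t118_c20 : allR 18180 909 (fun p => Nat.beq (lk t118 p) (ev lk w118 p)) = true := by decide +kernel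
theorem chk_t118_c21 : allR 19089 909 (fun p => Nat.beq (lk t118 p) (ev lk w118 p)) = true := by decide +kernel
theorem chk_t118_c22 : allR 19998 909 (fun p => Nat.beq (lk t118 p) (ev lk w118 p)) = true := by decide +kernel
theorem chk_t118_c23 : allR 20907 909 (fun p => Nat.beq (lk t118 p) (ev lk w118 p)) = true := by decide +kernel
theorem chk_t118_c24 : allR 21816 909 (fun p => Nat.beq (lk t118 p) (ev lk w118 p)) = true := by decide +kernel
theorem chk_t118_c25 : allR 22725 909 (fun p => Nat.beq (lk t118 p) (ev lk w118 p)) = true := by decide +kernel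
theorem chk_t118_c26 : allR 23634 909 (fun p => Nat.beq (lk t118 p) (ev lk w118 p)) = true := by decide +kernel
theorem chk_t118_c27 : allR 24543 909 (fun p => Nat.beq (lk t118 p) (ev lk w118 p)) = true := by decide +kernel
theorem chk_t118_c28 : allR 25452 909 (fun p => Nat.beq (lk t118 p) (ev lk w118 p)) = true := by decide +kernel
theorem chk_t118_c29 : allR 26361 909 (fun p => Nat.beq (lk t118 p) (ev lk w118 p)) = true := by decide +kernel
theorem chk_t118_c30 : allR 27270 909 (fun p => Nat.beq (lk t118 p) (ev lk w118 p)) = true := by decide +kernel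
theorem chk_t118_c31 : allR 28179 909 (fun p => Nat.beq (lk t118 p) (ev lk w118 p)) = true := by decide +kernel
theorem chk_t118_c32 : allR 29088 909 (fun p => Nat.beq (lk t118 p) (ev lk w118 p)) = true := by decide +kernel
theorem chk_t118_c33 : allR 29997 909 (fun p => Nat.beq (lk t118 p) (ev lk w118 p)) = true := by decide +kernel
theorem chk_t118_c34 : allR 30906 765 (fun p => Nat.beq (lk t118 p) (ev lk w118 p)) = true := by decide +kernel
theorem chk_t118 : eqW lk nP t118 w118 = true :=
  eqW_of_chunks lk nP _ _ [(0, 909), (909, 909), (1818, 909), (2727, 909), (3636, 909), (4545, 909), (5454, 909), (6363, 909), (7272, 909), (8181, 909), (9090, 909), (9999, 909), (10908, 909), (11817, 909), (12726, 909), (13635, 909), (14544, 909), (15453, 909), (16362, 909), (17271, 909), (18180, 909), (19089, 909), (19998, 909), (20907, 909), (21816, 909), (22725, 909), (23634, 909), (24543, 909), (25452, 909), (26361, 909), (27270, 909), (28179, 909), (29088, 909), (29997, 909), (30906, 765)] (by decide) (AllChunks.cons chk_t118_c0 (AllChunks.cons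 chk_t118_c1 (AllChunks.cons chk_t118_c2 (AllChunks.cons chk_t118_c3 (AllChunks.cons chk_t118_c4 (AllChunks.cons chk_t118_c5 (AllChunks.cons chk_t118_c6 (AllChunks.cons chk_t118_c7 (AllChunks.cons chk_t118_c8 (AllChunks.cons chk_t118_c9 (AllChunks.cons chk_t118_c10 (AllChunks.cons chk_t118_c11 (AllChunks.cons chk_t118_c12 (AllChunks.cons chk_t118_c13 (AllChunks.cons chk_t118_c14 (AllChunks.cons chk_t118_c15 (AllChunks.cons chk_t118_c16 (AllChunks.cons chk_t118_c17 (AllChunks.cons chk_t118_c18 (AllChunks.cons chk_t118_c19 (AllChunks.cons chk_t118_c20 (AllChunks.cons chk_t118_c21 (AllChunks.cons chk_t118_c22 (AllChunks.cons chk_t118_c23 (AllChunks.cons chk_t118_c24 (AllChunks.cons chk_t118_c25 (AllChunks.cons chk_t118_c26 (AllChunks.cons chk_t118_c27 (AllChunks.cons chk_t118_c28 (AllChunks.cons chk_t118_c29 (AllChunks.cons chk_t118_c30 (AllChunks.cons chk_t118_c31 (AllChunks.cons chk_t118_c32 (AllChunks.cons chk_t118_c33 (AllChunks.cons chk_t118_c34 (AllChunks.nil))))))))))))))))))))))))))))))))))))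

/-- the word for the coded permutation number 119 -/
noncomputable def w119 : List ℕ := [t19, t22, t17, t21, t25, t23, t13, t8, t42, t38, t39, t39, t36, t52, t59, t55, t52, t47, t63, t66, t62, t64, t68, t69, t68, t72, t70, t76, t77]
theorem chk_t119_c0 : allR 0 1000 (fun p => Nat.beq (lk t119 p) (ev lk w119 p)) = true := by decide +kernel
theorem chk_t119_c1 : allR 1000 1000 (fun p => Nat.beq (lk t119 p) (ev lk w119 p)) = true := by decide +kernel
theorem chk_t119_c2 : allR 2000 1000 (fun p => Nat.beq (lk t119 p) (ev lk w119 p)) = true := by decide +kernel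
theorem chk_t119_c3 : allR 3000 1000 (fun p => Nat.beq (lk t119 p) (ev lk w119 p)) = true := by decide +kernel
theorem chk_t119_c4 : allR 4000 1000 (fun p => Nat.beq (lk t119 p) (ev lk w119 p)) = true := by decide +kernel
theorem chk_t119_c5 : allR 5000 1000 (fun p => Nat.beq (lk t119 p) (ev lk w119 p)) = true := by decide +kernel
theorem chk_t119_c6 : allR 6000 1000 (fun p => Nat.beq (lk t119 p) (ev lk w119 p)) = true := by decide +kernel
theorem chk_t119_c7 : allR 7000 1000 (fun p => Nat.beq (lk t119 p) (ev lk w119 p)) = true := by decide +kernel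
theorem chk_t119_c8 : allR 8000 1000 (fun p => Nat.beq (lk t119 p) (ev lk w119 p)) = true := by decide +kernel
theorem chk_t119_c9 : allR 9000 1000 (fun p => Nat.beq (lk t119 p) (ev lk w119 p)) = true := by decide +kernel
theorem chk_t119_c10 : allR 10000 1000 (fun p => Nat.beq (lk t119 p) (ev lk w119 p)) = true := by decide +kernel
theorem chk_t119_c11 : allR 11000 1000 (fun p => Nat.beq (lk t119 p) (ev lk w119 p)) = true := by decide +kernel
theorem chk_t119_c12 : allR 12000 1000 (fun p => Nat.beq (lk t119 p) (ev lk w119 p)) = true := by decide +kernel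
theorem chk_t119_c13 : allR 13000 1000 (fun p => Nat.beq (lk t119 p) (ev lk w119 p)) = true := by decide +kernel
theorem chk_t119_c14 : allR 14000 1000 (fun p => Nat.beq (lk t119 p) (ev lk w119 p)) = true := by decide +kernel
theorem chk_t119_c15 : allR 15000 1000 (fun p => Nat.beq (lk t119 p) (ev lk w119 p)) = true := by decide +kernel
theorem chk_t119_c16 : allR 16000 1000 (fun p => Nat.beq (lk t119 p) (ev lk w119 p)) = true := by decide +kernel
theorem chk_t119_c17 : allR 17000 1000 (fun p => Nat.beq (lk t119 p) (ev lk w119 p)) = true := by decide +kernel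
theorem chk_t119_c18 : allR 18000 1000 (fun p => Nat.beq (lk t119 p) (ev lk w119 p)) = true := by decide +kernel
theorem chk_t119_c19 : allR 19000 1000 (fun p => Nat.beq (lk t119 p) (ev lk w119 p)) = true := by decide +kernel
theorem chk_t119_c20 : allR 20000 1000 (fun p => Nat.beq (lk t119 p) (ev lk w119 p)) = true := by decide +kernel
theorem chk_t119_c21 : allR 21000 1000 (fun p => Nat.beq (lk t119 p) (ev lk w119 p)) = true := by decide +kernel
theorem chk_t119_c22 : allR 22000 1000 (fun p => Nat.beq (lk t119 p) (ev lk w119 p)) = true := by decide +kernel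
theorem chk_t119_c23 : allR 23000 1000 (fun p => Nat.beq (lk t119 p) (ev lk w119 p)) = true := by decide +kernel
theorem chk_t119_c24 : allR 24000 1000 (fun p => Nat.beq (lk t119 p) (ev lk w119 p)) = true := by decide +kernel
theorem chk_t119_c25 : allR 25000 1000 (fun p => Nat.beq (lk t119 p) (ev lk w119 p)) = true := by decide +kernel
theorem chk_t119_c26 : allR 26000 1000 (fun p => Nat.beq (lk t119 p) (ev lk w119 p)) = true := by decide +kernel
theorem chk_t119_c27 : allR 27000 1000 (fun p => Nat.beq (lk t119 p) (ev lk w119 p)) = true := by decide +kernel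
theorem chk_t119_c28 : allR 28000 1000 (fun p => Nat.beq (lk t119 p) (ev lk w119 p)) = true := by decide +kernel
theorem chk_t119_c29 : allR 29000 1000 (fun p => Nat.beq (lk t119 p) (ev lk w119 p)) = true := by decide +kernel
theorem chk_t119_c30 : allR 30000 1000 (fun p => Nat.beq (lk t119 p) (ev lk w119 p)) = true := by decide +kernel
theorem chk_t119_c31 : allR 31000 671 (fun p => Nat.beq (lk t119 p) (ev lk w119 p)) = true := by decide +kernel
theorem chk_t119 : eqW lk nP t119 w119 = true :=
  eqW_of_chunks lk nP _ _ [(0, 1000), (1000, 1000), (2000, 1000), (3000, 1000), (4000, 1000), (5000, 1000), (6000, 1000), (7000, 1000), (8000, 1000), (9000, 1000), (10000, 1000), (11000, 1000), (12000, 1000), (13000, 1000), (14000, 1000), (15000, 1000), (16000, 1000), (17000, 1000), (18000, 1000), (19000, 1000), (20000, 1000), (21000, 1000), (22000, 1000), (23000, 1000), (24000, 1000), (25000, 1000), (26000, 1000), (27000, 1000), (28000, 1000), (29000, 1000), (30000, 1000), (31000, 671)] (by decide) (AllChunks.cons chk_t119_c0 (AllChunks.cons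 chk_t119_c1 (AllChunks.cons chk_t119_c2 (AllChunks.cons chk_t119_c3 (AllChunks.cons chk_t119_c4 (AllChunks.cons chk_t119_c5 (AllChunks.cons chk_t119_c6 (AllChunks.cons chk_t119_c7 (AllChunks.cons chk_t119_c8 (AllChunks.cons chk_t119_c9 (AllChunks.cons chk_t119_c10 (AllChunks.cons chk_t119_c11 (AllChunks.cons chk_t119_c12 (AllChunks.cons chk_t119_c13 (AllChunks.cons chk_t119_c14 (AllChunks.cons chk_t119_c15 (AllChunks.cons chk_t119_c16 (AllChunks.cons chk_t119_c17 (AllChunks.cons chk_t119_c18 (AllChunks.cons chk_t119_c19 (AllChunks.cons chk_t119_c20 (AllChunks.cons chk_t119_c21 (AllChunks.cons chk_t119_c22 (AllChunks.cons chk_t119_c23 (AllChunks.cons chk_t119_c24 (AllChunks.cons chk_t119_c25 (AllChunks.cons chk_t119_c26 (AllChunks.cons chk_t119_c27 (AllChunks.cons chk_t119_c28 (AllChunks.cons chk_t119_c29 (AllChunks.cons chk_t119_c30 (AllChunks.cons chk_t119_c31 (AllChunks.nil)))))))))))))))))))))))))))))))))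

/-- the word for the coded permutation number 120 -/
noncomputable def w120 : List ℕ := [t56, t53, t47, t64, t68, t69, t68, t67, t67, t68, t67, t68, t72, t70, t74]
theorem chk_t120_c0 : allR 0 1875 (fun p => Nat.beq (lk t120 p) (ev lk w120 p)) = true := by decide +kernel
theorem chk_t120_c1 : allR 1875 1875 (fun p => Nat.beq (lk t120 p) (ev lk w120 p)) = true := by decide +kernel
theorem chk_t120_c2 : allR 3750 1875 (fun p => Nat.beq (lk t120 p) (ev lk w120 p)) = true := by decide +kernel
theorem chk_t120_c3 : allR 5625 1875 (fun p => Nat.beq (lk t120 p) (ev lk w120 p)) = true := by decide +kernel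
theorem chk_t120_c4 : allR 7500 1875 (fun p => Nat.beq (lk t120 p) (ev lk w120 p)) = true := by decide +kernel
theorem chk_t120_c5 : allR 9375 1875 (fun p => Nat.beq (lk t120 p) (ev lk w120 p)) = true := by decide +kernel
theorem chk_t120_c6 : allR 11250 1875 (fun p => Nat.beq (lk t120 p) (ev lk w120 p)) = true := by decide +kernel
theorem chk_t120_c7 : allR 13125 1875 (fun p => Nat.beq (lk t120 p) (ev lk w120 p)) = true := by decide +kernel
theorem chk_t120_c8 : allR 15000 1875 (fun p => Nat.beq (lk t120 p) (ev lk w120 p)) = true := by decide +kernel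
theorem chk_t120_c9 : allR 16875 1875 (fun p => Nat.beq (lk t120 p) (ev lk w120 p)) = true := by decide +kernel
theorem chk_t120_c10 : allR 18750 1875 (fun p => Nat.beq (lk t120 p) (ev lk w120 p)) = true := by decide +kernel
theorem chk_t120_c11 : allR 20625 1875 (fun p => Nat.beq (lk t120 p) (ev lk w120 p)) = true := by decide +kernel
theorem chk_t120_c12 : allR 22500 1875 (fun p => Nat.beq (lk t120 p) (ev lk w120 p)) = true := by decide +kernel
theorem chk_t120_c13 : allR 24375 1875 (fun p => Nat.beq (lk t120 p) (ev lk w120 p)) = true := by decide +kernel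
theorem chk_t120_c14 : allR 26250 1875 (fun p => Nat.beq (lk t120 p) (ev lk w120 p)) = true := by decide +kernel
theorem chk_t120_c15 : allR 28125 1875 (fun p => Nat.beq (lk t120 p) (ev lk w120 p)) = true := by decide +kernel
theorem chk_t120_c16 : allR 30000 1671 (fun p => Nat.beq (lk t120 p) (ev lk w120 p)) = true := by decide +kernel
theorem chk_t120 : eqW lk nP t120 w120 = true :=
  eqW_of_chunks lk nP _ _ [(0, 1875), (1875, 1875), (3750, 1875), (5625, 1875), (7500, 1875), (9375, 1875), (11250, 1875), (13125, 1875), (15000, 1875), (16875, 1875), (18750, 1875), (20625, 1875), (22500, 1875), (24375, 1875), (26250, 1875), (28125, 1875), (30000, 1671)] (by decide) (AllChunks.cons chk_t120_c0 (AllChunks.cons chk_t120_c1 (AllChunks.cons chk_t120_c2 (AllChunks.cons chk_t120_c3 (AllChunks.cons chk_t120_c4 (AllChunks.cons chk_t120_c5 (AllChunks.cons chk_t120_c6 (AllChunks.cons chk_t120_c7 (AllChunks.cons chk_t120_c8 (AllChunks.cons chk_t120_c9 (AllChunks.cons chk_t120_c10 (AllChunks.cons chk_t120_c11 (AllChunks.cons chk_t120_c12 (AllChunks.cons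 chk_t120_c13 (AllChunks.cons chk_t120_c14 (AllChunks.cons chk_t120_c15 (AllChunks.cons chk_t120_c16 (AllChunks.nil))))))))))))))))))

/-- the word for the coded permutation number 121 -/
noncomputable def w121 : List ℕ := [t24, t41, t37, t42, t30, t48, t59, t52, t50, t63, t66, t62, t67, t67, t68, t67, t68, t67, t67, t72, t70, t77]
theorem chk_t121_c0 : allR 0 1304 (fun p => Nat.beq (lk t121 p) (ev lk w121 p)) = true := by decide +kernel
theorem chk_t121_c1 : allR 1304 1304 (fun p => Nat.beq (lk t121 p) (ev lk w121 p)) = true := by decide +kernel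
theorem chk_t121_c2 : allR 2608 1304 (fun p => Nat.beq (lk t121 p) (ev lk w121 p)) = true := by decide +kernel
theorem chk_t121_c3 : allR 3912 1304 (fun p => Nat.beq (lk t121 p) (ev lk w121 p)) = true := by decide +kernel
theorem chk_t121_c4 : allR 5216 1304 (fun p => Nat.beq (lk t121 p) (ev lk w121 p)) = true := by decide +kernel
theorem chk_t121_c5 : allR 6520 1304 (fun p => Nat.beq (lk t121 p) (ev lk w121 p)) = true := by decide +kernel
theorem chk_t121_c6 : allR 7824 1304 (fun p => Nat.beq (lk t121 p) (ev lk w121 p)) = true := by decide +kernel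
theorem chk_t121_c7 : allR 9128 1304 (fun p => Nat.beq (lk t121 p) (ev lk w121 p)) = true := by decide +kernel
theorem chk_t121_c8 : allR 10432 1304 (fun p => Nat.beq (lk t121 p) (ev lk w121 p)) = true := by decide +kernel
theorem chk_t121_c9 : allR 11736 1304 (fun p => Nat.beq (lk t121 p) (ev lk w121 p)) = true := by decide +kernel
theorem chk_t121_c10 : allR 13040 1304 (fun p => Nat.beq (lk t121 p) (ev lk w121 p)) = true := by decide +kernel
theorem chk_t121_c11 : allR 14344 1304 (fun p => Nat.beq (lk t121 p) (ev lk w121 p)) = true := by decide +kernel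
theorem chk_t121_c12 : allR 15648 1304 (fun p => Nat.beq (lk t121 p) (ev lk w121 p)) = true := by decide +kernel
theorem chk_t121_c13 : allR 16952 1304 (fun p => Nat.beq (lk t121 p) (ev lk w121 p)) = true := by decide +kernel
theorem chk_t121_c14 : allR 18256 1304 (fun p => Nat.beq (lk t121 p) (ev lk w121 p)) = true := by decide +kernel
theorem chk_t121_c15 : allR 19560 1304 (fun p => Nat.beq (lk t121 p) (ev lk w121 p)) = true := by decide +kernel
theorem chk_t121_c16 : allR 20864 1304 (fun p => Nat.beq (lk t121 p) (ev lk w121 p)) = true := by decide +kernel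
theorem chk_t121_c17 : allR 22168 1304 (fun p => Nat.beq (lk t121 p) (ev lk w121 p)) = true := by decide +kernel
theorem chk_t121_c18 : allR 23472 1304 (fun p => Nat.beq (lk t121 p) (ev lk w121 p)) = true := by decide +kernel
theorem chk_t121_c19 : allR 24776 1304 (fun p => Nat.beq (lk t121 p) (ev lk w121 p)) = true := by decide +kernel
theorem chk_t121_c20 : allR 26080 1304 (fun p => Nat.beq (lk t121 p) (ev lk w121 p)) = true := by decide +kernel
theorem chk_t121_c21 : allR 27384 1304 (fun p => Nat.beq (lk t121 p) (ev lk w121 p)) = true := by decide +kernel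
theorem chk_t121_c22 : allR 28688 1304 (fun p => Nat.beq (lk t121 p) (ev lk w121 p)) = true := by decide +kernel
theorem chk_t121_c23 : allR 29992 1304 (fun p => Nat.beq (lk t121 p) (ev lk w121 p)) = true := by decide +kernel
theorem chk_t121_c24 : allR 31296 375 (fun p => Nat.beq (lk t121 p) (ev lk w121 p)) = true := by decide +kernel
theorem chk_t121 : eqW lk nP t121 w121 = true :=
  eqW_of_chunks lk nP _ _ [(0, 1304), (1304, 1304), (2608, 1304), (3912, 1304), (5216, 1304), (6520, 1304), (7824, 1304), (9128, 1304), (10432, 1304), (11736, 1304), (13040, 1304), (14344, 1304), (15648, 1304), (16952, 1304), (18256, 1304), (19560, 1304), (20864, 1304), (22168, 1304), (23472, 1304), (24776, 1304), (26080, 1304), (27384, 1304), (28688, 1304), (29992, 1304), (31296, 375)] (by decide) (AllChunks.cons chk_t121_c0 (AllChunks.cons chk_t121_c1 (AllChunks.cons chk_t121_c2 (AllChunks.cons chk_t121_c3 (AllChunks.cons chk_t121_c4 (AllChunks.cons chk_t121_c5 (AllChunks.cons chk_t121_c6 (AllChunks.cons chk_t121_c7 (AllChunks.cons chk_t121_c8 (AllChunks.cons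 chk_t121_c9 (AllChunks.cons chk_t121_c10 (AllChunks.cons chk_t121_c11 (AllChunks.cons chk_t121_c12 (AllChunks.cons chk_t121_c13 (AllChunks.cons chk_t121_c14 (AllChunks.cons chk_t121_c15 (AllChunks.cons chk_t121_c16 (AllChunks.cons chk_t121_c17 (AllChunks.cons chk_t121_c18 (AllChunks.cons chk_t121_c19 (AllChunks.cons chk_t121_c20 (AllChunks.cons chk_t121_c21 (AllChunks.cons chk_t121_c22 (AllChunks.cons chk_t121_c23 (AllChunks.cons chk_t121_c24 (AllChunks.nil))))))))))))))))))))))))))

end Cfsg.Agent.Lib.Helper28.Fi
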