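import Mathlib
import Cfsg.Agent.Lib.Helper28.Fi.Core
import Cfsg.Agent.Lib.Helper28.Fi.Chunk
import Cfsg.Agent.Lib.Helper28.Fi.Tab3
import Cfsg.Agent.Lib.Helper28.Fi.Tab4
import Cfsg.Agent.Lib.Helper28.Fi.Tab5
import Cfsg.Agent.Lib.Helper28.Fi.Tab6
import Cfsg.Agent.Lib.Helper28.Fi.Tab10

set_option autoImplicit false
set_option maxRecDepth 1000000
set_option Elab.async false

/-! Checks that coded permutations are words in earlier ones, part 17 (generated). -/

namespace Cfsg.Agent.Lib.Helper28.Fi

open Cfsg.Agent.Lib.Helper5.CP Cfsg.Agent.Lib.Helper5.PcP Cfsg.Agent.Lib.Helper12.TC.Fi23o31671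
/-- the word for the coded permutation number 122 -/
noncomputable def w122 : List ℕ := [t55, t52, t53, t47, t64, t64, t61, t71, t74, t77]
theorem chk_t122_c0 : allR 0 2727 (fun p => Nat.beq (lk t122 p) (ev lk w122 p)) = true := by decide +kernel
theorem chk_t122_c1 : allR 2727 2727 (fun p => Nat.beq (lk t122 p) (ev lk w122 p)) = true := by decide +kernel
theorem chk_t122_c2 : allR 5454 2727 (fun p => Nat.beq (lk t122 p) (ev lk w122 p)) = true := by decide +kernel
theorem chk_t122_c3 : allR 8181 2727 (fun p => Nat.beq (lk t122 p) (ev lk w122 p)) = true := by decide +kernel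
theorem chk_t122_c4 : allR 10908 2727 (fun p => Nat.beq (lk t122 p) (ev lk w122 p)) = true := by decide +kernel
theorem chk_t122_c5 : allR 13635 2727 (fun p => Nat.beq (lk t122 p) (ev lk w122 p)) = true := by decide +kernel
theorem chk_t122_c6 : allR 16362 2727 (fun p => Nat.beq (lk t122 p) (ev lk w122 p)) = true := by decide +kernel
theorem chk_t122_c7 : allR 19089 2727 (fun p => Nat.beq (lk t122 p) (ev lk w122 p)) = true := by decide +kernel
theorem chk_t122_c8 : allR 21816 2727 (fun p => Nat.beq (lk t122 p) (ev lk w122 p)) = true := by decide +kernel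
theorem chk_t122_c9 : allR 24543 2727 (fun p => Nat.beq (lk t122 p) (ev lk w122 p)) = true := by decide +kernel
theorem chk_t122_c10 : allR 27270 2727 (fun p => Nat.beq (lk t122 p) (ev lk w122 p)) = true := by decide +kernel
theorem chk_t122_c11 : allR 29997 1674 (fun p => Nat.beq (lk t122 p) (ev lk w122 p)) = true := by decide +kernel
theorem chk_t122 : eqW lk nP t122 w122 = true :=
  eqW_of_chunks lk nP _ _ [(0, 2727), (2727, 2727), (5454, 2727), (8181, 2727), (10908, 2727), (13635, 2727), (16362, 2727), (19089, 2727), (21816, 2727), (24543, 2727), (27270, 2727), (29997, 1674)] (by decide) (AllChunks.cons chk_t122_c0 (AllChunks.cons chk_t122_c1 (AllChunks.cons chk_t122_c2 (AllChunks.cons chk_t122_c3 (AllChunks.cons chk_t122_c4 (AllChunks.cons chk_t122_c5 (AllChunks.cons chk_t122_c6 (AllChunks.cons chk_t122_c7 (AllChunks.cons chk_t122_c8 (AllChunks.cons chk_t122_c9 (AllChunks.cons chk_t122_c10 (AllChunks.cons chk_t122_c11 (AllChunks.nil)))))))))))))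

end Cfsg.Agent.Lib.Helper28.Fi
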