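import Mathlib
import Cfsg.Agent.Lib.Helper28.Fi.Core
import Cfsg.Agent.Lib.Helper28.Fi.Chunk
import Cfsg.Agent.Lib.Helper28.Fi.Tab2
import Cfsg.Agent.Lib.Helper28.Fi.Tab3
import Cfsg.Agent.Lib.Helper28.Fi.Tab4
import Cfsg.Agent.Lib.Helper28.Fi.Tab5

set_option autoImplicit false
set_option maxRecDepth 1000000
set_option Elab.async false

/-! Checks that coded permutations are words in earlier ones, part 2 (generated). -/

namespace Cfsg.Agent.Lib.Helper28.Fi

open Cfsg.Agent.Lib.Helper5.CP Cfsg.Agent.Lib.Helper5.PcP Cfsg.Agent.Lib.Helper12.TC.Fi23o31671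
/-- the word for the coded permutation number 37 -/
noncomputable def w37 : List ℕ := [t34, t31]
theorem chk_t37_c0 : allR 0 10000 (fun p => Nat.beq (lk t37 p) (ev lk w37 p)) = true := by decide +kernel
theorem chk_t37_c1 : allR 10000 10000 (fun p => Nat.beq (lk t37 p) (ev lk w37 p)) = true := by decide +kernel
theorem chk_t37_c2 : allR 20000 10000 (fun p => Nat.beq (lk t37 p) (ev lk w37 p)) = true := by decide +kernel
theorem chk_t37_c3 : allR 30000 1671 (fun p => Nat.beq (lk t37 p) (ev lk w37 p)) = true := by decide +kernel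
theorem chk_t37 : eqW lk nP t37 w37 = true :=
  eqW_of_chunks lk nP _ _ [(0, 10000), (10000, 10000), (20000, 10000), (30000, 1671)] (by decide) (AllChunks.cons chk_t37_c0 (AllChunks.cons chk_t37_c1 (AllChunks.cons chk_t37_c2 (AllChunks.cons chk_t37_c3 (AllChunks.nil)))))

theorem chk_t38_c0 : allR 0 10000 (fun p => Nat.beq (ev lk [t38, t37] p) (ev lk [] p)) = true := by decide +kernel
theorem chk_t38_c1 : allR 10000 10000 (fun p => Nat.beq (ev lk [t38, t37] p) (ev lk [] p)) = true := by decide +kernel
theorem chk_t38_c2 : allR 20000 10000 (fun p => Nat.beq (ev lk [t38, t37] p) (ev lk [] p)) = true := by decide +kernel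
theorem chk_t38_c3 : allR 30000 1671 (fun p => Nat.beq (ev lk [t38, t37] p) (ev lk [] p)) = true := by decide +kernel
theorem chk_t38 : eqWW lk nP [t38, t37] [] = true :=
  eqWW_of_chunks lk nP _ _ [(0, 10000), (10000, 10000), (20000, 10000), (30000, 1671)] (by decide) (AllChunks.cons chk_t38_c0 (AllChunks.cons chk_t38_c1 (AllChunks.cons chk_t38_c2 (AllChunks.cons chk_t38_c3 (AllChunks.nil)))))

/-- the word for the coded permutation number 39 -/
noncomputable def w39 : List ℕ := [t32, t30]
theorem chk_t39_c0 : allR 0 10000 (fun p => Nat.beq (lk t39 p) (ev lk w39 p)) = true := by decide +kernel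
theorem chk_t39_c1 : allR 10000 10000 (fun p => Nat.beq (lk t39 p) (ev lk w39 p)) = true := by decide +kernel
theorem chk_t39_c2 : allR 20000 10000 (fun p => Nat.beq (lk t39 p) (ev lk w39 p)) = true := by decide +kernel
theorem chk_t39_c3 : allR 30000 1671 (fun p => Nat.beq (lk t39 p) (ev lk w39 p)) = true := by decide +kernel
theorem chk_t39 : eqW lk nP t39 w39 = true :=
  eqW_of_chunks lk nP _ _ [(0, 10000), (10000, 10000), (20000, 10000), (30000, 1671)] (by decide) (AllChunks.cons chk_t39_c0 (AllChunks.cons chk_t39_c1 (AllChunks.cons chk_t39_c2 (AllChunks.cons chk_t39_c3 (AllChunks.nil)))))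

theorem chk_t40_c0 : allR 0 10000 (fun p => Nat.beq (ev lk [t40, t39] p) (ev lk [] p)) = true := by decide +kernel
theorem chk_t40_c1 : allR 10000 10000 (fun p => Nat.beq (ev lk [t40, t39] p) (ev lk [] p)) = true := by decide +kernel
theorem chk_t40_c2 : allR 20000 10000 (fun p => Nat.beq (ev lk [t40, t39] p) (ev lk [] p)) = true := by decide +kernel
theorem chk_t40_c3 : allR 30000 1671 (fun p => Nat.beq (ev lk [t40, t39] p) (ev lk [] p)) = true := by decide +kernel
theorem chk_t40 : eqWW lk nP [t40, t39] [] = true :=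
  eqWW_of_chunks lk nP _ _ [(0, 10000), (10000, 10000), (20000, 10000), (30000, 1671)] (by decide) (AllChunks.cons chk_t40_c0 (AllChunks.cons chk_t40_c1 (AllChunks.cons chk_t40_c2 (AllChunks.cons chk_t40_c3 (AllChunks.nil)))))

/-- the word for the coded permutation number 41 -/
noncomputable def w41 : List ℕ := [t34, t34]
theorem chk_t41_c0 : allR 0 10000 (fun p => Nat.beq (lk t41 p) (ev lk w41 p)) = true := by decide +kernel
theorem chk_t41_c1 : allR 10000 10000 (fun p => Nat.beq (lk t41 p) (ev lk w41 p)) = true := by decide +kernel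
theorem chk_t41_c2 : allR 20000 10000 (fun p => Nat.beq (lk t41 p) (ev lk w41 p)) = true := by decide +kernel
theorem chk_t41_c3 : allR 30000 1671 (fun p => Nat.beq (lk t41 p) (ev lk w41 p)) = true := by decide +kernel
theorem chk_t41 : eqW lk nP t41 w41 = true :=
  eqW_of_chunks lk nP _ _ [(0, 10000), (10000, 10000), (20000, 10000), (30000, 1671)] (by decide) (AllChunks.cons chk_t41_c0 (AllChunks.cons chk_t41_c1 (AllChunks.cons chk_t41_c2 (AllChunks.cons chk_t41_c3 (AllChunks.nil)))))

theorem chk_t42_c0 : allR 0 10000 (fun p => Nat.beq (ev lk [t42, t41] p) (ev lk [] p)) = true := by decide +kernel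
theorem chk_t42_c1 : allR 10000 10000 (fun p => Nat.beq (ev lk [t42, t41] p) (ev lk [] p)) = true := by decide +kernel
theorem chk_t42_c2 : allR 20000 10000 (fun p => Nat.beq (ev lk [t42, t41] p) (ev lk [] p)) = true := by decide +kernel
theorem chk_t42_c3 : allR 30000 1671 (fun p => Nat.beq (ev lk [t42, t41] p) (ev lk [] p)) = true := by decide +kernel
theorem chk_t42 : eqWW lk nP [t42, t41] [] = true :=
  eqWW_of_chunks lk nP _ _ [(0, 10000), (10000, 10000), (20000, 10000), (30000, 1671)] (by decide) (AllChunks.cons chk_t42_c0 (AllChunks.cons chk_t42_c1 (AllChunks.cons chk_t42_c2 (AllChunks.cons chk_t42_c3 (AllChunks.nil)))))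

/-- the word for the coded permutation number 43 -/
noncomputable def w43 : List ℕ := [t33, t30]
theorem chk_t43_c0 : allR 0 10000 (fun p => Nat.beq (lk t43 p) (ev lk w43 p)) = true := by decide +kernel
theorem chk_t43_c1 : allR 10000 10000 (fun p => Nat.beq (lk t43 p) (ev lk w43 p)) = true := by decide +kernel
theorem chk_t43_c2 : allR 20000 10000 (fun p => Nat.beq (lk t43 p) (ev lk w43 p)) = true := by decide +kernel
theorem chk_t43_c3 : allR 30000 1671 (fun p => Nat.beq (lk t43 p) (ev lk w43 p)) = true := by decide +kernel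
theorem chk_t43 : eqW lk nP t43 w43 = true :=
  eqW_of_chunks lk nP _ _ [(0, 10000), (10000, 10000), (20000, 10000), (30000, 1671)] (by decide) (AllChunks.cons chk_t43_c0 (AllChunks.cons chk_t43_c1 (AllChunks.cons chk_t43_c2 (AllChunks.cons chk_t43_c3 (AllChunks.nil)))))

theorem chk_t44_c0 : allR 0 10000 (fun p => Nat.beq (ev lk [t44, t43] p) (ev lk [] p)) = true := by decide +kernel
theorem chk_t44_c1 : allR 10000 10000 (fun p => Nat.beq (ev lk [t44, t43] p) (ev lk [] p)) = true := by decide +kernel
theorem chk_t44_c2 : allR 20000 10000 (fun p => Nat.beq (ev lk [t44, t43] p) (ev lk [] p)) = true := by decide +kernel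
theorem chk_t44_c3 : allR 30000 1671 (fun p => Nat.beq (ev lk [t44, t43] p) (ev lk [] p)) = true := by decide +kernel
theorem chk_t44 : eqWW lk nP [t44, t43] [] = true :=
  eqWW_of_chunks lk nP _ _ [(0, 10000), (10000, 10000), (20000, 10000), (30000, 1671)] (by decide) (AllChunks.cons chk_t44_c0 (AllChunks.cons chk_t44_c1 (AllChunks.cons chk_t44_c2 (AllChunks.cons chk_t44_c3 (AllChunks.nil)))))

/-- the word for the coded permutation number 45 -/
noncomputable def w45 : List ℕ := [t34, t30]
theorem chk_t45_c0 : allR 0 10000 (fun p => Nat.beq (lk t45 p) (ev lk w45 p)) = true := by decide +kernel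
theorem chk_t45_c1 : allR 10000 10000 (fun p => Nat.beq (lk t45 p) (ev lk w45 p)) = true := by decide +kernel
theorem chk_t45_c2 : allR 20000 10000 (fun p => Nat.beq (lk t45 p) (ev lk w45 p)) = true := by decide +kernel
theorem chk_t45_c3 : allR 30000 1671 (fun p => Nat.beq (lk t45 p) (ev lk w45 p)) = true := by decide +kernel
theorem chk_t45 : eqW lk nP t45 w45 = true :=
  eqW_of_chunks lk nP _ _ [(0, 10000), (10000, 10000), (20000, 10000), (30000, 1671)] (by decide) (AllChunks.cons chk_t45_c0 (AllChunks.cons chk_t45_c1 (AllChunks.cons chk_t45_c2 (AllChunks.cons chk_t45_c3 (AllChunks.nil)))))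

theorem chk_t46_c0 : allR 0 10000 (fun p => Nat.beq (ev lk [t46, t45] p) (ev lk [] p)) = true := by decide +kernel
theorem chk_t46_c1 : allR 10000 10000 (fun p => Nat.beq (ev lk [t46, t45] p) (ev lk [] p)) = true := by decide +kernel
theorem chk_t46_c2 : allR 20000 10000 (fun p => Nat.beq (ev lk [t46, t45] p) (ev lk [] p)) = true := by decide +kernel
theorem chk_t46_c3 : allR 30000 1671 (fun p => Nat.beq (ev lk [t46, t45] p) (ev lk [] p)) = true := by decide +kernel
theorem chk_t46 : eqWW lk nP [t46, t45] [] = true :=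
  eqWW_of_chunks lk nP _ _ [(0, 10000), (10000, 10000), (20000, 10000), (30000, 1671)] (by decide) (AllChunks.cons chk_t46_c0 (AllChunks.cons chk_t46_c1 (AllChunks.cons chk_t46_c2 (AllChunks.cons chk_t46_c3 (AllChunks.nil)))))

/-- the word for the coded permutation number 47 -/
noncomputable def w47 : List ℕ := [t33, t39, t37, t35, t35, t33]
theorem chk_t47_c0 : allR 0 4285 (fun p => Nat.beq (lk t47 p) (ev lk w47 p)) = true := by decide +kernel
theorem chk_t47_c1 : allR 4285 4285 (fun p => Nat.beq (lk t47 p) (ev lk w47 p)) = true := by decide +kernel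
theorem chk_t47_c2 : allR 8570 4285 (fun p => Nat.beq (lk t47 p) (ev lk w47 p)) = true := by decide +kernel
theorem chk_t47_c3 : allR 12855 4285 (fun p => Nat.beq (lk t47 p) (ev lk w47 p)) = true := by decide +kernel
theorem chk_t47_c4 : allR 17140 4285 (fun p => Nat.beq (lk t47 p) (ev lk w47 p)) = true := by decide +kernel
theorem chk_t47_c5 : allR 21425 4285 (fun p => Nat.beq (lk t47 p) (ev lk w47 p)) = true := by decide +kernel
theorem chk_t47_c6 : allR 25710 4285 (fun p => Nat.beq (lk t47 p) (ev lk w47 p)) = true := by decide +kernel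
theorem chk_t47_c7 : allR 29995 1676 (fun p => Nat.beq (lk t47 p) (ev lk w47 p)) = true := by decide +kernel
theorem chk_t47 : eqW lk nP t47 w47 = true :=
  eqW_of_chunks lk nP _ _ [(0, 4285), (4285, 4285), (8570, 4285), (12855, 4285), (17140, 4285), (21425, 4285), (25710, 4285), (29995, 1676)] (by decide) (AllChunks.cons chk_t47_c0 (AllChunks.cons chk_t47_c1 (AllChunks.cons chk_t47_c2 (AllChunks.cons chk_t47_c3 (AllChunks.cons chk_t47_c4 (AllChunks.cons chk_t47_c5 (AllChunks.cons chk_t47_c6 (AllChunks.cons chk_t47_c7 (AllChunks.nil)))))))))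

/-- the word for the coded permutation number 48 -/
noncomputable def w48 : List ℕ := [t30, t37, t38, t31, t33, t33]
theorem chk_t48_c0 : allR 0 4285 (fun p => Nat.beq (lk t48 p) (ev lk w48 p)) = true := by decide +kernel
theorem chk_t48_c1 : allR 4285 4285 (fun p => Nat.beq (lk t48 p) (ev lk w48 p)) = true := by decide +kernel
theorem chk_t48_c2 : allR 8570 4285 (fun p => Nat.beq (lk t48 p) (ev lk w48 p)) = true := by decide +kernel
theorem chk_t48_c3 : allR 12855 4285 (fun p => Nat.beq (lk t48 p) (ev lk w48 p)) = true := by decide +kernel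
theorem chk_t48_c4 : allR 17140 4285 (fun p => Nat.beq (lk t48 p) (ev lk w48 p)) = true := by decide +kernel
theorem chk_t48_c5 : allR 21425 4285 (fun p => Nat.beq (lk t48 p) (ev lk w48 p)) = true := by decide +kernel
theorem chk_t48_c6 : allR 25710 4285 (fun p => Nat.beq (lk t48 p) (ev lk w48 p)) = true := by decide +kernel
theorem chk_t48_c7 : allR 29995 1676 (fun p => Nat.beq (lk t48 p) (ev lk w48 p)) = true := by decide +kernel
theorem chk_t48 : eqW lk nP t48 w48 = true :=
  eqW_of_chunks lk nP _ _ [(0, 4285), (4285, 4285), (8570, 4285), (12855, 4285), (17140, 4285), (21425, 4285), (25710, 4285), (29995, 1676)] (by decide) (AllChunks.cons chk_t48_c0 (AllChunks.cons chk_t48_c1 (AllChunks.cons chk_t48_c2 (AllChunks.cons chk_t48_c3 (AllChunks.cons chk_t48_c4 (AllChunks.cons chk_t48_c5 (AllChunks.cons chk_t48_c6 (AllChunks.cons chk_t48_c7 (AllChunks.nil)))))))))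

/-- the word for the coded permutation number 49 -/
noncomputable def w49 : List ℕ := [t32, t44, t30, t44, t30, t38]
theorem chk_t49_c0 : allR 0 4285 (fun p => Nat.beq (lk t49 p) (ev lk w49 p)) = true := by decide +kernel
theorem chk_t49_c1 : allR 4285 4285 (fun p => Nat.beq (lk t49 p) (ev lk w49 p)) = true := by decide +kernel
theorem chk_t49_c2 : allR 8570 4285 (fun p => Nat.beq (lk t49 p) (ev lk w49 p)) = true := by decide +kernel
theorem chk_t49_c3 : allR 12855 4285 (fun p => Nat.beq (lk t49 p) (ev lk w49 p)) = true := by decide +kernel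
theorem chk_t49_c4 : allR 17140 4285 (fun p => Nat.beq (lk t49 p) (ev lk w49 p)) = true := by decide +kernel
theorem chk_t49_c5 : allR 21425 4285 (fun p => Nat.beq (lk t49 p) (ev lk w49 p)) = true := by decide +kernel
theorem chk_t49_c6 : allR 25710 4285 (fun p => Nat.beq (lk t49 p) (ev lk w49 p)) = true := by decide +kernel
theorem chk_t49_c7 : allR 29995 1676 (fun p => Nat.beq (lk t49 p) (ev lk w49 p)) = true := by decide +kernel
theorem chk_t49 : eqW lk nP t49 w49 = true :=
  eqW_of_chunks lk nP _ _ [(0, 4285), (4285, 4285), (8570, 4285), (12855, 4285), (17140, 4285), (21425, 4285), (25710, 4285), (29995, 1676)] (by decide) (AllChunks.cons chk_t49_c0 (AllChunks.cons chk_t49_c1 (AllChunks.cons chk_t49_c2 (AllChunks.cons chk_t49_c3 (AllChunks.cons chk_t49_c4 (AllChunks.cons chk_t49_c5 (AllChunks.cons chk_t49_c6 (AllChunks.cons chk_t49_c7 (AllChunks.nil)))))))))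

theorem chk_t50_c0 : allR 0 10000 (fun p => Nat.beq (ev lk [t50, t47] p) (ev lk [] p)) = true := by decide +kernel
theorem chk_t50_c1 : allR 10000 10000 (fun p => Nat.beq (ev lk [t50, t47] p) (ev lk [] p)) = true := by decide +kernel
theorem chk_t50_c2 : allR 20000 10000 (fun p => Nat.beq (ev lk [t50, t47] p) (ev lk [] p)) = true := by decide +kernel
theorem chk_t50_c3 : allR 30000 1671 (fun p => Nat.beq (ev lk [t50, t47] p) (ev lk [] p)) = true := by decide +kernel
theorem chk_t50 : eqWW lk nP [t50, t47] [] = true :=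
  eqWW_of_chunks lk nP _ _ [(0, 10000), (10000, 10000), (20000, 10000), (30000, 1671)] (by decide) (AllChunks.cons chk_t50_c0 (AllChunks.cons chk_t50_c1 (AllChunks.cons chk_t50_c2 (AllChunks.cons chk_t50_c3 (AllChunks.nil)))))

theorem chk_t51_c0 : allR 0 10000 (fun p => Nat.beq (ev lk [t51, t48] p) (ev lk [] p)) = true := by decide +kernel
theorem chk_t51_c1 : allR 10000 10000 (fun p => Nat.beq (ev lk [t51, t48] p) (ev lk [] p)) = true := by decide +kernel
theorem chk_t51_c2 : allR 20000 10000 (fun p => Nat.beq (ev lk [t51, t48] p) (ev lk [] p)) = true := by decide +kernel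
theorem chk_t51_c3 : allR 30000 1671 (fun p => Nat.beq (ev lk [t51, t48] p) (ev lk [] p)) = true := by decide +kernel
theorem chk_t51 : eqWW lk nP [t51, t48] [] = true :=
  eqWW_of_chunks lk nP _ _ [(0, 10000), (10000, 10000), (20000, 10000), (30000, 1671)] (by decide) (AllChunks.cons chk_t51_c0 (AllChunks.cons chk_t51_c1 (AllChunks.cons chk_t51_c2 (AllChunks.cons chk_t51_c3 (AllChunks.nil)))))

theorem chk_t52_c0 : allR 0 10000 (fun p => Nat.beq (ev lk [t52, t49] p) (ev lk [] p)) = true := by decide +kernel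
theorem chk_t52_c1 : allR 10000 10000 (fun p => Nat.beq (ev lk [t52, t49] p) (ev lk [] p)) = true := by decide +kernel
theorem chk_t52_c2 : allR 20000 10000 (fun p => Nat.beq (ev lk [t52, t49] p) (ev lk [] p)) = true := by decide +kernel
theorem chk_t52_c3 : allR 30000 1671 (fun p => Nat.beq (ev lk [t52, t49] p) (ev lk [] p)) = true := by decide +kernel
theorem chk_t52 : eqWW lk nP [t52, t49] [] = true :=
  eqWW_of_chunks lk nP _ _ [(0, 10000), (10000, 10000), (20000, 10000), (30000, 1671)] (by decide) (AllChunks.cons chk_t52_c0 (AllChunks.cons chk_t52_c1 (AllChunks.cons chk_t52_c2 (AllChunks.cons chk_t52_c3 (AllChunks.nil)))))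

/-- the word for the coded permutation number 53 -/
noncomputable def w53 : List ℕ := [t48, t47]
theorem chk_t53_c0 : allR 0 10000 (fun p => Nat.beq (lk t53 p) (ev lk w53 p)) = true := by decide +kernel
theorem chk_t53_c1 : allR 10000 10000 (fun p => Nat.beq (lk t53 p) (ev lk w53 p)) = true := by decide +kernel
theorem chk_t53_c2 : allR 20000 10000 (fun p => Nat.beq (lk t53 p) (ev lk w53 p)) = true := by decide +kernel
theorem chk_t53_c3 : allR 30000 1671 (fun p => Nat.beq (lk t53 p) (ev lk w53 p)) = true := by decide +kernel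
theorem chk_t53 : eqW lk nP t53 w53 = true :=
  eqW_of_chunks lk nP _ _ [(0, 10000), (10000, 10000), (20000, 10000), (30000, 1671)] (by decide) (AllChunks.cons chk_t53_c0 (AllChunks.cons chk_t53_c1 (AllChunks.cons chk_t53_c2 (AllChunks.cons chk_t53_c3 (AllChunks.nil)))))

theorem chk_t54_c0 : allR 0 10000 (fun p => Nat.beq (ev lk [t54, t53] p) (ev lk [] p)) = true := by decide +kernel
theorem chk_t54_c1 : allR 10000 10000 (fun p => Nat.beq (ev lk [t54, t53] p) (ev lk [] p)) = true := by decide +kernel
theorem chk_t54_c2 : allR 20000 10000 (fun p => Nat.beq (ev lk [t54, t53] p) (ev lk [] p)) = true := by decide +kernel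
theorem chk_t54_c3 : allR 30000 1671 (fun p => Nat.beq (ev lk [t54, t53] p) (ev lk [] p)) = true := by decide +kernel
theorem chk_t54 : eqWW lk nP [t54, t53] [] = true :=
  eqWW_of_chunks lk nP _ _ [(0, 10000), (10000, 10000), (20000, 10000), (30000, 1671)] (by decide) (AllChunks.cons chk_t54_c0 (AllChunks.cons chk_t54_c1 (AllChunks.cons chk_t54_c2 (AllChunks.cons chk_t54_c3 (AllChunks.nil)))))

/-- the word for the coded permutation number 55 -/
noncomputable def w55 : List ℕ := [t49, t50]
theorem chk_t55_c0 : allR 0 10000 (fun p => Nat.beq (lk t55 p) (ev lk w55 p)) = true := by decide +kernel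
theorem chk_t55_c1 : allR 10000 10000 (fun p => Nat.beq (lk t55 p) (ev lk w55 p)) = true := by decide +kernel
theorem chk_t55_c2 : allR 20000 10000 (fun p => Nat.beq (lk t55 p) (ev lk w55 p)) = true := by decide +kernel
theorem chk_t55_c3 : allR 30000 1671 (fun p => Nat.beq (lk t55 p) (ev lk w55 p)) = true := by decide +kernel
theorem chk_t55 : eqW lk nP t55 w55 = true :=
  eqW_of_chunks lk nP _ _ [(0, 10000), (10000, 10000), (20000, 10000), (30000, 1671)] (by decide) (AllChunks.cons chk_t55_c0 (AllChunks.cons chk_t55_c1 (AllChunks.cons chk_t55_c2 (AllChunks.cons chk_t55_c3 (AllChunks.nil)))))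

theorem chk_t56_c0 : allR 0 10000 (fun p => Nat.beq (ev lk [t56, t55] p) (ev lk [] p)) = true := by decide +kernel
theorem chk_t56_c1 : allR 10000 10000 (fun p => Nat.beq (ev lk [t56, t55] p) (ev lk [] p)) = true := by decide +kernel
theorem chk_t56_c2 : allR 20000 10000 (fun p => Nat.beq (ev lk [t56, t55] p) (ev lk [] p)) = true := by decide +kernel
theorem chk_t56_c3 : allR 30000 1671 (fun p => Nat.beq (ev lk [t56, t55] p) (ev lk [] p)) = true := by decide +kernel
theorem chk_t56 : eqWW lk nP [t56, t55] [] = true :=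
  eqWW_of_chunks lk nP _ _ [(0, 10000), (10000, 10000), (20000, 10000), (30000, 1671)] (by decide) (AllChunks.cons chk_t56_c0 (AllChunks.cons chk_t56_c1 (AllChunks.cons chk_t56_c2 (AllChunks.cons chk_t56_c3 (AllChunks.nil)))))

/-- the word for the coded permutation number 57 -/
noncomputable def w57 : List ℕ := [t48, t48]
theorem chk_t57_c0 : allR 0 10000 (fun p => Nat.beq (lk t57 p) (ev lk w57 p)) = true := by decide +kernel
theorem chk_t57_c1 : allR 10000 10000 (fun p => Nat.beq (lk t57 p) (ev lk w57 p)) = true := by decide +kernel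
theorem chk_t57_c2 : allR 20000 10000 (fun p => Nat.beq (lk t57 p) (ev lk w57 p)) = true := by decide +kernel
theorem chk_t57_c3 : allR 30000 1671 (fun p => Nat.beq (lk t57 p) (ev lk w57 p)) = true := by decide +kernel
theorem chk_t57 : eqW lk nP t57 w57 = true :=
  eqW_of_chunks lk nP _ _ [(0, 10000), (10000, 10000), (20000, 10000), (30000, 1671)] (by decide) (AllChunks.cons chk_t57_c0 (AllChunks.cons chk_t57_c1 (AllChunks.cons chk_t57_c2 (AllChunks.cons chk_t57_c3 (AllChunks.nil)))))

theorem chk_t58_c0 : allR 0 10000 (fun p => Nat.beq (ev lk [t58, t57] p) (ev lk [] p)) = true := by decide +kernel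
theorem chk_t58_c1 : allR 10000 10000 (fun p => Nat.beq (ev lk [t58, t57] p) (ev lk [] p)) = true := by decide +kernel
theorem chk_t58_c2 : allR 20000 10000 (fun p => Nat.beq (ev lk [t58, t57] p) (ev lk [] p)) = true := by decide +kernel
theorem chk_t58_c3 : allR 30000 1671 (fun p => Nat.beq (ev lk [t58, t57] p) (ev lk [] p)) = true := by decide +kernel
theorem chk_t58 : eqWW lk nP [t58, t57] [] = true :=
  eqWW_of_chunks lk nP _ _ [(0, 10000), (10000, 10000), (20000, 10000), (30000, 1671)] (by decide) (AllChunks.cons chk_t58_c0 (AllChunks.cons chk_t58_c1 (AllChunks.cons chk_t58_c2 (AllChunks.cons chk_t58_c3 (AllChunks.nil)))))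

/-- the word for the coded permutation number 59 -/
noncomputable def w59 : List ℕ := [t50, t48]
theorem chk_t59_c0 : allR 0 10000 (fun p => Nat.beq (lk t59 p) (ev lk w59 p)) = true := by decide +kernel
theorem chk_t59_c1 : allR 10000 10000 (fun p => Nat.beq (lk t59 p) (ev lk w59 p)) = true := by decide +kernel
theorem chk_t59_c2 : allR 20000 10000 (fun p => Nat.beq (lk t59 p) (ev lk w59 p)) = true := by decide +kernel
theorem chk_t59_c3 : allR 30000 1671 (fun p => Nat.beq (lk t59 p) (ev lk w59 p)) = true := by decide +kernel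
theorem chk_t59 : eqW lk nP t59 w59 = true :=
  eqW_of_chunks lk nP _ _ [(0, 10000), (10000, 10000), (20000, 10000), (30000, 1671)] (by decide) (AllChunks.cons chk_t59_c0 (AllChunks.cons chk_t59_c1 (AllChunks.cons chk_t59_c2 (AllChunks.cons chk_t59_c3 (AllChunks.nil)))))

theorem chk_t60_c0 : allR 0 10000 (fun p => Nat.beq (ev lk [t60, t59] p) (ev lk [] p)) = true := by decide +kernel
theorem chk_t60_c1 : allR 10000 10000 (fun p => Nat.beq (ev lk [t60, t59] p) (ev lk [] p)) = true := by decide +kernel
theorem chk_t60_c2 : allR 20000 10000 (fun p => Nat.beq (ev lk [t60, t59] p) (ev lk [] p)) = true := by decide +kernel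
theorem chk_t60_c3 : allR 30000 1671 (fun p => Nat.beq (ev lk [t60, t59] p) (ev lk [] p)) = true := by decide +kernel
theorem chk_t60 : eqWW lk nP [t60, t59] [] = true :=
  eqWW_of_chunks lk nP _ _ [(0, 10000), (10000, 10000), (20000, 10000), (30000, 1671)] (by decide) (AllChunks.cons chk_t60_c0 (AllChunks.cons chk_t60_c1 (AllChunks.cons chk_t60_c2 (AllChunks.cons chk_t60_c3 (AllChunks.nil)))))

/-- the word for the coded permutation number 61 -/
noncomputable def w61 : List ℕ := [t56, t55, t48, t57, t49]
theorem chk_t61_c0 : allR 0 5000 (fun p => Nat.beq (lk t61 p) (ev lk w61 p)) = true := by decide +kernel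
theorem chk_t61_c1 : allR 5000 5000 (fun p => Nat.beq (lk t61 p) (ev lk w61 p)) = true := by decide +kernel
theorem chk_t61_c2 : allR 10000 5000 (fun p => Nat.beq (lk t61 p) (ev lk w61 p)) = true := by decide +kernel
theorem chk_t61_c3 : allR 15000 5000 (fun p => Nat.beq (lk t61 p) (ev lk w61 p)) = true := by decide +kernel
theorem chk_t61_c4 : allR 20000 5000 (fun p => Nat.beq (lk t61 p) (ev lk w61 p)) = true := by decide +kernel
theorem chk_t61_c5 : allR 25000 5000 (fun p => Nat.beq (lk t61 p) (ev lk w61 p)) = true := by decide +kernel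
theorem chk_t61_c6 : allR 30000 1671 (fun p => Nat.beq (lk t61 p) (ev lk w61 p)) = true := by decide +kernel
theorem chk_t61 : eqW lk nP t61 w61 = true :=
  eqW_of_chunks lk nP _ _ [(0, 5000), (5000, 5000), (10000, 5000), (15000, 5000), (20000, 5000), (25000, 5000), (30000, 1671)] (by decide) (AllChunks.cons chk_t61_c0 (AllChunks.cons chk_t61_c1 (AllChunks.cons chk_t61_c2 (AllChunks.cons chk_t61_c3 (AllChunks.cons chk_t61_c4 (AllChunks.cons chk_t61_c5 (AllChunks.cons chk_t61_c6 (AllChunks.nil))))))))

theorem chk_t62_c0 : allR 0 10000 (fun p => Nat.beq (ev lk [t62, t61] p) (ev lk [] p)) = true := by decide +kernel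
theorem chk_t62_c1 : allR 10000 10000 (fun p => Nat.beq (ev lk [t62, t61] p) (ev lk [] p)) = true := by decide +kernel
theorem chk_t62_c2 : allR 20000 10000 (fun p => Nat.beq (ev lk [t62, t61] p) (ev lk [] p)) = true := by decide +kernel
theorem chk_t62_c3 : allR 30000 1671 (fun p => Nat.beq (ev lk [t62, t61] p) (ev lk [] p)) = true := by decide +kernel
theorem chk_t62 : eqWW lk nP [t62, t61] [] = true :=
  eqWW_of_chunks lk nP _ _ [(0, 10000), (10000, 10000), (20000, 10000), (30000, 1671)] (by decide) (AllChunks.cons chk_t62_c0 (AllChunks.cons chk_t62_c1 (AllChunks.cons chk_t62_c2 (AllChunks.cons chk_t62_c3 (AllChunks.nil)))))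

/-- the word for the coded permutation number 63 -/
noncomputable def w63 : List ℕ := [t48, t61]
theorem chk_t63_c0 : allR 0 10000 (fun p => Nat.beq (lk t63 p) (ev lk w63 p)) = true := by decide +kernel
theorem chk_t63_c1 : allR 10000 10000 (fun p => Nat.beq (lk t63 p) (ev lk w63 p)) = true := by decide +kernel
theorem chk_t63_c2 : allR 20000 10000 (fun p => Nat.beq (lk t63 p) (ev lk w63 p)) = true := by decide +kernel
theorem chk_t63_c3 : allR 30000 1671 (fun p => Nat.beq (lk t63 p) (ev lk w63 p)) = true := by decide +kernel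
theorem chk_t63 : eqW lk nP t63 w63 = true :=
  eqW_of_chunks lk nP _ _ [(0, 10000), (10000, 10000), (20000, 10000), (30000, 1671)] (by decide) (AllChunks.cons chk_t63_c0 (AllChunks.cons chk_t63_c1 (AllChunks.cons chk_t63_c2 (AllChunks.cons chk_t63_c3 (AllChunks.nil)))))

theorem chk_t64_c0 : allR 0 10000 (fun p => Nat.beq (ev lk [t64, t63] p) (ev lk [] p)) = true := by decide +kernel
theorem chk_t64_c1 : allR 10000 10000 (fun p => Nat.beq (ev lk [t64, t63] p) (ev lk [] p)) = true := by decide +kernel
theorem chk_t64_c2 : allR 20000 10000 (fun p => Nat.beq (ev lk [t64, t63] p) (ev lk [] p)) = true := by decide +kernel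
theorem chk_t64_c3 : allR 30000 1671 (fun p => Nat.beq (ev lk [t64, t63] p) (ev lk [] p)) = true := by decide +kernel
theorem chk_t64 : eqWW lk nP [t64, t63] [] = true :=
  eqWW_of_chunks lk nP _ _ [(0, 10000), (10000, 10000), (20000, 10000), (30000, 1671)] (by decide) (AllChunks.cons chk_t64_c0 (AllChunks.cons chk_t64_c1 (AllChunks.cons chk_t64_c2 (AllChunks.cons chk_t64_c3 (AllChunks.nil)))))

/-- the word for the coded permutation number 65 -/
noncomputable def w65 : List ℕ := [t61, t51]
theorem chk_t65_c0 : allR 0 10000 (fun p => Nat.beq (lk t65 p) (ev lk w65 p)) = true := by decide +kernel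
theorem chk_t65_c1 : allR 10000 10000 (fun p => Nat.beq (lk t65 p) (ev lk w65 p)) = true := by decide +kernel
theorem chk_t65_c2 : allR 20000 10000 (fun p => Nat.beq (lk t65 p) (ev lk w65 p)) = true := by decide +kernel
theorem chk_t65_c3 : allR 30000 1671 (fun p => Nat.beq (lk t65 p) (ev lk w65 p)) = true := by decide +kernel
theorem chk_t65 : eqW lk nP t65 w65 = true :=
  eqW_of_chunks lk nP _ _ [(0, 10000), (10000, 10000), (20000, 10000), (30000, 1671)] (by decide) (AllChunks.cons chk_t65_c0 (AllChunks.cons chk_t65_c1 (AllChunks.cons chk_t65_c2 (AllChunks.cons chk_t65_c3 (AllChunks.nil)))))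

theorem chk_t66_c0 : allR 0 10000 (fun p => Nat.beq (ev lk [t66, t65] p) (ev lk [] p)) = true := by decide +kernel
theorem chk_t66_c1 : allR 10000 10000 (fun p => Nat.beq (ev lk [t66, t65] p) (ev lk [] p)) = true := by decide +kernel
theorem chk_t66_c2 : allR 20000 10000 (fun p => Nat.beq (ev lk [t66, t65] p) (ev lk [] p)) = true := by decide +kernel
theorem chk_t66_c3 : allR 30000 1671 (fun p => Nat.beq (ev lk [t66, t65] p) (ev lk [] p)) = true := by decide +kernel
theorem chk_t66 : eqWW lk nP [t66, t65] [] = true :=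
  eqWW_of_chunks lk nP _ _ [(0, 10000), (10000, 10000), (20000, 10000), (30000, 1671)] (by decide) (AllChunks.cons chk_t66_c0 (AllChunks.cons chk_t66_c1 (AllChunks.cons chk_t66_c2 (AllChunks.cons chk_t66_c3 (AllChunks.nil)))))

end Cfsg.Agent.Lib.Helper28.Fi
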