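import Mathlib
import Cfsg.Agent.Lib.Helper28.Fi.Core
import Cfsg.Agent.Lib.Helper28.Fi.Chunk
import Cfsg.Agent.Lib.Helper28.Fi.Tab1
import Cfsg.Agent.Lib.Helper28.Fi.Tab2
import Cfsg.Agent.Lib.Helper28.Fi.Tab3
import Cfsg.Agent.Lib.Helper28.Fi.Tab4
import Cfsg.Agent.Lib.Helper28.Fi.Tab5
import Cfsg.Agent.Lib.Helper28.Fi.Tab6

set_option autoImplicit false
set_option maxRecDepth 1000000
set_option Elab.async false

/-! Checks that coded permutations are words in earlier ones, part 3 (generated). -/

namespace Cfsg.Agent.Lib.Helper28.Fi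

open Cfsg.Agent.Lib.Helper5.CP Cfsg.Agent.Lib.Helper5.PcP Cfsg.Agent.Lib.Helper12.TC.Fi23o31671
/-- the word for the coded permutation number 67 -/
noncomputable def w67 : List ℕ := [t63, t61, t65, t66, t64, t62, t48]
theorem chk_t67_c0 : allR 0 3750 (fun p => Nat.beq (lk t67 p) (ev lk w67 p)) = true := by decide +kernel
theorem chk_t67_c1 : allR 3750 3750 (fun p => Nat.beq (lk t67 p) (ev lk w67 p)) = true := by decide +kernel
theorem chk_t67_c2 : allR 7500 3750 (fun p => Nat.beq (lk t67 p) (ev lk w67 p)) = true := by decide +kernel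
theorem chk_t67_c3 : allR 11250 3750 (fun p => Nat.beq (lk t67 p) (ev lk w67 p)) = true := by decide +kernel
theorem chk_t67_c4 : allR 15000 3750 (fun p => Nat.beq (lk t67 p) (ev lk w67 p)) = true := by decide +kernel
theorem chk_t67_c5 : allR 18750 3750 (fun p => Nat.beq (lk t67 p) (ev lk w67 p)) = true := by decide +kernel
theorem chk_t67_c6 : allR 22500 3750 (fun p => Nat.beq (lk t67 p) (ev lk w67 p)) = true := by decide +kernel
theorem chk_t67_c7 : allR 26250 3750 (fun p => Nat.beq (lk t67 p) (ev lk w67 p)) = true := by decide +kernel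
theorem chk_t67_c8 : allR 30000 1671 (fun p => Nat.beq (lk t67 p) (ev lk w67 p)) = true := by decide +kernel
theorem chk_t67 : eqW lk nP t67 w67 = true :=
  eqW_of_chunks lk nP _ _ [(0, 3750), (3750, 3750), (7500, 3750), (11250, 3750), (15000, 3750), (18750, 3750), (22500, 3750), (26250, 3750), (30000, 1671)] (by decide) (AllChunks.cons chk_t67_c0 (AllChunks.cons chk_t67_c1 (AllChunks.cons chk_t67_c2 (AllChunks.cons chk_t67_c3 (AllChunks.cons chk_t67_c4 (AllChunks.cons chk_t67_c5 (AllChunks.cons chk_t67_c6 (AllChunks.cons chk_t67_c7 (AllChunks.cons chk_t67_c8 (AllChunks.nil))))))))))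

/-- the word for the coded permutation number 68 -/
noncomputable def w68 : List ℕ := [t61, t61, t65, t51, t64, t65, t62, t62]
theorem chk_t68_c0 : allR 0 3333 (fun p => Nat.beq (lk t68 p) (ev lk w68 p)) = true := by decide +kernel
theorem chk_t68_c1 : allR 3333 3333 (fun p => Nat.beq (lk t68 p) (ev lk w68 p)) = true := by decide +kernel
theorem chk_t68_c2 : allR 6666 3333 (fun p => Nat.beq (lk t68 p) (ev lk w68 p)) = true := by decide +kernel
theorem chk_t68_c3 : allR 9999 3333 (fun p => Nat.beq (lk t68 p) (ev lk w68 p)) = true := by decide +kernel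
theorem chk_t68_c4 : allR 13332 3333 (fun p => Nat.beq (lk t68 p) (ev lk w68 p)) = true := by decide +kernel
theorem chk_t68_c5 : allR 16665 3333 (fun p => Nat.beq (lk t68 p) (ev lk w68 p)) = true := by decide +kernel
theorem chk_t68_c6 : allR 19998 3333 (fun p => Nat.beq (lk t68 p) (ev lk w68 p)) = true := by decide +kernel
theorem chk_t68_c7 : allR 23331 3333 (fun p => Nat.beq (lk t68 p) (ev lk w68 p)) = true := by decide +kernel
theorem chk_t68_c8 : allR 26664 3333 (fun p => Nat.beq (lk t68 p) (ev lk w68 p)) = true := by decide +kernel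
theorem chk_t68_c9 : allR 29997 1674 (fun p => Nat.beq (lk t68 p) (ev lk w68 p)) = true := by decide +kernel
theorem chk_t68 : eqW lk nP t68 w68 = true :=
  eqW_of_chunks lk nP _ _ [(0, 3333), (3333, 3333), (6666, 3333), (9999, 3333), (13332, 3333), (16665, 3333), (19998, 3333), (23331, 3333), (26664, 3333), (29997, 1674)] (by decide) (AllChunks.cons chk_t68_c0 (AllChunks.cons chk_t68_c1 (AllChunks.cons chk_t68_c2 (AllChunks.cons chk_t68_c3 (AllChunks.cons chk_t68_c4 (AllChunks.cons chk_t68_c5 (AllChunks.cons chk_t68_c6 (AllChunks.cons chk_t68_c7 (AllChunks.cons chk_t68_c8 (AllChunks.cons chk_t68_c9 (AllChunks.nil)))))))))))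

theorem chk_t69_c0 : allR 0 10000 (fun p => Nat.beq (ev lk [t69, t67] p) (ev lk [] p)) = true := by decide +kernel
theorem chk_t69_c1 : allR 10000 10000 (fun p => Nat.beq (ev lk [t69, t67] p) (ev lk [] p)) = true := by decide +kernel
theorem chk_t69_c2 : allR 20000 10000 (fun p => Nat.beq (ev lk [t69, t67] p) (ev lk [] p)) = true := by decide +kernel
theorem chk_t69_c3 : allR 30000 1671 (fun p => Nat.beq (ev lk [t69, t67] p) (ev lk [] p)) = true := by decide +kernel
theorem chk_t69 : eqWW lk nP [t69, t67] [] = true :=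
  eqWW_of_chunks lk nP _ _ [(0, 10000), (10000, 10000), (20000, 10000), (30000, 1671)] (by decide) (AllChunks.cons chk_t69_c0 (AllChunks.cons chk_t69_c1 (AllChunks.cons chk_t69_c2 (AllChunks.cons chk_t69_c3 (AllChunks.nil)))))

/-- the word for the coded permutation number 70 -/
noncomputable def w70 : List ℕ := [t67, t67, t68, t68, t69, t68, t69]
theorem chk_t70_c0 : allR 0 3750 (fun p => Nat.beq (lk t70 p) (ev lk w70 p)) = true := by decide +kernel
theorem chk_t70_c1 : allR 3750 3750 (fun p => Nat.beq (lk t70 p) (ev lk w70 p)) = true := by decide +kernel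
theorem chk_t70_c2 : allR 7500 3750 (fun p => Nat.beq (lk t70 p) (ev lk w70 p)) = true := by decide +kernel
theorem chk_t70_c3 : allR 11250 3750 (fun p => Nat.beq (lk t70 p) (ev lk w70 p)) = true := by decide +kernel
theorem chk_t70_c4 : allR 15000 3750 (fun p => Nat.beq (lk t70 p) (ev lk w70 p)) = true := by decide +kernel
theorem chk_t70_c5 : allR 18750 3750 (fun p => Nat.beq (lk t70 p) (ev lk w70 p)) = true := by decide +kernel
theorem chk_t70_c6 : allR 22500 3750 (fun p => Nat.beq (lk t70 p) (ev lk w70 p)) = true := by decide +kernel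
theorem chk_t70_c7 : allR 26250 3750 (fun p => Nat.beq (lk t70 p) (ev lk w70 p)) = true := by decide +kernel
theorem chk_t70_c8 : allR 30000 1671 (fun p => Nat.beq (lk t70 p) (ev lk w70 p)) = true := by decide +kernel
theorem chk_t70 : eqW lk nP t70 w70 = true :=
  eqW_of_chunks lk nP _ _ [(0, 3750), (3750, 3750), (7500, 3750), (11250, 3750), (15000, 3750), (18750, 3750), (22500, 3750), (26250, 3750), (30000, 1671)] (by decide) (AllChunks.cons chk_t70_c0 (AllChunks.cons chk_t70_c1 (AllChunks.cons chk_t70_c2 (AllChunks.cons chk_t70_c3 (AllChunks.cons chk_t70_c4 (AllChunks.cons chk_t70_c5 (AllChunks.cons chk_t70_c6 (AllChunks.cons chk_t70_c7 (AllChunks.cons chk_t70_c8 (AllChunks.nil))))))))))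

/-- the word for the coded permutation number 71 -/
noncomputable def w71 : List ℕ := [t67, t67, t68, t67, t68, t68, t69, t69, t69, t68]
theorem chk_t71_c0 : allR 0 2727 (fun p => Nat.beq (lk t71 p) (ev lk w71 p)) = true := by decide +kernel
theorem chk_t71_c1 : allR 2727 2727 (fun p => Nat.beq (lk t71 p) (ev lk w71 p)) = true := by decide +kernel
theorem chk_t71_c2 : allR 5454 2727 (fun p => Nat.beq (lk t71 p) (ev lk w71 p)) = true := by decide +kernel
theorem chk_t71_c3 : allR 8181 2727 (fun p => Nat.beq (lk t71 p) (ev lk w71 p)) = true := by decide +kernel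
theorem chk_t71_c4 : allR 10908 2727 (fun p => Nat.beq (lk t71 p) (ev lk w71 p)) = true := by decide +kernel
theorem chk_t71_c5 : allR 13635 2727 (fun p => Nat.beq (lk t71 p) (ev lk w71 p)) = true := by decide +kernel
theorem chk_t71_c6 : allR 16362 2727 (fun p => Nat.beq (lk t71 p) (ev lk w71 p)) = true := by decide +kernel
theorem chk_t71_c7 : allR 19089 2727 (fun p => Nat.beq (lk t71 p) (ev lk w71 p)) = true := by decide +kernel
theorem chk_t71_c8 : allR 21816 2727 (fun p => Nat.beq (lk t71 p) (ev lk w71 p)) = true := by decide +kernel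
theorem chk_t71_c9 : allR 24543 2727 (fun p => Nat.beq (lk t71 p) (ev lk w71 p)) = true := by decide +kernel
theorem chk_t71_c10 : allR 27270 2727 (fun p => Nat.beq (lk t71 p) (ev lk w71 p)) = true := by decide +kernel
theorem chk_t71_c11 : allR 29997 1674 (fun p => Nat.beq (lk t71 p) (ev lk w71 p)) = true := by decide +kernel
theorem chk_t71 : eqW lk nP t71 w71 = true :=
  eqW_of_chunks lk nP _ _ [(0, 2727), (2727, 2727), (5454, 2727), (8181, 2727), (10908, 2727), (13635, 2727), (16362, 2727), (19089, 2727), (21816, 2727), (24543, 2727), (27270, 2727), (29997, 1674)] (by decide) (AllChunks.cons chk_t71_c0 (AllChunks.cons chk_t71_c1 (AllChunks.cons chk_t71_c2 (AllChunks.cons chk_t71_c3 (AllChunks.cons chk_t71_c4 (AllChunks.cons chk_t71_c5 (AllChunks.cons chk_t71_c6 (AllChunks.cons chk_t71_c7 (AllChunks.cons chk_t71_c8 (AllChunks.cons chk_t71_c9 (AllChunks.cons chk_t71_c10 (AllChunks.cons chk_t71_c11 (AllChunks.nil)))))))))))))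

/-- the word for the coded permutation number 72 -/
noncomputable def w72 : List ℕ := [t69, t68, t69, t68, t67, t67, t68, t67, t68, t67]
theorem chk_t72_c0 : allR 0 2727 (fun p => Nat.beq (lk t72 p) (ev lk w72 p)) = true := by decide +kernel
theorem chk_t72_c1 : allR 2727 2727 (fun p => Nat.beq (lk t72 p) (ev lk w72 p)) = true := by decide +kernel
theorem chk_t72_c2 : allR 5454 2727 (fun p => Nat.beq (lk t72 p) (ev lk w72 p)) = true := by decide +kernel
theorem chk_t72_c3 : allR 8181 2727 (fun p => Nat.beq (lk t72 p) (ev lk w72 p)) = true := by decide +kernel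
theorem chk_t72_c4 : allR 10908 2727 (fun p => Nat.beq (lk t72 p) (ev lk w72 p)) = true := by decide +kernel
theorem chk_t72_c5 : allR 13635 2727 (fun p => Nat.beq (lk t72 p) (ev lk w72 p)) = true := by decide +kernel
theorem chk_t72_c6 : allR 16362 2727 (fun p => Nat.beq (lk t72 p) (ev lk w72 p)) = true := by decide +kernel
theorem chk_t72_c7 : allR 19089 2727 (fun p => Nat.beq (lk t72 p) (ev lk w72 p)) = true := by decide +kernel
theorem chk_t72_c8 : allR 21816 2727 (fun p => Nat.beq (lk t72 p) (ev lk w72 p)) = true := by decide +kernel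
theorem chk_t72_c9 : allR 24543 2727 (fun p => Nat.beq (lk t72 p) (ev lk w72 p)) = true := by decide +kernel
theorem chk_t72_c10 : allR 27270 2727 (fun p => Nat.beq (lk t72 p) (ev lk w72 p)) = true := by decide +kernel
theorem chk_t72_c11 : allR 29997 1674 (fun p => Nat.beq (lk t72 p) (ev lk w72 p)) = true := by decide +kernel
theorem chk_t72 : eqW lk nP t72 w72 = true :=
  eqW_of_chunks lk nP _ _ [(0, 2727), (2727, 2727), (5454, 2727), (8181, 2727), (10908, 2727), (13635, 2727), (16362, 2727), (19089, 2727), (21816, 2727), (24543, 2727), (27270, 2727), (29997, 1674)] (by decide) (AllChunks.cons chk_t72_c0 (AllChunks.cons chk_t72_c1 (AllChunks.cons chk_t72_c2 (AllChunks.cons chk_t72_c3 (AllChunks.cons chk_t72_c4 (AllChunks.cons chk_t72_c5 (AllChunks.cons chk_t72_c6 (AllChunks.cons chk_t72_c7 (AllChunks.cons chk_t72_c8 (AllChunks.cons chk_t72_c9 (AllChunks.cons chk_t72_c10 (AllChunks.cons chk_t72_c11 (AllChunks.nil)))))))))))))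

theorem chk_t73_c0 : allR 0 10000 (fun p => Nat.beq (ev lk [t73, t72] p) (ev lk [] p)) = true := by decide +kernel
theorem chk_t73_c1 : allR 10000 10000 (fun p => Nat.beq (ev lk [t73, t72] p) (ev lk [] p)) = true := by decide +kernel
theorem chk_t73_c2 : allR 20000 10000 (fun p => Nat.beq (ev lk [t73, t72] p) (ev lk [] p)) = true := by decide +kernel
theorem chk_t73_c3 : allR 30000 1671 (fun p => Nat.beq (ev lk [t73, t72] p) (ev lk [] p)) = true := by decide +kernel
theorem chk_t73 : eqWW lk nP [t73, t72] [] = true :=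
  eqWW_of_chunks lk nP _ _ [(0, 10000), (10000, 10000), (20000, 10000), (30000, 1671)] (by decide) (AllChunks.cons chk_t73_c0 (AllChunks.cons chk_t73_c1 (AllChunks.cons chk_t73_c2 (AllChunks.cons chk_t73_c3 (AllChunks.nil)))))

/-- the word for the coded permutation number 74 -/
noncomputable def w74 : List ℕ := [t71, t72, t72, t70]
theorem chk_t74_c0 : allR 0 6000 (fun p => Nat.beq (lk t74 p) (ev lk w74 p)) = true := by decide +kernel
theorem chk_t74_c1 : allR 6000 6000 (fun p => Nat.beq (lk t74 p) (ev lk w74 p)) = true := by decide +kernel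
theorem chk_t74_c2 : allR 12000 6000 (fun p => Nat.beq (lk t74 p) (ev lk w74 p)) = true := by decide +kernel
theorem chk_t74_c3 : allR 18000 6000 (fun p => Nat.beq (lk t74 p) (ev lk w74 p)) = true := by decide +kernel
theorem chk_t74_c4 : allR 24000 6000 (fun p => Nat.beq (lk t74 p) (ev lk w74 p)) = true := by decide +kernel
theorem chk_t74_c5 : allR 30000 1671 (fun p => Nat.beq (lk t74 p) (ev lk w74 p)) = true := by decide +kernel
theorem chk_t74 : eqW lk nP t74 w74 = true :=
  eqW_of_chunks lk nP _ _ [(0, 6000), (6000, 6000), (12000, 6000), (18000, 6000), (24000, 6000), (30000, 1671)] (by decide) (AllChunks.cons chk_t74_c0 (AllChunks.cons chk_t74_c1 (AllChunks.cons chk_t74_c2 (AllChunks.cons chk_t74_c3 (AllChunks.cons chk_t74_c4 (AllChunks.cons chk_t74_c5 (AllChunks.nil)))))))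

/-- the word for the coded permutation number 75 -/
noncomputable def w75 : List ℕ := [t70, t73, t72, t73, t70, t72]
theorem chk_t75_c0 : allR 0 4285 (fun p => Nat.beq (lk t75 p) (ev lk w75 p)) = true := by decide +kernel
theorem chk_t75_c1 : allR 4285 4285 (fun p => Nat.beq (lk t75 p) (ev lk w75 p)) = true := by decide +kernel
theorem chk_t75_c2 : allR 8570 4285 (fun p => Nat.beq (lk t75 p) (ev lk w75 p)) = true := by decide +kernel
theorem chk_t75_c3 : allR 12855 4285 (fun p => Nat.beq (lk t75 p) (ev lk w75 p)) = true := by decide +kernel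
theorem chk_t75_c4 : allR 17140 4285 (fun p => Nat.beq (lk t75 p) (ev lk w75 p)) = true := by decide +kernel
theorem chk_t75_c5 : allR 21425 4285 (fun p => Nat.beq (lk t75 p) (ev lk w75 p)) = true := by decide +kernel
theorem chk_t75_c6 : allR 25710 4285 (fun p => Nat.beq (lk t75 p) (ev lk w75 p)) = true := by decide +kernel
theorem chk_t75_c7 : allR 29995 1676 (fun p => Nat.beq (lk t75 p) (ev lk w75 p)) = true := by decide +kernel
theorem chk_t75 : eqW lk nP t75 w75 = true :=
  eqW_of_chunks lk nP _ _ [(0, 4285), (4285, 4285), (8570, 4285), (12855, 4285), (17140, 4285), (21425, 4285), (25710, 4285), (29995, 1676)] (by decide) (AllChunks.cons chk_t75_c0 (AllChunks.cons chk_t75_c1 (AllChunks.cons chk_t75_c2 (AllChunks.cons chk_t75_c3 (AllChunks.cons chk_t75_c4 (AllChunks.cons chk_t75_c5 (AllChunks.cons chk_t75_c6 (AllChunks.cons chk_t75_c7 (AllChunks.nil)))))))))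

/-- the word for the coded permutation number 76 -/
noncomputable def w76 : List ℕ := [t70, t72, t70, t71]
theorem chk_t76_c0 : allR 0 6000 (fun p => Nat.beq (lk t76 p) (ev lk w76 p)) = true := by decide +kernel
theorem chk_t76_c1 : allR 6000 6000 (fun p => Nat.beq (lk t76 p) (ev lk w76 p)) = true := by decide +kernel
theorem chk_t76_c2 : allR 12000 6000 (fun p => Nat.beq (lk t76 p) (ev lk w76 p)) = true := by decide +kernel
theorem chk_t76_c3 : allR 18000 6000 (fun p => Nat.beq (lk t76 p) (ev lk w76 p)) = true := by decide +kernel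
theorem chk_t76_c4 : allR 24000 6000 (fun p => Nat.beq (lk t76 p) (ev lk w76 p)) = true := by decide +kernel
theorem chk_t76_c5 : allR 30000 1671 (fun p => Nat.beq (lk t76 p) (ev lk w76 p)) = true := by decide +kernel
theorem chk_t76 : eqW lk nP t76 w76 = true :=
  eqW_of_chunks lk nP _ _ [(0, 6000), (6000, 6000), (12000, 6000), (18000, 6000), (24000, 6000), (30000, 1671)] (by decide) (AllChunks.cons chk_t76_c0 (AllChunks.cons chk_t76_c1 (AllChunks.cons chk_t76_c2 (AllChunks.cons chk_t76_c3 (AllChunks.cons chk_t76_c4 (AllChunks.cons chk_t76_c5 (AllChunks.nil)))))))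

/-- the word for the coded permutation number 77 -/
noncomputable def w77 : List ℕ := [t76, t75, t74]
theorem chk_t77_c0 : allR 0 7500 (fun p => Nat.beq (lk t77 p) (ev lk w77 p)) = true := by decide +kernel
theorem chk_t77_c1 : allR 7500 7500 (fun p => Nat.beq (lk t77 p) (ev lk w77 p)) = true := by decide +kernel
theorem chk_t77_c2 : allR 15000 7500 (fun p => Nat.beq (lk t77 p) (ev lk w77 p)) = true := by decide +kernel
theorem chk_t77_c3 : allR 22500 7500 (fun p => Nat.beq (lk t77 p) (ev lk w77 p)) = true := by decide +kernel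
theorem chk_t77_c4 : allR 30000 1671 (fun p => Nat.beq (lk t77 p) (ev lk w77 p)) = true := by decide +kernel
theorem chk_t77 : eqW lk nP t77 w77 = true :=
  eqW_of_chunks lk nP _ _ [(0, 7500), (7500, 7500), (15000, 7500), (22500, 7500), (30000, 1671)] (by decide) (AllChunks.cons chk_t77_c0 (AllChunks.cons chk_t77_c1 (AllChunks.cons chk_t77_c2 (AllChunks.cons chk_t77_c3 (AllChunks.cons chk_t77_c4 (AllChunks.nil))))))

/-- the word for the coded permutation number 78 -/
noncomputable def w78 : List ℕ := [t19, t20, t17, t19, t24, t14, t16, t35, t35, t37, t35, t46, t36, t30, t48, t52, t47, t55, t53, t62, t62, t66, t63, t61, t69, t68, t69, t68, t67, t68, t72, t70, t74, t77]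
theorem chk_t78_c0 : allR 0 857 (fun p => Nat.beq (lk t78 p) (ev lk w78 p)) = true := by decide +kernel
theorem chk_t78_c1 : allR 857 857 (fun p => Nat.beq (lk t78 p) (ev lk w78 p)) = true := by decide +kernel
theorem chk_t78_c2 : allR 1714 857 (fun p => Nat.beq (lk t78 p) (ev lk w78 p)) = true := by decide +kernel
theorem chk_t78_c3 : allR 2571 857 (fun p => Nat.beq (lk t78 p) (ev lk w78 p)) = true := by decide +kernel
theorem chk_t78_c4 : allR 3428 857 (fun p => Nat.beq (lk t78 p) (ev lk w78 p)) = true := by decide +kernel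
theorem chk_t78_c5 : allR 4285 857 (fun p => Nat.beq (lk t78 p) (ev lk w78 p)) = true := by decide +kernel
theorem chk_t78_c6 : allR 5142 857 (fun p => Nat.beq (lk t78 p) (ev lk w78 p)) = true := by decide +kernel
theorem chk_t78_c7 : allR 5999 857 (fun p => Nat.beq (lk t78 p) (ev lk w78 p)) = true := by decide +kernel
theorem chk_t78_c8 : allR 6856 857 (fun p => Nat.beq (lk t78 p) (ev lk w78 p)) = true := by decide +kernel
theorem chk_t78_c9 : allR 7713 857 (fun p => Nat.beq (lk t78 p) (ev lk w78 p)) = true := by decide +kernel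
theorem chk_t78_c10 : allR 8570 857 (fun p => Nat.beq (lk t78 p) (ev lk w78 p)) = true := by decide +kernel
theorem chk_t78_c11 : allR 9427 857 (fun p => Nat.beq (lk t78 p) (ev lk w78 p)) = true := by decide +kernel
theorem chk_t78_c12 : allR 10284 857 (fun p => Nat.beq (lk t78 p) (ev lk w78 p)) = true := by decide +kernel
theorem chk_t78_c13 : allR 11141 857 (fun p => Nat.beq (lk t78 p) (ev lk w78 p)) = true := by decide +kernel
theorem chk_t78_c14 : allR 11998 857 (fun p => Nat.beq (lk t78 p) (ev lk w78 p)) = true := by decide +kernel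
theorem chk_t78_c15 : allR 12855 857 (fun p => Nat.beq (lk t78 p) (ev lk w78 p)) = true := by decide +kernel
theorem chk_t78_c16 : allR 13712 857 (fun p => Nat.beq (lk t78 p) (ev lk w78 p)) = true := by decide +kernel
theorem chk_t78_c17 : allR 14569 857 (fun p => Nat.beq (lk t78 p) (ev lk w78 p)) = true := by decide +kernel
theorem chk_t78_c18 : allR 15426 857 (fun p => Nat.beq (lk t78 p) (ev lk w78 p)) = true := by decide +kernel
theorem chk_t78_c19 : allR 16283 857 (fun p => Nat.beq (lk t78 p) (ev lk w78 p)) = true := by decide +kernel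
theorem chk_t78_c20 : allR 17140 857 (fun p => Nat.beq (lk t78 p) (ev lk w78 p)) = true := by decide +kernel
theorem chk_t78_c21 : allR 17997 857 (fun p => Nat.beq (lk t78 p) (ev lk w78 p)) = true := by decide +kernel
theorem chk_t78_c22 : allR 18854 857 (fun p => Nat.beq (lk t78 p) (ev lk w78 p)) = true := by decide +kernel
theorem chk_t78_c23 : allR 19711 857 (fun p => Nat.beq (lk t78 p) (ev lk w78 p)) = true := by decide +kernel
theorem chk_t78_c24 : allR 20568 857 (fun p => Nat.beq (lk t78 p) (ev lk w78 p)) = true := by decide +kernel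
theorem chk_t78_c25 : allR 21425 857 (fun p => Nat.beq (lk t78 p) (ev lk w78 p)) = true := by decide +kernel
theorem chk_t78_c26 : allR 22282 857 (fun p => Nat.beq (lk t78 p) (ev lk w78 p)) = true := by decide +kernel
theorem chk_t78_c27 : allR 23139 857 (fun p => Nat.beq (lk t78 p) (ev lk w78 p)) = true := by decide +kernel
theorem chk_t78_c28 : allR 23996 857 (fun p => Nat.beq (lk t78 p) (ev lk w78 p)) = true := by decide +kernel
theorem chk_t78_c29 : allR 24853 857 (fun p => Nat.beq (lk t78 p) (ev lk w78 p)) = true := by decide +kernel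
theorem chk_t78_c30 : allR 25710 857 (fun p => Nat.beq (lk t78 p) (ev lk w78 p)) = true := by decide +kernel
theorem chk_t78_c31 : allR 26567 857 (fun p => Nat.beq (lk t78 p) (ev lk w78 p)) = true := by decide +kernel
theorem chk_t78_c32 : allR 27424 857 (fun p => Nat.beq (lk t78 p) (ev lk w78 p)) = true := by decide +kernel
theorem chk_t78_c33 : allR 28281 857 (fun p => Nat.beq (lk t78 p) (ev lk w78 p)) = true := by decide +kernel
theorem chk_t78_c34 : allR 29138 857 (fun p => Nat.beq (lk t78 p) (ev lk w78 p)) = true := by decide +kernel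
theorem chk_t78_c35 : allR 29995 857 (fun p => Nat.beq (lk t78 p) (ev lk w78 p)) = true := by decide +kernel
theorem chk_t78_c36 : allR 30852 819 (fun p => Nat.beq (lk t78 p) (ev lk w78 p)) = true := by decide +kernel
theorem chk_t78 : eqW lk nP t78 w78 = true :=
  eqW_of_chunks lk nP _ _ [(0, 857), (857, 857), (1714, 857), (2571, 857), (3428, 857), (4285, 857), (5142, 857), (5999, 857), (6856, 857), (7713, 857), (8570, 857), (9427, 857), (10284, 857), (11141, 857), (11998, 857), (12855, 857), (13712, 857), (14569, 857), (15426, 857), (16283, 857), (17140, 857), (17997, 857), (18854, 857), (19711, 857), (20568, 857), (21425, 857), (22282, 857), (23139, 857), (23996, 857), (24853, 857), (25710, 857), (26567, 857), (27424, 857), (28281, 857), (29138, 857), (29995, 857), (30852, 819)] (by decide) (AllChunks.cons chk_t78_c0 (AllChunks.cons chk_t78_c1 (AllChunks.cons chk_t78_c2 (AllChunks.cons chk_t78_c3 (AllChunks.cons chk_t78_c4 (AllChunks.cons chk_t78_c5 (AllChunks.cons chk_t78_c6 (AllChunks.cons chk_t78_c7 (AllChunks.cons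 chk_t78_c8 (AllChunks.cons chk_t78_c9 (AllChunks.cons chk_t78_c10 (AllChunks.cons chk_t78_c11 (AllChunks.cons chk_t78_c12 (AllChunks.cons chk_t78_c13 (AllChunks.cons chk_t78_c14 (AllChunks.cons chk_t78_c15 (AllChunks.cons chk_t78_c16 (AllChunks.cons chk_t78_c17 (AllChunks.cons chk_t78_c18 (AllChunks.cons chk_t78_c19 (AllChunks.cons chk_t78_c20 (AllChunks.cons chk_t78_c21 (AllChunks.cons chk_t78_c22 (AllChunks.cons chk_t78_c23 (AllChunks.cons chk_t78_c24 (AllChunks.cons chk_t78_c25 (AllChunks.cons chk_t78_c26 (AllChunks.cons chk_t78_c27 (AllChunks.cons chk_t78_c28 (AllChunks.cons chk_t78_c29 (AllChunks.cons chk_t78_c30 (AllChunks.cons chk_t78_c31 (AllChunks.cons chk_t78_c32 (AllChunks.cons chk_t78_c33 (AllChunks.cons chk_t78_c34 (AllChunks.cons chk_t78_c35 (AllChunks.cons chk_t78_c36 (AllChunks.nil))))))))))))))))))))))))))))))))))))))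

end Cfsg.Agent.Lib.Helper28.Fi
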