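import Mathlib
import Cfsg.Agent.Lib.Helper28.Fi.Core
import Cfsg.Agent.Lib.Helper28.Fi.Chunk
import Cfsg.Agent.Lib.Helper28.Fi.Tab0
import Cfsg.Agent.Lib.Helper28.Fi.Tab1
import Cfsg.Agent.Lib.Helper28.Fi.Tab2
import Cfsg.Agent.Lib.Helper28.Fi.Tab3
import Cfsg.Agent.Lib.Helper28.Fi.Tab4
import Cfsg.Agent.Lib.Helper28.Fi.Tab5
import Cfsg.Agent.Lib.Helper28.Fi.Tab6

set_option autoImplicit false
set_option maxRecDepth 1000000
set_option Elab.async false

/-! Checks that coded permutations are words in earlier ones, part 4 (generated). -/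

namespace Cfsg.Agent.Lib.Helper28.Fi

open Cfsg.Agent.Lib.Helper5.CP Cfsg.Agent.Lib.Helper5.PcP Cfsg.Agent.Lib.Helper12.TC.Fi23o31671
/-- the word for the coded permutation number 79 -/
noncomputable def w79 : List ℕ := [t4, t23, t13, t19, t13, t18, t18, t11, t8, t43, t37, t42, t30, t49, t49, t56, t53, t66, t66, t64, t64, t61, t67, t68, t69, t68, t67, t67, t72, t70, t75]
theorem chk_t79_c0 : allR 0 937 (fun p => Nat.beq (lk t79 p) (ev lk w79 p)) = true := by decide +kernel
theorem chk_t79_c1 : allR 937 937 (fun p => Nat.beq (lk t79 p) (ev lk w79 p)) = true := by decide +kernel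
theorem chk_t79_c2 : allR 1874 937 (fun p => Nat.beq (lk t79 p) (ev lk w79 p)) = true := by decide +kernel
theorem chk_t79_c3 : allR 2811 937 (fun p => Nat.beq (lk t79 p) (ev lk w79 p)) = true := by decide +kernel
theorem chk_t79_c4 : allR 3748 937 (fun p => Nat.beq (lk t79 p) (ev lk w79 p)) = true := by decide +kernel
theorem chk_t79_c5 : allR 4685 937 (fun p => Nat.beq (lk t79 p) (ev lk w79 p)) = true := by decide +kernel
theorem chk_t79_c6 : allR 5622 937 (fun p => Nat.beq (lk t79 p) (ev lk w79 p)) = true := by decide +kernel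
theorem chk_t79_c7 : allR 6559 937 (fun p => Nat.beq (lk t79 p) (ev lk w79 p)) = true := by decide +kernel
theorem chk_t79_c8 : allR 7496 937 (fun p => Nat.beq (lk t79 p) (ev lk w79 p)) = true := by decide +kernel
theorem chk_t79_c9 : allR 8433 937 (fun p => Nat.beq (lk t79 p) (ev lk w79 p)) = true := by decide +kernel
theorem chk_t79_c10 : allR 9370 937 (fun p => Nat.beq (lk t79 p) (ev lk w79 p)) = true := by decide +kernel
theorem chk_t79_c11 : allR 10307 937 (fun p => Nat.beq (lk t79 p) (ev lk w79 p)) = true := by decide +kernel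
theorem chk_t79_c12 : allR 11244 937 (fun p => Nat.beq (lk t79 p) (ev lk w79 p)) = true := by decide +kernel
theorem chk_t79_c13 : allR 12181 937 (fun p => Nat.beq (lk t79 p) (ev lk w79 p)) = true := by decide +kernel
theorem chk_t79_c14 : allR 13118 937 (fun p => Nat.beq (lk t79 p) (ev lk w79 p)) = true := by decide +kernel
theorem chk_t79_c15 : allR 14055 937 (fun p => Nat.beq (lk t79 p) (ev lk w79 p)) = true := by decide +kernel
theorem chk_t79_c16 : allR 14992 937 (fun p => Nat.beq (lk t79 p) (ev lk w79 p)) = true := by decide +kernel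
theorem chk_t79_c17 : allR 15929 937 (fun p => Nat.beq (lk t79 p) (ev lk w79 p)) = true := by decide +kernel
theorem chk_t79_c18 : allR 16866 937 (fun p => Nat.beq (lk t79 p) (ev lk w79 p)) = true := by decide +kernel
theorem chk_t79_c19 : allR 17803 937 (fun p => Nat.beq (lk t79 p) (ev lk w79 p)) = true := by decide +kernel
theorem chk_t79_c20 : allR 18740 937 (fun p => Nat.beq (lk t79 p) (ev lk w79 p)) = true := by decide +kernel
theorem chk_t79_c21 : allR 19677 937 (fun p => Nat.beq (lk t79 p) (ev lk w79 p)) = true := by decide +kernel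
theorem chk_t79_c22 : allR 20614 937 (fun p => Nat.beq (lk t79 p) (ev lk w79 p)) = true := by decide +kernel
theorem chk_t79_c23 : allR 21551 937 (fun p => Nat.beq (lk t79 p) (ev lk w79 p)) = true := by decide +kernel
theorem chk_t79_c24 : allR 22488 937 (fun p => Nat.beq (lk t79 p) (ev lk w79 p)) = true := by decide +kernel
theorem chk_t79_c25 : allR 23425 937 (fun p => Nat.beq (lk t79 p) (ev lk w79 p)) = true := by decide +kernel
theorem chk_t79_c26 : allR 24362 937 (fun p => Nat.beq (lk t79 p) (ev lk w79 p)) = true := by decide +kernel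
theorem chk_t79_c27 : allR 25299 937 (fun p => Nat.beq (lk t79 p) (ev lk w79 p)) = true := by decide +kernel
theorem chk_t79_c28 : allR 26236 937 (fun p => Nat.beq (lk t79 p) (ev lk w79 p)) = true := by decide +kernel
theorem chk_t79_c29 : allR 27173 937 (fun p => Nat.beq (lk t79 p) (ev lk w79 p)) = true := by decide +kernel
theorem chk_t79_c30 : allR 28110 937 (fun p => Nat.beq (lk t79 p) (ev lk w79 p)) = true := by decide +kernel
theorem chk_t79_c31 : allR 29047 937 (fun p => Nat.beq (lk t79 p) (ev lk w79 p)) = true := by decide +kernel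
theorem chk_t79_c32 : allR 29984 937 (fun p => Nat.beq (lk t79 p) (ev lk w79 p)) = true := by decide +kernel
theorem chk_t79_c33 : allR 30921 750 (fun p => Nat.beq (lk t79 p) (ev lk w79 p)) = true := by decide +kernel
theorem chk_t79 : eqW lk nP t79 w79 = true :=
  eqW_of_chunks lk nP _ _ [(0, 937), (937, 937), (1874, 937), (2811, 937), (3748, 937), (4685, 937), (5622, 937), (6559, 937), (7496, 937), (8433, 937), (9370, 937), (10307, 937), (11244, 937), (12181, 937), (13118, 937), (14055, 937), (14992, 937), (15929, 937), (16866, 937), (17803, 937), (18740, 937), (19677, 937), (20614, 937), (21551, 937), (22488, 937), (23425, 937), (24362, 937), (25299, 937), (26236, 937), (27173, 937), (28110, 937), (29047, 937), (29984, 937), (30921, 750)] (by decide) (AllChunks.cons chk_t79_c0 (AllChunks.cons chk_t79_c1 (AllChunks.cons chk_t79_c2 (AllChunks.cons chk_t79_c3 (AllChunks.cons chk_t79_c4 (AllChunks.cons chk_t79_c5 (AllChunks.cons chk_t79_c6 (AllChunks.cons chk_t79_c7 (AllChunks.cons chk_t79_c8 (AllChunks.cons chk_t79_c9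 (AllChunks.cons chk_t79_c10 (AllChunks.cons chk_t79_c11 (AllChunks.cons chk_t79_c12 (AllChunks.cons chk_t79_c13 (AllChunks.cons chk_t79_c14 (AllChunks.cons chk_t79_c15 (AllChunks.cons chk_t79_c16 (AllChunks.cons chk_t79_c17 (AllChunks.cons chk_t79_c18 (AllChunks.cons chk_t79_c19 (AllChunks.cons chk_t79_c20 (AllChunks.cons chk_t79_c21 (AllChunks.cons chk_t79_c22 (AllChunks.cons chk_t79_c23 (AllChunks.cons chk_t79_c24 (AllChunks.cons chk_t79_c25 (AllChunks.cons chk_t79_c26 (AllChunks.cons chk_t79_c27 (AllChunks.cons chk_t79_c28 (AllChunks.cons chk_t79_c29 (AllChunks.cons chk_t79_c30 (AllChunks.cons chk_t79_c31 (AllChunks.cons chk_t79_c32 (AllChunks.cons chk_t79_c33 (AllChunks.nil)))))))))))))))))))))))))))))))))))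

/-- the word for the coded permutation number 80 -/
noncomputable def w80 : List ℕ := [t19, t19, t20, t22, t18, t18, t14, t18, t38, t42, t43, t42, t42, t30, t58, t49, t53, t56, t47, t55, t51, t65, t61, t61, t65, t69, t68, t67, t67, t68, t70, t76, t77]
theorem chk_t80_c0 : allR 0 882 (fun p => Nat.beq (lk t80 p) (ev lk w80 p)) = true := by decide +kernel
theorem chk_t80_c1 : allR 882 882 (fun p => Nat.beq (lk t80 p) (ev lk w80 p)) = true := by decide +kernel
theorem chk_t80_c2 : allR 1764 882 (fun p => Nat.beq (lk t80 p) (ev lk w80 p)) = true := by decide +kernel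
theorem chk_t80_c3 : allR 2646 882 (fun p => Nat.beq (lk t80 p) (ev lk w80 p)) = true := by decide +kernel
theorem chk_t80_c4 : allR 3528 882 (fun p => Nat.beq (lk t80 p) (ev lk w80 p)) = true := by decide +kernel
theorem chk_t80_c5 : allR 4410 882 (fun p => Nat.beq (lk t80 p) (ev lk w80 p)) = true := by decide +kernel
theorem chk_t80_c6 : allR 5292 882 (fun p => Nat.beq (lk t80 p) (ev lk w80 p)) = true := by decide +kernel
theorem chk_t80_c7 : allR 6174 882 (fun p => Nat.beq (lk t80 p) (ev lk w80 p)) = true := by decide +kernel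
theorem chk_t80_c8 : allR 7056 882 (fun p => Nat.beq (lk t80 p) (ev lk w80 p)) = true := by decide +kernel
theorem chk_t80_c9 : allR 7938 882 (fun p => Nat.beq (lk t80 p) (ev lk w80 p)) = true := by decide +kernel
theorem chk_t80_c10 : allR 8820 882 (fun p => Nat.beq (lk t80 p) (ev lk w80 p)) = true := by decide +kernel
theorem chk_t80_c11 : allR 9702 882 (fun p => Nat.beq (lk t80 p) (ev lk w80 p)) = true := by decide +kernel
theorem chk_t80_c12 : allR 10584 882 (fun p => Nat.beq (lk t80 p) (ev lk w80 p)) = true := by decide +kernel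
theorem chk_t80_c13 : allR 11466 882 (fun p => Nat.beq (lk t80 p) (ev lk w80 p)) = true := by decide +kernel
theorem chk_t80_c14 : allR 12348 882 (fun p => Nat.beq (lk t80 p) (ev lk w80 p)) = true := by decide +kernel
theorem chk_t80_c15 : allR 13230 882 (fun p => Nat.beq (lk t80 p) (ev lk w80 p)) = true := by decide +kernel
theorem chk_t80_c16 : allR 14112 882 (fun p => Nat.beq (lk t80 p) (ev lk w80 p)) = true := by decide +kernel
theorem chk_t80_c17 : allR 14994 882 (fun p => Nat.beq (lk t80 p) (ev lk w80 p)) = true := by decide +kernel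
theorem chk_t80_c18 : allR 15876 882 (fun p => Nat.beq (lk t80 p) (ev lk w80 p)) = true := by decide +kernel
theorem chk_t80_c19 : allR 16758 882 (fun p => Nat.beq (lk t80 p) (ev lk w80 p)) = true := by decide +kernel
theorem chk_t80_c20 : allR 17640 882 (fun p => Nat.beq (lk t80 p) (ev lk w80 p)) = true := by decide +kernel
theorem chk_t80_c21 : allR 18522 882 (fun p => Nat.beq (lk t80 p) (ev lk w80 p)) = true := by decide +kernel
theorem chk_t80_c22 : allR 19404 882 (fun p => Nat.beq (lk t80 p) (ev lk w80 p)) = true := by decide +kernel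
theorem chk_t80_c23 : allR 20286 882 (fun p => Nat.beq (lk t80 p) (ev lk w80 p)) = true := by decide +kernel
theorem chk_t80_c24 : allR 21168 882 (fun p => Nat.beq (lk t80 p) (ev lk w80 p)) = true := by decide +kernel
theorem chk_t80_c25 : allR 22050 882 (fun p => Nat.beq (lk t80 p) (ev lk w80 p)) = true := by decide +kernel
theorem chk_t80_c26 : allR 22932 882 (fun p => Nat.beq (lk t80 p) (ev lk w80 p)) = true := by decide +kernel
theorem chk_t80_c27 : allR 23814 882 (fun p => Nat.beq (lk t80 p) (ev lk w80 p)) = true := by decide +kernel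
theorem chk_t80_c28 : allR 24696 882 (fun p => Nat.beq (lk t80 p) (ev lk w80 p)) = true := by decide +kernel
theorem chk_t80_c29 : allR 25578 882 (fun p => Nat.beq (lk t80 p) (ev lk w80 p)) = true := by decide +kernel
theorem chk_t80_c30 : allR 26460 882 (fun p => Nat.beq (lk t80 p) (ev lk w80 p)) = true := by decide +kernel
theorem chk_t80_c31 : allR 27342 882 (fun p => Nat.beq (lk t80 p) (ev lk w80 p)) = true := by decide +kernel
theorem chk_t80_c32 : allR 28224 882 (fun p => Nat.beq (lk t80 p) (ev lk w80 p)) = true := by decide +kernel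
theorem chk_t80_c33 : allR 29106 882 (fun p => Nat.beq (lk t80 p) (ev lk w80 p)) = true := by decide +kernel
theorem chk_t80_c34 : allR 29988 882 (fun p => Nat.beq (lk t80 p) (ev lk w80 p)) = true := by decide +kernel
theorem chk_t80_c35 : allR 30870 801 (fun p => Nat.beq (lk t80 p) (ev lk w80 p)) = true := by decide +kernel
theorem chk_t80 : eqW lk nP t80 w80 = true :=
  eqW_of_chunks lk nP _ _ [(0, 882), (882, 882), (1764, 882), (2646, 882), (3528, 882), (4410, 882), (5292, 882), (6174, 882), (7056, 882), (7938, 882), (8820, 882), (9702, 882), (10584, 882), (11466, 882), (12348, 882), (13230, 882), (14112, 882), (14994, 882), (15876, 882), (16758, 882), (17640, 882), (18522, 882), (19404, 882), (20286, 882), (21168, 882), (22050, 882), (22932, 882), (23814, 882), (24696, 882), (25578, 882), (26460, 882), (27342, 882), (28224, 882), (29106, 882), (29988, 882), (30870, 801)] (by decide) (AllChunks.cons chk_t80_c0 (AllChunks.cons chk_t80_c1 (AllChunks.cons chk_t80_c2 (AllChunks.cons chk_t80_c3 (AllChunks.cons chk_t80_c4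 (AllChunks.cons chk_t80_c5 (AllChunks.cons chk_t80_c6 (AllChunks.cons chk_t80_c7 (AllChunks.cons chk_t80_c8 (AllChunks.cons chk_t80_c9 (AllChunks.cons chk_t80_c10 (AllChunks.cons chk_t80_c11 (AllChunks.cons chk_t80_c12 (AllChunks.cons chk_t80_c13 (AllChunks.cons chk_t80_c14 (AllChunks.cons chk_t80_c15 (AllChunks.cons chk_t80_c16 (AllChunks.cons chk_t80_c17 (AllChunks.cons chk_t80_c18 (AllChunks.cons chk_t80_c19 (AllChunks.cons chk_t80_c20 (AllChunks.cons chk_t80_c21 (AllChunks.cons chk_t80_c22 (AllChunks.cons chk_t80_c23 (AllChunks.cons chk_t80_c24 (AllChunks.cons chk_t80_c25 (AllChunks.cons chk_t80_c26 (AllChunks.cons chk_t80_c27 (AllChunks.cons chk_t80_c28 (AllChunks.cons chk_t80_c29 (AllChunks.cons chk_t80_c30 (AllChunks.cons chk_t80_c31 (AllChunks.cons chk_t80_c32 (AllChunks.cons chk_t80_c33 (AllChunks.cons chk_t80_c34 (AllChunks.cons chk_t80_c35 (AllChunks.nil)))))))))))))))))))))))))))))))))))))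

/-- the word for the coded permutation number 81 -/
noncomputable def w81 : List ℕ := [t20, t17, t10, t17, t20, t23, t18, t14, t8, t36, t45, t35, t41, t40, t56, t50, t52, t52, t47, t61, t65, t62, t67, t67, t68, t67, t68, t67, t67, t75]
theorem chk_t81_c0 : allR 0 967 (fun p => Nat.beq (lk t81 p) (ev lk w81 p)) = true := by decide +kernel
theorem chk_t81_c1 : allR 967 967 (fun p => Nat.beq (lk t81 p) (ev lk w81 p)) = true := by decide +kernel
theorem chk_t81_c2 : allR 1934 967 (fun p => Nat.beq (lk t81 p) (ev lk w81 p)) = true := by decide +kernel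
theorem chk_t81_c3 : allR 2901 967 (fun p => Nat.beq (lk t81 p) (ev lk w81 p)) = true := by decide +kernel
theorem chk_t81_c4 : allR 3868 967 (fun p => Nat.beq (lk t81 p) (ev lk w81 p)) = true := by decide +kernel
theorem chk_t81_c5 : allR 4835 967 (fun p => Nat.beq (lk t81 p) (ev lk w81 p)) = true := by decide +kernel
theorem chk_t81_c6 : allR 5802 967 (fun p => Nat.beq (lk t81 p) (ev lk w81 p)) = true := by decide +kernel
theorem chk_t81_c7 : allR 6769 967 (fun p => Nat.beq (lk t81 p) (ev lk w81 p)) = true := by decide +kernel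
theorem chk_t81_c8 : allR 7736 967 (fun p => Nat.beq (lk t81 p) (ev lk w81 p)) = true := by decide +kernel
theorem chk_t81_c9 : allR 8703 967 (fun p => Nat.beq (lk t81 p) (ev lk w81 p)) = true := by decide +kernel
theorem chk_t81_c10 : allR 9670 967 (fun p => Nat.beq (lk t81 p) (ev lk w81 p)) = true := by decide +kernel
theorem chk_t81_c11 : allR 10637 967 (fun p => Nat.beq (lk t81 p) (ev lk w81 p)) = true := by decide +kernel
theorem chk_t81_c12 : allR 11604 967 (fun p => Nat.beq (lk t81 p) (ev lk w81 p)) = true := by decide +kernel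
theorem chk_t81_c13 : allR 12571 967 (fun p => Nat.beq (lk t81 p) (ev lk w81 p)) = true := by decide +kernel
theorem chk_t81_c14 : allR 13538 967 (fun p => Nat.beq (lk t81 p) (ev lk w81 p)) = true := by decide +kernel
theorem chk_t81_c15 : allR 14505 967 (fun p => Nat.beq (lk t81 p) (ev lk w81 p)) = true := by decide +kernel
theorem chk_t81_c16 : allR 15472 967 (fun p => Nat.beq (lk t81 p) (ev lk w81 p)) = true := by decide +kernel
theorem chk_t81_c17 : allR 16439 967 (fun p => Nat.beq (lk t81 p) (ev lk w81 p)) = true := by decide +kernel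
theorem chk_t81_c18 : allR 17406 967 (fun p => Nat.beq (lk t81 p) (ev lk w81 p)) = true := by decide +kernel
theorem chk_t81_c19 : allR 18373 967 (fun p => Nat.beq (lk t81 p) (ev lk w81 p)) = true := by decide +kernel
theorem chk_t81_c20 : allR 19340 967 (fun p => Nat.beq (lk t81 p) (ev lk w81 p)) = true := by decide +kernel
theorem chk_t81_c21 : allR 20307 967 (fun p => Nat.beq (lk t81 p) (ev lk w81 p)) = true := by decide +kernel
theorem chk_t81_c22 : allR 21274 967 (fun p => Nat.beq (lk t81 p) (ev lk w81 p)) = true := by decide +kernel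
theorem chk_t81_c23 : allR 22241 967 (fun p => Nat.beq (lk t81 p) (ev lk w81 p)) = true := by decide +kernel
theorem chk_t81_c24 : allR 23208 967 (fun p => Nat.beq (lk t81 p) (ev lk w81 p)) = true := by decide +kernel
theorem chk_t81_c25 : allR 24175 967 (fun p => Nat.beq (lk t81 p) (ev lk w81 p)) = true := by decide +kernel
theorem chk_t81_c26 : allR 25142 967 (fun p => Nat.beq (lk t81 p) (ev lk w81 p)) = true := by decide +kernel
theorem chk_t81_c27 : allR 26109 967 (fun p => Nat.beq (lk t81 p) (ev lk w81 p)) = true := by decide +kernel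
theorem chk_t81_c28 : allR 27076 967 (fun p => Nat.beq (lk t81 p) (ev lk w81 p)) = true := by decide +kernel
theorem chk_t81_c29 : allR 28043 967 (fun p => Nat.beq (lk t81 p) (ev lk w81 p)) = true := by decide +kernel
theorem chk_t81_c30 : allR 29010 967 (fun p => Nat.beq (lk t81 p) (ev lk w81 p)) = true := by decide +kernel
theorem chk_t81_c31 : allR 29977 967 (fun p => Nat.beq (lk t81 p) (ev lk w81 p)) = true := by decide +kernel
theorem chk_t81_c32 : allR 30944 727 (fun p => Nat.beq (lk t81 p) (ev lk w81 p)) = true := by decide +kernel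
theorem chk_t81 : eqW lk nP t81 w81 = true :=
  eqW_of_chunks lk nP _ _ [(0, 967), (967, 967), (1934, 967), (2901, 967), (3868, 967), (4835, 967), (5802, 967), (6769, 967), (7736, 967), (8703, 967), (9670, 967), (10637, 967), (11604, 967), (12571, 967), (13538, 967), (14505, 967), (15472, 967), (16439, 967), (17406, 967), (18373, 967), (19340, 967), (20307, 967), (21274, 967), (22241, 967), (23208, 967), (24175, 967), (25142, 967), (26109, 967), (27076, 967), (28043, 967), (29010, 967), (29977, 967), (30944, 727)] (by decide) (AllChunks.cons chk_t81_c0 (AllChunks.cons chk_t81_c1 (AllChunks.cons chk_t81_c2 (AllChunks.cons chk_t81_c3 (AllChunks.cons chk_t81_c4 (AllChunks.cons chk_t81_c5 (AllChunks.cons chk_t81_c6 (AllChunks.cons chk_t81_c7 (AllChunks.cons chk_t81_c8 (AllChunks.cons chk_t81_c9 (AllChunks.cons chk_t81_c10 (AllChunks.cons chk_t81_c11 (AllChunks.cons chk_t81_c12 (AllChunks.cons chk_t81_c13 (AllChunks.cons chk_t81_c14 (AllChunks.cons chk_t81_c15 (AllChunks.cons chk_t81_c16 (AllChunks.cons chk_t81_c17 (AllChunks.cons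 chk_t81_c18 (AllChunks.cons chk_t81_c19 (AllChunks.cons chk_t81_c20 (AllChunks.cons chk_t81_c21 (AllChunks.cons chk_t81_c22 (AllChunks.cons chk_t81_c23 (AllChunks.cons chk_t81_c24 (AllChunks.cons chk_t81_c25 (AllChunks.cons chk_t81_c26 (AllChunks.cons chk_t81_c27 (AllChunks.cons chk_t81_c28 (AllChunks.cons chk_t81_c29 (AllChunks.cons chk_t81_c30 (AllChunks.cons chk_t81_c31 (AllChunks.cons chk_t81_c32 (AllChunks.nil))))))))))))))))))))))))))))))))))

end Cfsg.Agent.Lib.Helper28.Fi
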