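import Mathlib
import Cfsg.Agent.Lib.Helper28.Fi.Core
import Cfsg.Agent.Lib.Helper28.Fi.Chunk
import Cfsg.Agent.Lib.Helper28.Fi.Tab0
import Cfsg.Agent.Lib.Helper28.Fi.Tab1
import Cfsg.Agent.Lib.Helper28.Fi.Tab2
import Cfsg.Agent.Lib.Helper28.Fi.Tab3
import Cfsg.Agent.Lib.Helper28.Fi.Tab4
import Cfsg.Agent.Lib.Helper28.Fi.Tab5
import Cfsg.Agent.Lib.Helper28.Fi.Tab6
import Cfsg.Agent.Lib.Helper28.Fi.Tab7

set_option autoImplicit false
set_option maxRecDepth 1000000
set_option Elab.async false

/-! Checks that coded permutations are words in earlier ones, part 5 (generated). -/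

namespace Cfsg.Agent.Lib.Helper28.Fi

open Cfsg.Agent.Lib.Helper5.CP Cfsg.Agent.Lib.Helper5.PcP Cfsg.Agent.Lib.Helper12.TC.Fi23o31671
/-- the word for the coded permutation number 82 -/
noncomputable def w82 : List ℕ := [t10, t21, t17, t27, t24, t20, t18, t18, t11, t8, t42, t35, t45, t42, t31, t52, t50, t52, t47, t49, t53, t65, t65, t65, t67, t68, t67, t68, t67, t67, t67, t68, t67, t68, t67, t67, t73, t75, t77]
theorem chk_t82_c0 : allR 0 750 (fun p => Nat.beq (lk t82 p) (ev lk w82 p)) = true := by decide +kernel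
theorem chk_t82_c1 : allR 750 750 (fun p => Nat.beq (lk t82 p) (ev lk w82 p)) = true := by decide +kernel
theorem chk_t82_c2 : allR 1500 750 (fun p => Nat.beq (lk t82 p) (ev lk w82 p)) = true := by decide +kernel
theorem chk_t82_c3 : allR 2250 750 (fun p => Nat.beq (lk t82 p) (ev lk w82 p)) = true := by decide +kernel
theorem chk_t82_c4 : allR 3000 750 (fun p => Nat.beq (lk t82 p) (ev lk w82 p)) = true := by decide +kernel
theorem chk_t82_c5 : allR 3750 750 (fun p => Nat.beq (lk t82 p) (ev lk w82 p)) = true := by decide +kernel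
theorem chk_t82_c6 : allR 4500 750 (fun p => Nat.beq (lk t82 p) (ev lk w82 p)) = true := by decide +kernel
theorem chk_t82_c7 : allR 5250 750 (fun p => Nat.beq (lk t82 p) (ev lk w82 p)) = true := by decide +kernel
theorem chk_t82_c8 : allR 6000 750 (fun p => Nat.beq (lk t82 p) (ev lk w82 p)) = true := by decide +kernel
theorem chk_t82_c9 : allR 6750 750 (fun p => Nat.beq (lk t82 p) (ev lk w82 p)) = true := by decide +kernel
theorem chk_t82_c10 : allR 7500 750 (fun p => Nat.beq (lk t82 p) (ev lk w82 p)) = true := by decide +kernel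
theorem chk_t82_c11 : allR 8250 750 (fun p => Nat.beq (lk t82 p) (ev lk w82 p)) = true := by decide +kernel
theorem chk_t82_c12 : allR 9000 750 (fun p => Nat.beq (lk t82 p) (ev lk w82 p)) = true := by decide +kernel
theorem chk_t82_c13 : allR 9750 750 (fun p => Nat.beq (lk t82 p) (ev lk w82 p)) = true := by decide +kernel
theorem chk_t82_c14 : allR 10500 750 (fun p => Nat.beq (lk t82 p) (ev lk w82 p)) = true := by decide +kernel
theorem chk_t82_c15 : allR 11250 750 (fun p => Nat.beq (lk t82 p) (ev lk w82 p)) = true := by decide +kernel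
theorem chk_t82_c16 : allR 12000 750 (fun p => Nat.beq (lk t82 p) (ev lk w82 p)) = true := by decide +kernel
theorem chk_t82_c17 : allR 12750 750 (fun p => Nat.beq (lk t82 p) (ev lk w82 p)) = true := by decide +kernel
theorem chk_t82_c18 : allR 13500 750 (fun p => Nat.beq (lk t82 p) (ev lk w82 p)) = true := by decide +kernel
theorem chk_t82_c19 : allR 14250 750 (fun p => Nat.beq (lk t82 p) (ev lk w82 p)) = true := by decide +kernel
theorem chk_t82_c20 : allR 15000 750 (fun p => Nat.beq (lk t82 p) (ev lk w82 p)) = true := by decide +kernel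
theorem chk_t82_c21 : allR 15750 750 (fun p => Nat.beq (lk t82 p) (ev lk w82 p)) = true := by decide +kernel
theorem chk_t82_c22 : allR 16500 750 (fun p => Nat.beq (lk t82 p) (ev lk w82 p)) = true := by decide +kernel
theorem chk_t82_c23 : allR 17250 750 (fun p => Nat.beq (lk t82 p) (ev lk w82 p)) = true := by decide +kernel
theorem chk_t82_c24 : allR 18000 750 (fun p => Nat.beq (lk t82 p) (ev lk w82 p)) = true := by decide +kernel
theorem chk_t82_c25 : allR 18750 750 (fun p => Nat.beq (lk t82 p) (ev lk w82 p)) = true := by decide +kernel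
theorem chk_t82_c26 : allR 19500 750 (fun p => Nat.beq (lk t82 p) (ev lk w82 p)) = true := by decide +kernel
theorem chk_t82_c27 : allR 20250 750 (fun p => Nat.beq (lk t82 p) (ev lk w82 p)) = true := by decide +kernel
theorem chk_t82_c28 : allR 21000 750 (fun p => Nat.beq (lk t82 p) (ev lk w82 p)) = true := by decide +kernel
theorem chk_t82_c29 : allR 21750 750 (fun p => Nat.beq (lk t82 p) (ev lk w82 p)) = true := by decide +kernel
theorem chk_t82_c30 : allR 22500 750 (fun p => Nat.beq (lk t82 p) (ev lk w82 p)) = true := by decide +kernel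
theorem chk_t82_c31 : allR 23250 750 (fun p => Nat.beq (lk t82 p) (ev lk w82 p)) = true := by decide +kernel
theorem chk_t82_c32 : allR 24000 750 (fun p => Nat.beq (lk t82 p) (ev lk w82 p)) = true := by decide +kernel
theorem chk_t82_c33 : allR 24750 750 (fun p => Nat.beq (lk t82 p) (ev lk w82 p)) = true := by decide +kernel
theorem chk_t82_c34 : allR 25500 750 (fun p => Nat.beq (lk t82 p) (ev lk w82 p)) = true := by decide +kernel
theorem chk_t82_c35 : allR 26250 750 (fun p => Nat.beq (lk t82 p) (ev lk w82 p)) = true := by decide +kernel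
theorem chk_t82_c36 : allR 27000 750 (fun p => Nat.beq (lk t82 p) (ev lk w82 p)) = true := by decide +kernel
theorem chk_t82_c37 : allR 27750 750 (fun p => Nat.beq (lk t82 p) (ev lk w82 p)) = true := by decide +kernel
theorem chk_t82_c38 : allR 28500 750 (fun p => Nat.beq (lk t82 p) (ev lk w82 p)) = true := by decide +kernel
theorem chk_t82_c39 : allR 29250 750 (fun p => Nat.beq (lk t82 p) (ev lk w82 p)) = true := by decide +kernel
theorem chk_t82_c40 : allR 30000 750 (fun p => Nat.beq (lk t82 p) (ev lk w82 p)) = true := by decide +kernel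
theorem chk_t82_c41 : allR 30750 750 (fun p => Nat.beq (lk t82 p) (ev lk w82 p)) = true := by decide +kernel
theorem chk_t82_c42 : allR 31500 171 (fun p => Nat.beq (lk t82 p) (ev lk w82 p)) = true := by decide +kernel
theorem chk_t82 : eqW lk nP t82 w82 = true :=
  eqW_of_chunks lk nP _ _ [(0, 750), (750, 750), (1500, 750), (2250, 750), (3000, 750), (3750, 750), (4500, 750), (5250, 750), (6000, 750), (6750, 750), (7500, 750), (8250, 750), (9000, 750), (9750, 750), (10500, 750), (11250, 750), (12000, 750), (12750, 750), (13500, 750), (14250, 750), (15000, 750), (15750, 750), (16500, 750), (17250, 750), (18000, 750), (18750, 750), (19500, 750), (20250, 750), (21000, 750), (21750, 750), (22500, 750), (23250, 750), (24000, 750), (24750, 750), (25500, 750), (26250, 750), (27000, 750), (27750, 750), (28500, 750), (29250, 750), (30000, 750), (30750, 750), (31500, 171)] (by decide) (AllChunks.cons chk_t82_c0 (AllChunks.cons chk_t82_c1 (AllChunks.cons chk_t82_c2 (AllChunks.cons chk_t82_c3 (AllChunks.cons chk_t82_c4 (AllChunks.cons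 chk_t82_c5 (AllChunks.cons chk_t82_c6 (AllChunks.cons chk_t82_c7 (AllChunks.cons chk_t82_c8 (AllChunks.cons chk_t82_c9 (AllChunks.cons chk_t82_c10 (AllChunks.cons chk_t82_c11 (AllChunks.cons chk_t82_c12 (AllChunks.cons chk_t82_c13 (AllChunks.cons chk_t82_c14 (AllChunks.cons chk_t82_c15 (AllChunks.cons chk_t82_c16 (AllChunks.cons chk_t82_c17 (AllChunks.cons chk_t82_c18 (AllChunks.cons chk_t82_c19 (AllChunks.cons chk_t82_c20 (AllChunks.cons chk_t82_c21 (AllChunks.cons chk_t82_c22 (AllChunks.cons chk_t82_c23 (AllChunks.cons chk_t82_c24 (AllChunks.cons chk_t82_c25 (AllChunks.cons chk_t82_c26 (AllChunks.cons chk_t82_c27 (AllChunks.cons chk_t82_c28 (AllChunks.cons chk_t82_c29 (AllChunks.cons chk_t82_c30 (AllChunks.cons chk_t82_c31 (AllChunks.cons chk_t82_c32 (AllChunks.cons chk_t82_c33 (AllChunks.cons chk_t82_c34 (AllChunks.cons chk_t82_c35 (AllChunks.cons chk_t82_c36 (AllChunks.cons chk_t82_c37 (AllChunks.cons chk_t82_c38 (AllChunks.cons chk_t82_c39 (AllChunks.cons chk_t82_c40 (AllChunks.cons chk_t82_c41 (AllChunks.cons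 chk_t82_c42 (AllChunks.nil))))))))))))))))))))))))))))))))))))))))))))

/-- the word for the coded permutation number 83 -/
noncomputable def w83 : List ℕ := [t12, t13, t22, t23, t20, t24, t22, t37, t40, t46, t42, t43, t42, t36, t55, t49, t56, t48, t52, t50, t64, t62, t63, t65, t68, t67, t68, t67, t68, t67, t74]
theorem chk_t83_c0 : allR 0 937 (fun p => Nat.beq (lk t83 p) (ev lk w83 p)) = true := by decide +kernel
theorem chk_t83_c1 : allR 937 937 (fun p => Nat.beq (lk t83 p) (ev lk w83 p)) = true := by decide +kernel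
theorem chk_t83_c2 : allR 1874 937 (fun p => Nat.beq (lk t83 p) (ev lk w83 p)) = true := by decide +kernel
theorem chk_t83_c3 : allR 2811 937 (fun p => Nat.beq (lk t83 p) (ev lk w83 p)) = true := by decide +kernel
theorem chk_t83_c4 : allR 3748 937 (fun p => Nat.beq (lk t83 p) (ev lk w83 p)) = true := by decide +kernel
theorem chk_t83_c5 : allR 4685 937 (fun p => Nat.beq (lk t83 p) (ev lk w83 p)) = true := by decide +kernel
theorem chk_t83_c6 : allR 5622 937 (fun p => Nat.beq (lk t83 p) (ev lk w83 p)) = true := by decide +kernel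
theorem chk_t83_c7 : allR 6559 937 (fun p => Nat.beq (lk t83 p) (ev lk w83 p)) = true := by decide +kernel
theorem chk_t83_c8 : allR 7496 937 (fun p => Nat.beq (lk t83 p) (ev lk w83 p)) = true := by decide +kernel
theorem chk_t83_c9 : allR 8433 937 (fun p => Nat.beq (lk t83 p) (ev lk w83 p)) = true := by decide +kernel
theorem chk_t83_c10 : allR 9370 937 (fun p => Nat.beq (lk t83 p) (ev lk w83 p)) = true := by decide +kernel
theorem chk_t83_c11 : allR 10307 937 (fun p => Nat.beq (lk t83 p) (ev lk w83 p)) = true := by decide +kernel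
theorem chk_t83_c12 : allR 11244 937 (fun p => Nat.beq (lk t83 p) (ev lk w83 p)) = true := by decide +kernel
theorem chk_t83_c13 : allR 12181 937 (fun p => Nat.beq (lk t83 p) (ev lk w83 p)) = true := by decide +kernel
theorem chk_t83_c14 : allR 13118 937 (fun p => Nat.beq (lk t83 p) (ev lk w83 p)) = true := by decide +kernel
theorem chk_t83_c15 : allR 14055 937 (fun p => Nat.beq (lk t83 p) (ev lk w83 p)) = true := by decide +kernel
theorem chk_t83_c16 : allR 14992 937 (fun p => Nat.beq (lk t83 p) (ev lk w83 p)) = true := by decide +kernel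
theorem chk_t83_c17 : allR 15929 937 (fun p => Nat.beq (lk t83 p) (ev lk w83 p)) = true := by decide +kernel
theorem chk_t83_c18 : allR 16866 937 (fun p => Nat.beq (lk t83 p) (ev lk w83 p)) = true := by decide +kernel
theorem chk_t83_c19 : allR 17803 937 (fun p => Nat.beq (lk t83 p) (ev lk w83 p)) = true := by decide +kernel
theorem chk_t83_c20 : allR 18740 937 (fun p => Nat.beq (lk t83 p) (ev lk w83 p)) = true := by decide +kernel
theorem chk_t83_c21 : allR 19677 937 (fun p => Nat.beq (lk t83 p) (ev lk w83 p)) = true := by decide +kernel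
theorem chk_t83_c22 : allR 20614 937 (fun p => Nat.beq (lk t83 p) (ev lk w83 p)) = true := by decide +kernel
theorem chk_t83_c23 : allR 21551 937 (fun p => Nat.beq (lk t83 p) (ev lk w83 p)) = true := by decide +kernel
theorem chk_t83_c24 : allR 22488 937 (fun p => Nat.beq (lk t83 p) (ev lk w83 p)) = true := by decide +kernel
theorem chk_t83_c25 : allR 23425 937 (fun p => Nat.beq (lk t83 p) (ev lk w83 p)) = true := by decide +kernel
theorem chk_t83_c26 : allR 24362 937 (fun p => Nat.beq (lk t83 p) (ev lk w83 p)) = true := by decide +kernel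
theorem chk_t83_c27 : allR 25299 937 (fun p => Nat.beq (lk t83 p) (ev lk w83 p)) = true := by decide +kernel
theorem chk_t83_c28 : allR 26236 937 (fun p => Nat.beq (lk t83 p) (ev lk w83 p)) = true := by decide +kernel
theorem chk_t83_c29 : allR 27173 937 (fun p => Nat.beq (lk t83 p) (ev lk w83 p)) = true := by decide +kernel
theorem chk_t83_c30 : allR 28110 937 (fun p => Nat.beq (lk t83 p) (ev lk w83 p)) = true := by decide +kernel
theorem chk_t83_c31 : allR 29047 937 (fun p => Nat.beq (lk t83 p) (ev lk w83 p)) = true := by decide +kernel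
theorem chk_t83_c32 : allR 29984 937 (fun p => Nat.beq (lk t83 p) (ev lk w83 p)) = true := by decide +kernel
theorem chk_t83_c33 : allR 30921 750 (fun p => Nat.beq (lk t83 p) (ev lk w83 p)) = true := by decide +kernel
theorem chk_t83 : eqW lk nP t83 w83 = true :=
  eqW_of_chunks lk nP _ _ [(0, 937), (937, 937), (1874, 937), (2811, 937), (3748, 937), (4685, 937), (5622, 937), (6559, 937), (7496, 937), (8433, 937), (9370, 937), (10307, 937), (11244, 937), (12181, 937), (13118, 937), (14055, 937), (14992, 937), (15929, 937), (16866, 937), (17803, 937), (18740, 937), (19677, 937), (20614, 937), (21551, 937), (22488, 937), (23425, 937), (24362, 937), (25299, 937), (26236, 937), (27173, 937), (28110, 937), (29047, 937), (29984, 937), (30921, 750)] (by decide) (AllChunks.cons chk_t83_c0 (AllChunks.cons chk_t83_c1 (AllChunks.cons chk_t83_c2 (AllChunks.cons chk_t83_c3 (AllChunks.cons chk_t83_c4 (AllChunks.cons chk_t83_c5 (AllChunks.cons chk_t83_c6 (AllChunks.cons chk_t83_c7 (AllChunks.cons chk_t83_c8 (AllChunks.cons chk_t83_c9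 (AllChunks.cons chk_t83_c10 (AllChunks.cons chk_t83_c11 (AllChunks.cons chk_t83_c12 (AllChunks.cons chk_t83_c13 (AllChunks.cons chk_t83_c14 (AllChunks.cons chk_t83_c15 (AllChunks.cons chk_t83_c16 (AllChunks.cons chk_t83_c17 (AllChunks.cons chk_t83_c18 (AllChunks.cons chk_t83_c19 (AllChunks.cons chk_t83_c20 (AllChunks.cons chk_t83_c21 (AllChunks.cons chk_t83_c22 (AllChunks.cons chk_t83_c23 (AllChunks.cons chk_t83_c24 (AllChunks.cons chk_t83_c25 (AllChunks.cons chk_t83_c26 (AllChunks.cons chk_t83_c27 (AllChunks.cons chk_t83_c28 (AllChunks.cons chk_t83_c29 (AllChunks.cons chk_t83_c30 (AllChunks.cons chk_t83_c31 (AllChunks.cons chk_t83_c32 (AllChunks.cons chk_t83_c33 (AllChunks.nil)))))))))))))))))))))))))))))))))))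

/-- the word for the coded permutation number 84 -/
noncomputable def w84 : List ℕ := [t11, t23, t13, t19, t19, t14, t18, t11, t8, t35, t40, t46, t42, t39, t42, t32, t53, t56, t59, t56, t50, t66, t48, t63, t63, t61, t72, t70, t76]
theorem chk_t84_c0 : allR 0 1000 (fun p => Nat.beq (lk t84 p) (ev lk w84 p)) = true := by decide +kernel
theorem chk_t84_c1 : allR 1000 1000 (fun p => Nat.beq (lk t84 p) (ev lk w84 p)) = true := by decide +kernel
theorem chk_t84_c2 : allR 2000 1000 (fun p => Nat.beq (lk t84 p) (ev lk w84 p)) = true := by decide +kernel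
theorem chk_t84_c3 : allR 3000 1000 (fun p => Nat.beq (lk t84 p) (ev lk w84 p)) = true := by decide +kernel
theorem chk_t84_c4 : allR 4000 1000 (fun p => Nat.beq (lk t84 p) (ev lk w84 p)) = true := by decide +kernel
theorem chk_t84_c5 : allR 5000 1000 (fun p => Nat.beq (lk t84 p) (ev lk w84 p)) = true := by decide +kernel
theorem chk_t84_c6 : allR 6000 1000 (fun p => Nat.beq (lk t84 p) (ev lk w84 p)) = true := by decide +kernel
theorem chk_t84_c7 : allR 7000 1000 (fun p => Nat.beq (lk t84 p) (ev lk w84 p)) = true := by decide +kernel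
theorem chk_t84_c8 : allR 8000 1000 (fun p => Nat.beq (lk t84 p) (ev lk w84 p)) = true := by decide +kernel
theorem chk_t84_c9 : allR 9000 1000 (fun p => Nat.beq (lk t84 p) (ev lk w84 p)) = true := by decide +kernel
theorem chk_t84_c10 : allR 10000 1000 (fun p => Nat.beq (lk t84 p) (ev lk w84 p)) = true := by decide +kernel
theorem chk_t84_c11 : allR 11000 1000 (fun p => Nat.beq (lk t84 p) (ev lk w84 p)) = true := by decide +kernel
theorem chk_t84_c12 : allR 12000 1000 (fun p => Nat.beq (lk t84 p) (ev lk w84 p)) = true := by decide +kernel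
theorem chk_t84_c13 : allR 13000 1000 (fun p => Nat.beq (lk t84 p) (ev lk w84 p)) = true := by decide +kernel
theorem chk_t84_c14 : allR 14000 1000 (fun p => Nat.beq (lk t84 p) (ev lk w84 p)) = true := by decide +kernel
theorem chk_t84_c15 : allR 15000 1000 (fun p => Nat.beq (lk t84 p) (ev lk w84 p)) = true := by decide +kernel
theorem chk_t84_c16 : allR 16000 1000 (fun p => Nat.beq (lk t84 p) (ev lk w84 p)) = true := by decide +kernel
theorem chk_t84_c17 : allR 17000 1000 (fun p => Nat.beq (lk t84 p) (ev lk w84 p)) = true := by decide +kernel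
theorem chk_t84_c18 : allR 18000 1000 (fun p => Nat.beq (lk t84 p) (ev lk w84 p)) = true := by decide +kernel
theorem chk_t84_c19 : allR 19000 1000 (fun p => Nat.beq (lk t84 p) (ev lk w84 p)) = true := by decide +kernel
theorem chk_t84_c20 : allR 20000 1000 (fun p => Nat.beq (lk t84 p) (ev lk w84 p)) = true := by decide +kernel
theorem chk_t84_c21 : allR 21000 1000 (fun p => Nat.beq (lk t84 p) (ev lk w84 p)) = true := by decide +kernel
theorem chk_t84_c22 : allR 22000 1000 (fun p => Nat.beq (lk t84 p) (ev lk w84 p)) = true := by decide +kernel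
theorem chk_t84_c23 : allR 23000 1000 (fun p => Nat.beq (lk t84 p) (ev lk w84 p)) = true := by decide +kernel
theorem chk_t84_c24 : allR 24000 1000 (fun p => Nat.beq (lk t84 p) (ev lk w84 p)) = true := by decide +kernel
theorem chk_t84_c25 : allR 25000 1000 (fun p => Nat.beq (lk t84 p) (ev lk w84 p)) = true := by decide +kernel
theorem chk_t84_c26 : allR 26000 1000 (fun p => Nat.beq (lk t84 p) (ev lk w84 p)) = true := by decide +kernel
theorem chk_t84_c27 : allR 27000 1000 (fun p => Nat.beq (lk t84 p) (ev lk w84 p)) = true := by decide +kernel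
theorem chk_t84_c28 : allR 28000 1000 (fun p => Nat.beq (lk t84 p) (ev lk w84 p)) = true := by decide +kernel
theorem chk_t84_c29 : allR 29000 1000 (fun p => Nat.beq (lk t84 p) (ev lk w84 p)) = true := by decide +kernel
theorem chk_t84_c30 : allR 30000 1000 (fun p => Nat.beq (lk t84 p) (ev lk w84 p)) = true := by decide +kernel
theorem chk_t84_c31 : allR 31000 671 (fun p => Nat.beq (lk t84 p) (ev lk w84 p)) = true := by decide +kernel
theorem chk_t84 : eqW lk nP t84 w84 = true :=
  eqW_of_chunks lk nP _ _ [(0, 1000), (1000, 1000), (2000, 1000), (3000, 1000), (4000, 1000), (5000, 1000), (6000, 1000), (7000, 1000), (8000, 1000), (9000, 1000), (10000, 1000), (11000, 1000), (12000, 1000), (13000, 1000), (14000, 1000), (15000, 1000), (16000, 1000), (17000, 1000), (18000, 1000), (19000, 1000), (20000, 1000), (21000, 1000), (22000, 1000), (23000, 1000), (24000, 1000), (25000, 1000), (26000, 1000), (27000, 1000), (28000, 1000), (29000, 1000), (30000, 1000), (31000, 671)] (by decide) (AllChunks.cons chk_t84_c0 (AllChunks.cons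 chk_t84_c1 (AllChunks.cons chk_t84_c2 (AllChunks.cons chk_t84_c3 (AllChunks.cons chk_t84_c4 (AllChunks.cons chk_t84_c5 (AllChunks.cons chk_t84_c6 (AllChunks.cons chk_t84_c7 (AllChunks.cons chk_t84_c8 (AllChunks.cons chk_t84_c9 (AllChunks.cons chk_t84_c10 (AllChunks.cons chk_t84_c11 (AllChunks.cons chk_t84_c12 (AllChunks.cons chk_t84_c13 (AllChunks.cons chk_t84_c14 (AllChunks.cons chk_t84_c15 (AllChunks.cons chk_t84_c16 (AllChunks.cons chk_t84_c17 (AllChunks.cons chk_t84_c18 (AllChunks.cons chk_t84_c19 (AllChunks.cons chk_t84_c20 (AllChunks.cons chk_t84_c21 (AllChunks.cons chk_t84_c22 (AllChunks.cons chk_t84_c23 (AllChunks.cons chk_t84_c24 (AllChunks.cons chk_t84_c25 (AllChunks.cons chk_t84_c26 (AllChunks.cons chk_t84_c27 (AllChunks.cons chk_t84_c28 (AllChunks.cons chk_t84_c29 (AllChunks.cons chk_t84_c30 (AllChunks.cons chk_t84_c31 (AllChunks.nil)))))))))))))))))))))))))))))))))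

end Cfsg.Agent.Lib.Helper28.Fi
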