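import Mathlib
import Cfsg.Agent.Lib.Helper28.Fi.Core
import Cfsg.Agent.Lib.Helper28.Fi.Chunk
import Cfsg.Agent.Lib.Helper28.Fi.Tab0
import Cfsg.Agent.Lib.Helper28.Fi.Tab1
import Cfsg.Agent.Lib.Helper28.Fi.Tab2
import Cfsg.Agent.Lib.Helper28.Fi.Tab3
import Cfsg.Agent.Lib.Helper28.Fi.Tab4
import Cfsg.Agent.Lib.Helper28.Fi.Tab5
import Cfsg.Agent.Lib.Helper28.Fi.Tab6
import Cfsg.Agent.Lib.Helper28.Fi.Tab7

set_option autoImplicit false
set_option maxRecDepth 1000000
set_option Elab.async false

/-! Checks that coded permutations are words in earlier ones, part 6 (generated). -/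

namespace Cfsg.Agent.Lib.Helper28.Fi

open Cfsg.Agent.Lib.Helper5.CP Cfsg.Agent.Lib.Helper5.PcP Cfsg.Agent.Lib.Helper12.TC.Fi23o31671
/-- the word for the coded permutation number 85 -/
noncomputable def w85 : List ℕ := [t14, t25, t24, t21, t24, t19, t10, t16, t35, t43, t42, t42, t39, t31, t49, t56, t47, t47, t49, t53, t65, t65, t51, t61, t61, t69, t68, t69, t68, t67, t72, t75, t77]
theorem chk_t85_c0 : allR 0 882 (fun p => Nat.beq (lk t85 p) (ev lk w85 p)) = true := by decide +kernel
theorem chk_t85_c1 : allR 882 882 (fun p => Nat.beq (lk t85 p) (ev lk w85 p)) = true := by decide +kernel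
theorem chk_t85_c2 : allR 1764 882 (fun p => Nat.beq (lk t85 p) (ev lk w85 p)) = true := by decide +kernel
theorem chk_t85_c3 : allR 2646 882 (fun p => Nat.beq (lk t85 p) (ev lk w85 p)) = true := by decide +kernel
theorem chk_t85_c4 : allR 3528 882 (fun p => Nat.beq (lk t85 p) (ev lk w85 p)) = true := by decide +kernel
theorem chk_t85_c5 : allR 4410 882 (fun p => Nat.beq (lk t85 p) (ev lk w85 p)) = true := by decide +kernel
theorem chk_t85_c6 : allR 5292 882 (fun p => Nat.beq (lk t85 p) (ev lk w85 p)) = true := by decide +kernel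
theorem chk_t85_c7 : allR 6174 882 (fun p => Nat.beq (lk t85 p) (ev lk w85 p)) = true := by decide +kernel
theorem chk_t85_c8 : allR 7056 882 (fun p => Nat.beq (lk t85 p) (ev lk w85 p)) = true := by decide +kernel
theorem chk_t85_c9 : allR 7938 882 (fun p => Nat.beq (lk t85 p) (ev lk w85 p)) = true := by decide +kernel
theorem chk_t85_c10 : allR 8820 882 (fun p => Nat.beq (lk t85 p) (ev lk w85 p)) = true := by decide +kernel
theorem chk_t85_c11 : allR 9702 882 (fun p => Nat.beq (lk t85 p) (ev lk w85 p)) = true := by decide +kernel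
theorem chk_t85_c12 : allR 10584 882 (fun p => Nat.beq (lk t85 p) (ev lk w85 p)) = true := by decide +kernel
theorem chk_t85_c13 : allR 11466 882 (fun p => Nat.beq (lk t85 p) (ev lk w85 p)) = true := by decide +kernel
theorem chk_t85_c14 : allR 12348 882 (fun p => Nat.beq (lk t85 p) (ev lk w85 p)) = true := by decide +kernel
theorem chk_t85_c15 : allR 13230 882 (fun p => Nat.beq (lk t85 p) (ev lk w85 p)) = true := by decide +kernel
theorem chk_t85_c16 : allR 14112 882 (fun p => Nat.beq (lk t85 p) (ev lk w85 p)) = true := by decide +kernel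
theorem chk_t85_c17 : allR 14994 882 (fun p => Nat.beq (lk t85 p) (ev lk w85 p)) = true := by decide +kernel
theorem chk_t85_c18 : allR 15876 882 (fun p => Nat.beq (lk t85 p) (ev lk w85 p)) = true := by decide +kernel
theorem chk_t85_c19 : allR 16758 882 (fun p => Nat.beq (lk t85 p) (ev lk w85 p)) = true := by decide +kernel
theorem chk_t85_c20 : allR 17640 882 (fun p => Nat.beq (lk t85 p) (ev lk w85 p)) = true := by decide +kernel
theorem chk_t85_c21 : allR 18522 882 (fun p => Nat.beq (lk t85 p) (ev lk w85 p)) = true := by decide +kernel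
theorem chk_t85_c22 : allR 19404 882 (fun p => Nat.beq (lk t85 p) (ev lk w85 p)) = true := by decide +kernel
theorem chk_t85_c23 : allR 20286 882 (fun p => Nat.beq (lk t85 p) (ev lk w85 p)) = true := by decide +kernel
theorem chk_t85_c24 : allR 21168 882 (fun p => Nat.beq (lk t85 p) (ev lk w85 p)) = true := by decide +kernel
theorem chk_t85_c25 : allR 22050 882 (fun p => Nat.beq (lk t85 p) (ev lk w85 p)) = true := by decide +kernel
theorem chk_t85_c26 : allR 22932 882 (fun p => Nat.beq (lk t85 p) (ev lk w85 p)) = true := by decide +kernel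
theorem chk_t85_c27 : allR 23814 882 (fun p => Nat.beq (lk t85 p) (ev lk w85 p)) = true := by decide +kernel
theorem chk_t85_c28 : allR 24696 882 (fun p => Nat.beq (lk t85 p) (ev lk w85 p)) = true := by decide +kernel
theorem chk_t85_c29 : allR 25578 882 (fun p => Nat.beq (lk t85 p) (ev lk w85 p)) = true := by decide +kernel
theorem chk_t85_c30 : allR 26460 882 (fun p => Nat.beq (lk t85 p) (ev lk w85 p)) = true := by decide +kernel
theorem chk_t85_c31 : allR 27342 882 (fun p => Nat.beq (lk t85 p) (ev lk w85 p)) = true := by decide +kernel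
theorem chk_t85_c32 : allR 28224 882 (fun p => Nat.beq (lk t85 p) (ev lk w85 p)) = true := by decide +kernel
theorem chk_t85_c33 : allR 29106 882 (fun p => Nat.beq (lk t85 p) (ev lk w85 p)) = true := by decide +kernel
theorem chk_t85_c34 : allR 29988 882 (fun p => Nat.beq (lk t85 p) (ev lk w85 p)) = true := by decide +kernel
theorem chk_t85_c35 : allR 30870 801 (fun p => Nat.beq (lk t85 p) (ev lk w85 p)) = true := by decide +kernel
theorem chk_t85 : eqW lk nP t85 w85 = true :=
  eqW_of_chunks lk nP _ _ [(0, 882), (882, 882), (1764, 882), (2646, 882), (3528, 882), (4410, 882), (5292, 882), (6174, 882), (7056, 882), (7938, 882), (8820, 882), (9702, 882), (10584, 882), (11466, 882), (12348, 882), (13230, 882), (14112, 882), (14994, 882), (15876, 882), (16758, 882), (17640, 882), (18522, 882), (19404, 882), (20286, 882), (21168, 882), (22050, 882), (22932, 882), (23814, 882), (24696, 882), (25578, 882), (26460, 882), (27342, 882), (28224, 882), (29106, 882), (29988, 882), (30870, 801)] (by decide) (AllChunks.cons chk_t85_c0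 (AllChunks.cons chk_t85_c1 (AllChunks.cons chk_t85_c2 (AllChunks.cons chk_t85_c3 (AllChunks.cons chk_t85_c4 (AllChunks.cons chk_t85_c5 (AllChunks.cons chk_t85_c6 (AllChunks.cons chk_t85_c7 (AllChunks.cons chk_t85_c8 (AllChunks.cons chk_t85_c9 (AllChunks.cons chk_t85_c10 (AllChunks.cons chk_t85_c11 (AllChunks.cons chk_t85_c12 (AllChunks.cons chk_t85_c13 (AllChunks.cons chk_t85_c14 (AllChunks.cons chk_t85_c15 (AllChunks.cons chk_t85_c16 (AllChunks.cons chk_t85_c17 (AllChunks.cons chk_t85_c18 (AllChunks.cons chk_t85_c19 (AllChunks.cons chk_t85_c20 (AllChunks.cons chk_t85_c21 (AllChunks.cons chk_t85_c22 (AllChunks.cons chk_t85_c23 (AllChunks.cons chk_t85_c24 (AllChunks.cons chk_t85_c25 (AllChunks.cons chk_t85_c26 (AllChunks.cons chk_t85_c27 (AllChunks.cons chk_t85_c28 (AllChunks.cons chk_t85_c29 (AllChunks.cons chk_t85_c30 (AllChunks.cons chk_t85_c31 (AllChunks.cons chk_t85_c32 (AllChunks.cons chk_t85_c33 (AllChunks.cons chk_t85_c34 (AllChunks.cons chk_t85_c35 (AllChunks.nil)))))))))))))))))))))))))))))))))))))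

/-- the word for the coded permutation number 86 -/
noncomputable def w86 : List ℕ := [t24, t19, t13, t15, t19, t13, t18, t18, t11, t8, t44, t40, t44, t41, t41, t40, t51, t49, t47, t49, t55, t66, t63, t51, t61, t67, t68, t67, t72, t70, t74]
theorem chk_t86_c0 : allR 0 937 (fun p => Nat.beq (lk t86 p) (ev lk w86 p)) = true := by decide +kernel
theorem chk_t86_c1 : allR 937 937 (fun p => Nat.beq (lk t86 p) (ev lk w86 p)) = true := by decide +kernel
theorem chk_t86_c2 : allR 1874 937 (fun p => Nat.beq (lk t86 p) (ev lk w86 p)) = true := by decide +kernel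
theorem chk_t86_c3 : allR 2811 937 (fun p => Nat.beq (lk t86 p) (ev lk w86 p)) = true := by decide +kernel
theorem chk_t86_c4 : allR 3748 937 (fun p => Nat.beq (lk t86 p) (ev lk w86 p)) = true := by decide +kernel
theorem chk_t86_c5 : allR 4685 937 (fun p => Nat.beq (lk t86 p) (ev lk w86 p)) = true := by decide +kernel
theorem chk_t86_c6 : allR 5622 937 (fun p => Nat.beq (lk t86 p) (ev lk w86 p)) = true := by decide +kernel
theorem chk_t86_c7 : allR 6559 937 (fun p => Nat.beq (lk t86 p) (ev lk w86 p)) = true := by decide +kernel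
theorem chk_t86_c8 : allR 7496 937 (fun p => Nat.beq (lk t86 p) (ev lk w86 p)) = true := by decide +kernel
theorem chk_t86_c9 : allR 8433 937 (fun p => Nat.beq (lk t86 p) (ev lk w86 p)) = true := by decide +kernel
theorem chk_t86_c10 : allR 9370 937 (fun p => Nat.beq (lk t86 p) (ev lk w86 p)) = true := by decide +kernel
theorem chk_t86_c11 : allR 10307 937 (fun p => Nat.beq (lk t86 p) (ev lk w86 p)) = true := by decide +kernel
theorem chk_t86_c12 : allR 11244 937 (fun p => Nat.beq (lk t86 p) (ev lk w86 p)) = true := by decide +kernel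
theorem chk_t86_c13 : allR 12181 937 (fun p => Nat.beq (lk t86 p) (ev lk w86 p)) = true := by decide +kernel
theorem chk_t86_c14 : allR 13118 937 (fun p => Nat.beq (lk t86 p) (ev lk w86 p)) = true := by decide +kernel
theorem chk_t86_c15 : allR 14055 937 (fun p => Nat.beq (lk t86 p) (ev lk w86 p)) = true := by decide +kernel
theorem chk_t86_c16 : allR 14992 937 (fun p => Nat.beq (lk t86 p) (ev lk w86 p)) = true := by decide +kernel
theorem chk_t86_c17 : allR 15929 937 (fun p => Nat.beq (lk t86 p) (ev lk w86 p)) = true := by decide +kernel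
theorem chk_t86_c18 : allR 16866 937 (fun p => Nat.beq (lk t86 p) (ev lk w86 p)) = true := by decide +kernel
theorem chk_t86_c19 : allR 17803 937 (fun p => Nat.beq (lk t86 p) (ev lk w86 p)) = true := by decide +kernel
theorem chk_t86_c20 : allR 18740 937 (fun p => Nat.beq (lk t86 p) (ev lk w86 p)) = true := by decide +kernel
theorem chk_t86_c21 : allR 19677 937 (fun p => Nat.beq (lk t86 p) (ev lk w86 p)) = true := by decide +kernel
theorem chk_t86_c22 : allR 20614 937 (fun p => Nat.beq (lk t86 p) (ev lk w86 p)) = true := by decide +kernel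
theorem chk_t86_c23 : allR 21551 937 (fun p => Nat.beq (lk t86 p) (ev lk w86 p)) = true := by decide +kernel
theorem chk_t86_c24 : allR 22488 937 (fun p => Nat.beq (lk t86 p) (ev lk w86 p)) = true := by decide +kernel
theorem chk_t86_c25 : allR 23425 937 (fun p => Nat.beq (lk t86 p) (ev lk w86 p)) = true := by decide +kernel
theorem chk_t86_c26 : allR 24362 937 (fun p => Nat.beq (lk t86 p) (ev lk w86 p)) = true := by decide +kernel
theorem chk_t86_c27 : allR 25299 937 (fun p => Nat.beq (lk t86 p) (ev lk w86 p)) = true := by decide +kernel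
theorem chk_t86_c28 : allR 26236 937 (fun p => Nat.beq (lk t86 p) (ev lk w86 p)) = true := by decide +kernel
theorem chk_t86_c29 : allR 27173 937 (fun p => Nat.beq (lk t86 p) (ev lk w86 p)) = true := by decide +kernel
theorem chk_t86_c30 : allR 28110 937 (fun p => Nat.beq (lk t86 p) (ev lk w86 p)) = true := by decide +kernel
theorem chk_t86_c31 : allR 29047 937 (fun p => Nat.beq (lk t86 p) (ev lk w86 p)) = true := by decide +kernel
theorem chk_t86_c32 : allR 29984 937 (fun p => Nat.beq (lk t86 p) (ev lk w86 p)) = true := by decide +kernel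
theorem chk_t86_c33 : allR 30921 750 (fun p => Nat.beq (lk t86 p) (ev lk w86 p)) = true := by decide +kernel
theorem chk_t86 : eqW lk nP t86 w86 = true :=
  eqW_of_chunks lk nP _ _ [(0, 937), (937, 937), (1874, 937), (2811, 937), (3748, 937), (4685, 937), (5622, 937), (6559, 937), (7496, 937), (8433, 937), (9370, 937), (10307, 937), (11244, 937), (12181, 937), (13118, 937), (14055, 937), (14992, 937), (15929, 937), (16866, 937), (17803, 937), (18740, 937), (19677, 937), (20614, 937), (21551, 937), (22488, 937), (23425, 937), (24362, 937), (25299, 937), (26236, 937), (27173, 937), (28110, 937), (29047, 937), (29984, 937), (30921, 750)] (by decide) (AllChunks.cons chk_t86_c0 (AllChunks.cons chk_t86_c1 (AllChunks.cons chk_t86_c2 (AllChunks.cons chk_t86_c3 (AllChunks.cons chk_t86_c4 (AllChunks.cons chk_t86_c5 (AllChunks.cons chk_t86_c6 (AllChunks.cons chk_t86_c7 (AllChunks.cons chk_t86_c8 (AllChunks.cons chk_t86_c9 (AllChunks.cons chk_t86_c10 (AllChunks.cons chk_t86_c11 (AllChunks.cons chk_t86_c12 (AllChunks.cons chk_t86_c13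 (AllChunks.cons chk_t86_c14 (AllChunks.cons chk_t86_c15 (AllChunks.cons chk_t86_c16 (AllChunks.cons chk_t86_c17 (AllChunks.cons chk_t86_c18 (AllChunks.cons chk_t86_c19 (AllChunks.cons chk_t86_c20 (AllChunks.cons chk_t86_c21 (AllChunks.cons chk_t86_c22 (AllChunks.cons chk_t86_c23 (AllChunks.cons chk_t86_c24 (AllChunks.cons chk_t86_c25 (AllChunks.cons chk_t86_c26 (AllChunks.cons chk_t86_c27 (AllChunks.cons chk_t86_c28 (AllChunks.cons chk_t86_c29 (AllChunks.cons chk_t86_c30 (AllChunks.cons chk_t86_c31 (AllChunks.cons chk_t86_c32 (AllChunks.cons chk_t86_c33 (AllChunks.nil)))))))))))))))))))))))))))))))))))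

/-- the word for the coded permutation number 87 -/
noncomputable def w87 : List ℕ := [t22, t20, t18, t20, t24, t24, t22, t31, t39, t39, t42, t39, t36, t56, t54, t50, t52, t52, t47, t62, t64, t67, t67, t68, t72, t76]
theorem chk_t87_c0 : allR 0 1111 (fun p => Nat.beq (lk t87 p) (ev lk w87 p)) = true := by decide +kernel
theorem chk_t87_c1 : allR 1111 1111 (fun p => Nat.beq (lk t87 p) (ev lk w87 p)) = true := by decide +kernel
theorem chk_t87_c2 : allR 2222 1111 (fun p => Nat.beq (lk t87 p) (ev lk w87 p)) = true := by decide +kernel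
theorem chk_t87_c3 : allR 3333 1111 (fun p => Nat.beq (lk t87 p) (ev lk w87 p)) = true := by decide +kernel
theorem chk_t87_c4 : allR 4444 1111 (fun p => Nat.beq (lk t87 p) (ev lk w87 p)) = true := by decide +kernel
theorem chk_t87_c5 : allR 5555 1111 (fun p => Nat.beq (lk t87 p) (ev lk w87 p)) = true := by decide +kernel
theorem chk_t87_c6 : allR 6666 1111 (fun p => Nat.beq (lk t87 p) (ev lk w87 p)) = true := by decide +kernel
theorem chk_t87_c7 : allR 7777 1111 (fun p => Nat.beq (lk t87 p) (ev lk w87 p)) = true := by decide +kernel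
theorem chk_t87_c8 : allR 8888 1111 (fun p => Nat.beq (lk t87 p) (ev lk w87 p)) = true := by decide +kernel
theorem chk_t87_c9 : allR 9999 1111 (fun p => Nat.beq (lk t87 p) (ev lk w87 p)) = true := by decide +kernel
theorem chk_t87_c10 : allR 11110 1111 (fun p => Nat.beq (lk t87 p) (ev lk w87 p)) = true := by decide +kernel
theorem chk_t87_c11 : allR 12221 1111 (fun p => Nat.beq (lk t87 p) (ev lk w87 p)) = true := by decide +kernel
theorem chk_t87_c12 : allR 13332 1111 (fun p => Nat.beq (lk t87 p) (ev lk w87 p)) = true := by decide +kernel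
theorem chk_t87_c13 : allR 14443 1111 (fun p => Nat.beq (lk t87 p) (ev lk w87 p)) = true := by decide +kernel
theorem chk_t87_c14 : allR 15554 1111 (fun p => Nat.beq (lk t87 p) (ev lk w87 p)) = true := by decide +kernel
theorem chk_t87_c15 : allR 16665 1111 (fun p => Nat.beq (lk t87 p) (ev lk w87 p)) = true := by decide +kernel
theorem chk_t87_c16 : allR 17776 1111 (fun p => Nat.beq (lk t87 p) (ev lk w87 p)) = true := by decide +kernel
theorem chk_t87_c17 : allR 18887 1111 (fun p => Nat.beq (lk t87 p) (ev lk w87 p)) = true := by decide +kernel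
theorem chk_t87_c18 : allR 19998 1111 (fun p => Nat.beq (lk t87 p) (ev lk w87 p)) = true := by decide +kernel
theorem chk_t87_c19 : allR 21109 1111 (fun p => Nat.beq (lk t87 p) (ev lk w87 p)) = true := by decide +kernel
theorem chk_t87_c20 : allR 22220 1111 (fun p => Nat.beq (lk t87 p) (ev lk w87 p)) = true := by decide +kernel
theorem chk_t87_c21 : allR 23331 1111 (fun p => Nat.beq (lk t87 p) (ev lk w87 p)) = true := by decide +kernel
theorem chk_t87_c22 : allR 24442 1111 (fun p => Nat.beq (lk t87 p) (ev lk w87 p)) = true := by decide +kernel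
theorem chk_t87_c23 : allR 25553 1111 (fun p => Nat.beq (lk t87 p) (ev lk w87 p)) = true := by decide +kernel
theorem chk_t87_c24 : allR 26664 1111 (fun p => Nat.beq (lk t87 p) (ev lk w87 p)) = true := by decide +kernel
theorem chk_t87_c25 : allR 27775 1111 (fun p => Nat.beq (lk t87 p) (ev lk w87 p)) = true := by decide +kernel
theorem chk_t87_c26 : allR 28886 1111 (fun p => Nat.beq (lk t87 p) (ev lk w87 p)) = true := by decide +kernel
theorem chk_t87_c27 : allR 29997 1111 (fun p => Nat.beq (lk t87 p) (ev lk w87 p)) = true := by decide +kernel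
theorem chk_t87_c28 : allR 31108 563 (fun p => Nat.beq (lk t87 p) (ev lk w87 p)) = true := by decide +kernel
theorem chk_t87 : eqW lk nP t87 w87 = true :=
  eqW_of_chunks lk nP _ _ [(0, 1111), (1111, 1111), (2222, 1111), (3333, 1111), (4444, 1111), (5555, 1111), (6666, 1111), (7777, 1111), (8888, 1111), (9999, 1111), (11110, 1111), (12221, 1111), (13332, 1111), (14443, 1111), (15554, 1111), (16665, 1111), (17776, 1111), (18887, 1111), (19998, 1111), (21109, 1111), (22220, 1111), (23331, 1111), (24442, 1111), (25553, 1111), (26664, 1111), (27775, 1111), (28886, 1111), (29997, 1111), (31108, 563)] (by decide) (AllChunks.cons chk_t87_c0 (AllChunks.cons chk_t87_c1 (AllChunks.cons chk_t87_c2 (AllChunks.cons chk_t87_c3 (AllChunks.cons chk_t87_c4 (AllChunks.cons chk_t87_c5 (AllChunks.cons chk_t87_c6 (AllChunks.cons chk_t87_c7 (AllChunks.cons chk_t87_c8 (AllChunks.cons chk_t87_c9 (AllChunks.cons chk_t87_c10 (AllChunks.cons chk_t87_c11 (AllChunks.cons chk_t87_c12 (AllChunks.cons chk_t87_c13 (AllChunks.cons chk_t87_c14 (AllChunks.cons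 chk_t87_c15 (AllChunks.cons chk_t87_c16 (AllChunks.cons chk_t87_c17 (AllChunks.cons chk_t87_c18 (AllChunks.cons chk_t87_c19 (AllChunks.cons chk_t87_c20 (AllChunks.cons chk_t87_c21 (AllChunks.cons chk_t87_c22 (AllChunks.cons chk_t87_c23 (AllChunks.cons chk_t87_c24 (AllChunks.cons chk_t87_c25 (AllChunks.cons chk_t87_c26 (AllChunks.cons chk_t87_c27 (AllChunks.cons chk_t87_c28 (AllChunks.nil))))))))))))))))))))))))))))))

end Cfsg.Agent.Lib.Helper28.Fi
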