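import Mathlib
import Cfsg.Agent.Lib.Helper28.Fi.Core
import Cfsg.Agent.Lib.Helper28.Fi.Chunk
import Cfsg.Agent.Lib.Helper28.Fi.Tab0
import Cfsg.Agent.Lib.Helper28.Fi.Tab1
import Cfsg.Agent.Lib.Helper28.Fi.Tab2
import Cfsg.Agent.Lib.Helper28.Fi.Tab3
import Cfsg.Agent.Lib.Helper28.Fi.Tab4
import Cfsg.Agent.Lib.Helper28.Fi.Tab5
import Cfsg.Agent.Lib.Helper28.Fi.Tab6
import Cfsg.Agent.Lib.Helper28.Fi.Tab7

set_option autoImplicit false
set_option maxRecDepth 1000000
set_option Elab.async false

/-! Checks that coded permutations are words in earlier ones, part 8 (generated). -/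

namespace Cfsg.Agent.Lib.Helper28.Fi

open Cfsg.Agent.Lib.Helper5.CP Cfsg.Agent.Lib.Helper5.PcP Cfsg.Agent.Lib.Helper12.TC.Fi23o31671
/-- the word for the coded permutation number 91 -/
noncomputable def w91 : List ℕ := [t25, t11, t15, t13, t19, t19, t22, t1, t44, t37, t41, t43, t34, t58, t56, t47, t61, t65, t61, t61, t69, t68, t69, t68, t67, t70, t76]
theorem chk_t91_c0 : allR 0 1071 (fun p => Nat.beq (lk t91 p) (ev lk w91 p)) = true := by decide +kernel
theorem chk_t91_c1 : allR 1071 1071 (fun p => Nat.beq (lk t91 p) (ev lk w91 p)) = true := by decide +kernel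
theorem chk_t91_c2 : allR 2142 1071 (fun p => Nat.beq (lk t91 p) (ev lk w91 p)) = true := by decide +kernel
theorem chk_t91_c3 : allR 3213 1071 (fun p => Nat.beq (lk t91 p) (ev lk w91 p)) = true := by decide +kernel
theorem chk_t91_c4 : allR 4284 1071 (fun p => Nat.beq (lk t91 p) (ev lk w91 p)) = true := by decide +kernel
theorem chk_t91_c5 : allR 5355 1071 (fun p => Nat.beq (lk t91 p) (ev lk w91 p)) = true := by decide +kernel
theorem chk_t91_c6 : allR 6426 1071 (fun p => Nat.beq (lk t91 p) (ev lk w91 p)) = true := by decide +kernel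
theorem chk_t91_c7 : allR 7497 1071 (fun p => Nat.beq (lk t91 p) (ev lk w91 p)) = true := by decide +kernel
theorem chk_t91_c8 : allR 8568 1071 (fun p => Nat.beq (lk t91 p) (ev lk w91 p)) = true := by decide +kernel
theorem chk_t91_c9 : allR 9639 1071 (fun p => Nat.beq (lk t91 p) (ev lk w91 p)) = true := by decide +kernel
theorem chk_t91_c10 : allR 10710 1071 (fun p => Nat.beq (lk t91 p) (ev lk w91 p)) = true := by decide +kernel
theorem chk_t91_c11 : allR 11781 1071 (fun p => Nat.beq (lk t91 p) (ev lk w91 p)) = true := by decide +kernel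
theorem chk_t91_c12 : allR 12852 1071 (fun p => Nat.beq (lk t91 p) (ev lk w91 p)) = true := by decide +kernel
theorem chk_t91_c13 : allR 13923 1071 (fun p => Nat.beq (lk t91 p) (ev lk w91 p)) = true := by decide +kernel
theorem chk_t91_c14 : allR 14994 1071 (fun p => Nat.beq (lk t91 p) (ev lk w91 p)) = true := by decide +kernel
theorem chk_t91_c15 : allR 16065 1071 (fun p => Nat.beq (lk t91 p) (ev lk w91 p)) = true := by decide +kernel
theorem chk_t91_c16 : allR 17136 1071 (fun p => Nat.beq (lk t91 p) (ev lk w91 p)) = true := by decide +kernel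
theorem chk_t91_c17 : allR 18207 1071 (fun p => Nat.beq (lk t91 p) (ev lk w91 p)) = true := by decide +kernel
theorem chk_t91_c18 : allR 19278 1071 (fun p => Nat.beq (lk t91 p) (ev lk w91 p)) = true := by decide +kernel
theorem chk_t91_c19 : allR 20349 1071 (fun p => Nat.beq (lk t91 p) (ev lk w91 p)) = true := by decide +kernel
theorem chk_t91_c20 : allR 21420 1071 (fun p => Nat.beq (lk t91 p) (ev lk w91 p)) = true := by decide +kernel
theorem chk_t91_c21 : allR 22491 1071 (fun p => Nat.beq (lk t91 p) (ev lk w91 p)) = true := by decide +kernel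
theorem chk_t91_c22 : allR 23562 1071 (fun p => Nat.beq (lk t91 p) (ev lk w91 p)) = true := by decide +kernel
theorem chk_t91_c23 : allR 24633 1071 (fun p => Nat.beq (lk t91 p) (ev lk w91 p)) = true := by decide +kernel
theorem chk_t91_c24 : allR 25704 1071 (fun p => Nat.beq (lk t91 p) (ev lk w91 p)) = true := by decide +kernel
theorem chk_t91_c25 : allR 26775 1071 (fun p => Nat.beq (lk t91 p) (ev lk w91 p)) = true := by decide +kernel
theorem chk_t91_c26 : allR 27846 1071 (fun p => Nat.beq (lk t91 p) (ev lk w91 p)) = true := by decide +kernel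
theorem chk_t91_c27 : allR 28917 1071 (fun p => Nat.beq (lk t91 p) (ev lk w91 p)) = true := by decide +kernel
theorem chk_t91_c28 : allR 29988 1071 (fun p => Nat.beq (lk t91 p) (ev lk w91 p)) = true := by decide +kernel
theorem chk_t91_c29 : allR 31059 612 (fun p => Nat.beq (lk t91 p) (ev lk w91 p)) = true := by decide +kernel
theorem chk_t91 : eqW lk nP t91 w91 = true :=
  eqW_of_chunks lk nP _ _ [(0, 1071), (1071, 1071), (2142, 1071), (3213, 1071), (4284, 1071), (5355, 1071), (6426, 1071), (7497, 1071), (8568, 1071), (9639, 1071), (10710, 1071), (11781, 1071), (12852, 1071), (13923, 1071), (14994, 1071), (16065, 1071), (17136, 1071), (18207, 1071), (19278, 1071), (20349, 1071), (21420, 1071), (22491, 1071), (23562, 1071), (24633, 1071), (25704, 1071), (26775, 1071), (27846, 1071), (28917, 1071), (29988, 1071), (31059, 612)] (by decide) (AllChunks.cons chk_t91_c0 (AllChunks.cons chk_t91_c1 (AllChunks.cons chk_t91_c2 (AllChunks.cons chk_t91_c3 (AllChunks.cons chk_t91_c4 (AllChunks.cons chk_t91_c5 (AllChunks.cons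 chk_t91_c6 (AllChunks.cons chk_t91_c7 (AllChunks.cons chk_t91_c8 (AllChunks.cons chk_t91_c9 (AllChunks.cons chk_t91_c10 (AllChunks.cons chk_t91_c11 (AllChunks.cons chk_t91_c12 (AllChunks.cons chk_t91_c13 (AllChunks.cons chk_t91_c14 (AllChunks.cons chk_t91_c15 (AllChunks.cons chk_t91_c16 (AllChunks.cons chk_t91_c17 (AllChunks.cons chk_t91_c18 (AllChunks.cons chk_t91_c19 (AllChunks.cons chk_t91_c20 (AllChunks.cons chk_t91_c21 (AllChunks.cons chk_t91_c22 (AllChunks.cons chk_t91_c23 (AllChunks.cons chk_t91_c24 (AllChunks.cons chk_t91_c25 (AllChunks.cons chk_t91_c26 (AllChunks.cons chk_t91_c27 (AllChunks.cons chk_t91_c28 (AllChunks.cons chk_t91_c29 (AllChunks.nil)))))))))))))))))))))))))))))))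

/-- the word for the coded permutation number 92 -/
noncomputable def w92 : List ℕ := [t17, t13, t19, t26, t8, t20, t24, t22, t42, t31, t35, t45, t42, t52, t56, t59, t47, t65, t51, t61, t68, t69, t68, t69, t68, t67, t71]
theorem chk_t92_c0 : allR 0 1071 (fun p => Nat.beq (lk t92 p) (ev lk w92 p)) = true := by decide +kernel
theorem chk_t92_c1 : allR 1071 1071 (fun p => Nat.beq (lk t92 p) (ev lk w92 p)) = true := by decide +kernel
theorem chk_t92_c2 : allR 2142 1071 (fun p => Nat.beq (lk t92 p) (ev lk w92 p)) = true := by decide +kernel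
theorem chk_t92_c3 : allR 3213 1071 (fun p => Nat.beq (lk t92 p) (ev lk w92 p)) = true := by decide +kernel
theorem chk_t92_c4 : allR 4284 1071 (fun p => Nat.beq (lk t92 p) (ev lk w92 p)) = true := by decide +kernel
theorem chk_t92_c5 : allR 5355 1071 (fun p => Nat.beq (lk t92 p) (ev lk w92 p)) = true := by decide +kernel
theorem chk_t92_c6 : allR 6426 1071 (fun p => Nat.beq (lk t92 p) (ev lk w92 p)) = true := by decide +kernel
theorem chk_t92_c7 : allR 7497 1071 (fun p => Nat.beq (lk t92 p) (ev lk w92 p)) = true := by decide +kernel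
theorem chk_t92_c8 : allR 8568 1071 (fun p => Nat.beq (lk t92 p) (ev lk w92 p)) = true := by decide +kernel
theorem chk_t92_c9 : allR 9639 1071 (fun p => Nat.beq (lk t92 p) (ev lk w92 p)) = true := by decide +kernel
theorem chk_t92_c10 : allR 10710 1071 (fun p => Nat.beq (lk t92 p) (ev lk w92 p)) = true := by decide +kernel
theorem chk_t92_c11 : allR 11781 1071 (fun p => Nat.beq (lk t92 p) (ev lk w92 p)) = true := by decide +kernel
theorem chk_t92_c12 : allR 12852 1071 (fun p => Nat.beq (lk t92 p) (ev lk w92 p)) = true := by decide +kernel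
theorem chk_t92_c13 : allR 13923 1071 (fun p => Nat.beq (lk t92 p) (ev lk w92 p)) = true := by decide +kernel
theorem chk_t92_c14 : allR 14994 1071 (fun p => Nat.beq (lk t92 p) (ev lk w92 p)) = true := by decide +kernel
theorem chk_t92_c15 : allR 16065 1071 (fun p => Nat.beq (lk t92 p) (ev lk w92 p)) = true := by decide +kernel
theorem chk_t92_c16 : allR 17136 1071 (fun p => Nat.beq (lk t92 p) (ev lk w92 p)) = true := by decide +kernel
theorem chk_t92_c17 : allR 18207 1071 (fun p => Nat.beq (lk t92 p) (ev lk w92 p)) = true := by decide +kernel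
theorem chk_t92_c18 : allR 19278 1071 (fun p => Nat.beq (lk t92 p) (ev lk w92 p)) = true := by decide +kernel
theorem chk_t92_c19 : allR 20349 1071 (fun p => Nat.beq (lk t92 p) (ev lk w92 p)) = true := by decide +kernel
theorem chk_t92_c20 : allR 21420 1071 (fun p => Nat.beq (lk t92 p) (ev lk w92 p)) = true := by decide +kernel
theorem chk_t92_c21 : allR 22491 1071 (fun p => Nat.beq (lk t92 p) (ev lk w92 p)) = true := by decide +kernel
theorem chk_t92_c22 : allR 23562 1071 (fun p => Nat.beq (lk t92 p) (ev lk w92 p)) = true := by decide +kernel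
theorem chk_t92_c23 : allR 24633 1071 (fun p => Nat.beq (lk t92 p) (ev lk w92 p)) = true := by decide +kernel
theorem chk_t92_c24 : allR 25704 1071 (fun p => Nat.beq (lk t92 p) (ev lk w92 p)) = true := by decide +kernel
theorem chk_t92_c25 : allR 26775 1071 (fun p => Nat.beq (lk t92 p) (ev lk w92 p)) = true := by decide +kernel
theorem chk_t92_c26 : allR 27846 1071 (fun p => Nat.beq (lk t92 p) (ev lk w92 p)) = true := by decide +kernel
theorem chk_t92_c27 : allR 28917 1071 (fun p => Nat.beq (lk t92 p) (ev lk w92 p)) = true := by decide +kernel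
theorem chk_t92_c28 : allR 29988 1071 (fun p => Nat.beq (lk t92 p) (ev lk w92 p)) = true := by decide +kernel
theorem chk_t92_c29 : allR 31059 612 (fun p => Nat.beq (lk t92 p) (ev lk w92 p)) = true := by decide +kernel
theorem chk_t92 : eqW lk nP t92 w92 = true :=
  eqW_of_chunks lk nP _ _ [(0, 1071), (1071, 1071), (2142, 1071), (3213, 1071), (4284, 1071), (5355, 1071), (6426, 1071), (7497, 1071), (8568, 1071), (9639, 1071), (10710, 1071), (11781, 1071), (12852, 1071), (13923, 1071), (14994, 1071), (16065, 1071), (17136, 1071), (18207, 1071), (19278, 1071), (20349, 1071), (21420, 1071), (22491, 1071), (23562, 1071), (24633, 1071), (25704, 1071), (26775, 1071), (27846, 1071), (28917, 1071), (29988, 1071), (31059, 612)] (by decide) (AllChunks.cons chk_t92_c0 (AllChunks.cons chk_t92_c1 (AllChunks.cons chk_t92_c2 (AllChunks.cons chk_t92_c3 (AllChunks.cons chk_t92_c4 (AllChunks.cons chk_t92_c5 (AllChunks.cons chk_t92_c6 (AllChunks.cons chk_t92_c7 (AllChunks.cons chk_t92_c8 (AllChunks.cons chk_t92_c9 (AllChunks.cons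 chk_t92_c10 (AllChunks.cons chk_t92_c11 (AllChunks.cons chk_t92_c12 (AllChunks.cons chk_t92_c13 (AllChunks.cons chk_t92_c14 (AllChunks.cons chk_t92_c15 (AllChunks.cons chk_t92_c16 (AllChunks.cons chk_t92_c17 (AllChunks.cons chk_t92_c18 (AllChunks.cons chk_t92_c19 (AllChunks.cons chk_t92_c20 (AllChunks.cons chk_t92_c21 (AllChunks.cons chk_t92_c22 (AllChunks.cons chk_t92_c23 (AllChunks.cons chk_t92_c24 (AllChunks.cons chk_t92_c25 (AllChunks.cons chk_t92_c26 (AllChunks.cons chk_t92_c27 (AllChunks.cons chk_t92_c28 (AllChunks.cons chk_t92_c29 (AllChunks.nil)))))))))))))))))))))))))))))))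

/-- the word for the coded permutation number 93 -/
noncomputable def w93 : List ℕ := [t27, t29, t14, t23, t18, t14, t16, t40, t41, t31, t35, t45, t42, t36, t47, t48, t52, t47, t55, t65, t64, t62, t64, t65, t69, t73, t75, t77]
theorem chk_t93_c0 : allR 0 1034 (fun p => Nat.beq (lk t93 p) (ev lk w93 p)) = true := by decide +kernel
theorem chk_t93_c1 : allR 1034 1034 (fun p => Nat.beq (lk t93 p) (ev lk w93 p)) = true := by decide +kernel
theorem chk_t93_c2 : allR 2068 1034 (fun p => Nat.beq (lk t93 p) (ev lk w93 p)) = true := by decide +kernel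
theorem chk_t93_c3 : allR 3102 1034 (fun p => Nat.beq (lk t93 p) (ev lk w93 p)) = true := by decide +kernel
theorem chk_t93_c4 : allR 4136 1034 (fun p => Nat.beq (lk t93 p) (ev lk w93 p)) = true := by decide +kernel
theorem chk_t93_c5 : allR 5170 1034 (fun p => Nat.beq (lk t93 p) (ev lk w93 p)) = true := by decide +kernel
theorem chk_t93_c6 : allR 6204 1034 (fun p => Nat.beq (lk t93 p) (ev lk w93 p)) = true := by decide +kernel
theorem chk_t93_c7 : allR 7238 1034 (fun p => Nat.beq (lk t93 p) (ev lk w93 p)) = true := by decide +kernel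
theorem chk_t93_c8 : allR 8272 1034 (fun p => Nat.beq (lk t93 p) (ev lk w93 p)) = true := by decide +kernel
theorem chk_t93_c9 : allR 9306 1034 (fun p => Nat.beq (lk t93 p) (ev lk w93 p)) = true := by decide +kernel
theorem chk_t93_c10 : allR 10340 1034 (fun p => Nat.beq (lk t93 p) (ev lk w93 p)) = true := by decide +kernel
theorem chk_t93_c11 : allR 11374 1034 (fun p => Nat.beq (lk t93 p) (ev lk w93 p)) = true := by decide +kernel
theorem chk_t93_c12 : allR 12408 1034 (fun p => Nat.beq (lk t93 p) (ev lk w93 p)) = true := by decide +kernel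
theorem chk_t93_c13 : allR 13442 1034 (fun p => Nat.beq (lk t93 p) (ev lk w93 p)) = true := by decide +kernel
theorem chk_t93_c14 : allR 14476 1034 (fun p => Nat.beq (lk t93 p) (ev lk w93 p)) = true := by decide +kernel
theorem chk_t93_c15 : allR 15510 1034 (fun p => Nat.beq (lk t93 p) (ev lk w93 p)) = true := by decide +kernel
theorem chk_t93_c16 : allR 16544 1034 (fun p => Nat.beq (lk t93 p) (ev lk w93 p)) = true := by decide +kernel
theorem chk_t93_c17 : allR 17578 1034 (fun p => Nat.beq (lk t93 p) (ev lk w93 p)) = true := by decide +kernel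
theorem chk_t93_c18 : allR 18612 1034 (fun p => Nat.beq (lk t93 p) (ev lk w93 p)) = true := by decide +kernel
theorem chk_t93_c19 : allR 19646 1034 (fun p => Nat.beq (lk t93 p) (ev lk w93 p)) = true := by decide +kernel
theorem chk_t93_c20 : allR 20680 1034 (fun p => Nat.beq (lk t93 p) (ev lk w93 p)) = true := by decide +kernel
theorem chk_t93_c21 : allR 21714 1034 (fun p => Nat.beq (lk t93 p) (ev lk w93 p)) = true := by decide +kernel
theorem chk_t93_c22 : allR 22748 1034 (fun p => Nat.beq (lk t93 p) (ev lk w93 p)) = true := by decide +kernel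
theorem chk_t93_c23 : allR 23782 1034 (fun p => Nat.beq (lk t93 p) (ev lk w93 p)) = true := by decide +kernel
theorem chk_t93_c24 : allR 24816 1034 (fun p => Nat.beq (lk t93 p) (ev lk w93 p)) = true := by decide +kernel
theorem chk_t93_c25 : allR 25850 1034 (fun p => Nat.beq (lk t93 p) (ev lk w93 p)) = true := by decide +kernel
theorem chk_t93_c26 : allR 26884 1034 (fun p => Nat.beq (lk t93 p) (ev lk w93 p)) = true := by decide +kernel
theorem chk_t93_c27 : allR 27918 1034 (fun p => Nat.beq (lk t93 p) (ev lk w93 p)) = true := by decide +kernel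
theorem chk_t93_c28 : allR 28952 1034 (fun p => Nat.beq (lk t93 p) (ev lk w93 p)) = true := by decide +kernel
theorem chk_t93_c29 : allR 29986 1034 (fun p => Nat.beq (lk t93 p) (ev lk w93 p)) = true := by decide +kernel
theorem chk_t93_c30 : allR 31020 651 (fun p => Nat.beq (lk t93 p) (ev lk w93 p)) = true := by decide +kernel
theorem chk_t93 : eqW lk nP t93 w93 = true :=
  eqW_of_chunks lk nP _ _ [(0, 1034), (1034, 1034), (2068, 1034), (3102, 1034), (4136, 1034), (5170, 1034), (6204, 1034), (7238, 1034), (8272, 1034), (9306, 1034), (10340, 1034), (11374, 1034), (12408, 1034), (13442, 1034), (14476, 1034), (15510, 1034), (16544, 1034), (17578, 1034), (18612, 1034), (19646, 1034), (20680, 1034), (21714, 1034), (22748, 1034), (23782, 1034), (24816, 1034), (25850, 1034), (26884, 1034), (27918, 1034), (28952, 1034), (29986, 1034), (31020, 651)] (by decide) (AllChunks.cons chk_t93_c0 (AllChunks.cons chk_t93_c1 (AllChunks.cons chk_t93_c2 (AllChunks.cons chk_t93_c3 (AllChunks.cons chk_t93_c4 (AllChunks.cons chk_t93_c5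 (AllChunks.cons chk_t93_c6 (AllChunks.cons chk_t93_c7 (AllChunks.cons chk_t93_c8 (AllChunks.cons chk_t93_c9 (AllChunks.cons chk_t93_c10 (AllChunks.cons chk_t93_c11 (AllChunks.cons chk_t93_c12 (AllChunks.cons chk_t93_c13 (AllChunks.cons chk_t93_c14 (AllChunks.cons chk_t93_c15 (AllChunks.cons chk_t93_c16 (AllChunks.cons chk_t93_c17 (AllChunks.cons chk_t93_c18 (AllChunks.cons chk_t93_c19 (AllChunks.cons chk_t93_c20 (AllChunks.cons chk_t93_c21 (AllChunks.cons chk_t93_c22 (AllChunks.cons chk_t93_c23 (AllChunks.cons chk_t93_c24 (AllChunks.cons chk_t93_c25 (AllChunks.cons chk_t93_c26 (AllChunks.cons chk_t93_c27 (AllChunks.cons chk_t93_c28 (AllChunks.cons chk_t93_c29 (AllChunks.cons chk_t93_c30 (AllChunks.nil))))))))))))))))))))))))))))))))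

end Cfsg.Agent.Lib.Helper28.Fi
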