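import Mathlib
import Cfsg.Agent.Lib.Helper28.Fi.Core
import Cfsg.Agent.Lib.Helper28.Fi.Chunk
import Cfsg.Agent.Lib.Helper28.Fi.Tab0
import Cfsg.Agent.Lib.Helper28.Fi.Tab1
import Cfsg.Agent.Lib.Helper28.Fi.Tab2
import Cfsg.Agent.Lib.Helper28.Fi.Tab3
import Cfsg.Agent.Lib.Helper28.Fi.Tab4
import Cfsg.Agent.Lib.Helper28.Fi.Tab5
import Cfsg.Agent.Lib.Helper28.Fi.Tab6
import Cfsg.Agent.Lib.Helper28.Fi.Tab7
import Cfsg.Agent.Lib.Helper28.Fi.Tab8

set_option autoImplicit false
set_option maxRecDepth 1000000
set_option Elab.async false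

/-! Checks that coded permutations are words in earlier ones, part 9 (generated). -/

namespace Cfsg.Agent.Lib.Helper28.Fi

open Cfsg.Agent.Lib.Helper5.CP Cfsg.Agent.Lib.Helper5.PcP Cfsg.Agent.Lib.Helper12.TC.Fi23o31671
/-- the word for the coded permutation number 94 -/
noncomputable def w94 : List ℕ := [t14, t17, t19, t22, t18, t16, t35, t38, t39, t36, t49, t56, t57, t55, t62, t66, t64, t62, t68, t67, t68, t67, t67, t67, t68, t67, t68, t67, t67, t73, t77]
theorem chk_t94_c0 : allR 0 937 (fun p => Nat.beq (lk t94 p) (ev lk w94 p)) = true := by decide +kernel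
theorem chk_t94_c1 : allR 937 937 (fun p => Nat.beq (lk t94 p) (ev lk w94 p)) = true := by decide +kernel
theorem chk_t94_c2 : allR 1874 937 (fun p => Nat.beq (lk t94 p) (ev lk w94 p)) = true := by decide +kernel
theorem chk_t94_c3 : allR 2811 937 (fun p => Nat.beq (lk t94 p) (ev lk w94 p)) = true := by decide +kernel
theorem chk_t94_c4 : allR 3748 937 (fun p => Nat.beq (lk t94 p) (ev lk w94 p)) = true := by decide +kernel
theorem chk_t94_c5 : allR 4685 937 (fun p => Nat.beq (lk t94 p) (ev lk w94 p)) = true := by decide +kernel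
theorem chk_t94_c6 : allR 5622 937 (fun p => Nat.beq (lk t94 p) (ev lk w94 p)) = true := by decide +kernel
theorem chk_t94_c7 : allR 6559 937 (fun p => Nat.beq (lk t94 p) (ev lk w94 p)) = true := by decide +kernel
theorem chk_t94_c8 : allR 7496 937 (fun p => Nat.beq (lk t94 p) (ev lk w94 p)) = true := by decide +kernel
theorem chk_t94_c9 : allR 8433 937 (fun p => Nat.beq (lk t94 p) (ev lk w94 p)) = true := by decide +kernel
theorem chk_t94_c10 : allR 9370 937 (fun p => Nat.beq (lk t94 p) (ev lk w94 p)) = true := by decide +kernel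
theorem chk_t94_c11 : allR 10307 937 (fun p => Nat.beq (lk t94 p) (ev lk w94 p)) = true := by decide +kernel
theorem chk_t94_c12 : allR 11244 937 (fun p => Nat.beq (lk t94 p) (ev lk w94 p)) = true := by decide +kernel
theorem chk_t94_c13 : allR 12181 937 (fun p => Nat.beq (lk t94 p) (ev lk w94 p)) = true := by decide +kernel
theorem chk_t94_c14 : allR 13118 937 (fun p => Nat.beq (lk t94 p) (ev lk w94 p)) = true := by decide +kernel
theorem chk_t94_c15 : allR 14055 937 (fun p => Nat.beq (lk t94 p) (ev lk w94 p)) = true := by decide +kernel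
theorem chk_t94_c16 : allR 14992 937 (fun p => Nat.beq (lk t94 p) (ev lk w94 p)) = true := by decide +kernel
theorem chk_t94_c17 : allR 15929 937 (fun p => Nat.beq (lk t94 p) (ev lk w94 p)) = true := by decide +kernel
theorem chk_t94_c18 : allR 16866 937 (fun p => Nat.beq (lk t94 p) (ev lk w94 p)) = true := by decide +kernel
theorem chk_t94_c19 : allR 17803 937 (fun p => Nat.beq (lk t94 p) (ev lk w94 p)) = true := by decide +kernel
theorem chk_t94_c20 : allR 18740 937 (fun p => Nat.beq (lk t94 p) (ev lk w94 p)) = true := by decide +kernel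
theorem chk_t94_c21 : allR 19677 937 (fun p => Nat.beq (lk t94 p) (ev lk w94 p)) = true := by decide +kernel
theorem chk_t94_c22 : allR 20614 937 (fun p => Nat.beq (lk t94 p) (ev lk w94 p)) = true := by decide +kernel
theorem chk_t94_c23 : allR 21551 937 (fun p => Nat.beq (lk t94 p) (ev lk w94 p)) = true := by decide +kernel
theorem chk_t94_c24 : allR 22488 937 (fun p => Nat.beq (lk t94 p) (ev lk w94 p)) = true := by decide +kernel
theorem chk_t94_c25 : allR 23425 937 (fun p => Nat.beq (lk t94 p) (ev lk w94 p)) = true := by decide +kernel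
theorem chk_t94_c26 : allR 24362 937 (fun p => Nat.beq (lk t94 p) (ev lk w94 p)) = true := by decide +kernel
theorem chk_t94_c27 : allR 25299 937 (fun p => Nat.beq (lk t94 p) (ev lk w94 p)) = true := by decide +kernel
theorem chk_t94_c28 : allR 26236 937 (fun p => Nat.beq (lk t94 p) (ev lk w94 p)) = true := by decide +kernel
theorem chk_t94_c29 : allR 27173 937 (fun p => Nat.beq (lk t94 p) (ev lk w94 p)) = true := by decide +kernel
theorem chk_t94_c30 : allR 28110 937 (fun p => Nat.beq (lk t94 p) (ev lk w94 p)) = true := by decide +kernel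
theorem chk_t94_c31 : allR 29047 937 (fun p => Nat.beq (lk t94 p) (ev lk w94 p)) = true := by decide +kernel
theorem chk_t94_c32 : allR 29984 937 (fun p => Nat.beq (lk t94 p) (ev lk w94 p)) = true := by decide +kernel
theorem chk_t94_c33 : allR 30921 750 (fun p => Nat.beq (lk t94 p) (ev lk w94 p)) = true := by decide +kernel
theorem chk_t94 : eqW lk nP t94 w94 = true :=
  eqW_of_chunks lk nP _ _ [(0, 937), (937, 937), (1874, 937), (2811, 937), (3748, 937), (4685, 937), (5622, 937), (6559, 937), (7496, 937), (8433, 937), (9370, 937), (10307, 937), (11244, 937), (12181, 937), (13118, 937), (14055, 937), (14992, 937), (15929, 937), (16866, 937), (17803, 937), (18740, 937), (19677, 937), (20614, 937), (21551, 937), (22488, 937), (23425, 937), (24362, 937), (25299, 937), (26236, 937), (27173, 937), (28110, 937), (29047, 937), (29984, 937), (30921, 750)] (by decide) (AllChunks.cons chk_t94_c0 (AllChunks.cons chk_t94_c1 (AllChunks.cons chk_t94_c2 (AllChunks.cons chk_t94_c3 (AllChunks.cons chk_t94_c4 (AllChunks.cons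 chk_t94_c5 (AllChunks.cons chk_t94_c6 (AllChunks.cons chk_t94_c7 (AllChunks.cons chk_t94_c8 (AllChunks.cons chk_t94_c9 (AllChunks.cons chk_t94_c10 (AllChunks.cons chk_t94_c11 (AllChunks.cons chk_t94_c12 (AllChunks.cons chk_t94_c13 (AllChunks.cons chk_t94_c14 (AllChunks.cons chk_t94_c15 (AllChunks.cons chk_t94_c16 (AllChunks.cons chk_t94_c17 (AllChunks.cons chk_t94_c18 (AllChunks.cons chk_t94_c19 (AllChunks.cons chk_t94_c20 (AllChunks.cons chk_t94_c21 (AllChunks.cons chk_t94_c22 (AllChunks.cons chk_t94_c23 (AllChunks.cons chk_t94_c24 (AllChunks.cons chk_t94_c25 (AllChunks.cons chk_t94_c26 (AllChunks.cons chk_t94_c27 (AllChunks.cons chk_t94_c28 (AllChunks.cons chk_t94_c29 (AllChunks.cons chk_t94_c30 (AllChunks.cons chk_t94_c31 (AllChunks.cons chk_t94_c32 (AllChunks.cons chk_t94_c33 (AllChunks.nil)))))))))))))))))))))))))))))))))))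

/-- the word for the coded permutation number 95 -/
noncomputable def w95 : List ℕ := [t19, t25, t18, t11, t8, t40, t41, t40, t49, t47, t56, t47, t65, t61, t61, t61, t67, t68, t69, t68, t69, t69, t70, t76, t77]
theorem chk_t95_c0 : allR 0 1153 (fun p => Nat.beq (lk t95 p) (ev lk w95 p)) = true := by decide +kernel
theorem chk_t95_c1 : allR 1153 1153 (fun p => Nat.beq (lk t95 p) (ev lk w95 p)) = true := by decide +kernel
theorem chk_t95_c2 : allR 2306 1153 (fun p => Nat.beq (lk t95 p) (ev lk w95 p)) = true := by decide +kernel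
theorem chk_t95_c3 : allR 3459 1153 (fun p => Nat.beq (lk t95 p) (ev lk w95 p)) = true := by decide +kernel
theorem chk_t95_c4 : allR 4612 1153 (fun p => Nat.beq (lk t95 p) (ev lk w95 p)) = true := by decide +kernel
theorem chk_t95_c5 : allR 5765 1153 (fun p => Nat.beq (lk t95 p) (ev lk w95 p)) = true := by decide +kernel
theorem chk_t95_c6 : allR 6918 1153 (fun p => Nat.beq (lk t95 p) (ev lk w95 p)) = true := by decide +kernel
theorem chk_t95_c7 : allR 8071 1153 (fun p => Nat.beq (lk t95 p) (ev lk w95 p)) = true := by decide +kernel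
theorem chk_t95_c8 : allR 9224 1153 (fun p => Nat.beq (lk t95 p) (ev lk w95 p)) = true := by decide +kernel
theorem chk_t95_c9 : allR 10377 1153 (fun p => Nat.beq (lk t95 p) (ev lk w95 p)) = true := by decide +kernel
theorem chk_t95_c10 : allR 11530 1153 (fun p => Nat.beq (lk t95 p) (ev lk w95 p)) = true := by decide +kernel
theorem chk_t95_c11 : allR 12683 1153 (fun p => Nat.beq (lk t95 p) (ev lk w95 p)) = true := by decide +kernel
theorem chk_t95_c12 : allR 13836 1153 (fun p => Nat.beq (lk t95 p) (ev lk w95 p)) = true := by decide +kernel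
theorem chk_t95_c13 : allR 14989 1153 (fun p => Nat.beq (lk t95 p) (ev lk w95 p)) = true := by decide +kernel
theorem chk_t95_c14 : allR 16142 1153 (fun p => Nat.beq (lk t95 p) (ev lk w95 p)) = true := by decide +kernel
theorem chk_t95_c15 : allR 17295 1153 (fun p => Nat.beq (lk t95 p) (ev lk w95 p)) = true := by decide +kernel
theorem chk_t95_c16 : allR 18448 1153 (fun p => Nat.beq (lk t95 p) (ev lk w95 p)) = true := by decide +kernel
theorem chk_t95_c17 : allR 19601 1153 (fun p => Nat.beq (lk t95 p) (ev lk w95 p)) = true := by decide +kernel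
theorem chk_t95_c18 : allR 20754 1153 (fun p => Nat.beq (lk t95 p) (ev lk w95 p)) = true := by decide +kernel
theorem chk_t95_c19 : allR 21907 1153 (fun p => Nat.beq (lk t95 p) (ev lk w95 p)) = true := by decide +kernel
theorem chk_t95_c20 : allR 23060 1153 (fun p => Nat.beq (lk t95 p) (ev lk w95 p)) = true := by decide +kernel
theorem chk_t95_c21 : allR 24213 1153 (fun p => Nat.beq (lk t95 p) (ev lk w95 p)) = true := by decide +kernel
theorem chk_t95_c22 : allR 25366 1153 (fun p => Nat.beq (lk t95 p) (ev lk w95 p)) = true := by decide +kernel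
theorem chk_t95_c23 : allR 26519 1153 (fun p => Nat.beq (lk t95 p) (ev lk w95 p)) = true := by decide +kernel
theorem chk_t95_c24 : allR 27672 1153 (fun p => Nat.beq (lk t95 p) (ev lk w95 p)) = true := by decide +kernel
theorem chk_t95_c25 : allR 28825 1153 (fun p => Nat.beq (lk t95 p) (ev lk w95 p)) = true := by decide +kernel
theorem chk_t95_c26 : allR 29978 1153 (fun p => Nat.beq (lk t95 p) (ev lk w95 p)) = true := by decide +kernel
theorem chk_t95_c27 : allR 31131 540 (fun p => Nat.beq (lk t95 p) (ev lk w95 p)) = true := by decide +kernel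
theorem chk_t95 : eqW lk nP t95 w95 = true :=
  eqW_of_chunks lk nP _ _ [(0, 1153), (1153, 1153), (2306, 1153), (3459, 1153), (4612, 1153), (5765, 1153), (6918, 1153), (8071, 1153), (9224, 1153), (10377, 1153), (11530, 1153), (12683, 1153), (13836, 1153), (14989, 1153), (16142, 1153), (17295, 1153), (18448, 1153), (19601, 1153), (20754, 1153), (21907, 1153), (23060, 1153), (24213, 1153), (25366, 1153), (26519, 1153), (27672, 1153), (28825, 1153), (29978, 1153), (31131, 540)] (by decide) (AllChunks.cons chk_t95_c0 (AllChunks.cons chk_t95_c1 (AllChunks.cons chk_t95_c2 (AllChunks.cons chk_t95_c3 (AllChunks.cons chk_t95_c4 (AllChunks.cons chk_t95_c5 (AllChunks.cons chk_t95_c6 (AllChunks.cons chk_t95_c7 (AllChunks.cons chk_t95_c8 (AllChunks.cons chk_t95_c9 (AllChunks.cons chk_t95_c10 (AllChunks.cons chk_t95_c11 (AllChunks.cons chk_t95_c12 (AllChunks.cons chk_t95_c13 (AllChunks.cons chk_t95_c14 (AllChunks.cons chk_t95_c15 (AllChunks.cons chk_t95_c16 (AllChunks.cons chk_t95_c17 (AllChunks.cons chk_t95_c18 (AllChunks.cons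 chk_t95_c19 (AllChunks.cons chk_t95_c20 (AllChunks.cons chk_t95_c21 (AllChunks.cons chk_t95_c22 (AllChunks.cons chk_t95_c23 (AllChunks.cons chk_t95_c24 (AllChunks.cons chk_t95_c25 (AllChunks.cons chk_t95_c26 (AllChunks.cons chk_t95_c27 (AllChunks.nil)))))))))))))))))))))))))))))

/-- the word for the coded permutation number 96 -/
noncomputable def w96 : List ℕ := [t20, t5, t22, t18, t16, t40, t31, t39, t39, t42, t42, t44, t55, t52, t56, t60, t51, t65, t68, t69, t68, t67, t67, t68, t67, t68, t73, t76]
theorem chk_t96_c0 : allR 0 1034 (fun p => Nat.beq (lk t96 p) (ev lk w96 p)) = true := by decide +kernel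
theorem chk_t96_c1 : allR 1034 1034 (fun p => Nat.beq (lk t96 p) (ev lk w96 p)) = true := by decide +kernel
theorem chk_t96_c2 : allR 2068 1034 (fun p => Nat.beq (lk t96 p) (ev lk w96 p)) = true := by decide +kernel
theorem chk_t96_c3 : allR 3102 1034 (fun p => Nat.beq (lk t96 p) (ev lk w96 p)) = true := by decide +kernel
theorem chk_t96_c4 : allR 4136 1034 (fun p => Nat.beq (lk t96 p) (ev lk w96 p)) = true := by decide +kernel
theorem chk_t96_c5 : allR 5170 1034 (fun p => Nat.beq (lk t96 p) (ev lk w96 p)) = true := by decide +kernel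
theorem chk_t96_c6 : allR 6204 1034 (fun p => Nat.beq (lk t96 p) (ev lk w96 p)) = true := by decide +kernel
theorem chk_t96_c7 : allR 7238 1034 (fun p => Nat.beq (lk t96 p) (ev lk w96 p)) = true := by decide +kernel
theorem chk_t96_c8 : allR 8272 1034 (fun p => Nat.beq (lk t96 p) (ev lk w96 p)) = true := by decide +kernel
theorem chk_t96_c9 : allR 9306 1034 (fun p => Nat.beq (lk t96 p) (ev lk w96 p)) = true := by decide +kernel
theorem chk_t96_c10 : allR 10340 1034 (fun p => Nat.beq (lk t96 p) (ev lk w96 p)) = true := by decide +kernel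
theorem chk_t96_c11 : allR 11374 1034 (fun p => Nat.beq (lk t96 p) (ev lk w96 p)) = true := by decide +kernel
theorem chk_t96_c12 : allR 12408 1034 (fun p => Nat.beq (lk t96 p) (ev lk w96 p)) = true := by decide +kernel
theorem chk_t96_c13 : allR 13442 1034 (fun p => Nat.beq (lk t96 p) (ev lk w96 p)) = true := by decide +kernel
theorem chk_t96_c14 : allR 14476 1034 (fun p => Nat.beq (lk t96 p) (ev lk w96 p)) = true := by decide +kernel
theorem chk_t96_c15 : allR 15510 1034 (fun p => Nat.beq (lk t96 p) (ev lk w96 p)) = true := by decide +kernel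
theorem chk_t96_c16 : allR 16544 1034 (fun p => Nat.beq (lk t96 p) (ev lk w96 p)) = true := by decide +kernel
theorem chk_t96_c17 : allR 17578 1034 (fun p => Nat.beq (lk t96 p) (ev lk w96 p)) = true := by decide +kernel
theorem chk_t96_c18 : allR 18612 1034 (fun p => Nat.beq (lk t96 p) (ev lk w96 p)) = true := by decide +kernel
theorem chk_t96_c19 : allR 19646 1034 (fun p => Nat.beq (lk t96 p) (ev lk w96 p)) = true := by decide +kernel
theorem chk_t96_c20 : allR 20680 1034 (fun p => Nat.beq (lk t96 p) (ev lk w96 p)) = true := by decide +kernel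
theorem chk_t96_c21 : allR 21714 1034 (fun p => Nat.beq (lk t96 p) (ev lk w96 p)) = true := by decide +kernel
theorem chk_t96_c22 : allR 22748 1034 (fun p => Nat.beq (lk t96 p) (ev lk w96 p)) = true := by decide +kernel
theorem chk_t96_c23 : allR 23782 1034 (fun p => Nat.beq (lk t96 p) (ev lk w96 p)) = true := by decide +kernel
theorem chk_t96_c24 : allR 24816 1034 (fun p => Nat.beq (lk t96 p) (ev lk w96 p)) = true := by decide +kernel
theorem chk_t96_c25 : allR 25850 1034 (fun p => Nat.beq (lk t96 p) (ev lk w96 p)) = true := by decide +kernel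
theorem chk_t96_c26 : allR 26884 1034 (fun p => Nat.beq (lk t96 p) (ev lk w96 p)) = true := by decide +kernel
theorem chk_t96_c27 : allR 27918 1034 (fun p => Nat.beq (lk t96 p) (ev lk w96 p)) = true := by decide +kernel
theorem chk_t96_c28 : allR 28952 1034 (fun p => Nat.beq (lk t96 p) (ev lk w96 p)) = true := by decide +kernel
theorem chk_t96_c29 : allR 29986 1034 (fun p => Nat.beq (lk t96 p) (ev lk w96 p)) = true := by decide +kernel
theorem chk_t96_c30 : allR 31020 651 (fun p => Nat.beq (lk t96 p) (ev lk w96 p)) = true := by decide +kernel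
theorem chk_t96 : eqW lk nP t96 w96 = true :=
  eqW_of_chunks lk nP _ _ [(0, 1034), (1034, 1034), (2068, 1034), (3102, 1034), (4136, 1034), (5170, 1034), (6204, 1034), (7238, 1034), (8272, 1034), (9306, 1034), (10340, 1034), (11374, 1034), (12408, 1034), (13442, 1034), (14476, 1034), (15510, 1034), (16544, 1034), (17578, 1034), (18612, 1034), (19646, 1034), (20680, 1034), (21714, 1034), (22748, 1034), (23782, 1034), (24816, 1034), (25850, 1034), (26884, 1034), (27918, 1034), (28952, 1034), (29986, 1034), (31020, 651)] (by decide) (AllChunks.cons chk_t96_c0 (AllChunks.cons chk_t96_c1 (AllChunks.cons chk_t96_c2 (AllChunks.cons chk_t96_c3 (AllChunks.cons chk_t96_c4 (AllChunks.cons chk_t96_c5 (AllChunks.cons chk_t96_c6 (AllChunks.cons chk_t96_c7 (AllChunks.cons chk_t96_c8 (AllChunks.cons chk_t96_c9 (AllChunks.cons chk_t96_c10 (AllChunks.cons chk_t96_c11 (AllChunks.cons chk_t96_c12 (AllChunks.cons chk_t96_c13 (AllChunks.cons chk_t96_c14 (AllChunks.cons chk_t96_c15 (AllChunks.cons chk_t96_c16 (AllChunks.cons chk_t96_c17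 (AllChunks.cons chk_t96_c18 (AllChunks.cons chk_t96_c19 (AllChunks.cons chk_t96_c20 (AllChunks.cons chk_t96_c21 (AllChunks.cons chk_t96_c22 (AllChunks.cons chk_t96_c23 (AllChunks.cons chk_t96_c24 (AllChunks.cons chk_t96_c25 (AllChunks.cons chk_t96_c26 (AllChunks.cons chk_t96_c27 (AllChunks.cons chk_t96_c28 (AllChunks.cons chk_t96_c29 (AllChunks.cons chk_t96_c30 (AllChunks.nil))))))))))))))))))))))))))))))))

end Cfsg.Agent.Lib.Helper28.Fi
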