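import Mathlib
import Cfsg.Agent.Lib.Helper28.Fi.Rep0
import Cfsg.Agent.Lib.Helper28.Fi.Rep1
import Cfsg.Agent.Lib.Helper28.Fi.Rep2
import Cfsg.Agent.Lib.Helper28.Fi.Rep3
import Cfsg.Agent.Lib.Helper28.Fi.Rep4
import Cfsg.Agent.Lib.Helper28.Fi.Rep5
import Cfsg.Agent.Lib.Helper28.Fi.Rep6
import Cfsg.Agent.Lib.Helper28.Fi.Rep7
import Cfsg.Agent.Lib.Helper28.Fi.Rep8
import Cfsg.Agent.Lib.Helper28.Fi.Rep9
import Cfsg.Agent.Lib.Helper28.Fi.Rep10
import Cfsg.Agent.Lib.Helper28.Fi.Rep11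
import Cfsg.Agent.Lib.Helper28.Fi.Rep12
import Cfsg.Agent.Lib.Helper28.Fi.Rep13
import Cfsg.Agent.Lib.Helper28.Fi.Rep14
import Cfsg.Agent.Lib.Helper28.Fi.Rep15
import Cfsg.Agent.Lib.Helper28.Fi.Rep16
import Cfsg.Agent.Lib.Helper28.Fi.Rep17
import Cfsg.Agent.Lib.Helper28.Fi.Lists

set_option autoImplicit false
set_option maxRecDepth 1000000
set_option Elab.async false

/-! The coded permutations represent elements of the group (generated). -/

namespace Cfsg.Agent.Lib.Helper28.Fi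

open Cfsg.Agent.Lib.Helper5.CP Cfsg.Agent.Lib.Helper5.PcP Cfsg.Agent.Lib.Helper12.TC.Fi23o31671
variable {H : Subgroup (Equiv.Perm (Fin nP))}

theorem el_t0 (hH : GenHyp H) : IsEl H t0 := isEl_of_gen hH t0 0 (by decide) chk_t0
theorem el_t1 (hH : GenHyp H) : IsEl H t1 := isEl_of_gen hH t1 1 (by decide) chk_t1
theorem el_t2 (hH : GenHyp H) : IsEl H t2 := isEl_of_gen hH t2 2 (by decide) chk_t2
theorem el_t3 (hH : GenHyp H) : IsEl H t3 := isEl_of_gen hH t3 3 (by decide) chk_t3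
theorem el_t4 (hH : GenHyp H) : IsEl H t4 := isEl_of_gen hH t4 4 (by decide) chk_t4
theorem el_t5 (hH : GenHyp H) : IsEl H t5 := isEl_of_gen hH t5 5 (by decide) chk_t5
theorem el_t6 (hH : GenHyp H) : IsEl H t6 := isEl_of_gen hH t6 6 (by decide) chk_t6
theorem el_t7 (hH : GenHyp H) : IsEl H t7 := isEl_of_gen hH t7 7 (by decide) chk_t7
theorem el_t8 (hH : GenHyp H) : IsEl H t8 := isEl_of_gen hH t8 8 (by decide) chk_t8
theorem el_t9 (hH : GenHyp H) : IsEl H t9 := isEl_of_gen hH t9 9 (by decide) chk_t9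
theorem el_t10 (hH : GenHyp H) : IsEl H t10 :=
  isEl_of_word t10 w10 (allEl_cons (el_t2 hH) (allEl_cons (el_t9 hH) (allEl_cons (el_t1 hH) (allEl_cons (el_t4 hH) (allEl_cons (el_t1 hH) (allEl_cons (el_t7 hH) (allEl_cons (el_t7 hH) (allEl_cons (el_t7 hH) (allEl_nil H))))))))) chk_t10
theorem el_t11 (hH : GenHyp H) : IsEl H t11 :=
  isEl_of_word t11 w11 (allEl_cons (el_t6 hH) (allEl_cons (el_t3 hH) (allEl_cons (el_t1 hH) (allEl_cons (el_t7 hH) (allEl_cons (el_t0 hH) (allEl_cons (el_t6 hH) (allEl_cons (el_t6 hH) (allEl_cons (el_t9 hH) (allEl_nil H))))))))) chk_t11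
theorem el_t12 (hH : GenHyp H) : IsEl H t12 := isEl_of_inv t12 t11 (el_t11 hH) chk_t12
theorem el_t13 (hH : GenHyp H) : IsEl H t13 :=
  isEl_of_word t13 w13 (allEl_cons (el_t0 hH) (allEl_cons (el_t7 hH) (allEl_cons (el_t4 hH) (allEl_cons (el_t3 hH) (allEl_cons (el_t9 hH) (allEl_cons (el_t1 hH) (allEl_cons (el_t5 hH) (allEl_cons (el_t0 hH) (allEl_nil H))))))))) chk_t13
theorem el_t14 (hH : GenHyp H) : IsEl H t14 := isEl_of_inv t14 t13 (el_t13 hH) chk_t14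
theorem el_t15 (hH : GenHyp H) : IsEl H t15 :=
  isEl_of_word t15 w15 (allEl_cons (el_t0 hH) (allEl_cons (el_t0 hH) (allEl_cons (el_t8 hH) (allEl_cons (el_t0 hH) (allEl_cons (el_t6 hH) (allEl_cons (el_t3 hH) (allEl_cons (el_t6 hH) (allEl_cons (el_t0 hH) (allEl_nil H))))))))) chk_t15
theorem el_t16 (hH : GenHyp H) : IsEl H t16 := isEl_of_inv t16 t15 (el_t15 hH) chk_t16
theorem el_t17 (hH : GenHyp H) : IsEl H t17 :=
  isEl_of_word t17 w17 (allEl_cons (el_t8 hH) (allEl_cons (el_t3 hH) (allEl_cons (el_t7 hH) (allEl_cons (el_t7 hH) (allEl_cons (el_t8 hH) (allEl_cons (el_t3 hH) (allEl_cons (el_t5 hH) (allEl_cons (el_t3 hH) (allEl_nil H))))))))) chk_t17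
theorem el_t18 (hH : GenHyp H) : IsEl H t18 :=
  isEl_of_word t18 w18 (allEl_cons (el_t3 hH) (allEl_cons (el_t7 hH) (allEl_cons (el_t4 hH) (allEl_cons (el_t0 hH) (allEl_cons (el_t6 hH) (allEl_cons (el_t8 hH) (allEl_cons (el_t1 hH) (allEl_cons (el_t2 hH) (allEl_nil H))))))))) chk_t18
theorem el_t19 (hH : GenHyp H) : IsEl H t19 := isEl_of_inv t19 t18 (el_t18 hH) chk_t19
theorem el_t20 (hH : GenHyp H) : IsEl H t20 :=
  isEl_of_word t20 w20 (allEl_cons (el_t4 hH) (allEl_cons (el_t1 hH) (allEl_cons (el_t5 hH) (allEl_cons (el_t8 hH) (allEl_cons (el_t6 hH) (allEl_cons (el_t8 hH) (allEl_cons (el_t3 hH) (allEl_cons (el_t4 hH) (allEl_nil H))))))))) chk_t20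
theorem el_t21 (hH : GenHyp H) : IsEl H t21 := isEl_of_inv t21 t20 (el_t20 hH) chk_t21
theorem el_t22 (hH : GenHyp H) : IsEl H t22 :=
  isEl_of_word t22 w22 (allEl_cons (el_t4 hH) (allEl_cons (el_t9 hH) (allEl_cons (el_t7 hH) (allEl_cons (el_t8 hH) (allEl_cons (el_t6 hH) (allEl_cons (el_t9 hH) (allEl_cons (el_t0 hH) (allEl_cons (el_t7 hH) (allEl_nil H))))))))) chk_t22
theorem el_t23 (hH : GenHyp H) : IsEl H t23 :=
  isEl_of_word t23 w23 (allEl_cons (el_t3 hH) (allEl_cons (el_t6 hH) (allEl_cons (el_t6 hH) (allEl_cons (el_t2 hH) (allEl_cons (el_t5 hH) (allEl_cons (el_t8 hH) (allEl_cons (el_t5 hH) (allEl_cons (el_t1 hH) (allEl_nil H))))))))) chk_t23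
theorem el_t24 (hH : GenHyp H) : IsEl H t24 := isEl_of_inv t24 t23 (el_t23 hH) chk_t24
theorem el_t25 (hH : GenHyp H) : IsEl H t25 :=
  isEl_of_word t25 w25 (allEl_cons (el_t7 hH) (allEl_cons (el_t8 hH) (allEl_cons (el_t1 hH) (allEl_cons (el_t2 hH) (allEl_cons (el_t8 hH) (allEl_cons (el_t6 hH) (allEl_cons (el_t5 hH) (allEl_cons (el_t7 hH) (allEl_nil H))))))))) chk_t25
theorem el_t26 (hH : GenHyp H) : IsEl H t26 := isEl_of_inv t26 t25 (el_t25 hH) chk_t26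
theorem el_t27 (hH : GenHyp H) : IsEl H t27 :=
  isEl_of_word t27 w27 (allEl_cons (el_t0 hH) (allEl_cons (el_t7 hH) (allEl_cons (el_t0 hH) (allEl_cons (el_t4 hH) (allEl_cons (el_t9 hH) (allEl_cons (el_t9 hH) (allEl_cons (el_t9 hH) (allEl_cons (el_t6 hH) (allEl_nil H))))))))) chk_t27
theorem el_t28 (hH : GenHyp H) : IsEl H t28 := isEl_of_inv t28 t27 (el_t27 hH) chk_t28
theorem el_t29 (hH : GenHyp H) : IsEl H t29 :=
  isEl_of_word t29 w29 (allEl_cons (el_t2 hH) (allEl_cons (el_t2 hH) (allEl_cons (el_t8 hH) (allEl_cons (el_t3 hH) (allEl_cons (el_t0 hH) (allEl_cons (el_t3 hH) (allEl_cons (el_t8 hH) (allEl_cons (el_t8 hH) (allEl_nil H))))))))) chk_t29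
theorem el_t30 (hH : GenHyp H) : IsEl H t30 :=
  isEl_of_word t30 w30 (allEl_cons (el_t15 hH) (allEl_cons (el_t20 hH) (allEl_cons (el_t29 hH) (allEl_cons (el_t8 hH) (allEl_cons (el_t21 hH) (allEl_cons (el_t17 hH) (allEl_nil H))))))) chk_t30
theorem el_t31 (hH : GenHyp H) : IsEl H t31 :=
  isEl_of_word t31 w31 (allEl_cons (el_t24 hH) (allEl_cons (el_t23 hH) (allEl_cons (el_t0 hH) (allEl_cons (el_t12 hH) (allEl_cons (el_t25 hH) (allEl_nil H)))))) chk_t31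
theorem el_t32 (hH : GenHyp H) : IsEl H t32 :=
  isEl_of_word t32 w32 (allEl_cons (el_t0 hH) (allEl_cons (el_t22 hH) (allEl_cons (el_t26 hH) (allEl_cons (el_t28 hH) (allEl_cons (el_t23 hH) (allEl_cons (el_t16 hH) (allEl_nil H))))))) chk_t32
theorem el_t33 (hH : GenHyp H) : IsEl H t33 := isEl_of_inv t33 t31 (el_t31 hH) chk_t33
theorem el_t34 (hH : GenHyp H) : IsEl H t34 := isEl_of_inv t34 t32 (el_t32 hH) chk_t34
theorem el_t35 (hH : GenHyp H) : IsEl H t35 :=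
  isEl_of_word t35 w35 (allEl_cons (el_t31 hH) (allEl_cons (el_t34 hH) (allEl_nil H))) chk_t35
theorem el_t36 (hH : GenHyp H) : IsEl H t36 := isEl_of_inv t36 t35 (el_t35 hH) chk_t36
theorem el_t37 (hH : GenHyp H) : IsEl H t37 :=
  isEl_of_word t37 w37 (allEl_cons (el_t34 hH) (allEl_cons (el_t31 hH) (allEl_nil H))) chk_t37
theorem el_t38 (hH : GenHyp H) : IsEl H t38 := isEl_of_inv t38 t37 (el_t37 hH) chk_t38
theorem el_t39 (hH : GenHyp H) : IsEl H t39 :=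
  isEl_of_word t39 w39 (allEl_cons (el_t32 hH) (allEl_cons (el_t30 hH) (allEl_nil H))) chk_t39
theorem el_t40 (hH : GenHyp H) : IsEl H t40 := isEl_of_inv t40 t39 (el_t39 hH) chk_t40
theorem el_t41 (hH : GenHyp H) : IsEl H t41 :=
  isEl_of_word t41 w41 (allEl_cons (el_t34 hH) (allEl_cons (el_t34 hH) (allEl_nil H))) chk_t41
theorem el_t42 (hH : GenHyp H) : IsEl H t42 := isEl_of_inv t42 t41 (el_t41 hH) chk_t42
theorem el_t43 (hH : GenHyp H) : IsEl H t43 :=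
  isEl_of_word t43 w43 (allEl_cons (el_t33 hH) (allEl_cons (el_t30 hH) (allEl_nil H))) chk_t43
theorem el_t44 (hH : GenHyp H) : IsEl H t44 := isEl_of_inv t44 t43 (el_t43 hH) chk_t44
theorem el_t45 (hH : GenHyp H) : IsEl H t45 :=
  isEl_of_word t45 w45 (allEl_cons (el_t34 hH) (allEl_cons (el_t30 hH) (allEl_nil H))) chk_t45
theorem el_t46 (hH : GenHyp H) : IsEl H t46 := isEl_of_inv t46 t45 (el_t45 hH) chk_t46
theorem el_t47 (hH : GenHyp H) : IsEl H t47 :=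
  isEl_of_word t47 w47 (allEl_cons (el_t33 hH) (allEl_cons (el_t39 hH) (allEl_cons (el_t37 hH) (allEl_cons (el_t35 hH) (allEl_cons (el_t35 hH) (allEl_cons (el_t33 hH) (allEl_nil H))))))) chk_t47
theorem el_t48 (hH : GenHyp H) : IsEl H t48 :=
  isEl_of_word t48 w48 (allEl_cons (el_t30 hH) (allEl_cons (el_t37 hH) (allEl_cons (el_t38 hH) (allEl_cons (el_t31 hH) (allEl_cons (el_t33 hH) (allEl_cons (el_t33 hH) (allEl_nil H))))))) chk_t48
theorem el_t49 (hH : GenHyp H) : IsEl H t49 :=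
  isEl_of_word t49 w49 (allEl_cons (el_t32 hH) (allEl_cons (el_t44 hH) (allEl_cons (el_t30 hH) (allEl_cons (el_t44 hH) (allEl_cons (el_t30 hH) (allEl_cons (el_t38 hH) (allEl_nil H))))))) chk_t49
theorem el_t50 (hH : GenHyp H) : IsEl H t50 := isEl_of_inv t50 t47 (el_t47 hH) chk_t50
theorem el_t51 (hH : GenHyp H) : IsEl H t51 := isEl_of_inv t51 t48 (el_t48 hH) chk_t51
theorem el_t52 (hH : GenHyp H) : IsEl H t52 := isEl_of_inv t52 t49 (el_t49 hH) chk_t52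
theorem el_t53 (hH : GenHyp H) : IsEl H t53 :=
  isEl_of_word t53 w53 (allEl_cons (el_t48 hH) (allEl_cons (el_t47 hH) (allEl_nil H))) chk_t53
theorem el_t54 (hH : GenHyp H) : IsEl H t54 := isEl_of_inv t54 t53 (el_t53 hH) chk_t54
theorem el_t55 (hH : GenHyp H) : IsEl H t55 :=
  isEl_of_word t55 w55 (allEl_cons (el_t49 hH) (allEl_cons (el_t50 hH) (allEl_nil H))) chk_t55
theorem el_t56 (hH : GenHyp H) : IsEl H t56 := isEl_of_inv t56 t55 (el_t55 hH) chk_t56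
theorem el_t57 (hH : GenHyp H) : IsEl H t57 :=
  isEl_of_word t57 w57 (allEl_cons (el_t48 hH) (allEl_cons (el_t48 hH) (allEl_nil H))) chk_t57
theorem el_t58 (hH : GenHyp H) : IsEl H t58 := isEl_of_inv t58 t57 (el_t57 hH) chk_t58
theorem el_t59 (hH : GenHyp H) : IsEl H t59 :=
  isEl_of_word t59 w59 (allEl_cons (el_t50 hH) (allEl_cons (el_t48 hH) (allEl_nil H))) chk_t59
theorem el_t60 (hH : GenHyp H) : IsEl H t60 := isEl_of_inv t60 t59 (el_t59 hH) chk_t60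
theorem el_t61 (hH : GenHyp H) : IsEl H t61 :=
  isEl_of_word t61 w61 (allEl_cons (el_t56 hH) (allEl_cons (el_t55 hH) (allEl_cons (el_t48 hH) (allEl_cons (el_t57 hH) (allEl_cons (el_t49 hH) (allEl_nil H)))))) chk_t61
theorem el_t62 (hH : GenHyp H) : IsEl H t62 := isEl_of_inv t62 t61 (el_t61 hH) chk_t62
theorem el_t63 (hH : GenHyp H) : IsEl H t63 :=
  isEl_of_word t63 w63 (allEl_cons (el_t48 hH) (allEl_cons (el_t61 hH) (allEl_nil H))) chk_t63
theorem el_t64 (hH : GenHyp H) : IsEl H t64 := isEl_of_inv t64 t63 (el_t63 hH) chk_t64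
theorem el_t65 (hH : GenHyp H) : IsEl H t65 :=
  isEl_of_word t65 w65 (allEl_cons (el_t61 hH) (allEl_cons (el_t51 hH) (allEl_nil H))) chk_t65
theorem el_t66 (hH : GenHyp H) : IsEl H t66 := isEl_of_inv t66 t65 (el_t65 hH) chk_t66
theorem el_t67 (hH : GenHyp H) : IsEl H t67 :=
  isEl_of_word t67 w67 (allEl_cons (el_t63 hH) (allEl_cons (el_t61 hH) (allEl_cons (el_t65 hH) (allEl_cons (el_t66 hH) (allEl_cons (el_t64 hH) (allEl_cons (el_t62 hH) (allEl_cons (el_t48 hH) (allEl_nil H)))))))) chk_t67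
theorem el_t68 (hH : GenHyp H) : IsEl H t68 :=
  isEl_of_word t68 w68 (allEl_cons (el_t61 hH) (allEl_cons (el_t61 hH) (allEl_cons (el_t65 hH) (allEl_cons (el_t51 hH) (allEl_cons (el_t64 hH) (allEl_cons (el_t65 hH) (allEl_cons (el_t62 hH) (allEl_cons (el_t62 hH) (allEl_nil H))))))))) chk_t68
theorem el_t69 (hH : GenHyp H) : IsEl H t69 := isEl_of_inv t69 t67 (el_t67 hH) chk_t69
theorem el_t70 (hH : GenHyp H) : IsEl H t70 :=
  isEl_of_word t70 w70 (allEl_cons (el_t67 hH) (allEl_cons (el_t67 hH) (allEl_cons (el_t68 hH) (allEl_cons (el_t68 hH) (allEl_cons (el_t69 hH) (allEl_cons (el_t68 hH) (allEl_cons (el_t69 hH) (allEl_nil H)))))))) chk_t70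
theorem el_t71 (hH : GenHyp H) : IsEl H t71 :=
  isEl_of_word t71 w71 (allEl_cons (el_t67 hH) (allEl_cons (el_t67 hH) (allEl_cons (el_t68 hH) (allEl_cons (el_t67 hH) (allEl_cons (el_t68 hH) (allEl_cons (el_t68 hH) (allEl_cons (el_t69 hH) (allEl_cons (el_t69 hH) (allEl_cons (el_t69 hH) (allEl_cons (el_t68 hH) (allEl_nil H))))))))))) chk_t71
theorem el_t72 (hH : GenHyp H) : IsEl H t72 :=
  isEl_of_word t72 w72 (allEl_cons (el_t69 hH) (allEl_cons (el_t68 hH) (allEl_cons (el_t69 hH) (allEl_cons (el_t68 hH) (allEl_cons (el_t67 hH) (allEl_cons (el_t67 hH) (allEl_cons (el_t68 hH) (allEl_cons (el_t67 hH) (allEl_cons (el_t68 hH) (allEl_cons (el_t67 hH) (allEl_nil H))))))))))) chk_t72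
theorem el_t73 (hH : GenHyp H) : IsEl H t73 := isEl_of_inv t73 t72 (el_t72 hH) chk_t73
theorem el_t74 (hH : GenHyp H) : IsEl H t74 :=
  isEl_of_word t74 w74 (allEl_cons (el_t71 hH) (allEl_cons (el_t72 hH) (allEl_cons (el_t72 hH) (allEl_cons (el_t70 hH) (allEl_nil H))))) chk_t74
theorem el_t75 (hH : GenHyp H) : IsEl H t75 :=
  isEl_of_word t75 w75 (allEl_cons (el_t70 hH) (allEl_cons (el_t73 hH) (allEl_cons (el_t72 hH) (allEl_cons (el_t73 hH) (allEl_cons (el_t70 hH) (allEl_cons (el_t72 hH) (allEl_nil H))))))) chk_t75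
theorem el_t76 (hH : GenHyp H) : IsEl H t76 :=
  isEl_of_word t76 w76 (allEl_cons (el_t70 hH) (allEl_cons (el_t72 hH) (allEl_cons (el_t70 hH) (allEl_cons (el_t71 hH) (allEl_nil H))))) chk_t76
theorem el_t77 (hH : GenHyp H) : IsEl H t77 :=
  isEl_of_word t77 w77 (allEl_cons (el_t76 hH) (allEl_cons (el_t75 hH) (allEl_cons (el_t74 hH) (allEl_nil H)))) chk_t77
theorem el_t78 (hH : GenHyp H) : IsEl H t78 :=
  isEl_of_word t78 w78 (allEl_cons (el_t19 hH) (allEl_cons (el_t20 hH) (allEl_cons (el_t17 hH) (allEl_cons (el_t19 hH) (allEl_cons (el_t24 hH) (allEl_cons (el_t14 hH) (allEl_cons (el_t16 hH) (allEl_cons (el_t35 hH) (allEl_cons (el_t35 hH) (allEl_cons (el_t37 hH) (allEl_cons (el_t35 hH) (allEl_cons (el_t46 hH) (allEl_cons (el_t36 hH) (allEl_cons (el_t30 hH) (allEl_cons (el_t48 hH) (allEl_cons (el_t52 hH) (allEl_cons (el_t47 hH) (allEl_cons (el_t55 hH) (allEl_cons (el_t53 hH) (allEl_cons (el_t62 hH) (allEl_cons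 (el_t62 hH) (allEl_cons (el_t66 hH) (allEl_cons (el_t63 hH) (allEl_cons (el_t61 hH) (allEl_cons (el_t69 hH) (allEl_cons (el_t68 hH) (allEl_cons (el_t69 hH) (allEl_cons (el_t68 hH) (allEl_cons (el_t67 hH) (allEl_cons (el_t68 hH) (allEl_cons (el_t72 hH) (allEl_cons (el_t70 hH) (allEl_cons (el_t74 hH) (allEl_cons (el_t77 hH) (allEl_nil H))))))))))))))))))))))))))))))))))) chk_t78
theorem el_t79 (hH : GenHyp H) : IsEl H t79 :=
  isEl_of_word t79 w79 (allEl_cons (el_t4 hH) (allEl_cons (el_t23 hH) (allEl_cons (el_t13 hH) (allEl_cons (el_t19 hH) (allEl_cons (el_t13 hH) (allEl_cons (el_t18 hH) (allEl_cons (el_t18 hH) (allEl_cons (el_t11 hH) (allEl_cons (el_t8 hH) (allEl_cons (el_t43 hH) (allEl_cons (el_t37 hH) (allEl_cons (el_t42 hH) (allEl_cons (el_t30 hH) (allEl_cons (el_t49 hH) (allEl_cons (el_t49 hH) (allEl_cons (el_t56 hH) (allEl_cons (el_t53 hH) (allEl_cons (el_t66 hH) (allEl_cons (el_t66 hH) (allEl_cons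 (el_t64 hH) (allEl_cons (el_t64 hH) (allEl_cons (el_t61 hH) (allEl_cons (el_t67 hH) (allEl_cons (el_t68 hH) (allEl_cons (el_t69 hH) (allEl_cons (el_t68 hH) (allEl_cons (el_t67 hH) (allEl_cons (el_t67 hH) (allEl_cons (el_t72 hH) (allEl_cons (el_t70 hH) (allEl_cons (el_t75 hH) (allEl_nil H)))))))))))))))))))))))))))))))) chk_t79
theorem el_t80 (hH : GenHyp H) : IsEl H t80 :=
  isEl_of_word t80 w80 (allEl_cons (el_t19 hH) (allEl_cons (el_t19 hH) (allEl_cons (el_t20 hH) (allEl_cons (el_t22 hH) (allEl_cons (el_t18 hH) (allEl_cons (el_t18 hH) (allEl_cons (el_t14 hH) (allEl_cons (el_t18 hH) (allEl_cons (el_t38 hH) (allEl_cons (el_t42 hH) (allEl_cons (el_t43 hH) (allEl_cons (el_t42 hH) (allEl_cons (el_t42 hH) (allEl_cons (el_t30 hH) (allEl_cons (el_t58 hH) (allEl_cons (el_t49 hH) (allEl_cons (el_t53 hH) (allEl_cons (el_t56 hH) (allEl_cons (el_t47 hH) (allEl_cons (el_t55 hH) (allEl_cons (el_t51 hH) (allEl_cons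 (el_t65 hH) (allEl_cons (el_t61 hH) (allEl_cons (el_t61 hH) (allEl_cons (el_t65 hH) (allEl_cons (el_t69 hH) (allEl_cons (el_t68 hH) (allEl_cons (el_t67 hH) (allEl_cons (el_t67 hH) (allEl_cons (el_t68 hH) (allEl_cons (el_t70 hH) (allEl_cons (el_t76 hH) (allEl_cons (el_t77 hH) (allEl_nil H)))))))))))))))))))))))))))))))))) chk_t80
theorem el_t81 (hH : GenHyp H) : IsEl H t81 :=
  isEl_of_word t81 w81 (allEl_cons (el_t20 hH) (allEl_cons (el_t17 hH) (allEl_cons (el_t10 hH) (allEl_cons (el_t17 hH) (allEl_cons (el_t20 hH) (allEl_cons (el_t23 hH) (allEl_cons (el_t18 hH) (allEl_cons (el_t14 hH) (allEl_cons (el_t8 hH) (allEl_cons (el_t36 hH) (allEl_cons (el_t45 hH) (allEl_cons (el_t35 hH) (allEl_cons (el_t41 hH) (allEl_cons (el_t40 hH) (allEl_cons (el_t56 hH) (allEl_cons (el_t50 hH) (allEl_cons (el_t52 hH) (allEl_cons (el_t52 hH) (allEl_cons (el_t47 hH) (allEl_cons (el_t61 hH) (allEl_cons (el_t65 hH) (allEl_cons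 (el_t62 hH) (allEl_cons (el_t67 hH) (allEl_cons (el_t67 hH) (allEl_cons (el_t68 hH) (allEl_cons (el_t67 hH) (allEl_cons (el_t68 hH) (allEl_cons (el_t67 hH) (allEl_cons (el_t67 hH) (allEl_cons (el_t75 hH) (allEl_nil H))))))))))))))))))))))))))))))) chk_t81
theorem el_t82 (hH : GenHyp H) : IsEl H t82 :=
  isEl_of_word t82 w82 (allEl_cons (el_t10 hH) (allEl_cons (el_t21 hH) (allEl_cons (el_t17 hH) (allEl_cons (el_t27 hH) (allEl_cons (el_t24 hH) (allEl_cons (el_t20 hH) (allEl_cons (el_t18 hH) (allEl_cons (el_t18 hH) (allEl_cons (el_t11 hH) (allEl_cons (el_t8 hH) (allEl_cons (el_t42 hH) (allEl_cons (el_t35 hH) (allEl_cons (el_t45 hH) (allEl_cons (el_t42 hH) (allEl_cons (el_t31 hH) (allEl_cons (el_t52 hH) (allEl_cons (el_t50 hH) (allEl_cons (el_t52 hH) (allEl_cons (el_t47 hH) (allEl_cons (el_t49 hH) (allEl_cons (el_t53 hH) (allEl_cons (el_t65 hH) (allEl_cons (el_t65 hH) (allEl_cons (el_t65 hH) (allEl_cons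 (el_t67 hH) (allEl_cons (el_t68 hH) (allEl_cons (el_t67 hH) (allEl_cons (el_t68 hH) (allEl_cons (el_t67 hH) (allEl_cons (el_t67 hH) (allEl_cons (el_t67 hH) (allEl_cons (el_t68 hH) (allEl_cons (el_t67 hH) (allEl_cons (el_t68 hH) (allEl_cons (el_t67 hH) (allEl_cons (el_t67 hH) (allEl_cons (el_t73 hH) (allEl_cons (el_t75 hH) (allEl_cons (el_t77 hH) (allEl_nil H)))))))))))))))))))))))))))))))))))))))) chk_t82
theorem el_t83 (hH : GenHyp H) : IsEl H t83 :=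
  isEl_of_word t83 w83 (allEl_cons (el_t12 hH) (allEl_cons (el_t13 hH) (allEl_cons (el_t22 hH) (allEl_cons (el_t23 hH) (allEl_cons (el_t20 hH) (allEl_cons (el_t24 hH) (allEl_cons (el_t22 hH) (allEl_cons (el_t37 hH) (allEl_cons (el_t40 hH) (allEl_cons (el_t46 hH) (allEl_cons (el_t42 hH) (allEl_cons (el_t43 hH) (allEl_cons (el_t42 hH) (allEl_cons (el_t36 hH) (allEl_cons (el_t55 hH) (allEl_cons (el_t49 hH) (allEl_cons (el_t56 hH) (allEl_cons (el_t48 hH) (allEl_cons (el_t52 hH) (allEl_cons (el_t50 hH) (allEl_cons (el_t64 hH) (allEl_cons (el_t62 hH) (allEl_cons (el_t63 hH) (allEl_cons (el_t65 hH) (allEl_cons (el_t68 hH) (allEl_cons (el_t67 hH) (allEl_cons (el_t68 hH) (allEl_cons (el_t67 hH) (allEl_cons (el_t68 hH) (allEl_cons (el_t67 hH) (allEl_cons (el_t74 hH) (allEl_nil H)))))))))))))))))))))))))))))))) chk_t83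
theorem el_t84 (hH : GenHyp H) : IsEl H t84 :=
  isEl_of_word t84 w84 (allEl_cons (el_t11 hH) (allEl_cons (el_t23 hH) (allEl_cons (el_t13 hH) (allEl_cons (el_t19 hH) (allEl_cons (el_t19 hH) (allEl_cons (el_t14 hH) (allEl_cons (el_t18 hH) (allEl_cons (el_t11 hH) (allEl_cons (el_t8 hH) (allEl_cons (el_t35 hH) (allEl_cons (el_t40 hH) (allEl_cons (el_t46 hH) (allEl_cons (el_t42 hH) (allEl_cons (el_t39 hH) (allEl_cons (el_t42 hH) (allEl_cons (el_t32 hH) (allEl_cons (el_t53 hH) (allEl_cons (el_t56 hH) (allEl_cons (el_t59 hH) (allEl_cons (el_t56 hH) (allEl_cons (el_t50 hH) (allEl_cons (el_t66 hH) (allEl_cons (el_t48 hH) (allEl_cons (el_t63 hH) (allEl_cons (el_t63 hH) (allEl_cons (el_t61 hH) (allEl_cons (el_t72 hH) (allEl_cons (el_t70 hH) (allEl_cons (el_t76 hH) (allEl_nil H)))))))))))))))))))))))))))))) chk_t84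
theorem el_t85 (hH : GenHyp H) : IsEl H t85 :=
  isEl_of_word t85 w85 (allEl_cons (el_t14 hH) (allEl_cons (el_t25 hH) (allEl_cons (el_t24 hH) (allEl_cons (el_t21 hH) (allEl_cons (el_t24 hH) (allEl_cons (el_t19 hH) (allEl_cons (el_t10 hH) (allEl_cons (el_t16 hH) (allEl_cons (el_t35 hH) (allEl_cons (el_t43 hH) (allEl_cons (el_t42 hH) (allEl_cons (el_t42 hH) (allEl_cons (el_t39 hH) (allEl_cons (el_t31 hH) (allEl_cons (el_t49 hH) (allEl_cons (el_t56 hH) (allEl_cons (el_t47 hH) (allEl_cons (el_t47 hH) (allEl_cons (el_t49 hH) (allEl_cons (el_t53 hH) (allEl_cons (el_t65 hH) (allEl_cons (el_t65 hH) (allEl_cons (el_t51 hH) (allEl_cons (el_t61 hH) (allEl_cons (el_t61 hH) (allEl_cons (el_t69 hH) (allEl_cons (el_t68 hH) (allEl_cons (el_t69 hH) (allEl_cons (el_t68 hH) (allEl_cons (el_t67 hH) (allEl_cons (el_t72 hH) (allEl_cons (el_t75 hH) (allEl_cons (el_t77 hH) (allEl_nil H)))))))))))))))))))))))))))))))))) chk_t85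
theorem el_t86 (hH : GenHyp H) : IsEl H t86 :=
  isEl_of_word t86 w86 (allEl_cons (el_t24 hH) (allEl_cons (el_t19 hH) (allEl_cons (el_t13 hH) (allEl_cons (el_t15 hH) (allEl_cons (el_t19 hH) (allEl_cons (el_t13 hH) (allEl_cons (el_t18 hH) (allEl_cons (el_t18 hH) (allEl_cons (el_t11 hH) (allEl_cons (el_t8 hH) (allEl_cons (el_t44 hH) (allEl_cons (el_t40 hH) (allEl_cons (el_t44 hH) (allEl_cons (el_t41 hH) (allEl_cons (el_t41 hH) (allEl_cons (el_t40 hH) (allEl_cons (el_t51 hH) (allEl_cons (el_t49 hH) (allEl_cons (el_t47 hH) (allEl_cons (el_t49 hH) (allEl_cons (el_t55 hH) (allEl_cons (el_t66 hH) (allEl_cons (el_t63 hH) (allEl_cons (el_t51 hH) (allEl_cons (el_t61 hH) (allEl_cons (el_t67 hH) (allEl_cons (el_t68 hH) (allEl_cons (el_t67 hH) (allEl_cons (el_t72 hH) (allEl_cons (el_t70 hH) (allEl_cons (el_t74 hH) (allEl_nil H)))))))))))))))))))))))))))))))) chk_t86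
theorem el_t87 (hH : GenHyp H) : IsEl H t87 :=
  isEl_of_word t87 w87 (allEl_cons (el_t22 hH) (allEl_cons (el_t20 hH) (allEl_cons (el_t18 hH) (allEl_cons (el_t20 hH) (allEl_cons (el_t24 hH) (allEl_cons (el_t24 hH) (allEl_cons (el_t22 hH) (allEl_cons (el_t31 hH) (allEl_cons (el_t39 hH) (allEl_cons (el_t39 hH) (allEl_cons (el_t42 hH) (allEl_cons (el_t39 hH) (allEl_cons (el_t36 hH) (allEl_cons (el_t56 hH) (allEl_cons (el_t54 hH) (allEl_cons (el_t50 hH) (allEl_cons (el_t52 hH) (allEl_cons (el_t52 hH) (allEl_cons (el_t47 hH) (allEl_cons (el_t62 hH) (allEl_cons (el_t64 hH) (allEl_cons (el_t67 hH) (allEl_cons (el_t67 hH) (allEl_cons (el_t68 hH) (allEl_cons (el_t72 hH) (allEl_cons (el_t76 hH) (allEl_nil H))))))))))))))))))))))))))) chk_t87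
theorem el_t88 (hH : GenHyp H) : IsEl H t88 :=
  isEl_of_word t88 w88 (allEl_cons (el_t25 hH) (allEl_cons (el_t21 hH) (allEl_cons (el_t25 hH) (allEl_cons (el_t19 hH) (allEl_cons (el_t10 hH) (allEl_cons (el_t16 hH) (allEl_cons (el_t43 hH) (allEl_cons (el_t39 hH) (allEl_cons (el_t42 hH) (allEl_cons (el_t39 hH) (allEl_cons (el_t42 hH) (allEl_cons (el_t36 hH) (allEl_cons (el_t56 hH) (allEl_cons (el_t47 hH) (allEl_cons (el_t56 hH) (allEl_cons (el_t56 hH) (allEl_cons (el_t52 hH) (allEl_cons (el_t47 hH) (allEl_cons (el_t65 hH) (allEl_cons (el_t61 hH) (allEl_cons (el_t61 hH) (allEl_cons (el_t63 hH) (allEl_cons (el_t68 hH) (allEl_cons (el_t69 hH) (allEl_cons (el_t68 hH) (allEl_cons (el_t67 hH) (allEl_cons (el_t67 hH) (allEl_cons (el_t71 hH) (allEl_cons (el_t77 hH) (allEl_nil H)))))))))))))))))))))))))))))) chk_t88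
theorem el_t89 (hH : GenHyp H) : IsEl H t89 :=
  isEl_of_word t89 w89 (allEl_cons (el_t25 hH) (allEl_cons (el_t19 hH) (allEl_cons (el_t24 hH) (allEl_cons (el_t22 hH) (allEl_cons (el_t41 hH) (allEl_cons (el_t40 hH) (allEl_cons (el_t41 hH) (allEl_cons (el_t41 hH) (allEl_cons (el_t35 hH) (allEl_cons (el_t40 hH) (allEl_cons (el_t55 hH) (allEl_cons (el_t59 hH) (allEl_cons (el_t52 hH) (allEl_cons (el_t52 hH) (allEl_cons (el_t54 hH) (allEl_cons (el_t47 hH) (allEl_cons (el_t63 hH) (allEl_cons (el_t65 hH) (allEl_cons (el_t61 hH) (allEl_cons (el_t67 hH) (allEl_cons (el_t68 hH) (allEl_cons (el_t67 hH) (allEl_cons (el_t67 hH) (allEl_cons (el_t67 hH) (allEl_cons (el_t68 hH) (allEl_cons (el_t67 hH) (allEl_cons (el_t67 hH) (allEl_cons (el_t71 hH) (allEl_cons (el_t74 hH) (allEl_nil H)))))))))))))))))))))))))))))) chk_t89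
theorem el_t90 (hH : GenHyp H) : IsEl H t90 :=
  isEl_of_word t90 w90 (allEl_cons (el_t23 hH) (allEl_cons (el_t3 hH) (allEl_cons (el_t22 hH) (allEl_cons (el_t23 hH) (allEl_cons (el_t14 hH) (allEl_cons (el_t18 hH) (allEl_cons (el_t14 hH) (allEl_cons (el_t16 hH) (allEl_cons (el_t36 hH) (allEl_cons (el_t44 hH) (allEl_cons (el_t41 hH) (allEl_cons (el_t41 hH) (allEl_cons (el_t46 hH) (allEl_cons (el_t46 hH) (allEl_cons (el_t36 hH) (allEl_cons (el_t57 hH) (allEl_cons (el_t54 hH) (allEl_cons (el_t55 hH) (allEl_cons (el_t61 hH) (allEl_cons (el_t63 hH) (allEl_cons (el_t63 hH) (allEl_cons (el_t68 hH) (allEl_cons (el_t69 hH) (allEl_cons (el_t68 hH) (allEl_cons (el_t67 hH) (allEl_cons (el_t68 hH) (allEl_cons (el_t75 hH) (allEl_nil H)))))))))))))))))))))))))))) chk_t90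
theorem el_t91 (hH : GenHyp H) : IsEl H t91 :=
  isEl_of_word t91 w91 (allEl_cons (el_t25 hH) (allEl_cons (el_t11 hH) (allEl_cons (el_t15 hH) (allEl_cons (el_t13 hH) (allEl_cons (el_t19 hH) (allEl_cons (el_t19 hH) (allEl_cons (el_t22 hH) (allEl_cons (el_t1 hH) (allEl_cons (el_t44 hH) (allEl_cons (el_t37 hH) (allEl_cons (el_t41 hH) (allEl_cons (el_t43 hH) (allEl_cons (el_t34 hH) (allEl_cons (el_t58 hH) (allEl_cons (el_t56 hH) (allEl_cons (el_t47 hH) (allEl_cons (el_t61 hH) (allEl_cons (el_t65 hH) (allEl_cons (el_t61 hH) (allEl_cons (el_t61 hH) (allEl_cons (el_t69 hH) (allEl_cons (el_t68 hH) (allEl_cons (el_t69 hH) (allEl_cons (el_t68 hH) (allEl_cons (el_t67 hH) (allEl_cons (el_t70 hH) (allEl_cons (el_t76 hH) (allEl_nil H)))))))))))))))))))))))))))) chk_t91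
theorem el_t92 (hH : GenHyp H) : IsEl H t92 :=
  isEl_of_word t92 w92 (allEl_cons (el_t17 hH) (allEl_cons (el_t13 hH) (allEl_cons (el_t19 hH) (allEl_cons (el_t26 hH) (allEl_cons (el_t8 hH) (allEl_cons (el_t20 hH) (allEl_cons (el_t24 hH) (allEl_cons (el_t22 hH) (allEl_cons (el_t42 hH) (allEl_cons (el_t31 hH) (allEl_cons (el_t35 hH) (allEl_cons (el_t45 hH) (allEl_cons (el_t42 hH) (allEl_cons (el_t52 hH) (allEl_cons (el_t56 hH) (allEl_cons (el_t59 hH) (allEl_cons (el_t47 hH) (allEl_cons (el_t65 hH) (allEl_cons (el_t51 hH) (allEl_cons (el_t61 hH) (allEl_cons (el_t68 hH) (allEl_cons (el_t69 hH) (allEl_cons (el_t68 hH) (allEl_cons (el_t69 hH) (allEl_cons (el_t68 hH) (allEl_cons (el_t67 hH) (allEl_cons (el_t71 hH) (allEl_nil H)))))))))))))))))))))))))))) chk_t92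
theorem el_t93 (hH : GenHyp H) : IsEl H t93 :=
  isEl_of_word t93 w93 (allEl_cons (el_t27 hH) (allEl_cons (el_t29 hH) (allEl_cons (el_t14 hH) (allEl_cons (el_t23 hH) (allEl_cons (el_t18 hH) (allEl_cons (el_t14 hH) (allEl_cons (el_t16 hH) (allEl_cons (el_t40 hH) (allEl_cons (el_t41 hH) (allEl_cons (el_t31 hH) (allEl_cons (el_t35 hH) (allEl_cons (el_t45 hH) (allEl_cons (el_t42 hH) (allEl_cons (el_t36 hH) (allEl_cons (el_t47 hH) (allEl_cons (el_t48 hH) (allEl_cons (el_t52 hH) (allEl_cons (el_t47 hH) (allEl_cons (el_t55 hH) (allEl_cons (el_t65 hH) (allEl_cons (el_t64 hH) (allEl_cons (el_t62 hH) (allEl_cons (el_t64 hH) (allEl_cons (el_t65 hH) (allEl_cons (el_t69 hH) (allEl_cons (el_t73 hH) (allEl_cons (el_t75 hH) (allEl_cons (el_t77 hH) (allEl_nil H))))))))))))))))))))))))))))) chk_t93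
theorem el_t94 (hH : GenHyp H) : IsEl H t94 :=
  isEl_of_word t94 w94 (allEl_cons (el_t14 hH) (allEl_cons (el_t17 hH) (allEl_cons (el_t19 hH) (allEl_cons (el_t22 hH) (allEl_cons (el_t18 hH) (allEl_cons (el_t16 hH) (allEl_cons (el_t35 hH) (allEl_cons (el_t38 hH) (allEl_cons (el_t39 hH) (allEl_cons (el_t36 hH) (allEl_cons (el_t49 hH) (allEl_cons (el_t56 hH) (allEl_cons (el_t57 hH) (allEl_cons (el_t55 hH) (allEl_cons (el_t62 hH) (allEl_cons (el_t66 hH) (allEl_cons (el_t64 hH) (allEl_cons (el_t62 hH) (allEl_cons (el_t68 hH) (allEl_cons (el_t67 hH) (allEl_cons (el_t68 hH) (allEl_cons (el_t67 hH) (allEl_cons (el_t67 hH) (allEl_cons (el_t67 hH) (allEl_cons (el_t68 hH) (allEl_cons (el_t67 hH) (allEl_cons (el_t68 hH) (allEl_cons (el_t67 hH) (allEl_cons (el_t67 hH) (allEl_cons (el_t73 hH) (allEl_cons (el_t77 hH) (allEl_nil H)))))))))))))))))))))))))))))))) chk_t94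
theorem el_t95 (hH : GenHyp H) : IsEl H t95 :=
  isEl_of_word t95 w95 (allEl_cons (el_t19 hH) (allEl_cons (el_t25 hH) (allEl_cons (el_t18 hH) (allEl_cons (el_t11 hH) (allEl_cons (el_t8 hH) (allEl_cons (el_t40 hH) (allEl_cons (el_t41 hH) (allEl_cons (el_t40 hH) (allEl_cons (el_t49 hH) (allEl_cons (el_t47 hH) (allEl_cons (el_t56 hH) (allEl_cons (el_t47 hH) (allEl_cons (el_t65 hH) (allEl_cons (el_t61 hH) (allEl_cons (el_t61 hH) (allEl_cons (el_t61 hH) (allEl_cons (el_t67 hH) (allEl_cons (el_t68 hH) (allEl_cons (el_t69 hH) (allEl_cons (el_t68 hH) (allEl_cons (el_t69 hH) (allEl_cons (el_t69 hH) (allEl_cons (el_t70 hH) (allEl_cons (el_t76 hH) (allEl_cons (el_t77 hH) (allEl_nil H)))))))))))))))))))))))))) chk_t95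
theorem el_t96 (hH : GenHyp H) : IsEl H t96 :=
  isEl_of_word t96 w96 (allEl_cons (el_t20 hH) (allEl_cons (el_t5 hH) (allEl_cons (el_t22 hH) (allEl_cons (el_t18 hH) (allEl_cons (el_t16 hH) (allEl_cons (el_t40 hH) (allEl_cons (el_t31 hH) (allEl_cons (el_t39 hH) (allEl_cons (el_t39 hH) (allEl_cons (el_t42 hH) (allEl_cons (el_t42 hH) (allEl_cons (el_t44 hH) (allEl_cons (el_t55 hH) (allEl_cons (el_t52 hH) (allEl_cons (el_t56 hH) (allEl_cons (el_t60 hH) (allEl_cons (el_t51 hH) (allEl_cons (el_t65 hH) (allEl_cons (el_t68 hH) (allEl_cons (el_t69 hH) (allEl_cons (el_t68 hH) (allEl_cons (el_t67 hH) (allEl_cons (el_t67 hH) (allEl_cons (el_t68 hH) (allEl_cons (el_t67 hH) (allEl_cons (el_t68 hH) (allEl_cons (el_t73 hH) (allEl_cons (el_t76 hH) (allEl_nil H))))))))))))))))))))))))))))) chk_t96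
theorem el_t97 (hH : GenHyp H) : IsEl H t97 :=
  isEl_of_word t97 w97 (allEl_cons (el_t25 hH) (allEl_cons (el_t18 hH) (allEl_cons (el_t14 hH) (allEl_cons (el_t24 hH) (allEl_cons (el_t19 hH) (allEl_cons (el_t10 hH) (allEl_cons (el_t16 hH) (allEl_cons (el_t31 hH) (allEl_cons (el_t36 hH) (allEl_cons (el_t42 hH) (allEl_cons (el_t46 hH) (allEl_cons (el_t42 hH) (allEl_cons (el_t49 hH) (allEl_cons (el_t53 hH) (allEl_cons (el_t55 hH) (allEl_cons (el_t63 hH) (allEl_cons (el_t66 hH) (allEl_cons (el_t63 hH) (allEl_cons (el_t61 hH) (allEl_cons (el_t63 hH) (allEl_cons (el_t51 hH) (allEl_cons (el_t67 hH) (allEl_cons (el_t67 hH) (allEl_cons (el_t67 hH) (allEl_cons (el_t68 hH) (allEl_cons (el_t69 hH) (allEl_cons (el_t68 hH) (allEl_cons (el_t71 hH) (allEl_cons (el_t76 hH) (allEl_nil H)))))))))))))))))))))))))))))) chk_t97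
theorem el_t98 (hH : GenHyp H) : IsEl H t98 :=
  isEl_of_word t98 w98 (allEl_cons (el_t14 hH) (allEl_cons (el_t18 hH) (allEl_cons (el_t14 hH) (allEl_cons (el_t19 hH) (allEl_cons (el_t20 hH) (allEl_cons (el_t24 hH) (allEl_cons (el_t22 hH) (allEl_cons (el_t18 hH) (allEl_cons (el_t16 hH) (allEl_cons (el_t0 hH) (allEl_cons (el_t38 hH) (allEl_cons (el_t42 hH) (allEl_cons (el_t39 hH) (allEl_cons (el_t43 hH) (allEl_cons (el_t41 hH) (allEl_cons (el_t40 hH) (allEl_cons (el_t57 hH) (allEl_cons (el_t50 hH) (allEl_cons (el_t52 hH) (allEl_cons (el_t47 hH) (allEl_cons (el_t56 hH) (allEl_cons (el_t47 hH) (allEl_cons (el_t63 hH) (allEl_cons (el_t65 hH) (allEl_cons (el_t61 hH) (allEl_cons (el_t61 hH) (allEl_cons (el_t67 hH) (allEl_cons (el_t67 hH) (allEl_cons (el_t67 hH) (allEl_nil H)))))))))))))))))))))))))))))) chk_t98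
theorem el_t99 (hH : GenHyp H) : IsEl H t99 :=
  isEl_of_word t99 w99 (allEl_cons (el_t28 hH) (allEl_cons (el_t17 hH) (allEl_cons (el_t19 hH) (allEl_cons (el_t24 hH) (allEl_cons (el_t42 hH) (allEl_cons (el_t38 hH) (allEl_cons (el_t38 hH) (allEl_cons (el_t39 hH) (allEl_cons (el_t42 hH) (allEl_cons (el_t42 hH) (allEl_cons (el_t49 hH) (allEl_cons (el_t49 hH) (allEl_cons (el_t57 hH) (allEl_cons (el_t47 hH) (allEl_cons (el_t55 hH) (allEl_cons (el_t64 hH) (allEl_cons (el_t61 hH) (allEl_cons (el_t61 hH) (allEl_cons (el_t61 hH) (allEl_cons (el_t61 hH) (allEl_cons (el_t68 hH) (allEl_cons (el_t67 hH) (allEl_cons (el_t68 hH) (allEl_cons (el_t67 hH) (allEl_cons (el_t68 hH) (allEl_cons (el_t70 hH) (allEl_cons (el_t74 hH) (allEl_nil H)))))))))))))))))))))))))))) chk_t99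
theorem el_t100 (hH : GenHyp H) : IsEl H t100 :=
  isEl_of_word t100 w100 (allEl_cons (el_t2 hH) (allEl_cons (el_t18 hH) (allEl_cons (el_t18 hH) (allEl_cons (el_t14 hH) (allEl_cons (el_t19 hH) (allEl_cons (el_t21 hH) (allEl_cons (el_t24 hH) (allEl_cons (el_t19 hH) (allEl_cons (el_t24 hH) (allEl_cons (el_t22 hH) (allEl_cons (el_t0 hH) (allEl_cons (el_t42 hH) (allEl_cons (el_t43 hH) (allEl_cons (el_t37 hH) (allEl_cons (el_t40 hH) (allEl_cons (el_t35 hH) (allEl_cons (el_t34 hH) (allEl_cons (el_t54 hH) (allEl_cons (el_t52 hH) (allEl_cons (el_t52 hH) (allEl_cons (el_t56 hH) (allEl_cons (el_t50 hH) (allEl_cons (el_t65 hH) (allEl_cons (el_t65 hH) (allEl_cons (el_t62 hH) (allEl_cons (el_t64 hH) (allEl_cons (el_t61 hH) (allEl_cons (el_t68 hH) (allEl_cons (el_t69 hH) (allEl_cons (el_t68 hH) (allEl_cons (el_t69 hH) (allEl_cons (el_t68 hH) (allEl_cons (el_t67 hH) (allEl_cons (el_t71 hH) (allEl_cons (el_t77 hH)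 (allEl_nil H)))))))))))))))))))))))))))))))))))) chk_t100
theorem el_t101 (hH : GenHyp H) : IsEl H t101 :=
  isEl_of_word t101 w101 (allEl_cons (el_t10 hH) (allEl_cons (el_t21 hH) (allEl_cons (el_t17 hH) (allEl_cons (el_t10 hH) (allEl_cons (el_t18 hH) (allEl_cons (el_t14 hH) (allEl_cons (el_t18 hH) (allEl_cons (el_t36 hH) (allEl_cons (el_t45 hH) (allEl_cons (el_t37 hH) (allEl_cons (el_t46 hH) (allEl_cons (el_t42 hH) (allEl_cons (el_t30 hH) (allEl_cons (el_t55 hH) (allEl_cons (el_t55 hH) (allEl_cons (el_t52 hH) (allEl_cons (el_t47 hH) (allEl_cons (el_t56 hH) (allEl_cons (el_t47 hH) (allEl_cons (el_t61 hH) (allEl_cons (el_t66 hH) (allEl_cons (el_t62 hH) (allEl_cons (el_t64 hH) (allEl_cons (el_t68 hH) (allEl_cons (el_t67 hH) (allEl_cons (el_t68 hH) (allEl_cons (el_t69 hH) (allEl_cons (el_t68 hH) (allEl_cons (el_t67 hH) (allEl_cons (el_t72 hH) (allEl_cons (el_t70 hH) (allEl_nil H))))))))))))))))))))))))))))))))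 chk_t101
theorem el_t102 (hH : GenHyp H) : IsEl H t102 :=
  isEl_of_word t102 w102 (allEl_cons (el_t14 hH) (allEl_cons (el_t18 hH) (allEl_cons (el_t17 hH) (allEl_cons (el_t21 hH) (allEl_cons (el_t26 hH) (allEl_cons (el_t18 hH) (allEl_cons (el_t14 hH) (allEl_cons (el_t8 hH) (allEl_cons (el_t38 hH) (allEl_cons (el_t42 hH) (allEl_cons (el_t36 hH) (allEl_cons (el_t40 hH) (allEl_cons (el_t41 hH) (allEl_cons (el_t34 hH) (allEl_cons (el_t54 hH) (allEl_cons (el_t55 hH) (allEl_cons (el_t54 hH) (allEl_cons (el_t55 hH) (allEl_cons (el_t61 hH) (allEl_cons (el_t63 hH) (allEl_cons (el_t63 hH) (allEl_cons (el_t51 hH) (allEl_cons (el_t67 hH) (allEl_cons (el_t68 hH) (allEl_cons (el_t67 hH) (allEl_cons (el_t68 hH) (allEl_cons (el_t67 hH) (allEl_cons (el_t67 hH) (allEl_cons (el_t68 hH) (allEl_cons (el_t67 hH) (allEl_cons (el_t67 hH) (allEl_cons (el_t70 hH) (allEl_cons (el_t74 hH) (allEl_nil H))))))))))))))))))))))))))))))))))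 chk_t102
theorem el_t103 (hH : GenHyp H) : IsEl H t103 :=
  isEl_of_word t103 w103 (allEl_cons (el_t14 hH) (allEl_cons (el_t19 hH) (allEl_cons (el_t10 hH) (allEl_cons (el_t18 hH) (allEl_cons (el_t14 hH) (allEl_cons (el_t18 hH) (allEl_cons (el_t42 hH) (allEl_cons (el_t36 hH) (allEl_cons (el_t37 hH) (allEl_cons (el_t40 hH) (allEl_cons (el_t41 hH) (allEl_cons (el_t41 hH) (allEl_cons (el_t52 hH) (allEl_cons (el_t58 hH) (allEl_cons (el_t49 hH) (allEl_cons (el_t49 hH) (allEl_cons (el_t53 hH) (allEl_cons (el_t63 hH) (allEl_cons (el_t63 hH) (allEl_cons (el_t61 hH) (allEl_cons (el_t61 hH) (allEl_cons (el_t61 hH) (allEl_cons (el_t68 hH) (allEl_cons (el_t67 hH) (allEl_cons (el_t68 hH) (allEl_cons (el_t69 hH) (allEl_cons (el_t68 hH) (allEl_cons (el_t67 hH) (allEl_cons (el_t67 hH) (allEl_cons (el_t68 hH) (allEl_cons (el_t70 hH) (allEl_cons (el_t77 hH) (allEl_nil H))))))))))))))))))))))))))))))))) chk_t103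
theorem el_t104 (hH : GenHyp H) : IsEl H t104 :=
  isEl_of_word t104 w104 (allEl_cons (el_t15 hH) (allEl_cons (el_t21 hH) (allEl_cons (el_t18 hH) (allEl_cons (el_t14 hH) (allEl_cons (el_t15 hH) (allEl_cons (el_t10 hH) (allEl_cons (el_t16 hH) (allEl_cons (el_t39 hH) (allEl_cons (el_t35 hH) (allEl_cons (el_t40 hH) (allEl_cons (el_t38 hH) (allEl_cons (el_t42 hH) (allEl_cons (el_t39 hH) (allEl_cons (el_t31 hH) (allEl_cons (el_t55 hH) (allEl_cons (el_t54 hH) (allEl_cons (el_t52 hH) (allEl_cons (el_t47 hH) (allEl_cons (el_t55 hH) (allEl_cons (el_t65 hH) (allEl_cons (el_t61 hH) (allEl_cons (el_t61 hH) (allEl_cons (el_t61 hH) (allEl_cons (el_t69 hH) (allEl_cons (el_t68 hH) (allEl_cons (el_t69 hH) (allEl_cons (el_t68 hH) (allEl_cons (el_t67 hH) (allEl_cons (el_t72 hH) (allEl_cons (el_t70 hH) (allEl_nil H))))))))))))))))))))))))))))))) chk_t104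
theorem el_t105 (hH : GenHyp H) : IsEl H t105 :=
  isEl_of_word t105 w105 (allEl_cons (el_t15 hH) (allEl_cons (el_t19 hH) (allEl_cons (el_t10 hH) (allEl_cons (el_t17 hH) (allEl_cons (el_t10 hH) (allEl_cons (el_t16 hH) (allEl_cons (el_t33 hH) (allEl_cons (el_t41 hH) (allEl_cons (el_t45 hH) (allEl_cons (el_t39 hH) (allEl_cons (el_t42 hH) (allEl_cons (el_t30 hH) (allEl_cons (el_t53 hH) (allEl_cons (el_t47 hH) (allEl_cons (el_t55 hH) (allEl_cons (el_t55 hH) (allEl_cons (el_t60 hH) (allEl_cons (el_t61 hH) (allEl_cons (el_t66 hH) (allEl_cons (el_t62 hH) (allEl_cons (el_t67 hH) (allEl_cons (el_t68 hH) (allEl_cons (el_t67 hH) (allEl_cons (el_t67 hH) (allEl_cons (el_t68 hH) (allEl_cons (el_t67 hH) (allEl_cons (el_t67 hH) (allEl_cons (el_t71 hH) (allEl_cons (el_t76 hH) (allEl_cons (el_t77 hH) (allEl_nil H))))))))))))))))))))))))))))))) chk_t105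
theorem el_t106 (hH : GenHyp H) : IsEl H t106 :=
  isEl_of_word t106 w106 (allEl_cons (el_t18 hH) (allEl_cons (el_t17 hH) (allEl_cons (el_t20 hH) (allEl_cons (el_t14 hH) (allEl_cons (el_t18 hH) (allEl_cons (el_t18 hH) (allEl_cons (el_t18 hH) (allEl_cons (el_t14 hH) (allEl_cons (el_t18 hH) (allEl_cons (el_t41 hH) (allEl_cons (el_t46 hH) (allEl_cons (el_t43 hH) (allEl_cons (el_t42 hH) (allEl_cons (el_t39 hH) (allEl_cons (el_t31 hH) (allEl_cons (el_t57 hH) (allEl_cons (el_t56 hH) (allEl_cons (el_t47 hH) (allEl_cons (el_t62 hH) (allEl_cons (el_t63 hH) (allEl_cons (el_t61 hH) (allEl_cons (el_t68 hH) (allEl_cons (el_t69 hH) (allEl_cons (el_t68 hH) (allEl_cons (el_t69 hH) (allEl_cons (el_t68 hH) (allEl_cons (el_t72 hH) (allEl_cons (el_t74 hH) (allEl_cons (el_t77 hH) (allEl_nil H)))))))))))))))))))))))))))))) chk_t106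
theorem el_t107 (hH : GenHyp H) : IsEl H t107 :=
  isEl_of_word t107 w107 (allEl_cons (el_t17 hH) (allEl_cons (el_t13 hH) (allEl_cons (el_t24 hH) (allEl_cons (el_t10 hH) (allEl_cons (el_t18 hH) (allEl_cons (el_t14 hH) (allEl_cons (el_t18 hH) (allEl_cons (el_t33 hH) (allEl_cons (el_t41 hH) (allEl_cons (el_t46 hH) (allEl_cons (el_t46 hH) (allEl_cons (el_t42 hH) (allEl_cons (el_t52 hH) (allEl_cons (el_t56 hH) (allEl_cons (el_t53 hH) (allEl_cons (el_t56 hH) (allEl_cons (el_t52 hH) (allEl_cons (el_t47 hH) (allEl_cons (el_t65 hH) (allEl_cons (el_t62 hH) (allEl_cons (el_t64 hH) (allEl_cons (el_t67 hH) (allEl_cons (el_t68 hH) (allEl_cons (el_t67 hH) (allEl_cons (el_t73 hH) (allEl_cons (el_t75 hH) (allEl_cons (el_t77 hH) (allEl_nil H)))))))))))))))))))))))))))) chk_t107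
theorem el_t108 (hH : GenHyp H) : IsEl H t108 :=
  isEl_of_word t108 w108 (allEl_cons (el_t18 hH) (allEl_cons (el_t11 hH) (allEl_cons (el_t15 hH) (allEl_cons (el_t13 hH) (allEl_cons (el_t19 hH) (allEl_cons (el_t13 hH) (allEl_cons (el_t18 hH) (allEl_cons (el_t18 hH) (allEl_cons (el_t11 hH) (allEl_cons (el_t8 hH) (allEl_cons (el_t41 hH) (allEl_cons (el_t35 hH) (allEl_cons (el_t30 hH) (allEl_cons (el_t43 hH) (allEl_cons (el_t42 hH) (allEl_cons (el_t36 hH) (allEl_cons (el_t50 hH) (allEl_cons (el_t49 hH) (allEl_cons (el_t56 hH) (allEl_cons (el_t50 hH) (allEl_cons (el_t64 hH) (allEl_cons (el_t61 hH) (allEl_cons (el_t63 hH) (allEl_cons (el_t67 hH) (allEl_cons (el_t73 hH) (allEl_cons (el_t75 hH) (allEl_cons (el_t77 hH) (allEl_nil H)))))))))))))))))))))))))))) chk_t108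
theorem el_t109 (hH : GenHyp H) : IsEl H t109 :=
  isEl_of_word t109 w109 (allEl_cons (el_t27 hH) (allEl_cons (el_t23 hH) (allEl_cons (el_t20 hH) (allEl_cons (el_t24 hH) (allEl_cons (el_t22 hH) (allEl_cons (el_t41 hH) (allEl_cons (el_t38 hH) (allEl_cons (el_t38 hH) (allEl_cons (el_t36 hH) (allEl_cons (el_t48 hH) (allEl_cons (el_t52 hH) (allEl_cons (el_t50 hH) (allEl_cons (el_t63 hH) (allEl_cons (el_t69 hH) (allEl_cons (el_t69 hH) (allEl_cons (el_t68 hH) (allEl_cons (el_t67 hH) (allEl_cons (el_t71 hH) (allEl_cons (el_t76 hH) (allEl_nil H)))))))))))))))))))) chk_t109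
theorem el_t110 (hH : GenHyp H) : IsEl H t110 :=
  isEl_of_word t110 w110 (allEl_cons (el_t26 hH) (allEl_cons (el_t14 hH) (allEl_cons (el_t24 hH) (allEl_cons (el_t24 hH) (allEl_cons (el_t22 hH) (allEl_cons (el_t16 hH) (allEl_cons (el_t40 hH) (allEl_cons (el_t31 hH) (allEl_cons (el_t47 hH) (allEl_cons (el_t55 hH) (allEl_cons (el_t51 hH) (allEl_cons (el_t61 hH) (allEl_cons (el_t69 hH) (allEl_cons (el_t69 hH) (allEl_cons (el_t68 hH) (allEl_cons (el_t69 hH) (allEl_cons (el_t68 hH) (allEl_cons (el_t67 hH) (allEl_cons (el_t67 hH) (allEl_cons (el_t76 hH) (allEl_cons (el_t77 hH) (allEl_nil H)))))))))))))))))))))) chk_t110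
theorem el_t111 (hH : GenHyp H) : IsEl H t111 :=
  isEl_of_word t111 w111 (allEl_cons (el_t1 hH) (allEl_cons (el_t77 hH) (allEl_nil H))) chk_t111
theorem el_t112 (hH : GenHyp H) : IsEl H t112 :=
  isEl_of_word t112 w112 (allEl_cons (el_t12 hH) (allEl_cons (el_t20 hH) (allEl_cons (el_t18 hH) (allEl_cons (el_t18 hH) (allEl_cons (el_t11 hH) (allEl_cons (el_t8 hH) (allEl_cons (el_t32 hH) (allEl_cons (el_t35 hH) (allEl_cons (el_t35 hH) (allEl_cons (el_t44 hH) (allEl_cons (el_t41 hH) (allEl_cons (el_t59 hH) (allEl_cons (el_t49 hH) (allEl_cons (el_t53 hH) (allEl_cons (el_t47 hH) (allEl_cons (el_t64 hH) (allEl_cons (el_t65 hH) (allEl_cons (el_t61 hH) (allEl_cons (el_t65 hH) (allEl_cons (el_t67 hH) (allEl_cons (el_t72 hH) (allEl_cons (el_t76 hH) (allEl_cons (el_t77 hH) (allEl_nil H)))))))))))))))))))))))) chk_t112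
theorem el_t113 (hH : GenHyp H) : IsEl H t113 :=
  isEl_of_word t113 w113 (allEl_cons (el_t17 hH) (allEl_cons (el_t22 hH) (allEl_cons (el_t14 hH) (allEl_cons (el_t24 hH) (allEl_cons (el_t24 hH) (allEl_cons (el_t22 hH) (allEl_cons (el_t16 hH) (allEl_cons (el_t40 hH) (allEl_cons (el_t40 hH) (allEl_cons (el_t44 hH) (allEl_cons (el_t41 hH) (allEl_cons (el_t40 hH) (allEl_cons (el_t56 hH) (allEl_cons (el_t60 hH) (allEl_cons (el_t47 hH) (allEl_cons (el_t55 hH) (allEl_cons (el_t63 hH) (allEl_cons (el_t61 hH) (allEl_cons (el_t65 hH) (allEl_cons (el_t67 hH) (allEl_cons (el_t68 hH) (allEl_cons (el_t69 hH) (allEl_cons (el_t68 hH) (allEl_cons (el_t67 hH) (allEl_cons (el_t67 hH) (allEl_cons (el_t70 hH) (allEl_cons (el_t77 hH) (allEl_nil H)))))))))))))))))))))))))))) chk_t113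
theorem el_t114 (hH : GenHyp H) : IsEl H t114 :=
  isEl_of_word t114 w114 (allEl_cons (el_t14 hH) (allEl_cons (el_t16 hH) (allEl_cons (el_t25 hH) (allEl_cons (el_t18 hH) (allEl_cons (el_t11 hH) (allEl_cons (el_t8 hH) (allEl_cons (el_t35 hH) (allEl_cons (el_t43 hH) (allEl_cons (el_t38 hH) (allEl_cons (el_t39 hH) (allEl_cons (el_t31 hH) (allEl_cons (el_t56 hH) (allEl_cons (el_t53 hH) (allEl_cons (el_t56 hH) (allEl_cons (el_t50 hH) (allEl_cons (el_t64 hH) (allEl_cons (el_t65 hH) (allEl_cons (el_t62 hH) (allEl_cons (el_t67 hH) (allEl_cons (el_t68 hH) (allEl_cons (el_t67 hH) (allEl_cons (el_t68 hH) (allEl_cons (el_t69 hH) (allEl_cons (el_t68 hH) (allEl_cons (el_t67 hH) (allEl_cons (el_t71 hH) (allEl_cons (el_t75 hH) (allEl_nil H)))))))))))))))))))))))))))) chk_t114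
theorem el_t115 (hH : GenHyp H) : IsEl H t115 :=
  isEl_of_word t115 w115 (allEl_cons (el_t22 hH) (allEl_cons (el_t25 hH) (allEl_cons (el_t18 hH) (allEl_cons (el_t3 hH) (allEl_cons (el_t20 hH) (allEl_cons (el_t18 hH) (allEl_cons (el_t18 hH) (allEl_cons (el_t11 hH) (allEl_cons (el_t8 hH) (allEl_cons (el_t46 hH) (allEl_cons (el_t36 hH) (allEl_cons (el_t38 hH) (allEl_cons (el_t42 hH) (allEl_cons (el_t39 hH) (allEl_cons (el_t42 hH) (allEl_cons (el_t31 hH) (allEl_cons (el_t49 hH) (allEl_cons (el_t56 hH) (allEl_cons (el_t52 hH) (allEl_cons (el_t59 hH) (allEl_cons (el_t55 hH) (allEl_cons (el_t65 hH) (allEl_cons (el_t62 hH) (allEl_cons (el_t67 hH) (allEl_cons (el_t67 hH) (allEl_cons (el_t67 hH) (allEl_cons (el_t68 hH) (allEl_cons (el_t69 hH) (allEl_cons (el_t68 hH) (allEl_cons (el_t70 hH) (allEl_cons (el_t76 hH) (allEl_cons (el_t77 hH) (allEl_nil H))))))))))))))))))))))))))))))))) chk_t115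
theorem el_t116 (hH : GenHyp H) : IsEl H t116 :=
  isEl_of_word t116 w116 (allEl_cons (el_t2 hH) (allEl_cons (el_t17 hH) (allEl_cons (el_t13 hH) (allEl_cons (el_t19 hH) (allEl_cons (el_t25 hH) (allEl_cons (el_t21 hH) (allEl_cons (el_t17 hH) (allEl_cons (el_t10 hH) (allEl_cons (el_t16 hH) (allEl_cons (el_t0 hH) (allEl_cons (el_t42 hH) (allEl_cons (el_t38 hH) (allEl_cons (el_t42 hH) (allEl_cons (el_t39 hH) (allEl_cons (el_t41 hH) (allEl_cons (el_t34 hH) (allEl_cons (el_t55 hH) (allEl_cons (el_t49 hH) (allEl_cons (el_t49 hH) (allEl_cons (el_t53 hH) (allEl_cons (el_t63 hH) (allEl_cons (el_t66 hH) (allEl_cons (el_t66 hH) (allEl_cons (el_t63 hH) (allEl_cons (el_t51 hH) (allEl_cons (el_t68 hH) (allEl_cons (el_t69 hH) (allEl_cons (el_t68 hH) (allEl_cons (el_t67 hH) (allEl_cons (el_t67 hH) (allEl_cons (el_t68 hH) (allEl_cons (el_t70 hH) (allEl_cons (el_t74 hH) (allEl_nil H))))))))))))))))))))))))))))))))))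 chk_t116
theorem el_t117 (hH : GenHyp H) : IsEl H t117 :=
  isEl_of_word t117 w117 (allEl_cons (el_t23 hH) (allEl_cons (el_t23 hH) (allEl_cons (el_t13 hH) (allEl_cons (el_t19 hH) (allEl_cons (el_t26 hH) (allEl_cons (el_t20 hH) (allEl_cons (el_t19 hH) (allEl_cons (el_t10 hH) (allEl_cons (el_t16 hH) (allEl_cons (el_t42 hH) (allEl_cons (el_t33 hH) (allEl_cons (el_t41 hH) (allEl_cons (el_t41 hH) (allEl_cons (el_t46 hH) (allEl_cons (el_t36 hH) (allEl_cons (el_t53 hH) (allEl_cons (el_t55 hH) (allEl_cons (el_t60 hH) (allEl_cons (el_t49 hH) (allEl_cons (el_t47 hH) (allEl_cons (el_t66 hH) (allEl_cons (el_t63 hH) (allEl_cons (el_t65 hH) (allEl_cons (el_t69 hH) (allEl_cons (el_t69 hH) (allEl_cons (el_t68 hH) (allEl_cons (el_t69 hH) (allEl_cons (el_t68 hH) (allEl_cons (el_t67 hH) (allEl_cons (el_t74 hH) (allEl_cons (el_t77 hH) (allEl_nil H)))))))))))))))))))))))))))))))) chk_t117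
theorem el_t118 (hH : GenHyp H) : IsEl H t118 :=
  isEl_of_word t118 w118 (allEl_cons (el_t23 hH) (allEl_cons (el_t18 hH) (allEl_cons (el_t23 hH) (allEl_cons (el_t14 hH) (allEl_cons (el_t19 hH) (allEl_cons (el_t21 hH) (allEl_cons (el_t24 hH) (allEl_cons (el_t24 hH) (allEl_cons (el_t22 hH) (allEl_cons (el_t16 hH) (allEl_cons (el_t46 hH) (allEl_cons (el_t42 hH) (allEl_cons (el_t38 hH) (allEl_cons (el_t42 hH) (allEl_cons (el_t46 hH) (allEl_cons (el_t32 hH) (allEl_cons (el_t52 hH) (allEl_cons (el_t56 hH) (allEl_cons (el_t52 hH) (allEl_cons (el_t53 hH) (allEl_cons (el_t55 hH) (allEl_cons (el_t63 hH) (allEl_cons (el_t66 hH) (allEl_cons (el_t63 hH) (allEl_cons (el_t51 hH) (allEl_cons (el_t69 hH) (allEl_cons (el_t68 hH) (allEl_cons (el_t67 hH) (allEl_cons (el_t68 hH) (allEl_cons (el_t67 hH) (allEl_cons (el_t68 hH) (allEl_cons (el_t77 hH) (allEl_nil H))))))))))))))))))))))))))))))))) chk_t118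
theorem el_t119 (hH : GenHyp H) : IsEl H t119 :=
  isEl_of_word t119 w119 (allEl_cons (el_t19 hH) (allEl_cons (el_t22 hH) (allEl_cons (el_t17 hH) (allEl_cons (el_t21 hH) (allEl_cons (el_t25 hH) (allEl_cons (el_t23 hH) (allEl_cons (el_t13 hH) (allEl_cons (el_t8 hH) (allEl_cons (el_t42 hH) (allEl_cons (el_t38 hH) (allEl_cons (el_t39 hH) (allEl_cons (el_t39 hH) (allEl_cons (el_t36 hH) (allEl_cons (el_t52 hH) (allEl_cons (el_t59 hH) (allEl_cons (el_t55 hH) (allEl_cons (el_t52 hH) (allEl_cons (el_t47 hH) (allEl_cons (el_t63 hH) (allEl_cons (el_t66 hH) (allEl_cons (el_t62 hH) (allEl_cons (el_t64 hH) (allEl_cons (el_t68 hH) (allEl_cons (el_t69 hH) (allEl_cons (el_t68 hH) (allEl_cons (el_t72 hH) (allEl_cons (el_t70 hH) (allEl_cons (el_t76 hH) (allEl_cons (el_t77 hH) (allEl_nil H)))))))))))))))))))))))))))))) chk_t119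
theorem el_t120 (hH : GenHyp H) : IsEl H t120 :=
  isEl_of_word t120 w120 (allEl_cons (el_t56 hH) (allEl_cons (el_t53 hH) (allEl_cons (el_t47 hH) (allEl_cons (el_t64 hH) (allEl_cons (el_t68 hH) (allEl_cons (el_t69 hH) (allEl_cons (el_t68 hH) (allEl_cons (el_t67 hH) (allEl_cons (el_t67 hH) (allEl_cons (el_t68 hH) (allEl_cons (el_t67 hH) (allEl_cons (el_t68 hH) (allEl_cons (el_t72 hH) (allEl_cons (el_t70 hH) (allEl_cons (el_t74 hH) (allEl_nil H)))))))))))))))) chk_t120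
theorem el_t121 (hH : GenHyp H) : IsEl H t121 :=
  isEl_of_word t121 w121 (allEl_cons (el_t24 hH) (allEl_cons (el_t41 hH) (allEl_cons (el_t37 hH) (allEl_cons (el_t42 hH) (allEl_cons (el_t30 hH) (allEl_cons (el_t48 hH) (allEl_cons (el_t59 hH) (allEl_cons (el_t52 hH) (allEl_cons (el_t50 hH) (allEl_cons (el_t63 hH) (allEl_cons (el_t66 hH) (allEl_cons (el_t62 hH) (allEl_cons (el_t67 hH) (allEl_cons (el_t67 hH) (allEl_cons (el_t68 hH) (allEl_cons (el_t67 hH) (allEl_cons (el_t68 hH) (allEl_cons (el_t67 hH) (allEl_cons (el_t67 hH) (allEl_cons (el_t72 hH) (allEl_cons (el_t70 hH) (allEl_cons (el_t77 hH) (allEl_nil H))))))))))))))))))))))) chk_t121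
theorem el_t122 (hH : GenHyp H) : IsEl H t122 :=
  isEl_of_word t122 w122 (allEl_cons (el_t55 hH) (allEl_cons (el_t52 hH) (allEl_cons (el_t53 hH) (allEl_cons (el_t47 hH) (allEl_cons (el_t64 hH) (allEl_cons (el_t64 hH) (allEl_cons (el_t61 hH) (allEl_cons (el_t71 hH) (allEl_cons (el_t74 hH) (allEl_cons (el_t77 hH) (allEl_nil H))))))))))) chk_t122
theorem el_gT2 (hH : GenHyp H) : AllEl H gT2 :=
  allEl_cons (el_t78 hH) (allEl_cons (el_t79 hH) (allEl_cons (el_t80 hH) (allEl_cons (el_t81 hH) (allEl_cons (el_t82 hH) (allEl_cons (el_t83 hH) (allEl_cons (el_t84 hH) (allEl_cons (el_t85 hH) (allEl_cons (el_t86 hH) (allEl_cons (el_t87 hH) (allEl_cons (el_t88 hH) (allEl_cons (el_t89 hH) (allEl_cons (el_t90 hH) (allEl_cons (el_t91 hH) (allEl_cons (el_t92 hH) (allEl_cons (el_t93 hH) (allEl_cons (el_t94 hH) (allEl_cons (el_t95 hH) (allEl_nil H))))))))))))))))))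

theorem el_hT2 (hH : GenHyp H) : AllEl H hT2 :=
  allEl_cons (el_t96 hH) (allEl_cons (el_t97 hH) (allEl_cons (el_t98 hH) (allEl_cons (el_t99 hH) (allEl_cons (el_t100 hH) (allEl_cons (el_t101 hH) (allEl_nil H))))))

theorem el_gT3 (hH : GenHyp H) : AllEl H gT3 :=
  allEl_cons (el_t102 hH) (allEl_cons (el_t103 hH) (allEl_cons (el_t104 hH) (allEl_cons (el_t105 hH) (allEl_cons (el_t106 hH) (allEl_cons (el_t107 hH) (allEl_cons (el_t108 hH) (allEl_cons (el_t109 hH) (allEl_cons (el_t110 hH) (allEl_cons (el_t111 hH) (allEl_cons (el_t112 hH) (allEl_cons (el_t113 hH) (allEl_cons (el_t114 hH) (allEl_nil H)))))))))))))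

theorem el_hT3 (hH : GenHyp H) : AllEl H hT3 :=
  allEl_cons (el_t115 hH) (allEl_cons (el_t116 hH) (allEl_cons (el_t117 hH) (allEl_cons (el_t118 hH) (allEl_nil H))))

theorem el_gT5 (hH : GenHyp H) : AllEl H gT5 :=
  allEl_cons (el_t119 hH) (allEl_cons (el_t120 hH) (allEl_nil H))

theorem el_hT5 (hH : GenHyp H) : AllEl H hT5 :=
  allEl_cons (el_t121 hH) (allEl_cons (el_t122 hH) (allEl_nil H))

end Cfsg.Agent.Lib.Helper28.Fi
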