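import Mathlib
import Cfsg.Agent.Lib.Helper5.PcPG
import Cfsg.Agent.Lib.Helper5.PcPH
import Cfsg.Agent.Lib.Helper28.Fi.Els
import Cfsg.Agent.Lib.Helper28.Fi.Cert2
import Cfsg.Agent.Lib.Helper28.Fi.Cert3
import Cfsg.Agent.Lib.Helper28.Fi.Cert5

set_option autoImplicit false

/-! Every finite stem extension of a group of permutations of 31671 points of the order of the
Fischer group `Fi23`, containing its ten generating involutions, has trivial kernel. -/

namespace Cfsg.Agent.Lib.Helper28.Fi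

open Cfsg Cfsg.Agent.Lib.Helper5.CP Cfsg.Agent.Lib.Helper5.PcT Cfsg.Agent.Lib.Helper5.PcP Subgroup

section

variable {H : Subgroup (Equiv.Perm (Fin nP))} [Finite H]

/-- no finite stem extension has a kernel of order 2 -/
theorem no_stem_2 (hH : GenHyp H) (hN : Nat.card H = 4089470473293004800)
    {Γ : Type*} [Group Γ] [Finite Γ] (σ : Γ →* H) (hσ : Cfsg.IsStemExtension σ) :
    Nat.card σ.ker ≠ 2 := by
  obtain ⟨gG, hg⟩ := exists_forall₂ gT2 (el_gT2 hH)
  obtain ⟨hG, hh⟩ := exists_forall₂ hT2 (el_hT2 hH)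
  have hlen : gG.length = 18 := by rw [← hg.length_eq]; rfl
  exact stem_card_ne_of_cert_chain Uid chk_id 2 Nat.prime_two gT2 gG hg hT2 hG hh 18 sqL2 cmL2
    data2_ok hlen rels2_ok 400 conL2 pwL2 [] cmEL2 [] CC2 certs2 cert2_ok pw2_ok cm2_ok
    levels2 levels2_ok levels2_prod 4089470473293004800 hN (by norm_num) σ hσ (by simp) (by simp)

/-- no finite stem extension has a kernel of order 3 -/
theorem no_stem_3 (hH : GenHyp H) (hN : Nat.card H = 4089470473293004800)
    {Γ : Type*} [Group Γ] [Finite Γ] (σ : Γ →* H) (hσ : Cfsg.IsStemExtension σ) :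
    Nat.card σ.ker ≠ 3 := by
  obtain ⟨gG, hg⟩ := exists_forall₂ gT3 (el_gT3 hH)
  obtain ⟨hG, hh⟩ := exists_forall₂ hT3 (el_hT3 hH)
  have hlen : gG.length = 13 := by rw [← hg.length_eq]; rfl
  exact stem_card_ne_of_cert_chain Uid chk_id 3 Nat.prime_three gT3 gG hg hT3 hG hh 13 sqL3 cmL3
    data3_ok hlen rels3_ok 400 conL3 pwL3 [] cmEL3 [] CC3 certs3 cert3_ok pw3_ok cm3_ok
    levels3 levels3_ok levels3_prod 4089470473293004800 hN (by norm_num) σ hσ (by simp) (by simp)

/-- no finite stem extension has a kernel of order 5 -/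
theorem no_stem_5 (hH : GenHyp H) (hN : Nat.card H = 4089470473293004800)
    {Γ : Type*} [Group Γ] [Finite Γ] (σ : Γ →* H) (hσ : Cfsg.IsStemExtension σ) :
    Nat.card σ.ker ≠ 5 := by
  obtain ⟨gG, hg⟩ := exists_forall₂ gT5 (el_gT5 hH)
  obtain ⟨hG, hh⟩ := exists_forall₂ hT5 (el_hT5 hH)
  have hlen : gG.length = 2 := by rw [← hg.length_eq]; rfl
  exact stem_card_ne_of_cert_chain Uid chk_id 5 Nat.prime_five gT5 gG hg hT5 hG hh 2 sqL5 cmL5
    data5_ok hlen rels5_ok 400 conL5 pwL5 [] cmEL5 [] CC5 certs5 cert5_ok pw5_ok cm5_ok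
    levels5 levels5_ok levels5_prod 4089470473293004800 hN (by norm_num) σ hσ (by simp) (by simp)

theorem sq_not_dvd (p : ℕ) (hp : p.Prime) (hmem : p ∉ [2, 3, 5]) :
    ¬ p ^ 2 ∣ 4089470473293004800 := by
  intro h
  have h2 : p ≠ 2 := fun e => hmem (by simp [e])
  have h3 : p ≠ 3 := fun e => hmem (by simp [e])
  have h5 : p ≠ 5 := fun e => hmem (by simp [e])
  have e : (4089470473293004800 : ℕ) = (2 ^ 18 * 3 ^ 13 * 5 ^ 2) * 391391 := by norm_num
  rw [e] at h
  have hc2 : Nat.Coprime p 2 := (Nat.coprime_primes hp Nat.prime_two).mpr h2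
  have hc3 : Nat.Coprime p 3 := (Nat.coprime_primes hp Nat.prime_three).mpr h3
  have hc5 : Nat.Coprime p 5 := (Nat.coprime_primes hp Nat.prime_five).mpr h5
  have hc : Nat.Coprime (p ^ 2) (2 ^ 18 * 3 ^ 13 * 5 ^ 2) := by
    apply Nat.Coprime.pow_left
    apply Nat.Coprime.mul_right
    · apply Nat.Coprime.mul_right
      · exact Nat.Coprime.pow_right _ hc2
      · exact Nat.Coprime.pow_right _ hc3
    · exact Nat.Coprime.pow_right _ hc5
  have h1 : p ^ 2 ∣ 391391 := hc.dvd_of_dvd_mul_left h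
  have hle : p ^ 2 ≤ 391391 := Nat.le_of_dvd (by norm_num) h1
  have hp626 : p < 626 := by
    by_contra hge
    push Not at hge
    have : 626 ^ 2 ≤ p ^ 2 := Nat.pow_le_pow_left hge 2
    omega
  have h7 : p ∣ 391391 := dvd_trans (dvd_pow_self p two_ne_zero) h1
  have e2 : (391391 : ℕ) = 7 * 11 * 13 * 17 * 23 := by norm_num
  rw [e2] at h7
  have hp7 : Nat.Prime 7 := by norm_num
  have hp11 : Nat.Prime 11 := by norm_num
  have hp13 : Nat.Prime 13 := by norm_num
  have hp17 : Nat.Prime 17 := by norm_num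
  have hp23 : Nat.Prime 23 := by norm_num
  have hcase : p = 7 ∨ p = 11 ∨ p = 13 ∨ p = 17 ∨ p = 23 := by
    rcases (Nat.Prime.dvd_mul hp).mp h7 with h | h
    · rcases (Nat.Prime.dvd_mul hp).mp h with h | h
      · rcases (Nat.Prime.dvd_mul hp).mp h with h | h
        · rcases (Nat.Prime.dvd_mul hp).mp h with h | h
          · exact Or.inl ((Nat.prime_dvd_prime_iff_eq hp hp7).mp h)
          · exact Or.inr (Or.inl ((Nat.prime_dvd_prime_iff_eq hp hp11).mp h))
        · exact Or.inr (Or.inr (Or.inl ((Nat.prime_dvd_prime_iff_eq hp hp13).mp h)))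
      · exact Or.inr (Or.inr (Or.inr (Or.inl ((Nat.prime_dvd_prime_iff_eq hp hp17).mp h))))
    · exact Or.inr (Or.inr (Or.inr (Or.inr ((Nat.prime_dvd_prime_iff_eq hp hp23).mp h))))
  rcases hcase with rfl | rfl | rfl | rfl | rfl <;> exact absurd h1 (by decide)

/-- every finite stem extension of the group has trivial kernel -/
theorem stem_ker_trivial.{u} (hH : GenHyp H) (hN : Nat.card H = 4089470473293004800)
    {Γ : Type u} [Group Γ] [Finite Γ] (σ : Γ →* H)
    (hσ : Cfsg.IsStemExtension σ) : ∀ z ∈ σ.ker, z = 1 := by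
  apply stem_ker_trivial_of_list 4089470473293004800 hN [2, 3, 5] sq_not_dvd _ σ hσ
  intro p hp Γ' _ _ σ' hσ'
  simp only [List.mem_cons, List.not_mem_nil, or_false] at hp
  rcases hp with rfl | rfl | rfl
  · exact no_stem_2 hH hN σ' hσ'
  · exact no_stem_3 hH hN σ' hσ'
  · exact no_stem_5 hH hN σ' hσ'

end

end Cfsg.Agent.Lib.Helper28.Fi
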