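import Mathlib
import Cfsg.Agent.Lib.Helper12.Ord.Fi23Order
import Cfsg.Agent.Lib.Helper28.Fi.Main

set_option autoImplicit false

/-! The Schur multiplier of the Fischer group `Fi23` is trivial. -/

namespace Cfsg.Agent.Lib.Helper28.Fi

open Cfsg Cfsg.Agent.Lib.Helper5.CP Cfsg.Agent.Lib.Helper5.PcP Cfsg.Agent.Lib.Helper12.TC
  Cfsg.Agent.Lib.Helper12.TC.Fi23o31671

/-- the permutation group: the image of the permutation representation of helper12 -/
noncomputable def KG : Subgroup (Equiv.Perm (Fin nP)) :=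
  (rho : Cfsg.Spor.Fi23 →* Equiv.Perm (Fin cN)).range

/-- the presented group is isomorphic to the permutation group -/
noncomputable def equivKG : Cfsg.Spor.Fi23 ≃* KG :=
  MonoidHom.ofInjective (f := (rho : Cfsg.Spor.Fi23 →* Equiv.Perm (Fin cN)))
    Cfsg.Agent.Lib.Helper12.Ord.Fi23Order.rho_injective

theorem card_KG : Nat.card KG = 4089470473293004800 := by
  rw [← Cfsg.Agent.Lib.Helper12.Ord.Fi23Order.card_eq]
  exact (Nat.card_congr equivKG.toEquiv).symm

instance : Finite KG := Nat.finite_of_card_ne_zero (by rw [card_KG]; norm_num)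

theorem genHyp_KG : GenHyp KG := by
  intro x hx
  refine ⟨⟨rho (PresentedGroup.mk _ (FreeGroup.of (Fi23Pres.gen x))),
    MonoidHom.mem_range.mpr ⟨_, rfl⟩⟩, ?_⟩
  intro i
  exact rho_gen x hx i

/-- the Schur multiplier of the Fischer group `Fi23` is trivial -/
theorem fi23_multiplier : Cfsg.HasCyclicSchurMultiplier Cfsg.Spor.Fi23 1 :=
  hasCyclicSchurMultiplier_one_of_equiv equivKG
    (fun _ _ _ σ hσ => stem_ker_trivial genHyp_KG card_KG σ hσ)

end Cfsg.Agent.Lib.Helper28.Fi
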