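import Mathlib
import Cfsg.Agent.Lib.Helper28.Fi.Core
import Cfsg.Agent.Lib.Helper28.Fi.Chunk
import Cfsg.Agent.Lib.Helper28.Fi.Rel
import Cfsg.Agent.Lib.Helper28.Fi.Lists
import Cfsg.Agent.Lib.Helper28.Fi.Data2

set_option autoImplicit false
set_option maxRecDepth 1000000
set_option Elab.async false

/-! Checks of the relations of a Sylow 2-subgroup of Fi23, part 3 (generated). -/

namespace Cfsg.Agent.Lib.Helper28.Fi

open Cfsg.Agent.Lib.Helper5.CP Cfsg.Agent.Lib.Helper5.PcP Cfsg.Agent.Lib.Helper5.PcT Cfsg.Agent.Lib.Helper12.TC.Fi23o31671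

theorem rel2_3_10_w_c0 : allR 0 4285 (eqF lk (cmA Uid gT2 3 10) (cmB Uid gT2 cmL2 3 10)) = true := by decide +kernel
theorem rel2_3_10_w_c1 : allR 4285 4285 (eqF lk (cmA Uid gT2 3 10) (cmB Uid gT2 cmL2 3 10)) = true := by decide +kernel
theorem rel2_3_10_w_c2 : allR 8570 4285 (eqF lk (cmA Uid gT2 3 10) (cmB Uid gT2 cmL2 3 10)) = true := by decide +kernel
theorem rel2_3_10_w_c3 : allR 12855 4285 (eqF lk (cmA Uid gT2 3 10) (cmB Uid gT2 cmL2 3 10)) = true := by decide +kernel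
theorem rel2_3_10_w_c4 : allR 17140 4285 (eqF lk (cmA Uid gT2 3 10) (cmB Uid gT2 cmL2 3 10)) = true := by decide +kernel
theorem rel2_3_10_w_c5 : allR 21425 4285 (eqF lk (cmA Uid gT2 3 10) (cmB Uid gT2 cmL2 3 10)) = true := by decide +kernel
theorem rel2_3_10_w_c6 : allR 25710 4285 (eqF lk (cmA Uid gT2 3 10) (cmB Uid gT2 cmL2 3 10)) = true := by decide +kernel
theorem rel2_3_10_w_c7 : allR 29995 1676 (eqF lk (cmA Uid gT2 3 10) (cmB Uid gT2 cmL2 3 10)) = true := by decide +kernel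
theorem rel2_3_10_w : eqWW lk nP (cmA Uid gT2 3 10) (cmB Uid gT2 cmL2 3 10) = true :=
  eqWW_of_eqF lk nP _ _ [(0, 4285), (4285, 4285), (8570, 4285), (12855, 4285), (17140, 4285), (21425, 4285), (25710, 4285), (29995, 1676)] (by decide) (AllChunks.cons rel2_3_10_w_c0 (AllChunks.cons rel2_3_10_w_c1 (AllChunks.cons rel2_3_10_w_c2 (AllChunks.cons rel2_3_10_w_c3 (AllChunks.cons rel2_3_10_w_c4 (AllChunks.cons rel2_3_10_w_c5 (AllChunks.cons rel2_3_10_w_c6 (AllChunks.cons rel2_3_10_w_c7 (AllChunks.nil)))))))))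

theorem rel2_3_10 : relChk1 lk nP Uid 2 gT2 sqL2 cmL2 (3, 10) = true :=
  relChk1_off lk nP Uid 2 gT2 sqL2 cmL2 3 10 (by decide) rel2_3_10_w

theorem rel2_3_11_w_c0 : allR 0 4285 (eqF lk (cmA Uid gT2 3 11) (cmB Uid gT2 cmL2 3 11)) = true := by decide +kernel
theorem rel2_3_11_w_c1 : allR 4285 4285 (eqF lk (cmA Uid gT2 3 11) (cmB Uid gT2 cmL2 3 11)) = true := by decide +kernel
theorem rel2_3_11_w_c2 : allR 8570 4285 (eqF lk (cmA Uid gT2 3 11) (cmB Uid gT2 cmL2 3 11)) = true := by decide +kernel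
theorem rel2_3_11_w_c3 : allR 12855 4285 (eqF lk (cmA Uid gT2 3 11) (cmB Uid gT2 cmL2 3 11)) = true := by decide +kernel
theorem rel2_3_11_w_c4 : allR 17140 4285 (eqF lk (cmA Uid gT2 3 11) (cmB Uid gT2 cmL2 3 11)) = true := by decide +kernel
theorem rel2_3_11_w_c5 : allR 21425 4285 (eqF lk (cmA Uid gT2 3 11) (cmB Uid gT2 cmL2 3 11)) = true := by decide +kernel
theorem rel2_3_11_w_c6 : allR 25710 4285 (eqF lk (cmA Uid gT2 3 11) (cmB Uid gT2 cmL2 3 11)) = true := by decide +kernel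
theorem rel2_3_11_w_c7 : allR 29995 1676 (eqF lk (cmA Uid gT2 3 11) (cmB Uid gT2 cmL2 3 11)) = true := by decide +kernel
theorem rel2_3_11_w : eqWW lk nP (cmA Uid gT2 3 11) (cmB Uid gT2 cmL2 3 11) = true :=
  eqWW_of_eqF lk nP _ _ [(0, 4285), (4285, 4285), (8570, 4285), (12855, 4285), (17140, 4285), (21425, 4285), (25710, 4285), (29995, 1676)] (by decide) (AllChunks.cons rel2_3_11_w_c0 (AllChunks.cons rel2_3_11_w_c1 (AllChunks.cons rel2_3_11_w_c2 (AllChunks.cons rel2_3_11_w_c3 (AllChunks.cons rel2_3_11_w_c4 (AllChunks.cons rel2_3_11_w_c5 (AllChunks.cons rel2_3_11_w_c6 (AllChunks.cons rel2_3_11_w_c7 (AllChunks.nil)))))))))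

theorem rel2_3_11 : relChk1 lk nP Uid 2 gT2 sqL2 cmL2 (3, 11) = true :=
  relChk1_off lk nP Uid 2 gT2 sqL2 cmL2 3 11 (by decide) rel2_3_11_w

theorem rel2_3_12_w_c0 : allR 0 7500 (eqF lk (cmA Uid gT2 3 12) (cmB Uid gT2 cmL2 3 12)) = true := by decide +kernel
theorem rel2_3_12_w_c1 : allR 7500 7500 (eqF lk (cmA Uid gT2 3 12) (cmB Uid gT2 cmL2 3 12)) = true := by decide +kernel
theorem rel2_3_12_w_c2 : allR 15000 7500 (eqF lk (cmA Uid gT2 3 12) (cmB Uid gT2 cmL2 3 12)) = true := by decide +kernel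
theorem rel2_3_12_w_c3 : allR 22500 7500 (eqF lk (cmA Uid gT2 3 12) (cmB Uid gT2 cmL2 3 12)) = true := by decide +kernel
theorem rel2_3_12_w_c4 : allR 30000 1671 (eqF lk (cmA Uid gT2 3 12) (cmB Uid gT2 cmL2 3 12)) = true := by decide +kernel
theorem rel2_3_12_w : eqWW lk nP (cmA Uid gT2 3 12) (cmB Uid gT2 cmL2 3 12) = true :=
  eqWW_of_eqF lk nP _ _ [(0, 7500), (7500, 7500), (15000, 7500), (22500, 7500), (30000, 1671)] (by decide) (AllChunks.cons rel2_3_12_w_c0 (AllChunks.cons rel2_3_12_w_c1 (AllChunks.cons rel2_3_12_w_c2 (AllChunks.cons rel2_3_12_w_c3 (AllChunks.cons rel2_3_12_w_c4 (AllChunks.nil))))))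

theorem rel2_3_12 : relChk1 lk nP Uid 2 gT2 sqL2 cmL2 (3, 12) = true :=
  relChk1_off lk nP Uid 2 gT2 sqL2 cmL2 3 12 (by decide) rel2_3_12_w

theorem rel2_3_13_w_c0 : allR 0 5000 (eqF lk (cmA Uid gT2 3 13) (cmB Uid gT2 cmL2 3 13)) = true := by decide +kernel
theorem rel2_3_13_w_c1 : allR 5000 5000 (eqF lk (cmA Uid gT2 3 13) (cmB Uid gT2 cmL2 3 13)) = true := by decide +kernel
theorem rel2_3_13_w_c2 : allR 10000 5000 (eqF lk (cmA Uid gT2 3 13) (cmB Uid gT2 cmL2 3 13)) = true := by decide +kernel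
theorem rel2_3_13_w_c3 : allR 15000 5000 (eqF lk (cmA Uid gT2 3 13) (cmB Uid gT2 cmL2 3 13)) = true := by decide +kernel
theorem rel2_3_13_w_c4 : allR 20000 5000 (eqF lk (cmA Uid gT2 3 13) (cmB Uid gT2 cmL2 3 13)) = true := by decide +kernel
theorem rel2_3_13_w_c5 : allR 25000 5000 (eqF lk (cmA Uid gT2 3 13) (cmB Uid gT2 cmL2 3 13)) = true := by decide +kernel
theorem rel2_3_13_w_c6 : allR 30000 1671 (eqF lk (cmA Uid gT2 3 13) (cmB Uid gT2 cmL2 3 13)) = true := by decide +kernel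
theorem rel2_3_13_w : eqWW lk nP (cmA Uid gT2 3 13) (cmB Uid gT2 cmL2 3 13) = true :=
  eqWW_of_eqF lk nP _ _ [(0, 5000), (5000, 5000), (10000, 5000), (15000, 5000), (20000, 5000), (25000, 5000), (30000, 1671)] (by decide) (AllChunks.cons rel2_3_13_w_c0 (AllChunks.cons rel2_3_13_w_c1 (AllChunks.cons rel2_3_13_w_c2 (AllChunks.cons rel2_3_13_w_c3 (AllChunks.cons rel2_3_13_w_c4 (AllChunks.cons rel2_3_13_w_c5 (AllChunks.cons rel2_3_13_w_c6 (AllChunks.nil))))))))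

theorem rel2_3_13 : relChk1 lk nP Uid 2 gT2 sqL2 cmL2 (3, 13) = true :=
  relChk1_off lk nP Uid 2 gT2 sqL2 cmL2 3 13 (by decide) rel2_3_13_w

theorem rel2_3_14_w_c0 : allR 0 7500 (eqF lk (cmA Uid gT2 3 14) (cmB Uid gT2 cmL2 3 14)) = true := by decide +kernel
theorem rel2_3_14_w_c1 : allR 7500 7500 (eqF lk (cmA Uid gT2 3 14) (cmB Uid gT2 cmL2 3 14)) = true := by decide +kernel
theorem rel2_3_14_w_c2 : allR 15000 7500 (eqF lk (cmA Uid gT2 3 14) (cmB Uid gT2 cmL2 3 14)) = true := by decide +kernel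
theorem rel2_3_14_w_c3 : allR 22500 7500 (eqF lk (cmA Uid gT2 3 14) (cmB Uid gT2 cmL2 3 14)) = true := by decide +kernel
theorem rel2_3_14_w_c4 : allR 30000 1671 (eqF lk (cmA Uid gT2 3 14) (cmB Uid gT2 cmL2 3 14)) = true := by decide +kernel
theorem rel2_3_14_w : eqWW lk nP (cmA Uid gT2 3 14) (cmB Uid gT2 cmL2 3 14) = true :=
  eqWW_of_eqF lk nP _ _ [(0, 7500), (7500, 7500), (15000, 7500), (22500, 7500), (30000, 1671)] (by decide) (AllChunks.cons rel2_3_14_w_c0 (AllChunks.cons rel2_3_14_w_c1 (AllChunks.cons rel2_3_14_w_c2 (AllChunks.cons rel2_3_14_w_c3 (AllChunks.cons rel2_3_14_w_c4 (AllChunks.nil))))))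

theorem rel2_3_14 : relChk1 lk nP Uid 2 gT2 sqL2 cmL2 (3, 14) = true :=
  relChk1_off lk nP Uid 2 gT2 sqL2 cmL2 3 14 (by decide) rel2_3_14_w

theorem rel2_3_15_w_c0 : allR 0 7500 (eqF lk (cmA Uid gT2 3 15) (cmB Uid gT2 cmL2 3 15)) = true := by decide +kernel
theorem rel2_3_15_w_c1 : allR 7500 7500 (eqF lk (cmA Uid gT2 3 15) (cmB Uid gT2 cmL2 3 15)) = true := by decide +kernel
theorem rel2_3_15_w_c2 : allR 15000 7500 (eqF lk (cmA Uid gT2 3 15) (cmB Uid gT2 cmL2 3 15)) = true := by decide +kernel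
theorem rel2_3_15_w_c3 : allR 22500 7500 (eqF lk (cmA Uid gT2 3 15) (cmB Uid gT2 cmL2 3 15)) = true := by decide +kernel
theorem rel2_3_15_w_c4 : allR 30000 1671 (eqF lk (cmA Uid gT2 3 15) (cmB Uid gT2 cmL2 3 15)) = true := by decide +kernel
theorem rel2_3_15_w : eqWW lk nP (cmA Uid gT2 3 15) (cmB Uid gT2 cmL2 3 15) = true :=
  eqWW_of_eqF lk nP _ _ [(0, 7500), (7500, 7500), (15000, 7500), (22500, 7500), (30000, 1671)] (by decide) (AllChunks.cons rel2_3_15_w_c0 (AllChunks.cons rel2_3_15_w_c1 (AllChunks.cons rel2_3_15_w_c2 (AllChunks.cons rel2_3_15_w_c3 (AllChunks.cons rel2_3_15_w_c4 (AllChunks.nil))))))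

theorem rel2_3_15 : relChk1 lk nP Uid 2 gT2 sqL2 cmL2 (3, 15) = true :=
  relChk1_off lk nP Uid 2 gT2 sqL2 cmL2 3 15 (by decide) rel2_3_15_w

theorem rel2_3_16_w_c0 : allR 0 7500 (eqF lk (cmA Uid gT2 3 16) (cmB Uid gT2 cmL2 3 16)) = true := by decide +kernel
theorem rel2_3_16_w_c1 : allR 7500 7500 (eqF lk (cmA Uid gT2 3 16) (cmB Uid gT2 cmL2 3 16)) = true := by decide +kernel
theorem rel2_3_16_w_c2 : allR 15000 7500 (eqF lk (cmA Uid gT2 3 16) (cmB Uid gT2 cmL2 3 16)) = true := by decide +kernel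
theorem rel2_3_16_w_c3 : allR 22500 7500 (eqF lk (cmA Uid gT2 3 16) (cmB Uid gT2 cmL2 3 16)) = true := by decide +kernel
theorem rel2_3_16_w_c4 : allR 30000 1671 (eqF lk (cmA Uid gT2 3 16) (cmB Uid gT2 cmL2 3 16)) = true := by decide +kernel
theorem rel2_3_16_w : eqWW lk nP (cmA Uid gT2 3 16) (cmB Uid gT2 cmL2 3 16) = true :=
  eqWW_of_eqF lk nP _ _ [(0, 7500), (7500, 7500), (15000, 7500), (22500, 7500), (30000, 1671)] (by decide) (AllChunks.cons rel2_3_16_w_c0 (AllChunks.cons rel2_3_16_w_c1 (AllChunks.cons rel2_3_16_w_c2 (AllChunks.cons rel2_3_16_w_c3 (AllChunks.cons rel2_3_16_w_c4 (AllChunks.nil))))))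

theorem rel2_3_16 : relChk1 lk nP Uid 2 gT2 sqL2 cmL2 (3, 16) = true :=
  relChk1_off lk nP Uid 2 gT2 sqL2 cmL2 3 16 (by decide) rel2_3_16_w

theorem rel2_3_17_w_c0 : allR 0 7500 (eqF lk (cmA Uid gT2 3 17) (cmB Uid gT2 cmL2 3 17)) = true := by decide +kernel
theorem rel2_3_17_w_c1 : allR 7500 7500 (eqF lk (cmA Uid gT2 3 17) (cmB Uid gT2 cmL2 3 17)) = true := by decide +kernel
theorem rel2_3_17_w_c2 : allR 15000 7500 (eqF lk (cmA Uid gT2 3 17) (cmB Uid gT2 cmL2 3 17)) = true := by decide +kernel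
theorem rel2_3_17_w_c3 : allR 22500 7500 (eqF lk (cmA Uid gT2 3 17) (cmB Uid gT2 cmL2 3 17)) = true := by decide +kernel
theorem rel2_3_17_w_c4 : allR 30000 1671 (eqF lk (cmA Uid gT2 3 17) (cmB Uid gT2 cmL2 3 17)) = true := by decide +kernel
theorem rel2_3_17_w : eqWW lk nP (cmA Uid gT2 3 17) (cmB Uid gT2 cmL2 3 17) = true :=
  eqWW_of_eqF lk nP _ _ [(0, 7500), (7500, 7500), (15000, 7500), (22500, 7500), (30000, 1671)] (by decide) (AllChunks.cons rel2_3_17_w_c0 (AllChunks.cons rel2_3_17_w_c1 (AllChunks.cons rel2_3_17_w_c2 (AllChunks.cons rel2_3_17_w_c3 (AllChunks.cons rel2_3_17_w_c4 (AllChunks.nil))))))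

theorem rel2_3_17 : relChk1 lk nP Uid 2 gT2 sqL2 cmL2 (3, 17) = true :=
  relChk1_off lk nP Uid 2 gT2 sqL2 cmL2 3 17 (by decide) rel2_3_17_w

theorem rel2_4_4_w_c0 : allR 0 10000 (eqF lk (sqA Uid 2 gT2 4) (sqB Uid gT2 sqL2 4)) = true := by decide +kernel
theorem rel2_4_4_w_c1 : allR 10000 10000 (eqF lk (sqA Uid 2 gT2 4) (sqB Uid gT2 sqL2 4)) = true := by decide +kernel
theorem rel2_4_4_w_c2 : allR 20000 10000 (eqF lk (sqA Uid 2 gT2 4) (sqB Uid gT2 sqL2 4)) = true := by decide +kernel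
theorem rel2_4_4_w_c3 : allR 30000 1671 (eqF lk (sqA Uid 2 gT2 4) (sqB Uid gT2 sqL2 4)) = true := by decide +kernel
theorem rel2_4_4_w : eqWW lk nP (sqA Uid 2 gT2 4) (sqB Uid gT2 sqL2 4) = true :=
  eqWW_of_eqF lk nP _ _ [(0, 10000), (10000, 10000), (20000, 10000), (30000, 1671)] (by decide) (AllChunks.cons rel2_4_4_w_c0 (AllChunks.cons rel2_4_4_w_c1 (AllChunks.cons rel2_4_4_w_c2 (AllChunks.cons rel2_4_4_w_c3 (AllChunks.nil)))))

theorem rel2_4_4 : relChk1 lk nP Uid 2 gT2 sqL2 cmL2 (4, 4) = true :=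
  relChk1_diag lk nP Uid 2 gT2 sqL2 cmL2 4 rel2_4_4_w

theorem rel2_4_5_w_c0 : allR 0 4285 (eqF lk (cmA Uid gT2 4 5) (cmB Uid gT2 cmL2 4 5)) = true := by decide +kernel
theorem rel2_4_5_w_c1 : allR 4285 4285 (eqF lk (cmA Uid gT2 4 5) (cmB Uid gT2 cmL2 4 5)) = true := by decide +kernel
theorem rel2_4_5_w_c2 : allR 8570 4285 (eqF lk (cmA Uid gT2 4 5) (cmB Uid gT2 cmL2 4 5)) = true := by decide +kernel
theorem rel2_4_5_w_c3 : allR 12855 4285 (eqF lk (cmA Uid gT2 4 5) (cmB Uid gT2 cmL2 4 5)) = true := by decide +kernel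
theorem rel2_4_5_w_c4 : allR 17140 4285 (eqF lk (cmA Uid gT2 4 5) (cmB Uid gT2 cmL2 4 5)) = true := by decide +kernel
theorem rel2_4_5_w_c5 : allR 21425 4285 (eqF lk (cmA Uid gT2 4 5) (cmB Uid gT2 cmL2 4 5)) = true := by decide +kernel
theorem rel2_4_5_w_c6 : allR 25710 4285 (eqF lk (cmA Uid gT2 4 5) (cmB Uid gT2 cmL2 4 5)) = true := by decide +kernel
theorem rel2_4_5_w_c7 : allR 29995 1676 (eqF lk (cmA Uid gT2 4 5) (cmB Uid gT2 cmL2 4 5)) = true := by decide +kernel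
theorem rel2_4_5_w : eqWW lk nP (cmA Uid gT2 4 5) (cmB Uid gT2 cmL2 4 5) = true :=
  eqWW_of_eqF lk nP _ _ [(0, 4285), (4285, 4285), (8570, 4285), (12855, 4285), (17140, 4285), (21425, 4285), (25710, 4285), (29995, 1676)] (by decide) (AllChunks.cons rel2_4_5_w_c0 (AllChunks.cons rel2_4_5_w_c1 (AllChunks.cons rel2_4_5_w_c2 (AllChunks.cons rel2_4_5_w_c3 (AllChunks.cons rel2_4_5_w_c4 (AllChunks.cons rel2_4_5_w_c5 (AllChunks.cons rel2_4_5_w_c6 (AllChunks.cons rel2_4_5_w_c7 (AllChunks.nil)))))))))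

theorem rel2_4_5 : relChk1 lk nP Uid 2 gT2 sqL2 cmL2 (4, 5) = true :=
  relChk1_off lk nP Uid 2 gT2 sqL2 cmL2 4 5 (by decide) rel2_4_5_w

theorem rel2_4_6_w_c0 : allR 0 7500 (eqF lk (cmA Uid gT2 4 6) (cmB Uid gT2 cmL2 4 6)) = true := by decide +kernel
theorem rel2_4_6_w_c1 : allR 7500 7500 (eqF lk (cmA Uid gT2 4 6) (cmB Uid gT2 cmL2 4 6)) = true := by decide +kernel
theorem rel2_4_6_w_c2 : allR 15000 7500 (eqF lk (cmA Uid gT2 4 6) (cmB Uid gT2 cmL2 4 6)) = true := by decide +kernel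
theorem rel2_4_6_w_c3 : allR 22500 7500 (eqF lk (cmA Uid gT2 4 6) (cmB Uid gT2 cmL2 4 6)) = true := by decide +kernel
theorem rel2_4_6_w_c4 : allR 30000 1671 (eqF lk (cmA Uid gT2 4 6) (cmB Uid gT2 cmL2 4 6)) = true := by decide +kernel
theorem rel2_4_6_w : eqWW lk nP (cmA Uid gT2 4 6) (cmB Uid gT2 cmL2 4 6) = true :=
  eqWW_of_eqF lk nP _ _ [(0, 7500), (7500, 7500), (15000, 7500), (22500, 7500), (30000, 1671)] (by decide) (AllChunks.cons rel2_4_6_w_c0 (AllChunks.cons rel2_4_6_w_c1 (AllChunks.cons rel2_4_6_w_c2 (AllChunks.cons rel2_4_6_w_c3 (AllChunks.cons rel2_4_6_w_c4 (AllChunks.nil))))))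

theorem rel2_4_6 : relChk1 lk nP Uid 2 gT2 sqL2 cmL2 (4, 6) = true :=
  relChk1_off lk nP Uid 2 gT2 sqL2 cmL2 4 6 (by decide) rel2_4_6_w

theorem rel2_4_7_w_c0 : allR 0 5000 (eqF lk (cmA Uid gT2 4 7) (cmB Uid gT2 cmL2 4 7)) = true := by decide +kernel
theorem rel2_4_7_w_c1 : allR 5000 5000 (eqF lk (cmA Uid gT2 4 7) (cmB Uid gT2 cmL2 4 7)) = true := by decide +kernel
theorem rel2_4_7_w_c2 : allR 10000 5000 (eqF lk (cmA Uid gT2 4 7) (cmB Uid gT2 cmL2 4 7)) = true := by decide +kernel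
theorem rel2_4_7_w_c3 : allR 15000 5000 (eqF lk (cmA Uid gT2 4 7) (cmB Uid gT2 cmL2 4 7)) = true := by decide +kernel
theorem rel2_4_7_w_c4 : allR 20000 5000 (eqF lk (cmA Uid gT2 4 7) (cmB Uid gT2 cmL2 4 7)) = true := by decide +kernel
theorem rel2_4_7_w_c5 : allR 25000 5000 (eqF lk (cmA Uid gT2 4 7) (cmB Uid gT2 cmL2 4 7)) = true := by decide +kernel
theorem rel2_4_7_w_c6 : allR 30000 1671 (eqF lk (cmA Uid gT2 4 7) (cmB Uid gT2 cmL2 4 7)) = true := by decide +kernel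
theorem rel2_4_7_w : eqWW lk nP (cmA Uid gT2 4 7) (cmB Uid gT2 cmL2 4 7) = true :=
  eqWW_of_eqF lk nP _ _ [(0, 5000), (5000, 5000), (10000, 5000), (15000, 5000), (20000, 5000), (25000, 5000), (30000, 1671)] (by decide) (AllChunks.cons rel2_4_7_w_c0 (AllChunks.cons rel2_4_7_w_c1 (AllChunks.cons rel2_4_7_w_c2 (AllChunks.cons rel2_4_7_w_c3 (AllChunks.cons rel2_4_7_w_c4 (AllChunks.cons rel2_4_7_w_c5 (AllChunks.cons rel2_4_7_w_c6 (AllChunks.nil))))))))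

theorem rel2_4_7 : relChk1 lk nP Uid 2 gT2 sqL2 cmL2 (4, 7) = true :=
  relChk1_off lk nP Uid 2 gT2 sqL2 cmL2 4 7 (by decide) rel2_4_7_w

theorem rel2_4_8_w_c0 : allR 0 7500 (eqF lk (cmA Uid gT2 4 8) (cmB Uid gT2 cmL2 4 8)) = true := by decide +kernel
theorem rel2_4_8_w_c1 : allR 7500 7500 (eqF lk (cmA Uid gT2 4 8) (cmB Uid gT2 cmL2 4 8)) = true := by decide +kernel
theorem rel2_4_8_w_c2 : allR 15000 7500 (eqF lk (cmA Uid gT2 4 8) (cmB Uid gT2 cmL2 4 8)) = true := by decide +kernel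
theorem rel2_4_8_w_c3 : allR 22500 7500 (eqF lk (cmA Uid gT2 4 8) (cmB Uid gT2 cmL2 4 8)) = true := by decide +kernel
theorem rel2_4_8_w_c4 : allR 30000 1671 (eqF lk (cmA Uid gT2 4 8) (cmB Uid gT2 cmL2 4 8)) = true := by decide +kernel
theorem rel2_4_8_w : eqWW lk nP (cmA Uid gT2 4 8) (cmB Uid gT2 cmL2 4 8) = true :=
  eqWW_of_eqF lk nP _ _ [(0, 7500), (7500, 7500), (15000, 7500), (22500, 7500), (30000, 1671)] (by decide) (AllChunks.cons rel2_4_8_w_c0 (AllChunks.cons rel2_4_8_w_c1 (AllChunks.cons rel2_4_8_w_c2 (AllChunks.cons rel2_4_8_w_c3 (AllChunks.cons rel2_4_8_w_c4 (AllChunks.nil))))))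

theorem rel2_4_8 : relChk1 lk nP Uid 2 gT2 sqL2 cmL2 (4, 8) = true :=
  relChk1_off lk nP Uid 2 gT2 sqL2 cmL2 4 8 (by decide) rel2_4_8_w

theorem rel2_4_9_w_c0 : allR 0 6000 (eqF lk (cmA Uid gT2 4 9) (cmB Uid gT2 cmL2 4 9)) = true := by decide +kernel
theorem rel2_4_9_w_c1 : allR 6000 6000 (eqF lk (cmA Uid gT2 4 9) (cmB Uid gT2 cmL2 4 9)) = true := by decide +kernel
theorem rel2_4_9_w_c2 : allR 12000 6000 (eqF lk (cmA Uid gT2 4 9) (cmB Uid gT2 cmL2 4 9)) = true := by decide +kernel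
theorem rel2_4_9_w_c3 : allR 18000 6000 (eqF lk (cmA Uid gT2 4 9) (cmB Uid gT2 cmL2 4 9)) = true := by decide +kernel
theorem rel2_4_9_w_c4 : allR 24000 6000 (eqF lk (cmA Uid gT2 4 9) (cmB Uid gT2 cmL2 4 9)) = true := by decide +kernel
theorem rel2_4_9_w_c5 : allR 30000 1671 (eqF lk (cmA Uid gT2 4 9) (cmB Uid gT2 cmL2 4 9)) = true := by decide +kernel
theorem rel2_4_9_w : eqWW lk nP (cmA Uid gT2 4 9) (cmB Uid gT2 cmL2 4 9) = true :=
  eqWW_of_eqF lk nP _ _ [(0, 6000), (6000, 6000), (12000, 6000), (18000, 6000), (24000, 6000), (30000, 1671)] (by decide) (AllChunks.cons rel2_4_9_w_c0 (AllChunks.cons rel2_4_9_w_c1 (AllChunks.cons rel2_4_9_w_c2 (AllChunks.cons rel2_4_9_w_c3 (AllChunks.cons rel2_4_9_w_c4 (AllChunks.cons rel2_4_9_w_c5 (AllChunks.nil)))))))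

theorem rel2_4_9 : relChk1 lk nP Uid 2 gT2 sqL2 cmL2 (4, 9) = true :=
  relChk1_off lk nP Uid 2 gT2 sqL2 cmL2 4 9 (by decide) rel2_4_9_w

theorem rel2_4_10_w_c0 : allR 0 4285 (eqF lk (cmA Uid gT2 4 10) (cmB Uid gT2 cmL2 4 10)) = true := by decide +kernel
theorem rel2_4_10_w_c1 : allR 4285 4285 (eqF lk (cmA Uid gT2 4 10) (cmB Uid gT2 cmL2 4 10)) = true := by decide +kernel
theorem rel2_4_10_w_c2 : allR 8570 4285 (eqF lk (cmA Uid gT2 4 10) (cmB Uid gT2 cmL2 4 10)) = true := by decide +kernel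
theorem rel2_4_10_w_c3 : allR 12855 4285 (eqF lk (cmA Uid gT2 4 10) (cmB Uid gT2 cmL2 4 10)) = true := by decide +kernel
theorem rel2_4_10_w_c4 : allR 17140 4285 (eqF lk (cmA Uid gT2 4 10) (cmB Uid gT2 cmL2 4 10)) = true := by decide +kernel
theorem rel2_4_10_w_c5 : allR 21425 4285 (eqF lk (cmA Uid gT2 4 10) (cmB Uid gT2 cmL2 4 10)) = true := by decide +kernel
theorem rel2_4_10_w_c6 : allR 25710 4285 (eqF lk (cmA Uid gT2 4 10) (cmB Uid gT2 cmL2 4 10)) = true := by decide +kernel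
theorem rel2_4_10_w_c7 : allR 29995 1676 (eqF lk (cmA Uid gT2 4 10) (cmB Uid gT2 cmL2 4 10)) = true := by decide +kernel
theorem rel2_4_10_w : eqWW lk nP (cmA Uid gT2 4 10) (cmB Uid gT2 cmL2 4 10) = true :=
  eqWW_of_eqF lk nP _ _ [(0, 4285), (4285, 4285), (8570, 4285), (12855, 4285), (17140, 4285), (21425, 4285), (25710, 4285), (29995, 1676)] (by decide) (AllChunks.cons rel2_4_10_w_c0 (AllChunks.cons rel2_4_10_w_c1 (AllChunks.cons rel2_4_10_w_c2 (AllChunks.cons rel2_4_10_w_c3 (AllChunks.cons rel2_4_10_w_c4 (AllChunks.cons rel2_4_10_w_c5 (AllChunks.cons rel2_4_10_w_c6 (AllChunks.cons rel2_4_10_w_c7 (AllChunks.nil)))))))))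

theorem rel2_4_10 : relChk1 lk nP Uid 2 gT2 sqL2 cmL2 (4, 10) = true :=
  relChk1_off lk nP Uid 2 gT2 sqL2 cmL2 4 10 (by decide) rel2_4_10_w

theorem rel2_4_11_w_c0 : allR 0 3333 (eqF lk (cmA Uid gT2 4 11) (cmB Uid gT2 cmL2 4 11)) = true := by decide +kernel
theorem rel2_4_11_w_c1 : allR 3333 3333 (eqF lk (cmA Uid gT2 4 11) (cmB Uid gT2 cmL2 4 11)) = true := by decide +kernel
theorem rel2_4_11_w_c2 : allR 6666 3333 (eqF lk (cmA Uid gT2 4 11) (cmB Uid gT2 cmL2 4 11)) = true := by decide +kernel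
theorem rel2_4_11_w_c3 : allR 9999 3333 (eqF lk (cmA Uid gT2 4 11) (cmB Uid gT2 cmL2 4 11)) = true := by decide +kernel
theorem rel2_4_11_w_c4 : allR 13332 3333 (eqF lk (cmA Uid gT2 4 11) (cmB Uid gT2 cmL2 4 11)) = true := by decide +kernel
theorem rel2_4_11_w_c5 : allR 16665 3333 (eqF lk (cmA Uid gT2 4 11) (cmB Uid gT2 cmL2 4 11)) = true := by decide +kernel
theorem rel2_4_11_w_c6 : allR 19998 3333 (eqF lk (cmA Uid gT2 4 11) (cmB Uid gT2 cmL2 4 11)) = true := by decide +kernel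
theorem rel2_4_11_w_c7 : allR 23331 3333 (eqF lk (cmA Uid gT2 4 11) (cmB Uid gT2 cmL2 4 11)) = true := by decide +kernel
theorem rel2_4_11_w_c8 : allR 26664 3333 (eqF lk (cmA Uid gT2 4 11) (cmB Uid gT2 cmL2 4 11)) = true := by decide +kernel
theorem rel2_4_11_w_c9 : allR 29997 1674 (eqF lk (cmA Uid gT2 4 11) (cmB Uid gT2 cmL2 4 11)) = true := by decide +kernel
theorem rel2_4_11_w : eqWW lk nP (cmA Uid gT2 4 11) (cmB Uid gT2 cmL2 4 11) = true :=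
  eqWW_of_eqF lk nP _ _ [(0, 3333), (3333, 3333), (6666, 3333), (9999, 3333), (13332, 3333), (16665, 3333), (19998, 3333), (23331, 3333), (26664, 3333), (29997, 1674)] (by decide) (AllChunks.cons rel2_4_11_w_c0 (AllChunks.cons rel2_4_11_w_c1 (AllChunks.cons rel2_4_11_w_c2 (AllChunks.cons rel2_4_11_w_c3 (AllChunks.cons rel2_4_11_w_c4 (AllChunks.cons rel2_4_11_w_c5 (AllChunks.cons rel2_4_11_w_c6 (AllChunks.cons rel2_4_11_w_c7 (AllChunks.cons rel2_4_11_w_c8 (AllChunks.cons rel2_4_11_w_c9 (AllChunks.nil)))))))))))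

theorem rel2_4_11 : relChk1 lk nP Uid 2 gT2 sqL2 cmL2 (4, 11) = true :=
  relChk1_off lk nP Uid 2 gT2 sqL2 cmL2 4 11 (by decide) rel2_4_11_w

theorem rel2_4_12_w_c0 : allR 0 6000 (eqF lk (cmA Uid gT2 4 12) (cmB Uid gT2 cmL2 4 12)) = true := by decide +kernel
theorem rel2_4_12_w_c1 : allR 6000 6000 (eqF lk (cmA Uid gT2 4 12) (cmB Uid gT2 cmL2 4 12)) = true := by decide +kernel
theorem rel2_4_12_w_c2 : allR 12000 6000 (eqF lk (cmA Uid gT2 4 12) (cmB Uid gT2 cmL2 4 12)) = true := by decide +kernel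
theorem rel2_4_12_w_c3 : allR 18000 6000 (eqF lk (cmA Uid gT2 4 12) (cmB Uid gT2 cmL2 4 12)) = true := by decide +kernel
theorem rel2_4_12_w_c4 : allR 24000 6000 (eqF lk (cmA Uid gT2 4 12) (cmB Uid gT2 cmL2 4 12)) = true := by decide +kernel
theorem rel2_4_12_w_c5 : allR 30000 1671 (eqF lk (cmA Uid gT2 4 12) (cmB Uid gT2 cmL2 4 12)) = true := by decide +kernel
theorem rel2_4_12_w : eqWW lk nP (cmA Uid gT2 4 12) (cmB Uid gT2 cmL2 4 12) = true :=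
  eqWW_of_eqF lk nP _ _ [(0, 6000), (6000, 6000), (12000, 6000), (18000, 6000), (24000, 6000), (30000, 1671)] (by decide) (AllChunks.cons rel2_4_12_w_c0 (AllChunks.cons rel2_4_12_w_c1 (AllChunks.cons rel2_4_12_w_c2 (AllChunks.cons rel2_4_12_w_c3 (AllChunks.cons rel2_4_12_w_c4 (AllChunks.cons rel2_4_12_w_c5 (AllChunks.nil)))))))

theorem rel2_4_12 : relChk1 lk nP Uid 2 gT2 sqL2 cmL2 (4, 12) = true :=
  relChk1_off lk nP Uid 2 gT2 sqL2 cmL2 4 12 (by decide) rel2_4_12_w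

theorem rel2_4_13_w_c0 : allR 0 6000 (eqF lk (cmA Uid gT2 4 13) (cmB Uid gT2 cmL2 4 13)) = true := by decide +kernel
theorem rel2_4_13_w_c1 : allR 6000 6000 (eqF lk (cmA Uid gT2 4 13) (cmB Uid gT2 cmL2 4 13)) = true := by decide +kernel
theorem rel2_4_13_w_c2 : allR 12000 6000 (eqF lk (cmA Uid gT2 4 13) (cmB Uid gT2 cmL2 4 13)) = true := by decide +kernel
theorem rel2_4_13_w_c3 : allR 18000 6000 (eqF lk (cmA Uid gT2 4 13) (cmB Uid gT2 cmL2 4 13)) = true := by decide +kernel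
theorem rel2_4_13_w_c4 : allR 24000 6000 (eqF lk (cmA Uid gT2 4 13) (cmB Uid gT2 cmL2 4 13)) = true := by decide +kernel
theorem rel2_4_13_w_c5 : allR 30000 1671 (eqF lk (cmA Uid gT2 4 13) (cmB Uid gT2 cmL2 4 13)) = true := by decide +kernel
theorem rel2_4_13_w : eqWW lk nP (cmA Uid gT2 4 13) (cmB Uid gT2 cmL2 4 13) = true :=
  eqWW_of_eqF lk nP _ _ [(0, 6000), (6000, 6000), (12000, 6000), (18000, 6000), (24000, 6000), (30000, 1671)] (by decide) (AllChunks.cons rel2_4_13_w_c0 (AllChunks.cons rel2_4_13_w_c1 (AllChunks.cons rel2_4_13_w_c2 (AllChunks.cons rel2_4_13_w_c3 (AllChunks.cons rel2_4_13_w_c4 (AllChunks.cons rel2_4_13_w_c5 (AllChunks.nil)))))))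

theorem rel2_4_13 : relChk1 lk nP Uid 2 gT2 sqL2 cmL2 (4, 13) = true :=
  relChk1_off lk nP Uid 2 gT2 sqL2 cmL2 4 13 (by decide) rel2_4_13_w

theorem rel2_4_14_w_c0 : allR 0 6000 (eqF lk (cmA Uid gT2 4 14) (cmB Uid gT2 cmL2 4 14)) = true := by decide +kernel
theorem rel2_4_14_w_c1 : allR 6000 6000 (eqF lk (cmA Uid gT2 4 14) (cmB Uid gT2 cmL2 4 14)) = true := by decide +kernel
theorem rel2_4_14_w_c2 : allR 12000 6000 (eqF lk (cmA Uid gT2 4 14) (cmB Uid gT2 cmL2 4 14)) = true := by decide +kernel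
theorem rel2_4_14_w_c3 : allR 18000 6000 (eqF lk (cmA Uid gT2 4 14) (cmB Uid gT2 cmL2 4 14)) = true := by decide +kernel
theorem rel2_4_14_w_c4 : allR 24000 6000 (eqF lk (cmA Uid gT2 4 14) (cmB Uid gT2 cmL2 4 14)) = true := by decide +kernel
theorem rel2_4_14_w_c5 : allR 30000 1671 (eqF lk (cmA Uid gT2 4 14) (cmB Uid gT2 cmL2 4 14)) = true := by decide +kernel
theorem rel2_4_14_w : eqWW lk nP (cmA Uid gT2 4 14) (cmB Uid gT2 cmL2 4 14) = true :=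
  eqWW_of_eqF lk nP _ _ [(0, 6000), (6000, 6000), (12000, 6000), (18000, 6000), (24000, 6000), (30000, 1671)] (by decide) (AllChunks.cons rel2_4_14_w_c0 (AllChunks.cons rel2_4_14_w_c1 (AllChunks.cons rel2_4_14_w_c2 (AllChunks.cons rel2_4_14_w_c3 (AllChunks.cons rel2_4_14_w_c4 (AllChunks.cons rel2_4_14_w_c5 (AllChunks.nil)))))))

theorem rel2_4_14 : relChk1 lk nP Uid 2 gT2 sqL2 cmL2 (4, 14) = true :=
  relChk1_off lk nP Uid 2 gT2 sqL2 cmL2 4 14 (by decide) rel2_4_14_w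

theorem rel2_4_15_w_c0 : allR 0 7500 (eqF lk (cmA Uid gT2 4 15) (cmB Uid gT2 cmL2 4 15)) = true := by decide +kernel
theorem rel2_4_15_w_c1 : allR 7500 7500 (eqF lk (cmA Uid gT2 4 15) (cmB Uid gT2 cmL2 4 15)) = true := by decide +kernel
theorem rel2_4_15_w_c2 : allR 15000 7500 (eqF lk (cmA Uid gT2 4 15) (cmB Uid gT2 cmL2 4 15)) = true := by decide +kernel
theorem rel2_4_15_w_c3 : allR 22500 7500 (eqF lk (cmA Uid gT2 4 15) (cmB Uid gT2 cmL2 4 15)) = true := by decide +kernel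
theorem rel2_4_15_w_c4 : allR 30000 1671 (eqF lk (cmA Uid gT2 4 15) (cmB Uid gT2 cmL2 4 15)) = true := by decide +kernel
theorem rel2_4_15_w : eqWW lk nP (cmA Uid gT2 4 15) (cmB Uid gT2 cmL2 4 15) = true :=
  eqWW_of_eqF lk nP _ _ [(0, 7500), (7500, 7500), (15000, 7500), (22500, 7500), (30000, 1671)] (by decide) (AllChunks.cons rel2_4_15_w_c0 (AllChunks.cons rel2_4_15_w_c1 (AllChunks.cons rel2_4_15_w_c2 (AllChunks.cons rel2_4_15_w_c3 (AllChunks.cons rel2_4_15_w_c4 (AllChunks.nil))))))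

theorem rel2_4_15 : relChk1 lk nP Uid 2 gT2 sqL2 cmL2 (4, 15) = true :=
  relChk1_off lk nP Uid 2 gT2 sqL2 cmL2 4 15 (by decide) rel2_4_15_w

theorem rel2_4_16_w_c0 : allR 0 7500 (eqF lk (cmA Uid gT2 4 16) (cmB Uid gT2 cmL2 4 16)) = true := by decide +kernel
theorem rel2_4_16_w_c1 : allR 7500 7500 (eqF lk (cmA Uid gT2 4 16) (cmB Uid gT2 cmL2 4 16)) = true := by decide +kernel
theorem rel2_4_16_w_c2 : allR 15000 7500 (eqF lk (cmA Uid gT2 4 16) (cmB Uid gT2 cmL2 4 16)) = true := by decide +kernel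
theorem rel2_4_16_w_c3 : allR 22500 7500 (eqF lk (cmA Uid gT2 4 16) (cmB Uid gT2 cmL2 4 16)) = true := by decide +kernel
theorem rel2_4_16_w_c4 : allR 30000 1671 (eqF lk (cmA Uid gT2 4 16) (cmB Uid gT2 cmL2 4 16)) = true := by decide +kernel
theorem rel2_4_16_w : eqWW lk nP (cmA Uid gT2 4 16) (cmB Uid gT2 cmL2 4 16) = true :=
  eqWW_of_eqF lk nP _ _ [(0, 7500), (7500, 7500), (15000, 7500), (22500, 7500), (30000, 1671)] (by decide) (AllChunks.cons rel2_4_16_w_c0 (AllChunks.cons rel2_4_16_w_c1 (AllChunks.cons rel2_4_16_w_c2 (AllChunks.cons rel2_4_16_w_c3 (AllChunks.cons rel2_4_16_w_c4 (AllChunks.nil))))))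

theorem rel2_4_16 : relChk1 lk nP Uid 2 gT2 sqL2 cmL2 (4, 16) = true :=
  relChk1_off lk nP Uid 2 gT2 sqL2 cmL2 4 16 (by decide) rel2_4_16_w

theorem relpart2x3_ok : relsPart lk nP Uid 2 gT2 sqL2 cmL2 relpart2x3 = true :=
  relsPart_of_allRel _ (AllRel.cons rel2_3_10 (AllRel.cons rel2_3_11 (AllRel.cons rel2_3_12 (AllRel.cons rel2_3_13 (AllRel.cons rel2_3_14 (AllRel.cons rel2_3_15 (AllRel.cons rel2_3_16 (AllRel.cons rel2_3_17 (AllRel.cons rel2_4_4 (AllRel.cons rel2_4_5 (AllRel.cons rel2_4_6 (AllRel.cons rel2_4_7 (AllRel.cons rel2_4_8 (AllRel.cons rel2_4_9 (AllRel.cons rel2_4_10 (AllRel.cons rel2_4_11 (AllRel.cons rel2_4_12 (AllRel.cons rel2_4_13 (AllRel.cons rel2_4_14 (AllRel.cons rel2_4_15 (AllRel.cons rel2_4_16 (AllRel.nil lk nP Uid 2 gT2 sqL2 cmL2))))))))))))))))))))))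

end Cfsg.Agent.Lib.Helper28.Fi
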