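import Mathlib
import Cfsg.Agent.Lib.Helper28.Fi.Core
import Cfsg.Agent.Lib.Helper28.Fi.Chunk
import Cfsg.Agent.Lib.Helper28.Fi.Rel
import Cfsg.Agent.Lib.Helper28.Fi.Lists
import Cfsg.Agent.Lib.Helper28.Fi.Data3

set_option autoImplicit false
set_option maxRecDepth 1000000
set_option Elab.async false

/-! Checks of the relations of a Sylow 3-subgroup of Fi23, part 3 (generated). -/

namespace Cfsg.Agent.Lib.Helper28.Fi

open Cfsg.Agent.Lib.Helper5.CP Cfsg.Agent.Lib.Helper5.PcP Cfsg.Agent.Lib.Helper5.PcT Cfsg.Agent.Lib.Helper12.TC.Fi23o31671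

theorem rel3_4_7_w_c0 : allR 0 3750 (eqF lk (cmA Uid gT3 4 7) (cmB Uid gT3 cmL3 4 7)) = true := by decide +kernel
theorem rel3_4_7_w_c1 : allR 3750 3750 (eqF lk (cmA Uid gT3 4 7) (cmB Uid gT3 cmL3 4 7)) = true := by decide +kernel
theorem rel3_4_7_w_c2 : allR 7500 3750 (eqF lk (cmA Uid gT3 4 7) (cmB Uid gT3 cmL3 4 7)) = true := by decide +kernel
theorem rel3_4_7_w_c3 : allR 11250 3750 (eqF lk (cmA Uid gT3 4 7) (cmB Uid gT3 cmL3 4 7)) = true := by decide +kernel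
theorem rel3_4_7_w_c4 : allR 15000 3750 (eqF lk (cmA Uid gT3 4 7) (cmB Uid gT3 cmL3 4 7)) = true := by decide +kernel
theorem rel3_4_7_w_c5 : allR 18750 3750 (eqF lk (cmA Uid gT3 4 7) (cmB Uid gT3 cmL3 4 7)) = true := by decide +kernel
theorem rel3_4_7_w_c6 : allR 22500 3750 (eqF lk (cmA Uid gT3 4 7) (cmB Uid gT3 cmL3 4 7)) = true := by decide +kernel
theorem rel3_4_7_w_c7 : allR 26250 3750 (eqF lk (cmA Uid gT3 4 7) (cmB Uid gT3 cmL3 4 7)) = true := by decide +kernel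
theorem rel3_4_7_w_c8 : allR 30000 1671 (eqF lk (cmA Uid gT3 4 7) (cmB Uid gT3 cmL3 4 7)) = true := by decide +kernel
theorem rel3_4_7_w : eqWW lk nP (cmA Uid gT3 4 7) (cmB Uid gT3 cmL3 4 7) = true :=
  eqWW_of_eqF lk nP _ _ [(0, 3750), (3750, 3750), (7500, 3750), (11250, 3750), (15000, 3750), (18750, 3750), (22500, 3750), (26250, 3750), (30000, 1671)] (by decide) (AllChunks.cons rel3_4_7_w_c0 (AllChunks.cons rel3_4_7_w_c1 (AllChunks.cons rel3_4_7_w_c2 (AllChunks.cons rel3_4_7_w_c3 (AllChunks.cons rel3_4_7_w_c4 (AllChunks.cons rel3_4_7_w_c5 (AllChunks.cons rel3_4_7_w_c6 (AllChunks.cons rel3_4_7_w_c7 (AllChunks.cons rel3_4_7_w_c8 (AllChunks.nil))))))))))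

theorem rel3_4_7 : relChk1 lk nP Uid 3 gT3 sqL3 cmL3 (4, 7) = true :=
  relChk1_off lk nP Uid 3 gT3 sqL3 cmL3 4 7 (by decide) rel3_4_7_w

theorem rel3_4_8_w_c0 : allR 0 5000 (eqF lk (cmA Uid gT3 4 8) (cmB Uid gT3 cmL3 4 8)) = true := by decide +kernel
theorem rel3_4_8_w_c1 : allR 5000 5000 (eqF lk (cmA Uid gT3 4 8) (cmB Uid gT3 cmL3 4 8)) = true := by decide +kernel
theorem rel3_4_8_w_c2 : allR 10000 5000 (eqF lk (cmA Uid gT3 4 8) (cmB Uid gT3 cmL3 4 8)) = true := by decide +kernel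
theorem rel3_4_8_w_c3 : allR 15000 5000 (eqF lk (cmA Uid gT3 4 8) (cmB Uid gT3 cmL3 4 8)) = true := by decide +kernel
theorem rel3_4_8_w_c4 : allR 20000 5000 (eqF lk (cmA Uid gT3 4 8) (cmB Uid gT3 cmL3 4 8)) = true := by decide +kernel
theorem rel3_4_8_w_c5 : allR 25000 5000 (eqF lk (cmA Uid gT3 4 8) (cmB Uid gT3 cmL3 4 8)) = true := by decide +kernel
theorem rel3_4_8_w_c6 : allR 30000 1671 (eqF lk (cmA Uid gT3 4 8) (cmB Uid gT3 cmL3 4 8)) = true := by decide +kernel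
theorem rel3_4_8_w : eqWW lk nP (cmA Uid gT3 4 8) (cmB Uid gT3 cmL3 4 8) = true :=
  eqWW_of_eqF lk nP _ _ [(0, 5000), (5000, 5000), (10000, 5000), (15000, 5000), (20000, 5000), (25000, 5000), (30000, 1671)] (by decide) (AllChunks.cons rel3_4_8_w_c0 (AllChunks.cons rel3_4_8_w_c1 (AllChunks.cons rel3_4_8_w_c2 (AllChunks.cons rel3_4_8_w_c3 (AllChunks.cons rel3_4_8_w_c4 (AllChunks.cons rel3_4_8_w_c5 (AllChunks.cons rel3_4_8_w_c6 (AllChunks.nil))))))))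

theorem rel3_4_8 : relChk1 lk nP Uid 3 gT3 sqL3 cmL3 (4, 8) = true :=
  relChk1_off lk nP Uid 3 gT3 sqL3 cmL3 4 8 (by decide) rel3_4_8_w

theorem rel3_4_9_w_c0 : allR 0 6000 (eqF lk (cmA Uid gT3 4 9) (cmB Uid gT3 cmL3 4 9)) = true := by decide +kernel
theorem rel3_4_9_w_c1 : allR 6000 6000 (eqF lk (cmA Uid gT3 4 9) (cmB Uid gT3 cmL3 4 9)) = true := by decide +kernel
theorem rel3_4_9_w_c2 : allR 12000 6000 (eqF lk (cmA Uid gT3 4 9) (cmB Uid gT3 cmL3 4 9)) = true := by decide +kernel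
theorem rel3_4_9_w_c3 : allR 18000 6000 (eqF lk (cmA Uid gT3 4 9) (cmB Uid gT3 cmL3 4 9)) = true := by decide +kernel
theorem rel3_4_9_w_c4 : allR 24000 6000 (eqF lk (cmA Uid gT3 4 9) (cmB Uid gT3 cmL3 4 9)) = true := by decide +kernel
theorem rel3_4_9_w_c5 : allR 30000 1671 (eqF lk (cmA Uid gT3 4 9) (cmB Uid gT3 cmL3 4 9)) = true := by decide +kernel
theorem rel3_4_9_w : eqWW lk nP (cmA Uid gT3 4 9) (cmB Uid gT3 cmL3 4 9) = true :=
  eqWW_of_eqF lk nP _ _ [(0, 6000), (6000, 6000), (12000, 6000), (18000, 6000), (24000, 6000), (30000, 1671)] (by decide) (AllChunks.cons rel3_4_9_w_c0 (AllChunks.cons rel3_4_9_w_c1 (AllChunks.cons rel3_4_9_w_c2 (AllChunks.cons rel3_4_9_w_c3 (AllChunks.cons rel3_4_9_w_c4 (AllChunks.cons rel3_4_9_w_c5 (AllChunks.nil)))))))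

theorem rel3_4_9 : relChk1 lk nP Uid 3 gT3 sqL3 cmL3 (4, 9) = true :=
  relChk1_off lk nP Uid 3 gT3 sqL3 cmL3 4 9 (by decide) rel3_4_9_w

theorem rel3_4_10_w_c0 : allR 0 7500 (eqF lk (cmA Uid gT3 4 10) (cmB Uid gT3 cmL3 4 10)) = true := by decide +kernel
theorem rel3_4_10_w_c1 : allR 7500 7500 (eqF lk (cmA Uid gT3 4 10) (cmB Uid gT3 cmL3 4 10)) = true := by decide +kernel
theorem rel3_4_10_w_c2 : allR 15000 7500 (eqF lk (cmA Uid gT3 4 10) (cmB Uid gT3 cmL3 4 10)) = true := by decide +kernel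
theorem rel3_4_10_w_c3 : allR 22500 7500 (eqF lk (cmA Uid gT3 4 10) (cmB Uid gT3 cmL3 4 10)) = true := by decide +kernel
theorem rel3_4_10_w_c4 : allR 30000 1671 (eqF lk (cmA Uid gT3 4 10) (cmB Uid gT3 cmL3 4 10)) = true := by decide +kernel
theorem rel3_4_10_w : eqWW lk nP (cmA Uid gT3 4 10) (cmB Uid gT3 cmL3 4 10) = true :=
  eqWW_of_eqF lk nP _ _ [(0, 7500), (7500, 7500), (15000, 7500), (22500, 7500), (30000, 1671)] (by decide) (AllChunks.cons rel3_4_10_w_c0 (AllChunks.cons rel3_4_10_w_c1 (AllChunks.cons rel3_4_10_w_c2 (AllChunks.cons rel3_4_10_w_c3 (AllChunks.cons rel3_4_10_w_c4 (AllChunks.nil))))))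

theorem rel3_4_10 : relChk1 lk nP Uid 3 gT3 sqL3 cmL3 (4, 10) = true :=
  relChk1_off lk nP Uid 3 gT3 sqL3 cmL3 4 10 (by decide) rel3_4_10_w

theorem rel3_4_11_w_c0 : allR 0 7500 (eqF lk (cmA Uid gT3 4 11) (cmB Uid gT3 cmL3 4 11)) = true := by decide +kernel
theorem rel3_4_11_w_c1 : allR 7500 7500 (eqF lk (cmA Uid gT3 4 11) (cmB Uid gT3 cmL3 4 11)) = true := by decide +kernel
theorem rel3_4_11_w_c2 : allR 15000 7500 (eqF lk (cmA Uid gT3 4 11) (cmB Uid gT3 cmL3 4 11)) = true := by decide +kernel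
theorem rel3_4_11_w_c3 : allR 22500 7500 (eqF lk (cmA Uid gT3 4 11) (cmB Uid gT3 cmL3 4 11)) = true := by decide +kernel
theorem rel3_4_11_w_c4 : allR 30000 1671 (eqF lk (cmA Uid gT3 4 11) (cmB Uid gT3 cmL3 4 11)) = true := by decide +kernel
theorem rel3_4_11_w : eqWW lk nP (cmA Uid gT3 4 11) (cmB Uid gT3 cmL3 4 11) = true :=
  eqWW_of_eqF lk nP _ _ [(0, 7500), (7500, 7500), (15000, 7500), (22500, 7500), (30000, 1671)] (by decide) (AllChunks.cons rel3_4_11_w_c0 (AllChunks.cons rel3_4_11_w_c1 (AllChunks.cons rel3_4_11_w_c2 (AllChunks.cons rel3_4_11_w_c3 (AllChunks.cons rel3_4_11_w_c4 (AllChunks.nil))))))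

theorem rel3_4_11 : relChk1 lk nP Uid 3 gT3 sqL3 cmL3 (4, 11) = true :=
  relChk1_off lk nP Uid 3 gT3 sqL3 cmL3 4 11 (by decide) rel3_4_11_w

theorem rel3_4_12_w_c0 : allR 0 7500 (eqF lk (cmA Uid gT3 4 12) (cmB Uid gT3 cmL3 4 12)) = true := by decide +kernel
theorem rel3_4_12_w_c1 : allR 7500 7500 (eqF lk (cmA Uid gT3 4 12) (cmB Uid gT3 cmL3 4 12)) = true := by decide +kernel
theorem rel3_4_12_w_c2 : allR 15000 7500 (eqF lk (cmA Uid gT3 4 12) (cmB Uid gT3 cmL3 4 12)) = true := by decide +kernel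
theorem rel3_4_12_w_c3 : allR 22500 7500 (eqF lk (cmA Uid gT3 4 12) (cmB Uid gT3 cmL3 4 12)) = true := by decide +kernel
theorem rel3_4_12_w_c4 : allR 30000 1671 (eqF lk (cmA Uid gT3 4 12) (cmB Uid gT3 cmL3 4 12)) = true := by decide +kernel
theorem rel3_4_12_w : eqWW lk nP (cmA Uid gT3 4 12) (cmB Uid gT3 cmL3 4 12) = true :=
  eqWW_of_eqF lk nP _ _ [(0, 7500), (7500, 7500), (15000, 7500), (22500, 7500), (30000, 1671)] (by decide) (AllChunks.cons rel3_4_12_w_c0 (AllChunks.cons rel3_4_12_w_c1 (AllChunks.cons rel3_4_12_w_c2 (AllChunks.cons rel3_4_12_w_c3 (AllChunks.cons rel3_4_12_w_c4 (AllChunks.nil))))))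

theorem rel3_4_12 : relChk1 lk nP Uid 3 gT3 sqL3 cmL3 (4, 12) = true :=
  relChk1_off lk nP Uid 3 gT3 sqL3 cmL3 4 12 (by decide) rel3_4_12_w

theorem rel3_5_5_w_c0 : allR 0 10000 (eqF lk (sqA Uid 3 gT3 5) (sqB Uid gT3 sqL3 5)) = true := by decide +kernel
theorem rel3_5_5_w_c1 : allR 10000 10000 (eqF lk (sqA Uid 3 gT3 5) (sqB Uid gT3 sqL3 5)) = true := by decide +kernel
theorem rel3_5_5_w_c2 : allR 20000 10000 (eqF lk (sqA Uid 3 gT3 5) (sqB Uid gT3 sqL3 5)) = true := by decide +kernel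
theorem rel3_5_5_w_c3 : allR 30000 1671 (eqF lk (sqA Uid 3 gT3 5) (sqB Uid gT3 sqL3 5)) = true := by decide +kernel
theorem rel3_5_5_w : eqWW lk nP (sqA Uid 3 gT3 5) (sqB Uid gT3 sqL3 5) = true :=
  eqWW_of_eqF lk nP _ _ [(0, 10000), (10000, 10000), (20000, 10000), (30000, 1671)] (by decide) (AllChunks.cons rel3_5_5_w_c0 (AllChunks.cons rel3_5_5_w_c1 (AllChunks.cons rel3_5_5_w_c2 (AllChunks.cons rel3_5_5_w_c3 (AllChunks.nil)))))

theorem rel3_5_5 : relChk1 lk nP Uid 3 gT3 sqL3 cmL3 (5, 5) = true :=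
  relChk1_diag lk nP Uid 3 gT3 sqL3 cmL3 5 rel3_5_5_w

theorem rel3_5_6_w_c0 : allR 0 6000 (eqF lk (cmA Uid gT3 5 6) (cmB Uid gT3 cmL3 5 6)) = true := by decide +kernel
theorem rel3_5_6_w_c1 : allR 6000 6000 (eqF lk (cmA Uid gT3 5 6) (cmB Uid gT3 cmL3 5 6)) = true := by decide +kernel
theorem rel3_5_6_w_c2 : allR 12000 6000 (eqF lk (cmA Uid gT3 5 6) (cmB Uid gT3 cmL3 5 6)) = true := by decide +kernel
theorem rel3_5_6_w_c3 : allR 18000 6000 (eqF lk (cmA Uid gT3 5 6) (cmB Uid gT3 cmL3 5 6)) = true := by decide +kernel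
theorem rel3_5_6_w_c4 : allR 24000 6000 (eqF lk (cmA Uid gT3 5 6) (cmB Uid gT3 cmL3 5 6)) = true := by decide +kernel
theorem rel3_5_6_w_c5 : allR 30000 1671 (eqF lk (cmA Uid gT3 5 6) (cmB Uid gT3 cmL3 5 6)) = true := by decide +kernel
theorem rel3_5_6_w : eqWW lk nP (cmA Uid gT3 5 6) (cmB Uid gT3 cmL3 5 6) = true :=
  eqWW_of_eqF lk nP _ _ [(0, 6000), (6000, 6000), (12000, 6000), (18000, 6000), (24000, 6000), (30000, 1671)] (by decide) (AllChunks.cons rel3_5_6_w_c0 (AllChunks.cons rel3_5_6_w_c1 (AllChunks.cons rel3_5_6_w_c2 (AllChunks.cons rel3_5_6_w_c3 (AllChunks.cons rel3_5_6_w_c4 (AllChunks.cons rel3_5_6_w_c5 (AllChunks.nil)))))))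

theorem rel3_5_6 : relChk1 lk nP Uid 3 gT3 sqL3 cmL3 (5, 6) = true :=
  relChk1_off lk nP Uid 3 gT3 sqL3 cmL3 5 6 (by decide) rel3_5_6_w

theorem rel3_5_7_w_c0 : allR 0 7500 (eqF lk (cmA Uid gT3 5 7) (cmB Uid gT3 cmL3 5 7)) = true := by decide +kernel
theorem rel3_5_7_w_c1 : allR 7500 7500 (eqF lk (cmA Uid gT3 5 7) (cmB Uid gT3 cmL3 5 7)) = true := by decide +kernel
theorem rel3_5_7_w_c2 : allR 15000 7500 (eqF lk (cmA Uid gT3 5 7) (cmB Uid gT3 cmL3 5 7)) = true := by decide +kernel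
theorem rel3_5_7_w_c3 : allR 22500 7500 (eqF lk (cmA Uid gT3 5 7) (cmB Uid gT3 cmL3 5 7)) = true := by decide +kernel
theorem rel3_5_7_w_c4 : allR 30000 1671 (eqF lk (cmA Uid gT3 5 7) (cmB Uid gT3 cmL3 5 7)) = true := by decide +kernel
theorem rel3_5_7_w : eqWW lk nP (cmA Uid gT3 5 7) (cmB Uid gT3 cmL3 5 7) = true :=
  eqWW_of_eqF lk nP _ _ [(0, 7500), (7500, 7500), (15000, 7500), (22500, 7500), (30000, 1671)] (by decide) (AllChunks.cons rel3_5_7_w_c0 (AllChunks.cons rel3_5_7_w_c1 (AllChunks.cons rel3_5_7_w_c2 (AllChunks.cons rel3_5_7_w_c3 (AllChunks.cons rel3_5_7_w_c4 (AllChunks.nil))))))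

theorem rel3_5_7 : relChk1 lk nP Uid 3 gT3 sqL3 cmL3 (5, 7) = true :=
  relChk1_off lk nP Uid 3 gT3 sqL3 cmL3 5 7 (by decide) rel3_5_7_w

theorem rel3_5_8_w_c0 : allR 0 5000 (eqF lk (cmA Uid gT3 5 8) (cmB Uid gT3 cmL3 5 8)) = true := by decide +kernel
theorem rel3_5_8_w_c1 : allR 5000 5000 (eqF lk (cmA Uid gT3 5 8) (cmB Uid gT3 cmL3 5 8)) = true := by decide +kernel
theorem rel3_5_8_w_c2 : allR 10000 5000 (eqF lk (cmA Uid gT3 5 8) (cmB Uid gT3 cmL3 5 8)) = true := by decide +kernel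
theorem rel3_5_8_w_c3 : allR 15000 5000 (eqF lk (cmA Uid gT3 5 8) (cmB Uid gT3 cmL3 5 8)) = true := by decide +kernel
theorem rel3_5_8_w_c4 : allR 20000 5000 (eqF lk (cmA Uid gT3 5 8) (cmB Uid gT3 cmL3 5 8)) = true := by decide +kernel
theorem rel3_5_8_w_c5 : allR 25000 5000 (eqF lk (cmA Uid gT3 5 8) (cmB Uid gT3 cmL3 5 8)) = true := by decide +kernel
theorem rel3_5_8_w_c6 : allR 30000 1671 (eqF lk (cmA Uid gT3 5 8) (cmB Uid gT3 cmL3 5 8)) = true := by decide +kernel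
theorem rel3_5_8_w : eqWW lk nP (cmA Uid gT3 5 8) (cmB Uid gT3 cmL3 5 8) = true :=
  eqWW_of_eqF lk nP _ _ [(0, 5000), (5000, 5000), (10000, 5000), (15000, 5000), (20000, 5000), (25000, 5000), (30000, 1671)] (by decide) (AllChunks.cons rel3_5_8_w_c0 (AllChunks.cons rel3_5_8_w_c1 (AllChunks.cons rel3_5_8_w_c2 (AllChunks.cons rel3_5_8_w_c3 (AllChunks.cons rel3_5_8_w_c4 (AllChunks.cons rel3_5_8_w_c5 (AllChunks.cons rel3_5_8_w_c6 (AllChunks.nil))))))))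

theorem rel3_5_8 : relChk1 lk nP Uid 3 gT3 sqL3 cmL3 (5, 8) = true :=
  relChk1_off lk nP Uid 3 gT3 sqL3 cmL3 5 8 (by decide) rel3_5_8_w

theorem rel3_5_9_w_c0 : allR 0 7500 (eqF lk (cmA Uid gT3 5 9) (cmB Uid gT3 cmL3 5 9)) = true := by decide +kernel
theorem rel3_5_9_w_c1 : allR 7500 7500 (eqF lk (cmA Uid gT3 5 9) (cmB Uid gT3 cmL3 5 9)) = true := by decide +kernel
theorem rel3_5_9_w_c2 : allR 15000 7500 (eqF lk (cmA Uid gT3 5 9) (cmB Uid gT3 cmL3 5 9)) = true := by decide +kernel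
theorem rel3_5_9_w_c3 : allR 22500 7500 (eqF lk (cmA Uid gT3 5 9) (cmB Uid gT3 cmL3 5 9)) = true := by decide +kernel
theorem rel3_5_9_w_c4 : allR 30000 1671 (eqF lk (cmA Uid gT3 5 9) (cmB Uid gT3 cmL3 5 9)) = true := by decide +kernel
theorem rel3_5_9_w : eqWW lk nP (cmA Uid gT3 5 9) (cmB Uid gT3 cmL3 5 9) = true :=
  eqWW_of_eqF lk nP _ _ [(0, 7500), (7500, 7500), (15000, 7500), (22500, 7500), (30000, 1671)] (by decide) (AllChunks.cons rel3_5_9_w_c0 (AllChunks.cons rel3_5_9_w_c1 (AllChunks.cons rel3_5_9_w_c2 (AllChunks.cons rel3_5_9_w_c3 (AllChunks.cons rel3_5_9_w_c4 (AllChunks.nil))))))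

theorem rel3_5_9 : relChk1 lk nP Uid 3 gT3 sqL3 cmL3 (5, 9) = true :=
  relChk1_off lk nP Uid 3 gT3 sqL3 cmL3 5 9 (by decide) rel3_5_9_w

theorem rel3_5_10_w_c0 : allR 0 5000 (eqF lk (cmA Uid gT3 5 10) (cmB Uid gT3 cmL3 5 10)) = true := by decide +kernel
theorem rel3_5_10_w_c1 : allR 5000 5000 (eqF lk (cmA Uid gT3 5 10) (cmB Uid gT3 cmL3 5 10)) = true := by decide +kernel
theorem rel3_5_10_w_c2 : allR 10000 5000 (eqF lk (cmA Uid gT3 5 10) (cmB Uid gT3 cmL3 5 10)) = true := by decide +kernel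
theorem rel3_5_10_w_c3 : allR 15000 5000 (eqF lk (cmA Uid gT3 5 10) (cmB Uid gT3 cmL3 5 10)) = true := by decide +kernel
theorem rel3_5_10_w_c4 : allR 20000 5000 (eqF lk (cmA Uid gT3 5 10) (cmB Uid gT3 cmL3 5 10)) = true := by decide +kernel
theorem rel3_5_10_w_c5 : allR 25000 5000 (eqF lk (cmA Uid gT3 5 10) (cmB Uid gT3 cmL3 5 10)) = true := by decide +kernel
theorem rel3_5_10_w_c6 : allR 30000 1671 (eqF lk (cmA Uid gT3 5 10) (cmB Uid gT3 cmL3 5 10)) = true := by decide +kernel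
theorem rel3_5_10_w : eqWW lk nP (cmA Uid gT3 5 10) (cmB Uid gT3 cmL3 5 10) = true :=
  eqWW_of_eqF lk nP _ _ [(0, 5000), (5000, 5000), (10000, 5000), (15000, 5000), (20000, 5000), (25000, 5000), (30000, 1671)] (by decide) (AllChunks.cons rel3_5_10_w_c0 (AllChunks.cons rel3_5_10_w_c1 (AllChunks.cons rel3_5_10_w_c2 (AllChunks.cons rel3_5_10_w_c3 (AllChunks.cons rel3_5_10_w_c4 (AllChunks.cons rel3_5_10_w_c5 (AllChunks.cons rel3_5_10_w_c6 (AllChunks.nil))))))))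

theorem rel3_5_10 : relChk1 lk nP Uid 3 gT3 sqL3 cmL3 (5, 10) = true :=
  relChk1_off lk nP Uid 3 gT3 sqL3 cmL3 5 10 (by decide) rel3_5_10_w

theorem rel3_5_11_w_c0 : allR 0 7500 (eqF lk (cmA Uid gT3 5 11) (cmB Uid gT3 cmL3 5 11)) = true := by decide +kernel
theorem rel3_5_11_w_c1 : allR 7500 7500 (eqF lk (cmA Uid gT3 5 11) (cmB Uid gT3 cmL3 5 11)) = true := by decide +kernel
theorem rel3_5_11_w_c2 : allR 15000 7500 (eqF lk (cmA Uid gT3 5 11) (cmB Uid gT3 cmL3 5 11)) = true := by decide +kernel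
theorem rel3_5_11_w_c3 : allR 22500 7500 (eqF lk (cmA Uid gT3 5 11) (cmB Uid gT3 cmL3 5 11)) = true := by decide +kernel
theorem rel3_5_11_w_c4 : allR 30000 1671 (eqF lk (cmA Uid gT3 5 11) (cmB Uid gT3 cmL3 5 11)) = true := by decide +kernel
theorem rel3_5_11_w : eqWW lk nP (cmA Uid gT3 5 11) (cmB Uid gT3 cmL3 5 11) = true :=
  eqWW_of_eqF lk nP _ _ [(0, 7500), (7500, 7500), (15000, 7500), (22500, 7500), (30000, 1671)] (by decide) (AllChunks.cons rel3_5_11_w_c0 (AllChunks.cons rel3_5_11_w_c1 (AllChunks.cons rel3_5_11_w_c2 (AllChunks.cons rel3_5_11_w_c3 (AllChunks.cons rel3_5_11_w_c4 (AllChunks.nil))))))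

theorem rel3_5_11 : relChk1 lk nP Uid 3 gT3 sqL3 cmL3 (5, 11) = true :=
  relChk1_off lk nP Uid 3 gT3 sqL3 cmL3 5 11 (by decide) rel3_5_11_w

theorem rel3_5_12_w_c0 : allR 0 7500 (eqF lk (cmA Uid gT3 5 12) (cmB Uid gT3 cmL3 5 12)) = true := by decide +kernel
theorem rel3_5_12_w_c1 : allR 7500 7500 (eqF lk (cmA Uid gT3 5 12) (cmB Uid gT3 cmL3 5 12)) = true := by decide +kernel
theorem rel3_5_12_w_c2 : allR 15000 7500 (eqF lk (cmA Uid gT3 5 12) (cmB Uid gT3 cmL3 5 12)) = true := by decide +kernel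
theorem rel3_5_12_w_c3 : allR 22500 7500 (eqF lk (cmA Uid gT3 5 12) (cmB Uid gT3 cmL3 5 12)) = true := by decide +kernel
theorem rel3_5_12_w_c4 : allR 30000 1671 (eqF lk (cmA Uid gT3 5 12) (cmB Uid gT3 cmL3 5 12)) = true := by decide +kernel
theorem rel3_5_12_w : eqWW lk nP (cmA Uid gT3 5 12) (cmB Uid gT3 cmL3 5 12) = true :=
  eqWW_of_eqF lk nP _ _ [(0, 7500), (7500, 7500), (15000, 7500), (22500, 7500), (30000, 1671)] (by decide) (AllChunks.cons rel3_5_12_w_c0 (AllChunks.cons rel3_5_12_w_c1 (AllChunks.cons rel3_5_12_w_c2 (AllChunks.cons rel3_5_12_w_c3 (AllChunks.cons rel3_5_12_w_c4 (AllChunks.nil))))))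

theorem rel3_5_12 : relChk1 lk nP Uid 3 gT3 sqL3 cmL3 (5, 12) = true :=
  relChk1_off lk nP Uid 3 gT3 sqL3 cmL3 5 12 (by decide) rel3_5_12_w

theorem rel3_6_6_w_c0 : allR 0 10000 (eqF lk (sqA Uid 3 gT3 6) (sqB Uid gT3 sqL3 6)) = true := by decide +kernel
theorem rel3_6_6_w_c1 : allR 10000 10000 (eqF lk (sqA Uid 3 gT3 6) (sqB Uid gT3 sqL3 6)) = true := by decide +kernel
theorem rel3_6_6_w_c2 : allR 20000 10000 (eqF lk (sqA Uid 3 gT3 6) (sqB Uid gT3 sqL3 6)) = true := by decide +kernel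
theorem rel3_6_6_w_c3 : allR 30000 1671 (eqF lk (sqA Uid 3 gT3 6) (sqB Uid gT3 sqL3 6)) = true := by decide +kernel
theorem rel3_6_6_w : eqWW lk nP (sqA Uid 3 gT3 6) (sqB Uid gT3 sqL3 6) = true :=
  eqWW_of_eqF lk nP _ _ [(0, 10000), (10000, 10000), (20000, 10000), (30000, 1671)] (by decide) (AllChunks.cons rel3_6_6_w_c0 (AllChunks.cons rel3_6_6_w_c1 (AllChunks.cons rel3_6_6_w_c2 (AllChunks.cons rel3_6_6_w_c3 (AllChunks.nil)))))

theorem rel3_6_6 : relChk1 lk nP Uid 3 gT3 sqL3 cmL3 (6, 6) = true :=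
  relChk1_diag lk nP Uid 3 gT3 sqL3 cmL3 6 rel3_6_6_w

theorem rel3_6_7_w_c0 : allR 0 7500 (eqF lk (cmA Uid gT3 6 7) (cmB Uid gT3 cmL3 6 7)) = true := by decide +kernel
theorem rel3_6_7_w_c1 : allR 7500 7500 (eqF lk (cmA Uid gT3 6 7) (cmB Uid gT3 cmL3 6 7)) = true := by decide +kernel
theorem rel3_6_7_w_c2 : allR 15000 7500 (eqF lk (cmA Uid gT3 6 7) (cmB Uid gT3 cmL3 6 7)) = true := by decide +kernel
theorem rel3_6_7_w_c3 : allR 22500 7500 (eqF lk (cmA Uid gT3 6 7) (cmB Uid gT3 cmL3 6 7)) = true := by decide +kernel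
theorem rel3_6_7_w_c4 : allR 30000 1671 (eqF lk (cmA Uid gT3 6 7) (cmB Uid gT3 cmL3 6 7)) = true := by decide +kernel
theorem rel3_6_7_w : eqWW lk nP (cmA Uid gT3 6 7) (cmB Uid gT3 cmL3 6 7) = true :=
  eqWW_of_eqF lk nP _ _ [(0, 7500), (7500, 7500), (15000, 7500), (22500, 7500), (30000, 1671)] (by decide) (AllChunks.cons rel3_6_7_w_c0 (AllChunks.cons rel3_6_7_w_c1 (AllChunks.cons rel3_6_7_w_c2 (AllChunks.cons rel3_6_7_w_c3 (AllChunks.cons rel3_6_7_w_c4 (AllChunks.nil))))))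

theorem rel3_6_7 : relChk1 lk nP Uid 3 gT3 sqL3 cmL3 (6, 7) = true :=
  relChk1_off lk nP Uid 3 gT3 sqL3 cmL3 6 7 (by decide) rel3_6_7_w

theorem rel3_6_8_w_c0 : allR 0 5000 (eqF lk (cmA Uid gT3 6 8) (cmB Uid gT3 cmL3 6 8)) = true := by decide +kernel
theorem rel3_6_8_w_c1 : allR 5000 5000 (eqF lk (cmA Uid gT3 6 8) (cmB Uid gT3 cmL3 6 8)) = true := by decide +kernel
theorem rel3_6_8_w_c2 : allR 10000 5000 (eqF lk (cmA Uid gT3 6 8) (cmB Uid gT3 cmL3 6 8)) = true := by decide +kernel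
theorem rel3_6_8_w_c3 : allR 15000 5000 (eqF lk (cmA Uid gT3 6 8) (cmB Uid gT3 cmL3 6 8)) = true := by decide +kernel
theorem rel3_6_8_w_c4 : allR 20000 5000 (eqF lk (cmA Uid gT3 6 8) (cmB Uid gT3 cmL3 6 8)) = true := by decide +kernel
theorem rel3_6_8_w_c5 : allR 25000 5000 (eqF lk (cmA Uid gT3 6 8) (cmB Uid gT3 cmL3 6 8)) = true := by decide +kernel
theorem rel3_6_8_w_c6 : allR 30000 1671 (eqF lk (cmA Uid gT3 6 8) (cmB Uid gT3 cmL3 6 8)) = true := by decide +kernel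
theorem rel3_6_8_w : eqWW lk nP (cmA Uid gT3 6 8) (cmB Uid gT3 cmL3 6 8) = true :=
  eqWW_of_eqF lk nP _ _ [(0, 5000), (5000, 5000), (10000, 5000), (15000, 5000), (20000, 5000), (25000, 5000), (30000, 1671)] (by decide) (AllChunks.cons rel3_6_8_w_c0 (AllChunks.cons rel3_6_8_w_c1 (AllChunks.cons rel3_6_8_w_c2 (AllChunks.cons rel3_6_8_w_c3 (AllChunks.cons rel3_6_8_w_c4 (AllChunks.cons rel3_6_8_w_c5 (AllChunks.cons rel3_6_8_w_c6 (AllChunks.nil))))))))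

theorem rel3_6_8 : relChk1 lk nP Uid 3 gT3 sqL3 cmL3 (6, 8) = true :=
  relChk1_off lk nP Uid 3 gT3 sqL3 cmL3 6 8 (by decide) rel3_6_8_w

theorem rel3_6_9_w_c0 : allR 0 6000 (eqF lk (cmA Uid gT3 6 9) (cmB Uid gT3 cmL3 6 9)) = true := by decide +kernel
theorem rel3_6_9_w_c1 : allR 6000 6000 (eqF lk (cmA Uid gT3 6 9) (cmB Uid gT3 cmL3 6 9)) = true := by decide +kernel
theorem rel3_6_9_w_c2 : allR 12000 6000 (eqF lk (cmA Uid gT3 6 9) (cmB Uid gT3 cmL3 6 9)) = true := by decide +kernel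
theorem rel3_6_9_w_c3 : allR 18000 6000 (eqF lk (cmA Uid gT3 6 9) (cmB Uid gT3 cmL3 6 9)) = true := by decide +kernel
theorem rel3_6_9_w_c4 : allR 24000 6000 (eqF lk (cmA Uid gT3 6 9) (cmB Uid gT3 cmL3 6 9)) = true := by decide +kernel
theorem rel3_6_9_w_c5 : allR 30000 1671 (eqF lk (cmA Uid gT3 6 9) (cmB Uid gT3 cmL3 6 9)) = true := by decide +kernel
theorem rel3_6_9_w : eqWW lk nP (cmA Uid gT3 6 9) (cmB Uid gT3 cmL3 6 9) = true :=
  eqWW_of_eqF lk nP _ _ [(0, 6000), (6000, 6000), (12000, 6000), (18000, 6000), (24000, 6000), (30000, 1671)] (by decide) (AllChunks.cons rel3_6_9_w_c0 (AllChunks.cons rel3_6_9_w_c1 (AllChunks.cons rel3_6_9_w_c2 (AllChunks.cons rel3_6_9_w_c3 (AllChunks.cons rel3_6_9_w_c4 (AllChunks.cons rel3_6_9_w_c5 (AllChunks.nil)))))))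

theorem rel3_6_9 : relChk1 lk nP Uid 3 gT3 sqL3 cmL3 (6, 9) = true :=
  relChk1_off lk nP Uid 3 gT3 sqL3 cmL3 6 9 (by decide) rel3_6_9_w

theorem rel3_6_10_w_c0 : allR 0 7500 (eqF lk (cmA Uid gT3 6 10) (cmB Uid gT3 cmL3 6 10)) = true := by decide +kernel
theorem rel3_6_10_w_c1 : allR 7500 7500 (eqF lk (cmA Uid gT3 6 10) (cmB Uid gT3 cmL3 6 10)) = true := by decide +kernel
theorem rel3_6_10_w_c2 : allR 15000 7500 (eqF lk (cmA Uid gT3 6 10) (cmB Uid gT3 cmL3 6 10)) = true := by decide +kernel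
theorem rel3_6_10_w_c3 : allR 22500 7500 (eqF lk (cmA Uid gT3 6 10) (cmB Uid gT3 cmL3 6 10)) = true := by decide +kernel
theorem rel3_6_10_w_c4 : allR 30000 1671 (eqF lk (cmA Uid gT3 6 10) (cmB Uid gT3 cmL3 6 10)) = true := by decide +kernel
theorem rel3_6_10_w : eqWW lk nP (cmA Uid gT3 6 10) (cmB Uid gT3 cmL3 6 10) = true :=
  eqWW_of_eqF lk nP _ _ [(0, 7500), (7500, 7500), (15000, 7500), (22500, 7500), (30000, 1671)] (by decide) (AllChunks.cons rel3_6_10_w_c0 (AllChunks.cons rel3_6_10_w_c1 (AllChunks.cons rel3_6_10_w_c2 (AllChunks.cons rel3_6_10_w_c3 (AllChunks.cons rel3_6_10_w_c4 (AllChunks.nil))))))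

theorem rel3_6_10 : relChk1 lk nP Uid 3 gT3 sqL3 cmL3 (6, 10) = true :=
  relChk1_off lk nP Uid 3 gT3 sqL3 cmL3 6 10 (by decide) rel3_6_10_w

theorem rel3_6_11_w_c0 : allR 0 7500 (eqF lk (cmA Uid gT3 6 11) (cmB Uid gT3 cmL3 6 11)) = true := by decide +kernel
theorem rel3_6_11_w_c1 : allR 7500 7500 (eqF lk (cmA Uid gT3 6 11) (cmB Uid gT3 cmL3 6 11)) = true := by decide +kernel
theorem rel3_6_11_w_c2 : allR 15000 7500 (eqF lk (cmA Uid gT3 6 11) (cmB Uid gT3 cmL3 6 11)) = true := by decide +kernel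
theorem rel3_6_11_w_c3 : allR 22500 7500 (eqF lk (cmA Uid gT3 6 11) (cmB Uid gT3 cmL3 6 11)) = true := by decide +kernel
theorem rel3_6_11_w_c4 : allR 30000 1671 (eqF lk (cmA Uid gT3 6 11) (cmB Uid gT3 cmL3 6 11)) = true := by decide +kernel
theorem rel3_6_11_w : eqWW lk nP (cmA Uid gT3 6 11) (cmB Uid gT3 cmL3 6 11) = true :=
  eqWW_of_eqF lk nP _ _ [(0, 7500), (7500, 7500), (15000, 7500), (22500, 7500), (30000, 1671)] (by decide) (AllChunks.cons rel3_6_11_w_c0 (AllChunks.cons rel3_6_11_w_c1 (AllChunks.cons rel3_6_11_w_c2 (AllChunks.cons rel3_6_11_w_c3 (AllChunks.cons rel3_6_11_w_c4 (AllChunks.nil))))))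

theorem rel3_6_11 : relChk1 lk nP Uid 3 gT3 sqL3 cmL3 (6, 11) = true :=
  relChk1_off lk nP Uid 3 gT3 sqL3 cmL3 6 11 (by decide) rel3_6_11_w

theorem rel3_6_12_w_c0 : allR 0 7500 (eqF lk (cmA Uid gT3 6 12) (cmB Uid gT3 cmL3 6 12)) = true := by decide +kernel
theorem rel3_6_12_w_c1 : allR 7500 7500 (eqF lk (cmA Uid gT3 6 12) (cmB Uid gT3 cmL3 6 12)) = true := by decide +kernel
theorem rel3_6_12_w_c2 : allR 15000 7500 (eqF lk (cmA Uid gT3 6 12) (cmB Uid gT3 cmL3 6 12)) = true := by decide +kernel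
theorem rel3_6_12_w_c3 : allR 22500 7500 (eqF lk (cmA Uid gT3 6 12) (cmB Uid gT3 cmL3 6 12)) = true := by decide +kernel
theorem rel3_6_12_w_c4 : allR 30000 1671 (eqF lk (cmA Uid gT3 6 12) (cmB Uid gT3 cmL3 6 12)) = true := by decide +kernel
theorem rel3_6_12_w : eqWW lk nP (cmA Uid gT3 6 12) (cmB Uid gT3 cmL3 6 12) = true :=
  eqWW_of_eqF lk nP _ _ [(0, 7500), (7500, 7500), (15000, 7500), (22500, 7500), (30000, 1671)] (by decide) (AllChunks.cons rel3_6_12_w_c0 (AllChunks.cons rel3_6_12_w_c1 (AllChunks.cons rel3_6_12_w_c2 (AllChunks.cons rel3_6_12_w_c3 (AllChunks.cons rel3_6_12_w_c4 (AllChunks.nil))))))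

theorem rel3_6_12 : relChk1 lk nP Uid 3 gT3 sqL3 cmL3 (6, 12) = true :=
  relChk1_off lk nP Uid 3 gT3 sqL3 cmL3 6 12 (by decide) rel3_6_12_w

theorem rel3_7_7_w_c0 : allR 0 10000 (eqF lk (sqA Uid 3 gT3 7) (sqB Uid gT3 sqL3 7)) = true := by decide +kernel
theorem rel3_7_7_w_c1 : allR 10000 10000 (eqF lk (sqA Uid 3 gT3 7) (sqB Uid gT3 sqL3 7)) = true := by decide +kernel
theorem rel3_7_7_w_c2 : allR 20000 10000 (eqF lk (sqA Uid 3 gT3 7) (sqB Uid gT3 sqL3 7)) = true := by decide +kernel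
theorem rel3_7_7_w_c3 : allR 30000 1671 (eqF lk (sqA Uid 3 gT3 7) (sqB Uid gT3 sqL3 7)) = true := by decide +kernel
theorem rel3_7_7_w : eqWW lk nP (sqA Uid 3 gT3 7) (sqB Uid gT3 sqL3 7) = true :=
  eqWW_of_eqF lk nP _ _ [(0, 10000), (10000, 10000), (20000, 10000), (30000, 1671)] (by decide) (AllChunks.cons rel3_7_7_w_c0 (AllChunks.cons rel3_7_7_w_c1 (AllChunks.cons rel3_7_7_w_c2 (AllChunks.cons rel3_7_7_w_c3 (AllChunks.nil)))))

theorem rel3_7_7 : relChk1 lk nP Uid 3 gT3 sqL3 cmL3 (7, 7) = true :=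
  relChk1_diag lk nP Uid 3 gT3 sqL3 cmL3 7 rel3_7_7_w

theorem rel3_7_8_w_c0 : allR 0 6000 (eqF lk (cmA Uid gT3 7 8) (cmB Uid gT3 cmL3 7 8)) = true := by decide +kernel
theorem rel3_7_8_w_c1 : allR 6000 6000 (eqF lk (cmA Uid gT3 7 8) (cmB Uid gT3 cmL3 7 8)) = true := by decide +kernel
theorem rel3_7_8_w_c2 : allR 12000 6000 (eqF lk (cmA Uid gT3 7 8) (cmB Uid gT3 cmL3 7 8)) = true := by decide +kernel
theorem rel3_7_8_w_c3 : allR 18000 6000 (eqF lk (cmA Uid gT3 7 8) (cmB Uid gT3 cmL3 7 8)) = true := by decide +kernel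
theorem rel3_7_8_w_c4 : allR 24000 6000 (eqF lk (cmA Uid gT3 7 8) (cmB Uid gT3 cmL3 7 8)) = true := by decide +kernel
theorem rel3_7_8_w_c5 : allR 30000 1671 (eqF lk (cmA Uid gT3 7 8) (cmB Uid gT3 cmL3 7 8)) = true := by decide +kernel
theorem rel3_7_8_w : eqWW lk nP (cmA Uid gT3 7 8) (cmB Uid gT3 cmL3 7 8) = true :=
  eqWW_of_eqF lk nP _ _ [(0, 6000), (6000, 6000), (12000, 6000), (18000, 6000), (24000, 6000), (30000, 1671)] (by decide) (AllChunks.cons rel3_7_8_w_c0 (AllChunks.cons rel3_7_8_w_c1 (AllChunks.cons rel3_7_8_w_c2 (AllChunks.cons rel3_7_8_w_c3 (AllChunks.cons rel3_7_8_w_c4 (AllChunks.cons rel3_7_8_w_c5 (AllChunks.nil)))))))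

theorem rel3_7_8 : relChk1 lk nP Uid 3 gT3 sqL3 cmL3 (7, 8) = true :=
  relChk1_off lk nP Uid 3 gT3 sqL3 cmL3 7 8 (by decide) rel3_7_8_w

theorem rel3_7_9_w_c0 : allR 0 7500 (eqF lk (cmA Uid gT3 7 9) (cmB Uid gT3 cmL3 7 9)) = true := by decide +kernel
theorem rel3_7_9_w_c1 : allR 7500 7500 (eqF lk (cmA Uid gT3 7 9) (cmB Uid gT3 cmL3 7 9)) = true := by decide +kernel
theorem rel3_7_9_w_c2 : allR 15000 7500 (eqF lk (cmA Uid gT3 7 9) (cmB Uid gT3 cmL3 7 9)) = true := by decide +kernel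
theorem rel3_7_9_w_c3 : allR 22500 7500 (eqF lk (cmA Uid gT3 7 9) (cmB Uid gT3 cmL3 7 9)) = true := by decide +kernel
theorem rel3_7_9_w_c4 : allR 30000 1671 (eqF lk (cmA Uid gT3 7 9) (cmB Uid gT3 cmL3 7 9)) = true := by decide +kernel
theorem rel3_7_9_w : eqWW lk nP (cmA Uid gT3 7 9) (cmB Uid gT3 cmL3 7 9) = true :=
  eqWW_of_eqF lk nP _ _ [(0, 7500), (7500, 7500), (15000, 7500), (22500, 7500), (30000, 1671)] (by decide) (AllChunks.cons rel3_7_9_w_c0 (AllChunks.cons rel3_7_9_w_c1 (AllChunks.cons rel3_7_9_w_c2 (AllChunks.cons rel3_7_9_w_c3 (AllChunks.cons rel3_7_9_w_c4 (AllChunks.nil))))))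

theorem rel3_7_9 : relChk1 lk nP Uid 3 gT3 sqL3 cmL3 (7, 9) = true :=
  relChk1_off lk nP Uid 3 gT3 sqL3 cmL3 7 9 (by decide) rel3_7_9_w

theorem relpart3x3_ok : relsPart lk nP Uid 3 gT3 sqL3 cmL3 relpart3x3 = true :=
  relsPart_of_allRel _ (AllRel.cons rel3_4_7 (AllRel.cons rel3_4_8 (AllRel.cons rel3_4_9 (AllRel.cons rel3_4_10 (AllRel.cons rel3_4_11 (AllRel.cons rel3_4_12 (AllRel.cons rel3_5_5 (AllRel.cons rel3_5_6 (AllRel.cons rel3_5_7 (AllRel.cons rel3_5_8 (AllRel.cons rel3_5_9 (AllRel.cons rel3_5_10 (AllRel.cons rel3_5_11 (AllRel.cons rel3_5_12 (AllRel.cons rel3_6_6 (AllRel.cons rel3_6_7 (AllRel.cons rel3_6_8 (AllRel.cons rel3_6_9 (AllRel.cons rel3_6_10 (AllRel.cons rel3_6_11 (AllRel.cons rel3_6_12 (AllRel.cons rel3_7_7 (AllRel.cons rel3_7_8 (AllRel.cons rel3_7_9 (AllRel.nil lk nP Uid 3 gT3 sqL3 cmL3)))))))))))))))))))))))))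

end Cfsg.Agent.Lib.Helper28.Fi
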