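import Mathlib
import Cfsg.Agent.Lib.Helper28.Fi.Core
import Cfsg.Agent.Lib.Helper28.Fi.Chunk
import Cfsg.Agent.Lib.Helper28.Fi.Tab0
import Cfsg.Agent.Lib.Helper28.Fi.Tab1
import Cfsg.Agent.Lib.Helper28.Fi.Tab2
import Cfsg.Agent.Lib.Helper28.Fi.Tab3
import Cfsg.Agent.Lib.Helper28.Fi.Tab4
import Cfsg.Agent.Lib.Helper28.Fi.Tab5
import Cfsg.Agent.Lib.Helper28.Fi.Tab6
import Cfsg.Agent.Lib.Helper28.Fi.Tab8

set_option autoImplicit false
set_option maxRecDepth 1000000
set_option Elab.async false

/-! Checks that coded permutations are words in earlier ones, part 11 (generated). -/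

namespace Cfsg.Agent.Lib.Helper28.Fi

open Cfsg.Agent.Lib.Helper5.CP Cfsg.Agent.Lib.Helper5.PcP Cfsg.Agent.Lib.Helper12.TC.Fi23o31671
/-- the word for the coded permutation number 100 -/
noncomputable def w100 : List ℕ := [t2, t18, t18, t14, t19, t21, t24, t19, t24, t22, t0, t42, t43, t37, t40, t35, t34, t54, t52, t52, t56, t50, t65, t65, t62, t64, t61, t68, t69, t68, t69, t68, t67, t71, t77]
theorem chk_t100_c0 : allR 0 833 (fun p => Nat.beq (lk t100 p) (ev lk w100 p)) = true := by decide +kernel
theorem chk_t100_c1 : allR 833 833 (fun p => Nat.beq (lk t100 p) (ev lk w100 p)) = true := by decide +kernel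
theorem chk_t100_c2 : allR 1666 833 (fun p => Nat.beq (lk t100 p) (ev lk w100 p)) = true := by decide +kernel
theorem chk_t100_c3 : allR 2499 833 (fun p => Nat.beq (lk t100 p) (ev lk w100 p)) = true := by decide +kernel
theorem chk_t100_c4 : allR 3332 833 (fun p => Nat.beq (lk t100 p) (ev lk w100 p)) = true := by decide +kernel
theorem chk_t100_c5 : allR 4165 833 (fun p => Nat.beq (lk t100 p) (ev lk w100 p)) = true := by decide +kernel
theorem chk_t100_c6 : allR 4998 833 (fun p => Nat.beq (lk t100 p) (ev lk w100 p)) = true := by decide +kernel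
theorem chk_t100_c7 : allR 5831 833 (fun p => Nat.beq (lk t100 p) (ev lk w100 p)) = true := by decide +kernel
theorem chk_t100_c8 : allR 6664 833 (fun p => Nat.beq (lk t100 p) (ev lk w100 p)) = true := by decide +kernel
theorem chk_t100_c9 : allR 7497 833 (fun p => Nat.beq (lk t100 p) (ev lk w100 p)) = true := by decide +kernel
theorem chk_t100_c10 : allR 8330 833 (fun p => Nat.beq (lk t100 p) (ev lk w100 p)) = true := by decide +kernel
theorem chk_t100_c11 : allR 9163 833 (fun p => Nat.beq (lk t100 p) (ev lk w100 p)) = true := by decide +kernel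
theorem chk_t100_c12 : allR 9996 833 (fun p => Nat.beq (lk t100 p) (ev lk w100 p)) = true := by decide +kernel
theorem chk_t100_c13 : allR 10829 833 (fun p => Nat.beq (lk t100 p) (ev lk w100 p)) = true := by decide +kernel
theorem chk_t100_c14 : allR 11662 833 (fun p => Nat.beq (lk t100 p) (ev lk w100 p)) = true := by decide +kernel
theorem chk_t100_c15 : allR 12495 833 (fun p => Nat.beq (lk t100 p) (ev lk w100 p)) = true := by decide +kernel
theorem chk_t100_c16 : allR 13328 833 (fun p => Nat.beq (lk t100 p) (ev lk w100 p)) = true := by decide +kernel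
theorem chk_t100_c17 : allR 14161 833 (fun p => Nat.beq (lk t100 p) (ev lk w100 p)) = true := by decide +kernel
theorem chk_t100_c18 : allR 14994 833 (fun p => Nat.beq (lk t100 p) (ev lk w100 p)) = true := by decide +kernel
theorem chk_t100_c19 : allR 15827 833 (fun p => Nat.beq (lk t100 p) (ev lk w100 p)) = true := by decide +kernel
theorem chk_t100_c20 : allR 16660 833 (fun p => Nat.beq (lk t100 p) (ev lk w100 p)) = true := by decide +kernel
theorem chk_t100_c21 : allR 17493 833 (fun p => Nat.beq (lk t100 p) (ev lk w100 p)) = true := by decide +kernel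
theorem chk_t100_c22 : allR 18326 833 (fun p => Nat.beq (lk t100 p) (ev lk w100 p)) = true := by decide +kernel
theorem chk_t100_c23 : allR 19159 833 (fun p => Nat.beq (lk t100 p) (ev lk w100 p)) = true := by decide +kernel
theorem chk_t100_c24 : allR 19992 833 (fun p => Nat.beq (lk t100 p) (ev lk w100 p)) = true := by decide +kernel
theorem chk_t100_c25 : allR 20825 833 (fun p => Nat.beq (lk t100 p) (ev lk w100 p)) = true := by decide +kernel
theorem chk_t100_c26 : allR 21658 833 (fun p => Nat.beq (lk t100 p) (ev lk w100 p)) = true := by decide +kernel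
theorem chk_t100_c27 : allR 22491 833 (fun p => Nat.beq (lk t100 p) (ev lk w100 p)) = true := by decide +kernel
theorem chk_t100_c28 : allR 23324 833 (fun p => Nat.beq (lk t100 p) (ev lk w100 p)) = true := by decide +kernel
theorem chk_t100_c29 : allR 24157 833 (fun p => Nat.beq (lk t100 p) (ev lk w100 p)) = true := by decide +kernel
theorem chk_t100_c30 : allR 24990 833 (fun p => Nat.beq (lk t100 p) (ev lk w100 p)) = true := by decide +kernel
theorem chk_t100_c31 : allR 25823 833 (fun p => Nat.beq (lk t100 p) (ev lk w100 p)) = true := by decide +kernel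
theorem chk_t100_c32 : allR 26656 833 (fun p => Nat.beq (lk t100 p) (ev lk w100 p)) = true := by decide +kernel
theorem chk_t100_c33 : allR 27489 833 (fun p => Nat.beq (lk t100 p) (ev lk w100 p)) = true := by decide +kernel
theorem chk_t100_c34 : allR 28322 833 (fun p => Nat.beq (lk t100 p) (ev lk w100 p)) = true := by decide +kernel
theorem chk_t100_c35 : allR 29155 833 (fun p => Nat.beq (lk t100 p) (ev lk w100 p)) = true := by decide +kernel
theorem chk_t100_c36 : allR 29988 833 (fun p => Nat.beq (lk t100 p) (ev lk w100 p)) = true := by decide +kernel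
theorem chk_t100_c37 : allR 30821 833 (fun p => Nat.beq (lk t100 p) (ev lk w100 p)) = true := by decide +kernel
theorem chk_t100_c38 : allR 31654 17 (fun p => Nat.beq (lk t100 p) (ev lk w100 p)) = true := by decide +kernel
theorem chk_t100 : eqW lk nP t100 w100 = true :=
  eqW_of_chunks lk nP _ _ [(0, 833), (833, 833), (1666, 833), (2499, 833), (3332, 833), (4165, 833), (4998, 833), (5831, 833), (6664, 833), (7497, 833), (8330, 833), (9163, 833), (9996, 833), (10829, 833), (11662, 833), (12495, 833), (13328, 833), (14161, 833), (14994, 833), (15827, 833), (16660, 833), (17493, 833), (18326, 833), (19159, 833), (19992, 833), (20825, 833), (21658, 833), (22491, 833), (23324, 833), (24157, 833), (24990, 833), (25823, 833), (26656, 833), (27489, 833), (28322, 833), (29155, 833), (29988, 833), (30821, 833), (31654, 17)] (by decide) (AllChunks.cons chk_t100_c0 (AllChunks.cons chk_t100_c1 (AllChunks.cons chk_t100_c2 (AllChunks.cons chk_t100_c3 (AllChunks.cons chk_t100_c4 (AllChunks.cons chk_t100_c5 (AllChunks.cons chk_t100_c6 (AllChunks.cons chk_t100_c7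 (AllChunks.cons chk_t100_c8 (AllChunks.cons chk_t100_c9 (AllChunks.cons chk_t100_c10 (AllChunks.cons chk_t100_c11 (AllChunks.cons chk_t100_c12 (AllChunks.cons chk_t100_c13 (AllChunks.cons chk_t100_c14 (AllChunks.cons chk_t100_c15 (AllChunks.cons chk_t100_c16 (AllChunks.cons chk_t100_c17 (AllChunks.cons chk_t100_c18 (AllChunks.cons chk_t100_c19 (AllChunks.cons chk_t100_c20 (AllChunks.cons chk_t100_c21 (AllChunks.cons chk_t100_c22 (AllChunks.cons chk_t100_c23 (AllChunks.cons chk_t100_c24 (AllChunks.cons chk_t100_c25 (AllChunks.cons chk_t100_c26 (AllChunks.cons chk_t100_c27 (AllChunks.cons chk_t100_c28 (AllChunks.cons chk_t100_c29 (AllChunks.cons chk_t100_c30 (AllChunks.cons chk_t100_c31 (AllChunks.cons chk_t100_c32 (AllChunks.cons chk_t100_c33 (AllChunks.cons chk_t100_c34 (AllChunks.cons chk_t100_c35 (AllChunks.cons chk_t100_c36 (AllChunks.cons chk_t100_c37 (AllChunks.cons chk_t100_c38 (AllChunks.nil))))))))))))))))))))))))))))))))))))))))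

/-- the word for the coded permutation number 101 -/
noncomputable def w101 : List ℕ := [t10, t21, t17, t10, t18, t14, t18, t36, t45, t37, t46, t42, t30, t55, t55, t52, t47, t56, t47, t61, t66, t62, t64, t68, t67, t68, t69, t68, t67, t72, t70]
theorem chk_t101_c0 : allR 0 937 (fun p => Nat.beq (lk t101 p) (ev lk w101 p)) = true := by decide +kernel
theorem chk_t101_c1 : allR 937 937 (fun p => Nat.beq (lk t101 p) (ev lk w101 p)) = true := by decide +kernel
theorem chk_t101_c2 : allR 1874 937 (fun p => Nat.beq (lk t101 p) (ev lk w101 p)) = true := by decide +kernel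
theorem chk_t101_c3 : allR 2811 937 (fun p => Nat.beq (lk t101 p) (ev lk w101 p)) = true := by decide +kernel
theorem chk_t101_c4 : allR 3748 937 (fun p => Nat.beq (lk t101 p) (ev lk w101 p)) = true := by decide +kernel
theorem chk_t101_c5 : allR 4685 937 (fun p => Nat.beq (lk t101 p) (ev lk w101 p)) = true := by decide +kernel
theorem chk_t101_c6 : allR 5622 937 (fun p => Nat.beq (lk t101 p) (ev lk w101 p)) = true := by decide +kernel
theorem chk_t101_c7 : allR 6559 937 (fun p => Nat.beq (lk t101 p) (ev lk w101 p)) = true := by decide +kernel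
theorem chk_t101_c8 : allR 7496 937 (fun p => Nat.beq (lk t101 p) (ev lk w101 p)) = true := by decide +kernel
theorem chk_t101_c9 : allR 8433 937 (fun p => Nat.beq (lk t101 p) (ev lk w101 p)) = true := by decide +kernel
theorem chk_t101_c10 : allR 9370 937 (fun p => Nat.beq (lk t101 p) (ev lk w101 p)) = true := by decide +kernel
theorem chk_t101_c11 : allR 10307 937 (fun p => Nat.beq (lk t101 p) (ev lk w101 p)) = true := by decide +kernel
theorem chk_t101_c12 : allR 11244 937 (fun p => Nat.beq (lk t101 p) (ev lk w101 p)) = true := by decide +kernel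
theorem chk_t101_c13 : allR 12181 937 (fun p => Nat.beq (lk t101 p) (ev lk w101 p)) = true := by decide +kernel
theorem chk_t101_c14 : allR 13118 937 (fun p => Nat.beq (lk t101 p) (ev lk w101 p)) = true := by decide +kernel
theorem chk_t101_c15 : allR 14055 937 (fun p => Nat.beq (lk t101 p) (ev lk w101 p)) = true := by decide +kernel
theorem chk_t101_c16 : allR 14992 937 (fun p => Nat.beq (lk t101 p) (ev lk w101 p)) = true := by decide +kernel
theorem chk_t101_c17 : allR 15929 937 (fun p => Nat.beq (lk t101 p) (ev lk w101 p)) = true := by decide +kernel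
theorem chk_t101_c18 : allR 16866 937 (fun p => Nat.beq (lk t101 p) (ev lk w101 p)) = true := by decide +kernel
theorem chk_t101_c19 : allR 17803 937 (fun p => Nat.beq (lk t101 p) (ev lk w101 p)) = true := by decide +kernel
theorem chk_t101_c20 : allR 18740 937 (fun p => Nat.beq (lk t101 p) (ev lk w101 p)) = true := by decide +kernel
theorem chk_t101_c21 : allR 19677 937 (fun p => Nat.beq (lk t101 p) (ev lk w101 p)) = true := by decide +kernel
theorem chk_t101_c22 : allR 20614 937 (fun p => Nat.beq (lk t101 p) (ev lk w101 p)) = true := by decide +kernel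
theorem chk_t101_c23 : allR 21551 937 (fun p => Nat.beq (lk t101 p) (ev lk w101 p)) = true := by decide +kernel
theorem chk_t101_c24 : allR 22488 937 (fun p => Nat.beq (lk t101 p) (ev lk w101 p)) = true := by decide +kernel
theorem chk_t101_c25 : allR 23425 937 (fun p => Nat.beq (lk t101 p) (ev lk w101 p)) = true := by decide +kernel
theorem chk_t101_c26 : allR 24362 937 (fun p => Nat.beq (lk t101 p) (ev lk w101 p)) = true := by decide +kernel
theorem chk_t101_c27 : allR 25299 937 (fun p => Nat.beq (lk t101 p) (ev lk w101 p)) = true := by decide +kernel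
theorem chk_t101_c28 : allR 26236 937 (fun p => Nat.beq (lk t101 p) (ev lk w101 p)) = true := by decide +kernel
theorem chk_t101_c29 : allR 27173 937 (fun p => Nat.beq (lk t101 p) (ev lk w101 p)) = true := by decide +kernel
theorem chk_t101_c30 : allR 28110 937 (fun p => Nat.beq (lk t101 p) (ev lk w101 p)) = true := by decide +kernel
theorem chk_t101_c31 : allR 29047 937 (fun p => Nat.beq (lk t101 p) (ev lk w101 p)) = true := by decide +kernel
theorem chk_t101_c32 : allR 29984 937 (fun p => Nat.beq (lk t101 p) (ev lk w101 p)) = true := by decide +kernel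
theorem chk_t101_c33 : allR 30921 750 (fun p => Nat.beq (lk t101 p) (ev lk w101 p)) = true := by decide +kernel
theorem chk_t101 : eqW lk nP t101 w101 = true :=
  eqW_of_chunks lk nP _ _ [(0, 937), (937, 937), (1874, 937), (2811, 937), (3748, 937), (4685, 937), (5622, 937), (6559, 937), (7496, 937), (8433, 937), (9370, 937), (10307, 937), (11244, 937), (12181, 937), (13118, 937), (14055, 937), (14992, 937), (15929, 937), (16866, 937), (17803, 937), (18740, 937), (19677, 937), (20614, 937), (21551, 937), (22488, 937), (23425, 937), (24362, 937), (25299, 937), (26236, 937), (27173, 937), (28110, 937), (29047, 937), (29984, 937), (30921, 750)] (by decide) (AllChunks.cons chk_t101_c0 (AllChunks.cons chk_t101_c1 (AllChunks.cons chk_t101_c2 (AllChunks.cons chk_t101_c3 (AllChunks.cons chk_t101_c4 (AllChunks.cons chk_t101_c5 (AllChunks.cons chk_t101_c6 (AllChunks.cons chk_t101_c7 (AllChunks.cons chk_t101_c8 (AllChunks.cons chk_t101_c9 (AllChunks.cons chk_t101_c10 (AllChunks.cons chk_t101_c11 (AllChunks.cons chk_t101_c12 (AllChunks.cons chk_t101_c13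 (AllChunks.cons chk_t101_c14 (AllChunks.cons chk_t101_c15 (AllChunks.cons chk_t101_c16 (AllChunks.cons chk_t101_c17 (AllChunks.cons chk_t101_c18 (AllChunks.cons chk_t101_c19 (AllChunks.cons chk_t101_c20 (AllChunks.cons chk_t101_c21 (AllChunks.cons chk_t101_c22 (AllChunks.cons chk_t101_c23 (AllChunks.cons chk_t101_c24 (AllChunks.cons chk_t101_c25 (AllChunks.cons chk_t101_c26 (AllChunks.cons chk_t101_c27 (AllChunks.cons chk_t101_c28 (AllChunks.cons chk_t101_c29 (AllChunks.cons chk_t101_c30 (AllChunks.cons chk_t101_c31 (AllChunks.cons chk_t101_c32 (AllChunks.cons chk_t101_c33 (AllChunks.nil)))))))))))))))))))))))))))))))))))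

/-- the word for the coded permutation number 102 -/
noncomputable def w102 : List ℕ := [t14, t18, t17, t21, t26, t18, t14, t8, t38, t42, t36, t40, t41, t34, t54, t55, t54, t55, t61, t63, t63, t51, t67, t68, t67, t68, t67, t67, t68, t67, t67, t70, t74]
theorem chk_t102_c0 : allR 0 882 (fun p => Nat.beq (lk t102 p) (ev lk w102 p)) = true := by decide +kernel
theorem chk_t102_c1 : allR 882 882 (fun p => Nat.beq (lk t102 p) (ev lk w102 p)) = true := by decide +kernel
theorem chk_t102_c2 : allR 1764 882 (fun p => Nat.beq (lk t102 p) (ev lk w102 p)) = true := by decide +kernel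
theorem chk_t102_c3 : allR 2646 882 (fun p => Nat.beq (lk t102 p) (ev lk w102 p)) = true := by decide +kernel
theorem chk_t102_c4 : allR 3528 882 (fun p => Nat.beq (lk t102 p) (ev lk w102 p)) = true := by decide +kernel
theorem chk_t102_c5 : allR 4410 882 (fun p => Nat.beq (lk t102 p) (ev lk w102 p)) = true := by decide +kernel
theorem chk_t102_c6 : allR 5292 882 (fun p => Nat.beq (lk t102 p) (ev lk w102 p)) = true := by decide +kernel
theorem chk_t102_c7 : allR 6174 882 (fun p => Nat.beq (lk t102 p) (ev lk w102 p)) = true := by decide +kernel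
theorem chk_t102_c8 : allR 7056 882 (fun p => Nat.beq (lk t102 p) (ev lk w102 p)) = true := by decide +kernel
theorem chk_t102_c9 : allR 7938 882 (fun p => Nat.beq (lk t102 p) (ev lk w102 p)) = true := by decide +kernel
theorem chk_t102_c10 : allR 8820 882 (fun p => Nat.beq (lk t102 p) (ev lk w102 p)) = true := by decide +kernel
theorem chk_t102_c11 : allR 9702 882 (fun p => Nat.beq (lk t102 p) (ev lk w102 p)) = true := by decide +kernel
theorem chk_t102_c12 : allR 10584 882 (fun p => Nat.beq (lk t102 p) (ev lk w102 p)) = true := by decide +kernel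
theorem chk_t102_c13 : allR 11466 882 (fun p => Nat.beq (lk t102 p) (ev lk w102 p)) = true := by decide +kernel
theorem chk_t102_c14 : allR 12348 882 (fun p => Nat.beq (lk t102 p) (ev lk w102 p)) = true := by decide +kernel
theorem chk_t102_c15 : allR 13230 882 (fun p => Nat.beq (lk t102 p) (ev lk w102 p)) = true := by decide +kernel
theorem chk_t102_c16 : allR 14112 882 (fun p => Nat.beq (lk t102 p) (ev lk w102 p)) = true := by decide +kernel
theorem chk_t102_c17 : allR 14994 882 (fun p => Nat.beq (lk t102 p) (ev lk w102 p)) = true := by decide +kernel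
theorem chk_t102_c18 : allR 15876 882 (fun p => Nat.beq (lk t102 p) (ev lk w102 p)) = true := by decide +kernel
theorem chk_t102_c19 : allR 16758 882 (fun p => Nat.beq (lk t102 p) (ev lk w102 p)) = true := by decide +kernel
theorem chk_t102_c20 : allR 17640 882 (fun p => Nat.beq (lk t102 p) (ev lk w102 p)) = true := by decide +kernel
theorem chk_t102_c21 : allR 18522 882 (fun p => Nat.beq (lk t102 p) (ev lk w102 p)) = true := by decide +kernel
theorem chk_t102_c22 : allR 19404 882 (fun p => Nat.beq (lk t102 p) (ev lk w102 p)) = true := by decide +kernel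
theorem chk_t102_c23 : allR 20286 882 (fun p => Nat.beq (lk t102 p) (ev lk w102 p)) = true := by decide +kernel
theorem chk_t102_c24 : allR 21168 882 (fun p => Nat.beq (lk t102 p) (ev lk w102 p)) = true := by decide +kernel
theorem chk_t102_c25 : allR 22050 882 (fun p => Nat.beq (lk t102 p) (ev lk w102 p)) = true := by decide +kernel
theorem chk_t102_c26 : allR 22932 882 (fun p => Nat.beq (lk t102 p) (ev lk w102 p)) = true := by decide +kernel
theorem chk_t102_c27 : allR 23814 882 (fun p => Nat.beq (lk t102 p) (ev lk w102 p)) = true := by decide +kernel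
theorem chk_t102_c28 : allR 24696 882 (fun p => Nat.beq (lk t102 p) (ev lk w102 p)) = true := by decide +kernel
theorem chk_t102_c29 : allR 25578 882 (fun p => Nat.beq (lk t102 p) (ev lk w102 p)) = true := by decide +kernel
theorem chk_t102_c30 : allR 26460 882 (fun p => Nat.beq (lk t102 p) (ev lk w102 p)) = true := by decide +kernel
theorem chk_t102_c31 : allR 27342 882 (fun p => Nat.beq (lk t102 p) (ev lk w102 p)) = true := by decide +kernel
theorem chk_t102_c32 : allR 28224 882 (fun p => Nat.beq (lk t102 p) (ev lk w102 p)) = true := by decide +kernel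
theorem chk_t102_c33 : allR 29106 882 (fun p => Nat.beq (lk t102 p) (ev lk w102 p)) = true := by decide +kernel
theorem chk_t102_c34 : allR 29988 882 (fun p => Nat.beq (lk t102 p) (ev lk w102 p)) = true := by decide +kernel
theorem chk_t102_c35 : allR 30870 801 (fun p => Nat.beq (lk t102 p) (ev lk w102 p)) = true := by decide +kernel
theorem chk_t102 : eqW lk nP t102 w102 = true :=
  eqW_of_chunks lk nP _ _ [(0, 882), (882, 882), (1764, 882), (2646, 882), (3528, 882), (4410, 882), (5292, 882), (6174, 882), (7056, 882), (7938, 882), (8820, 882), (9702, 882), (10584, 882), (11466, 882), (12348, 882), (13230, 882), (14112, 882), (14994, 882), (15876, 882), (16758, 882), (17640, 882), (18522, 882), (19404, 882), (20286, 882), (21168, 882), (22050, 882), (22932, 882), (23814, 882), (24696, 882), (25578, 882), (26460, 882), (27342, 882), (28224, 882), (29106, 882), (29988, 882), (30870, 801)] (by decide) (AllChunks.cons chk_t102_c0 (AllChunks.cons chk_t102_c1 (AllChunks.cons chk_t102_c2 (AllChunks.cons chk_t102_c3 (AllChunks.cons chk_t102_c4 (AllChunks.cons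 chk_t102_c5 (AllChunks.cons chk_t102_c6 (AllChunks.cons chk_t102_c7 (AllChunks.cons chk_t102_c8 (AllChunks.cons chk_t102_c9 (AllChunks.cons chk_t102_c10 (AllChunks.cons chk_t102_c11 (AllChunks.cons chk_t102_c12 (AllChunks.cons chk_t102_c13 (AllChunks.cons chk_t102_c14 (AllChunks.cons chk_t102_c15 (AllChunks.cons chk_t102_c16 (AllChunks.cons chk_t102_c17 (AllChunks.cons chk_t102_c18 (AllChunks.cons chk_t102_c19 (AllChunks.cons chk_t102_c20 (AllChunks.cons chk_t102_c21 (AllChunks.cons chk_t102_c22 (AllChunks.cons chk_t102_c23 (AllChunks.cons chk_t102_c24 (AllChunks.cons chk_t102_c25 (AllChunks.cons chk_t102_c26 (AllChunks.cons chk_t102_c27 (AllChunks.cons chk_t102_c28 (AllChunks.cons chk_t102_c29 (AllChunks.cons chk_t102_c30 (AllChunks.cons chk_t102_c31 (AllChunks.cons chk_t102_c32 (AllChunks.cons chk_t102_c33 (AllChunks.cons chk_t102_c34 (AllChunks.cons chk_t102_c35 (AllChunks.nil)))))))))))))))))))))))))))))))))))))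

end Cfsg.Agent.Lib.Helper28.Fi
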